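import Mathlib
import Groth.Prelude.Def_Flat
import Groth.Agent.Ega4Algebra1.RegularLocal
import Groth.Agent.Ega4Algebra1.SmoothRegular
import Groth.Agent.S9408
import Groth.Agent.Variety2.DimAffine

/-! Over a field: unramified over affine `n`-space + local dimension `≥ n` implies etale. -/

universe u

namespace Groth.Agent.EtaleAlgebra.EtaleCriterion

open Order

variable (k : Type u) [Field k] (n : ℕ)

lemma ringKrullDim_mvPolynomial :
    ringKrullDim (MvPolynomial (Fin n) k) = (n : WithBot ℕ∞) := by
  rw [MvPolynomial.ringKrullDim_of_isNoetherianRing, ringKrullDim_eq_zero_of_field]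
  simp

/-- Quasi-finite maps don't increase the dimension. -/
lemma ringKrullDim_le_of_quasiFinite (R S : Type*) [CommRing R] [CommRing S] [Algebra R S]
    [Algebra.QuasiFinite R S] : ringKrullDim S ≤ ringKrullDim R := by
  refine Order.krullDim_le_of_strictMono (PrimeSpectrum.comap (algebraMap R S)) fun p q hpq => ?_
  refine lt_of_le_of_ne (Ideal.comap_mono hpq.le) fun h => hpq.ne ?_
  exact PrimeSpectrum.ext (Algebra.QuasiFinite.eq_of_le_of_under_eq (R := R) p.asIdeal q.asIdeal
    hpq.le (congrArg PrimeSpectrum.asIdeal h))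

variable {k n} {A : Type u} [CommRing A] [Algebra k A] [Algebra (MvPolynomial (Fin n) k) A]
  [IsScalarTower k (MvPolynomial (Fin n) k) A] [Algebra.FiniteType k A]

/-- Unramified at `p` over `k[X_1..X_n]` and all basic nhds of dim `≥ n` implies etale at `p`. -/
theorem isEtaleAt_of_isUnramifiedAt (p : Ideal A) [p.IsPrime]
    [Algebra.IsUnramifiedAt (MvPolynomial (Fin n) k) p]
    (hn : ∀ f : A, f ∉ p → (n : WithBot ℕ∞) ≤ ringKrullDim (Localization.Away f)) :
    Algebra.IsEtaleAt (MvPolynomial (Fin n) k) p := by
  classical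
  let P := MvPolynomial (Fin n) k
  haveI : Algebra.FiniteType P A := Algebra.FiniteType.of_restrictScalars_finiteType k P A
  obtain ⟨f, hfp, Q, φ, hφ⟩ :=
    Algebra.IsUnramifiedAt.exists_hasStandardEtaleSurjectionOn (R := P) p
  -- the local map `A_f → A_p`
  have hfu : IsUnit (algebraMap A (Localization.AtPrime p) f) :=
    IsLocalization.map_units (Localization.AtPrime p) (⟨f, hfp⟩ : p.primeCompl)
  let l : Localization.Away f →ₐ[P] Localization.AtPrime p :=
    { IsLocalization.Away.lift f hfu with
      commutes' := fun c => by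
        simp only [IsScalarTower.algebraMap_apply P A (Localization.Away f)]
        show IsLocalization.Away.lift f hfu (algebraMap A _ _) = _
        rw [IsLocalization.Away.lift_eq, ← IsScalarTower.algebraMap_apply] }
  have hl : ∀ a : A, l (algebraMap A (Localization.Away f) a) = algebraMap A _ a :=
    fun a => IsLocalization.Away.lift_eq f hfu a
  let ψ : Q.Ring →ₐ[P] Localization.AtPrime p := l.comp φ
  let q : Ideal Q.Ring := (IsLocalRing.maximalIdeal (Localization.AtPrime p)).comap ψ
  haveI : q.IsPrime := Ideal.comap_isPrime ψ _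
  have hu : ∀ y : q.primeCompl, IsUnit (ψ y) := fun y =>
    not_not.mp fun h => y.2 ((IsLocalRing.mem_maximalIdeal _).mpr h)
  haveI : IsRegularRing Q.Ring := Groth.Agent.S9408.isRegularRing_of_smooth P Q.Ring
  haveI : IsNoetherianRing Q.Ring := Algebra.FiniteType.isNoetherianRing P Q.Ring
  haveI : IsRegularLocalRing (Localization.AtPrime q) :=
    IsRegularRing.isRegularLocalRing_localization q
  haveI : IsDomain (Localization.AtPrime q) :=
    Groth.Ega4Algebra1.isDomain_of_isRegularLocalRing _
  let Q0 : Ideal Q.Ring := RingHom.ker (algebraMap Q.Ring (Localization.AtPrime q))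
  haveI : Q0.IsPrime := RingHom.ker_isPrime _
  have hQ0 : Q0 ≤ q := fun x hx => by
    by_contra h
    have := IsLocalization.map_units (Localization.AtPrime q) (⟨x, h⟩ : q.primeCompl)
    rw [RingHom.mem_ker.mp hx] at this
    exact not_isUnit_zero this
  by_cases hker : RingHom.ker φ ≤ Q0
  · let ψ' : Localization.AtPrime q →ₐ[P] Localization.AtPrime p :=
      { IsLocalization.lift (S := Localization.AtPrime q) hu with
        commutes' := fun c => by
          rw [IsScalarTower.algebraMap_apply P Q.Ring (Localization.AtPrime q)]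
          show IsLocalization.lift hu (algebraMap Q.Ring _ _) = _
          rw [IsLocalization.lift_eq]
          exact ψ.commutes c }
    have hψ' : ∀ x, ψ' (algebraMap _ _ x) = ψ x := fun x => IsLocalization.lift_eq hu x
    have hbij : Function.Bijective ψ' := by
      constructor
      · rw [injective_iff_map_eq_zero]
        intro z hz
        obtain ⟨⟨x, t⟩, hxt⟩ := IsLocalization.surj q.primeCompl z
        have h1 : ψ x = 0 := by
          have := congrArg ψ' hxt
          rwa [map_mul, hz, zero_mul, hψ', eq_comm] at this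
        obtain ⟨⟨a, b⟩, hab⟩ := IsLocalization.surj (Submonoid.powers f) (φ x)
        have h2 : algebraMap A (Localization.AtPrime p) a = 0 := by
          rw [← hl, ← hab, map_mul]
          show ψ x * _ = 0
          rw [h1, zero_mul]
        obtain ⟨s, hs⟩ := (IsLocalization.map_eq_zero_iff p.primeCompl _ a).mp h2
        obtain ⟨t', ht'⟩ := hφ (algebraMap A _ (s : A))
        have ht'q : t' ∉ q := by
          intro h
          refine ((IsLocalRing.mem_maximalIdeal _).mp h) ?_
          show IsUnit (l (φ t'))
          rw [ht', hl]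
          exact IsLocalization.map_units _ s
        have h3 : t' * x ∈ RingHom.ker φ := by
          rw [RingHom.mem_ker, map_mul, ht']
          refine (IsLocalization.map_units (Localization.Away f) b).mul_left_eq_zero.mp ?_
          rw [mul_assoc, hab, ← map_mul, hs, map_zero]
        have h4 := hker h3
        rw [RingHom.mem_ker, map_mul] at h4
        have h5 := (IsLocalization.map_units (Localization.AtPrime q)
          (⟨t', ht'q⟩ : q.primeCompl)).mul_right_eq_zero.mp h4
        rw [h5] at hxt
        exact (IsLocalization.map_units (Localization.AtPrime q) t).mul_left_eq_zero.mp hxt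
      · intro z
        obtain ⟨⟨a, s⟩, has⟩ := IsLocalization.surj p.primeCompl z
        obtain ⟨x, hx⟩ := hφ (algebraMap A _ a)
        obtain ⟨t, ht⟩ := hφ (algebraMap A _ (s : A))
        have hψt : ψ t = algebraMap A _ (s : A) := by
          show l (φ t) = _
          rw [ht, hl]
        have htq : t ∉ q := fun h => (IsLocalRing.mem_maximalIdeal _).mp h
          (show IsUnit (ψ t) from hψt ▸ IsLocalization.map_units _ s)
        refine ⟨IsLocalization.mk' _ x (⟨t, htq⟩ : q.primeCompl), ?_⟩
        apply ((hψt ▸ IsLocalization.map_units _ s : IsUnit (ψ t))).mul_left_injective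
        show ψ' _ * ψ t = z * ψ t
        have h1 : ψ' (IsLocalization.mk' _ x (⟨t, htq⟩ : q.primeCompl)) * ψ t = ψ x := by
          rw [← hψ' x, ← IsLocalization.mk'_spec (Localization.AtPrime q) x (⟨t, htq⟩ : q.primeCompl),
            map_mul, hψ']
        rw [h1, hψt, has]
        show l (φ x) = _
        rw [hx, hl]
    haveI : Algebra.FormallyEtale P (Localization.AtPrime q) :=
      haveI := Algebra.FormallyEtale.of_isLocalization (R := Q.Ring)
        (Rₘ := Localization.AtPrime q) q.primeCompl
      Algebra.FormallyEtale.comp P Q.Ring _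
    exact Algebra.FormallyEtale.of_equiv (AlgEquiv.ofBijective ψ' hbij)
  · exfalso
    obtain ⟨j, hjφ, hjQ0⟩ := SetLike.not_le_iff_exists.mp hker
    have hfin := minimalPrimes.finite_of_isNoetherianRing Q.Ring
    have hsel : ∀ M ∈ minimalPrimes Q.Ring, M ≠ Q0 → ∃ e, e ∈ M ∧ e ∉ q := by
      intro M hM hne
      by_contra hcon
      push Not at hcon
      have hMp : M.IsPrime := hM.1.1
      have hQ0M : Q0 ≤ M := by
        intro x hx
        obtain ⟨s, hs⟩ := (IsLocalization.map_eq_zero_iff q.primeCompl _ x).mp (RingHom.mem_ker.mp hx)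
        exact (hMp.mem_or_mem
          (show (s : Q.Ring) * x ∈ M by rw [hs]; exact M.zero_mem)).resolve_left
          fun h => s.2 (hcon _ h)
      exact hne (le_antisymm (hM.2 ⟨inferInstance, bot_le⟩ hQ0M) hQ0M)
    choose e he heq using hsel
    let S := hfin.toFinset.filter (· ≠ Q0)
    let E : Q.Ring := ∏ M ∈ S.attach, e M.1
      (hfin.mem_toFinset.mp (Finset.mem_filter.mp M.2).1) (Finset.mem_filter.mp M.2).2
    have hEq : E ∉ q := by
      intro h
      obtain ⟨M, -, hM⟩ := Ideal.IsPrime.prod_mem_iff.mp h
      exact heq _ _ _ hM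
    have hEM : ∀ M ∈ minimalPrimes Q.Ring, M ≠ Q0 → E ∈ M := by
      intro M hM hne
      have hMS : M ∈ S := Finset.mem_filter.mpr ⟨hfin.mem_toFinset.mpr hM, hne⟩
      obtain ⟨c, hc⟩ := Finset.dvd_prod_of_mem
        (fun M : {x // x ∈ S} => e M.1
          (hfin.mem_toFinset.mp (Finset.mem_filter.mp M.2).1) (Finset.mem_filter.mp M.2).2)
        (Finset.mem_attach S ⟨M, hMS⟩)
      rw [show E = _ from hc]
      exact M.mul_mem_right _ (he M hM hne)
    obtain ⟨⟨a, b⟩, hab⟩ := IsLocalization.surj (Submonoid.powers f) (φ E)
    have hψE : IsUnit (ψ E) := hu ⟨E, hEq⟩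
    have hap : a ∉ p := by
      intro h
      have h1 : algebraMap A (Localization.AtPrime p) a ∈ IsLocalRing.maximalIdeal _ :=
        (IsLocalization.AtPrime.to_map_mem_maximal_iff _ p a).mpr h
      refine (IsLocalRing.mem_maximalIdeal _).mp h1 ?_
      rw [← hl, ← hab, map_mul]
      exact hψE.mul ((IsLocalization.map_units (Localization.Away f) b).map l)
    let A' := Localization.Away (f * a)
    let ι : Localization.Away f →+* A' := Localization.awayLift (algebraMap A A') f
      (isUnit_of_dvd_unit (map_dvd _ (dvd_mul_right f a))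
        (IsLocalization.Away.algebraMap_isUnit (f * a)))
    have hι : ∀ x : A, ι (algebraMap A _ x) = algebraMap A A' x :=
      fun x => IsLocalization.Away.lift_eq f _ x
    let χ : Q.Ring →+* A' := ι.comp φ.toRingHom
    have hχE : IsUnit (χ E) := by
      have h1 : IsUnit (χ E * ι (algebraMap A _ (b : A))) := by
        rw [show χ E * ι (algebraMap A (Localization.Away f) (b : A)) = ι (algebraMap A _ a) by
          rw [← hab, map_mul]; rfl, hι]
        exact isUnit_of_dvd_unit (map_dvd _ (dvd_mul_left a f))
          (IsLocalization.Away.algebraMap_isUnit (f * a))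
      exact isUnit_of_mul_isUnit_left h1
    have hsm : StrictMono (PrimeSpectrum.comap χ) := by
      refine Monotone.strictMono_of_injective (fun _ _ hab' => Ideal.comap_mono hab') ?_
      intro P₁ P₂ h12
      have h0 : PrimeSpectrum.comap ι P₁ = PrimeSpectrum.comap ι P₂ :=
        PrimeSpectrum.comap_injective_of_surjective _ hφ h12
      apply PrimeSpectrum.localization_comap_injective A' (Submonoid.powers (f * a))
      ext x
      simp only [PrimeSpectrum.comap_asIdeal, Ideal.mem_comap, ← hι]
      exact SetLike.ext_iff.mp (congrArg PrimeSpectrum.asIdeal h0) _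
    have hA' := hn (f * a) (Ideal.IsPrime.mul_notMem ‹p.IsPrime› hfp hap)
    obtain ⟨L, hL⟩ : ∃ L : LTSeries (PrimeSpectrum A'), L.length = n := by
      haveI : Nonempty (PrimeSpectrum A') := by
        refine (PrimeSpectrum.nonempty_iff_nontrivial).mpr ?_
        by_contra hnt
        rw [not_nontrivial_iff_subsingleton] at hnt
        rw [show ringKrullDim A' = ⊥ from ringKrullDim_eq_bot_of_subsingleton] at hA'
        exact absurd hA' (by simp)
      exact Order.le_krullDim_iff.mp hA'
    let L' : LTSeries (PrimeSpectrum Q.Ring) := L.map _ hsm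
    have hjker : ∀ P' : PrimeSpectrum A', j ∈ (PrimeSpectrum.comap χ P').asIdeal := fun P' => by
      show χ j ∈ P'.asIdeal
      rw [show χ j = ι (φ j) from rfl, RingHom.mem_ker.mp hjφ, map_zero]
      exact Ideal.zero_mem _
    have hQ0lt : (⟨Q0, inferInstance⟩ : PrimeSpectrum Q.Ring) < L'.head := by
      rw [LTSeries.head_map]
      have hE' : E ∉ (PrimeSpectrum.comap χ L.head).asIdeal := fun h =>
        L.head.2.ne_top (Ideal.eq_top_of_isUnit_mem _ h hχE)
      obtain ⟨M, hM, hMle⟩ := Ideal.exists_minimalPrimes_le
        (J := (PrimeSpectrum.comap χ L.head).asIdeal) (I := ⊥) bot_le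
      have hMQ : M = Q0 := by_contra fun hne => hE' (hMle (hEM M hM hne))
      refine lt_of_le_of_ne (show Q0 ≤ _ from hMQ ▸ hMle) fun h => hjQ0 ?_
      have := hjker L.head
      rw [← h] at this
      exact this
    have h1 := Order.LTSeries.length_le_krullDim (L'.cons _ hQ0lt)
    rw [RelSeries.cons_length] at h1
    have h2 := h1.trans ((ringKrullDim_le_of_quasiFinite P Q.Ring).trans
      (le_of_eq (ringKrullDim_mvPolynomial k n)))
    rw [show L'.length = n from hL] at h2
    norm_cast at h2
    omega

/-- Local dimension gives dimension of basic neighbourhoods. -/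
lemma natCast_le_ringKrullDim_of_localDim {B : Type u} [CommRing B] (p : PrimeSpectrum B)
    (h : FlatMor.localDim (PrimeSpectrum B) p = (n : WithBot ℕ∞)) (f : B) (hf : f ∉ p.asIdeal) :
    (n : WithBot ℕ∞) ≤ ringKrullDim (Localization.Away f) := by
  rw [← h]
  refine (iInf_le _ ⟨PrimeSpectrum.basicOpen f, hf⟩).trans ?_
  rw [← PrimeSpectrum.topologicalKrullDim_eq_ringKrullDim]
  have he := (PrimeSpectrum.localization_away_isOpenEmbedding (Localization.Away f) f)
  refine le_of_eq (IsHomeomorph.topologicalKrullDim_eq _
    ((he.isEmbedding.toHomeomorph.trans (Homeomorph.setCongr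
      (PrimeSpectrum.localization_away_comap_range (Localization.Away f) f))).symm.isHomeomorph))

/-- A maximal ideal with `dim A_m ≥ n`. -/
lemma natCast_le_ringKrullDim_of_atPrime {B : Type u} [CommRing B] (m : Ideal B) [m.IsPrime]
    (h : (n : WithBot ℕ∞) ≤ ringKrullDim (Localization.AtPrime m)) (f : B) (hf : f ∉ m) :
    (n : WithBot ℕ∞) ≤ ringKrullDim (Localization.Away f) := by
  have hd : Disjoint (Submonoid.powers f : Set B) (m : Set B) := by
    rw [Set.disjoint_left]
    rintro _ ⟨i, rfl⟩ hi
    exact hf (Ideal.IsPrime.mem_of_pow_mem ‹m.IsPrime› i hi)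
  refine h.trans ?_
  rw [IsLocalization.AtPrime.ringKrullDim_eq_height m,
    ← IsLocalization.height_map_of_disjoint (S := Localization.Away f) (Submonoid.powers f) m hd]
  exact Ideal.height_le_ringKrullDim_of_ne_top
    (IsLocalization.isPrime_of_isPrime_disjoint (Submonoid.powers f) _ m ‹_› hd).ne_top

/-- Etale over `k[X_1..X_n]` at a maximal ideal: dimension `n`. -/
theorem ringKrullDim_atPrime_of_etale [Algebra.Etale (MvPolynomial (Fin n) k) A]
    (m : Ideal A) [m.IsMaximal] : ringKrullDim (Localization.AtPrime m) = (n : WithBot ℕ∞) := by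
  let P := MvPolynomial (Fin n) k
  haveI : Algebra.FiniteType P A := Algebra.FiniteType.of_restrictScalars_finiteType k P A
  rw [IsLocalization.AtPrime.ringKrullDim_eq_height m]
  haveI : IsJacobsonRing P := inferInstance
  haveI hm0 : (m.under P).IsMaximal := by
    haveI : Algebra.FiniteType k A := Algebra.FiniteType.trans (S := P) inferInstance ‹_›
    let := Ideal.Quotient.field m
    haveI : Module.Finite k (A ⧸ m) := finite_of_finite_type_of_isJacobsonRing k (A ⧸ m)
    haveI : Module.Finite P (A ⧸ m) := Module.Finite.of_restrictScalars_finite k P (A ⧸ m)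
    have h := Ideal.isMaximal_comap_of_isIntegral_of_isMaximal (R := P) (⊥ : Ideal (A ⧸ m))
    rwa [IsScalarTower.algebraMap_eq P A (A ⧸ m), ← Ideal.comap_comap,
      show Ideal.comap (algebraMap A (A ⧸ m)) ⊥ = m from Ideal.mk_ker] at h
  have h0 := Groth.Variety2.Dim.height_isMaximal_mvPolynomial k n (m.under P) hm0
  haveI : IsNoetherianRing A := Algebra.FiniteType.isNoetherianRing P A
  have hle : m.height ≤ (m.under P).height := by
    have hs : StrictMono (PrimeSpectrum.comap (algebraMap P A)) := fun p q hpq => by
      refine lt_of_le_of_ne (Ideal.comap_mono hpq.le) fun h => hpq.ne ?_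
      exact PrimeSpectrum.ext (Algebra.QuasiFinite.eq_of_le_of_under_eq (R := P) p.asIdeal q.asIdeal
        hpq.le (congrArg PrimeSpectrum.asIdeal h))
    have := Order.height_le_height_apply_of_strictMono _ hs ⟨m, inferInstance⟩
    rw [← PrimeSpectrum.height_eq_orderHeight, ← PrimeSpectrum.height_eq_orderHeight] at this
    exact this
  have hge : (m.under P).height ≤ m.height := by
    rw [Ideal.height_eq_height_add_of_liesOver_of_hasGoingDown (m.under P) m]
    exact le_self_add
  rw [le_antisymm hle hge, h0]
  rfl

end Groth.Agent.EtaleAlgebra.EtaleCriterion
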