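import Mathlib
import Groth.Agent.EtaleAlgebra.EtaleCriterion

/-! Smooth + quasi-finite = etale. -/

universe u

namespace Groth.Agent.EtaleAlgebra.SmoothQuasiFinite

open scoped TensorProduct

theorem relativeDimension_eq_zero (R T : Type u) [CommRing R] [CommRing T] [Algebra R T] (n : ℕ)
    [Algebra.IsStandardSmoothOfRelativeDimension n R T] [Algebra.QuasiFinite R T] [Nontrivial T] :
    n = 0 := by
  obtain ⟨Q, hQ⟩ := Ideal.exists_maximal T
  let p := Q.under R
  let F := p.ResidueField ⊗[R] T
  haveI : Nontrivial F := by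
    let φ : F →ₐ[R] Q.ResidueField := Algebra.TensorProduct.lift
      (Ideal.ResidueField.mapₐ p Q (Algebra.ofId R T) rfl) (IsScalarTower.toAlgHom R T Q.ResidueField)
      (fun _ _ => Commute.all _ _)
    exact φ.toRingHom.domain_nontrivial
  haveI : Module.Finite p.ResidueField F := Module.Finite.of_quasiFinite
  haveI : IsArtinianRing F := .of_finite p.ResidueField _
  haveI : Algebra.IsStandardSmoothOfRelativeDimension n p.ResidueField F := inferInstance
  obtain ⟨g, hg⟩ := Algebra.IsStandardSmoothOfRelativeDimension.exists_etale_mvPolynomial n p.ResidueField F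
  letI := g.toRingHom.toAlgebra
  haveI : IsScalarTower p.ResidueField (MvPolynomial (Fin n) p.ResidueField) F :=
    IsScalarTower.of_algebraMap_eq fun c => (g.commutes c).symm
  haveI : Algebra.Etale (MvPolynomial (Fin n) p.ResidueField) F := hg
  obtain ⟨M, hM⟩ := Ideal.exists_maximal F
  have h := EtaleCriterion.ringKrullDim_atPrime_of_etale (k := p.ResidueField) (n := n) M
  have h0 : ringKrullDim (Localization.AtPrime M) ≤ 0 := Ring.krullDimLE_iff.mp inferInstance
  rw [h] at h0
  norm_cast at h0
  exact Nat.le_zero.mp h0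

theorem etale_of_smooth_of_quasiFinite (R S : Type u) [CommRing R] [CommRing S] [Algebra R S]
    [Algebra.Smooth R S] [Algebra.QuasiFinite R S] : Algebra.Etale R S := by
  suffices h : Algebra.FormallyEtale R S from { }
  rw [← Algebra.etaleLocus_eq_univ_iff]
  refine Set.eq_univ_of_forall fun q => ?_
  haveI : Algebra.IsSmoothAt R q.asIdeal := Algebra.FormallySmooth.comp R S _
  obtain ⟨g, hg, hgs⟩ := Algebra.IsSmoothAt.exists_notMem_isStandardSmooth (R := R) q.asIdeal
  obtain ⟨ι, σ, _, hσ, ⟨P⟩⟩ := hgs
  haveI : Algebra.IsStandardSmoothOfRelativeDimension P.dimension R (Localization.Away g) :=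
    ⟨ι, σ, ‹_›, hσ, P, rfl⟩
  haveI : Nontrivial (Localization.Away g) := by
    have := IsLocalization.isPrime_of_isPrime_disjoint (Submonoid.powers g) (Localization.Away g)
      q.asIdeal q.2 ((Ideal.disjoint_powers_iff_notMem_of_isPrime _).mpr hg)
    exact nontrivial_of_ne 0 1 fun h => this.ne_top (Ideal.eq_top_iff_one _ |>.mpr (h ▸ Ideal.zero_mem _))
  have hn := relativeDimension_eq_zero R (Localization.Away g) P.dimension
  have hz : Algebra.IsStandardSmoothOfRelativeDimension 0 R (Localization.Away g) :=
    hn ▸ inferInstanceAs (Algebra.IsStandardSmoothOfRelativeDimension P.dimension R (Localization.Away g))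
  have he : Algebra.Etale R (Localization.Away g) :=
    Algebra.Etale.iff_isStandardSmoothOfRelativeDimension_zero.mpr hz
  exact (Algebra.basicOpen_subset_etaleLocus_iff_etale.mpr he) hg

end Groth.Agent.EtaleAlgebra.SmoothQuasiFinite
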