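import Groth.Agent.EtaleAlgebra.GlueMaps
import Mathlib.RingTheory.Flat.Basic
import Mathlib.RingTheory.Flat.Tensor
import Mathlib.RingTheory.Flat.Stability
import Mathlib.RingTheory.Flat.Localization
import Mathlib.RingTheory.FinitePresentation

universe u

open TensorProduct

namespace Groth.EtaleAlgebra

theorem rTensor_injective_of_presentation {R : Type u} [CommRing R] {L G P : Type u} [AddCommGroup L]
    [Module R L] [AddCommGroup G] [Module R G] [AddCommGroup P] [Module R P] [Module.Flat R P]
    {i : L →ₗ[R] G} {π : G →ₗ[R] P} (hi : Function.Injective i) (hπ : Function.Surjective π)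
    (hex : Function.Exact i π) {K F X : Type u} [AddCommGroup X] [Module R X] [AddCommGroup K]
    [Module R K] [AddCommGroup F] [Module R F] [Module.Flat R F] {k : K →ₗ[R] F} {p : F →ₗ[R] X}
    (hk : Function.Exact k p) (hk' : Function.Injective k) (hp : Function.Surjective p) :
    Function.Injective (i.rTensor X) := by
  rw [injective_iff_map_eq_zero]
  intro z hz
  obtain ⟨z', rfl⟩ := LinearMap.lTensor_surjective L hp z
  obtain ⟨w, hw⟩ := (lTensor_exact G hk hp (i.rTensor F z')).1 (by
    rw [← LinearMap.comp_apply, LinearMap.lTensor_comp_rTensor, ← LinearMap.rTensor_comp_lTensor,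
      LinearMap.comp_apply, hz])
  have h0 : π.rTensor K w = 0 := by
    apply Module.Flat.lTensor_preserves_injective_linearMap (M := P) k hk'
    rw [← LinearMap.comp_apply, LinearMap.lTensor_comp_rTensor, ← LinearMap.rTensor_comp_lTensor,
      LinearMap.comp_apply, hw, ← LinearMap.comp_apply, ← LinearMap.rTensor_comp,
      hex.linearMap_comp_eq_zero]
    simp
  obtain ⟨v, hv⟩ := (rTensor_exact K hex hπ w).1 h0
  have h1 : z' = k.lTensor L v := by
    apply Module.Flat.rTensor_preserves_injective_linearMap (M := F) i hi
    rw [← hw, ← hv, ← LinearMap.comp_apply, ← LinearMap.comp_apply, LinearMap.lTensor_comp_rTensor,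
      LinearMap.rTensor_comp_lTensor]
  rw [h1, ← LinearMap.comp_apply, ← LinearMap.lTensor_comp, hk.linearMap_comp_eq_zero]
  simp

/-- A short exact sequence with flat cokernel stays exact on the left after tensoring. -/
theorem rTensor_injective_of_exact {R : Type u} [CommRing R] {L G P : Type u} [AddCommGroup L]
    [Module R L] [AddCommGroup G] [Module R G] [AddCommGroup P] [Module R P] [Module.Flat R P]
    {i : L →ₗ[R] G} {π : G →ₗ[R] P} (hi : Function.Injective i) (hπ : Function.Surjective π)
    (hex : Function.Exact i π) (X : Type u) [AddCommGroup X] [Module R X] :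
    Function.Injective (i.rTensor X) :=
  rTensor_injective_of_presentation hi hπ hex
    (K := LinearMap.ker (Finsupp.linearCombination R (id : X → X)))
    (k := (LinearMap.ker (Finsupp.linearCombination R (id : X → X))).subtype)
    (LinearMap.exact_subtype_ker_map _) (Submodule.subtype_injective _)
    (Finsupp.linearCombination_id_surjective R X)

namespace Glue

variable {R R' : Type u} [CommRing R] [CommRing R'] [Algebra R R'] {f : R}
variable {M : Type u} [AddCommGroup M] [Module R M]

theorem isTors_of_tensor {C : Type u} [CommRing C] [Algebra R C] [IsLocalization.Away f C] {m : M}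
    (h : (1 : C) ⊗ₜ[R] m = 0) : IsTors f m := by
  have : IsLocalizedModule (Submonoid.powers f) (TensorProduct.mk R C M 1) :=
    (isLocalizedModule_iff_isBaseChange (Submonoid.powers f) C _).2 (TensorProduct.isBaseChange R _ C)
  obtain ⟨⟨_, n, rfl⟩, hn⟩ := (IsLocalizedModule.eq_zero_iff (Submonoid.powers f)
    (TensorProduct.mk R C M 1)).1 h
  exact ⟨n, hn⟩

theorem tors_of_flat_loc [Module.Flat R (Localization.Away f ⊗[R] M)]
    {L G : Type u} [AddCommGroup L] [Module R L] [AddCommGroup G] [Module R G]
    {i : L →ₗ[R] G} {π : G →ₗ[R] M} (hi : Function.Injective i) (hπ : Function.Surjective π)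
    (hex : Function.Exact i π) {X : Type u} [AddCommGroup X] [Module R X] {z : L ⊗[R] X}
    (hz : i.rTensor X z = 0) : IsTors f z := by
  have hinj : Function.Injective ((i.lTensor (Localization.Away f)).rTensor X) :=
    Groth.EtaleAlgebra.rTensor_injective_of_exact
      (Module.Flat.lTensor_preserves_injective_linearMap i hi)
      (LinearMap.lTensor_surjective _ hπ) (lTensor_exact _ hex hπ) X
  let a := TensorProduct.assoc R (Localization.Away f) L X
  apply isTors_of_tensor (C := Localization.Away f)
  apply a.symm.injective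
  apply hinj
  have key : ∀ t, ((i.lTensor (Localization.Away f)).rTensor X) (a.symm t) =
      (TensorProduct.assoc R (Localization.Away f) G X).symm ((i.rTensor X).lTensor _ t) := by
    intro t
    induction t with
    | zero => simp
    | add x y hx hy => simp only [map_add, hx, hy]
    | tmul c y =>
      induction y with
      | zero => simp
      | add x y hx hy => simp only [tmul_add, map_add, hx, hy]
      | tmul l x => simp [a]
  rw [key, LinearMap.lTensor_tmul, hz, tmul_zero, map_zero, map_zero, map_zero]

theorem TorsInj.finsupp (h : TorsInj R R' f M) (ι : Type u) : TorsInj R R' f (ι →₀ M) := by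
  intro m ⟨n, hn⟩ h0
  ext i
  refine h _ ⟨n, by simpa using DFunLike.congr_fun hn i⟩ ?_
  rw [← Finsupp.lapply_apply (R := R) i m, ← LinearMap.lTensor_tmul, h0, map_zero]

/-- If `M_f` is flat, base change to `R'` of a presentation of `M` by glueable modules is left exact. -/
theorem baseChange_injective (h : EtGlue.IsGlueingPair R R' f)
    [Module.Flat R (Localization.Away f ⊗[R] M)]
    {L G : Type u} [AddCommGroup L] [Module R L] [AddCommGroup G] [Module R G]
    {i : L →ₗ[R] G} {π : G →ₗ[R] M} (hi : Function.Injective i) (hπ : Function.Surjective π)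
    (hex : Function.Exact i π) (hG : TorsInj R R' f G) : Function.Injective (i.lTensor R') := by
  rw [injective_iff_map_eq_zero]
  intro z hz
  obtain ⟨n, hn⟩ : IsTors f (TensorProduct.comm R R' L z) := tors_of_flat_loc hi hπ hex (by
    rw [← LinearMap.comm_comp_lTensor_comp_comm_eq]; simp [hz])
  rw [← map_smul, LinearEquiv.map_eq_zero_iff] at hn
  obtain ⟨l, ⟨k, hk⟩, rfl⟩ := torsSurj h L z ⟨n, hn⟩
  rw [LinearMap.lTensor_tmul] at hz
  have := hG (i l) ⟨k, by rw [← map_smul, hk, map_zero]⟩ hz
  rw [← map_zero i] at this
  rw [hi this, tmul_zero]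

theorem eq_zero_of_glue (h : EtGlue.IsGlueingPair R R' f)
    [Module.Flat R (Localization.Away f ⊗[R] M)]
    {L G X : Type u} [AddCommGroup L] [Module R L] [AddCommGroup G] [Module R G] [AddCommGroup X]
    [Module R X] {i : L →ₗ[R] G} {π : G →ₗ[R] M} (hπ : Function.Surjective π)
    (hex : Function.Exact i π) (hi : Function.Injective i) {x : M ⊗[R] X} {n : ℕ}
    (hn : f ^ n • x = 0) (h2 : (1 : R') ⊗ₜ[R] x = 0) (hG : TorsInj R R' f (G ⊗[R] X)) : x = 0 := by
  obtain ⟨y, rfl⟩ := LinearMap.rTensor_surjective X hπ x
  obtain ⟨w, hw⟩ := (lTensor_exact R' (rTensor_exact X hex hπ) (LinearMap.rTensor_surjective X hπ)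
    ((1 : R') ⊗ₜ[R] y)).1 (by rw [LinearMap.lTensor_tmul, h2])
  obtain ⟨l, hl⟩ := (rTensor_exact X hex hπ (f ^ n • y)).1 (by rw [map_smul, hn])
  have htors : IsTors f (f ^ n • w - (1 : R') ⊗ₜ[R] l) := by
    have hz : (i.rTensor X).lTensor R' (f ^ n • w - (1 : R') ⊗ₜ[R] l) = 0 := by
      rw [map_sub, map_smul, hw, LinearMap.lTensor_tmul, hl, tmul_smul, sub_self]
    have key : ∀ z, i.rTensor (R' ⊗[R] X) (TensorProduct.leftComm R R' L X z) =
        TensorProduct.leftComm R R' G X ((i.rTensor X).lTensor R' z) := by
      intro z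
      induction z with
      | zero => simp
      | add x y hx hy => simp only [map_add, hx, hy]
      | tmul c y =>
        induction y with
        | zero => simp
        | add x y hx hy => simp only [tmul_add, map_add, hx, hy]
        | tmul l x => simp
    obtain ⟨N, hN⟩ := tors_of_flat_loc (f := f) hi hπ hex
      (z := TensorProduct.leftComm R R' L X (f ^ n • w - (1 : R') ⊗ₜ[R] l))
      (by rw [key, hz, map_zero])
    rw [← map_smul, LinearEquiv.map_eq_zero_iff] at hN
    exact ⟨N, hN⟩
  obtain ⟨ℓ, hℓ⟩ : ∃ ℓ : LocalizedModule (Submonoid.powers f) (L ⊗[R] X),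
      f ^ n • ℓ = LocalizedModule.mkLinearMap (Submonoid.powers f) _ l :=
    ⟨LocalizedModule.mk l ⟨f ^ n, n, rfl⟩, by
      rw [LocalizedModule.smul'_mk, LocalizedModule.mkLinearMap_apply]
      exact LocalizedModule.mk_cancel (s := (⟨f ^ n, n, rfl⟩ : Submonoid.powers f)) l⟩
  obtain ⟨z, hz1, hz2⟩ := exists_glue' h w ℓ (pow_smul_loc_inj n (by
    rw [← map_smul, ← map_smul, hℓ, tensorOfLoc_mk, ← sub_eq_zero, ← map_sub]
    exact loc_eq_zero_iff.2 htors))
  have htz : IsTors f (f ^ n • z - l) := loc_eq_zero_iff.1 (by
    rw [map_sub, map_smul, hz2, hℓ, sub_self])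
  obtain ⟨N, hN⟩ := htz
  have hyz : y - i.rTensor X z = 0 := by
    refine hG _ ⟨N + n, ?_⟩ ?_
    · have := congrArg (i.rTensor X) hN
      rw [map_zero, map_smul, map_sub, map_smul, hl] at this
      rw [pow_add, mul_smul, smul_sub, ← neg_eq_zero, ← smul_neg, neg_sub]
      exact this
    · rw [tmul_sub, ← LinearMap.lTensor_tmul, hz1, hw, sub_self]
  rw [sub_eq_zero] at hyz
  rw [hyz, ← LinearMap.comp_apply, ← LinearMap.rTensor_comp, hex.linearMap_comp_eq_zero]
  simp

theorem flat_of_local (h : EtGlue.IsGlueingPair R R' f) [Module.Flat R' (R' ⊗[R] M)]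
    [Module.Flat R (Localization.Away f ⊗[R] M)] : Module.Flat R M := by
  classical
  rw [Module.Flat.iff_lTensor_injective']
  intro I
  rw [injective_iff_map_eq_zero]
  intro x hx
  set j := I.subtype
  -- the image of `x` away from `f` is zero
  have h1 : IsTors f x := by
    apply isTors_of_tensor (C := Localization.Away f)
    apply (TensorProduct.assoc R (Localization.Away f) M I).symm.injective
    apply Module.Flat.lTensor_preserves_injective_linearMap (M := Localization.Away f ⊗[R] M) j
      (Submodule.subtype_injective _)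
    have key : ∀ y, j.lTensor (Localization.Away f ⊗[R] M)
        ((TensorProduct.assoc R (Localization.Away f) M I).symm ((1 : Localization.Away f) ⊗ₜ y)) =
        (TensorProduct.assoc R (Localization.Away f) M R).symm ((1 : Localization.Away f) ⊗ₜ j.lTensor M y) := by
      intro y
      induction y with
      | zero => simp
      | add x y hx hy => simp only [tmul_add, map_add, hx, hy]
      | tmul m x => simp
    rw [key, hx, tmul_zero, map_zero, map_zero, map_zero]
  obtain ⟨n, hn⟩ := h1
  -- the image of `x` in `R'` is zero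
  have h2 : (1 : R') ⊗ₜ[R] x = 0 := by
    let Q := R' ⊗[R] M
    let j' : R' ⊗[R] I →ₗ[R'] R' ⊗[R] R := j.baseChange R'
    let T := LinearMap.ker j'
    let e := AlgebraTensorModule.cancelBaseChange R R' R' Q I
    let x' : Q ⊗[R'] (R' ⊗[R] I) := e.symm ((AlgebraTensorModule.assoc R R R' R' M I).symm ((1 : R') ⊗ₜ x))
    have hx' : j'.lTensor Q x' = 0 := by
      have key : ∀ y, j'.lTensor Q (e.symm ((AlgebraTensorModule.assoc R R R' R' M I).symm ((1 : R') ⊗ₜ y))) =
          (AlgebraTensorModule.cancelBaseChange R R' R' Q R).symm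
            ((AlgebraTensorModule.assoc R R R' R' M R).symm ((1 : R') ⊗ₜ j.lTensor M y)) := by
        intro y
        induction y with
        | zero => simp
        | add x y hx hy => simp only [tmul_add, map_add, hx, hy]
        | tmul m x => simp [e, j']
      show j'.lTensor Q (e.symm _) = 0
      rw [key, hx, tmul_zero, map_zero, map_zero]
    obtain ⟨t, ht⟩ := (Module.Flat.lTensor_exact (M := Q) (N := T) (LinearMap.exact_subtype_ker_map j') x').1 hx'
    have hT : Function.Injective (LinearMap.lsmul R' T (algebraMap R R' (f ^ n))) := by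
      rw [injective_iff_map_eq_zero]
      intro y hy
      have hy' : f ^ n • (y : R' ⊗[R] I) = 0 := by
        have := congrArg Subtype.val hy
        simpa [algebraMap_smul, ← map_pow] using this
      obtain ⟨k, ⟨a, ha⟩, hk⟩ := torsSurj h I (y : R' ⊗[R] I) ⟨n, hy'⟩
      have h0 : j' (y : R' ⊗[R] I) = 0 := y.2
      rw [← hk] at h0
      have h0' : algebraMap R R' (j k) = 0 := by
        rw [← rid_one_tmul, show (1 : R') ⊗ₜ[R] j k = 0 from h0, map_zero]
      have hk0 : j k = 0 := pair_inj h _ ⟨a, by rw [← map_smul, ha, map_zero]⟩ h0'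
      rw [← map_zero j] at hk0
      rw [Submodule.subtype_injective _ hk0, tmul_zero] at hk
      exact Subtype.ext hk.symm
    have ht0 : t = 0 := by
      apply Module.Flat.lTensor_preserves_injective_linearMap (M := Q) _ hT
      apply Module.Flat.lTensor_preserves_injective_linearMap (M := Q) T.subtype
        (Submodule.subtype_injective _)
      rw [map_zero, map_zero, ← LinearMap.comp_apply, ← LinearMap.lTensor_comp]
      have : T.subtype ∘ₗ LinearMap.lsmul R' T (algebraMap R R' (f ^ n)) =
          algebraMap R R' (f ^ n) • T.subtype := by ext; simp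
      rw [this, LinearMap.lTensor_smul, LinearMap.smul_apply, ht]
      show algebraMap R R' (f ^ n) • e.symm _ = 0
      rw [← map_smul, ← map_smul, algebraMap_smul, ← tmul_smul, hn]
      simp
    have hx0 : x' = 0 := by rw [← ht, ht0, map_zero]
    exact (AlgebraTensorModule.assoc R R R' R' M I).symm.injective
      (e.symm.injective (by rw [map_zero, map_zero]; exact hx0))
  exact eq_zero_of_glue h (L := LinearMap.ker (Finsupp.linearCombination R (id : M → M)))
    (Finsupp.linearCombination_id_surjective R M)
    (LinearMap.exact_subtype_ker_map _) (Submodule.subtype_injective _) hn h2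
    ((((torsInj_self h).of_injective j (Submodule.subtype_injective _)).finsupp M).of_injective
      (TensorProduct.finsuppScalarLeft R I M).toLinearMap (TensorProduct.finsuppScalarLeft R I M).injective)

theorem flat_iff (h : EtGlue.IsGlueingPair R R' f) :
    Module.Flat R M ↔ Module.Flat R' (R' ⊗[R] M) ∧
      Module.Flat (Localization.Away f) (Localization.Away f ⊗[R] M) := by
  refine ⟨fun _ => ⟨inferInstance, inferInstance⟩, fun ⟨h1, h2⟩ => ?_⟩
  have : Module.Flat R (Localization.Away f ⊗[R] M) := Module.Flat.trans R (Localization.Away f) _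
  exact flat_of_local h

end Glue

end Groth.EtaleAlgebra
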