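import Groth.Prelude.Def_EtMil
import Groth.Agent.EtaleAlgebra.GlueFlat
import Mathlib.RingTheory.Flat.Tensor
import Mathlib.RingTheory.Flat.Stability
import Mathlib.RingTheory.Flat.EquationalCriterion
import Mathlib.LinearAlgebra.TensorProduct.RightExactness
import Mathlib.RingTheory.IsTensorProduct
import Mathlib.RingTheory.TensorProduct.Finite
import Mathlib.Algebra.Module.FinitePresentation
import Mathlib.LinearAlgebra.TensorProduct.Finiteness
import Mathlib.Tactic.Ring
import Mathlib.Tactic.Abel

universe u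

open TensorProduct

namespace Groth.EtaleAlgebra.Milnor

set_option linter.unusedSectionVars false
set_option linter.unusedVariables false

variable {B' B A' A : Type u} [CommRing B'] [CommRing B] [CommRing A'] [CommRing A]
  [Algebra B' B] [Algebra B' A'] [Algebra B A] [Algebra A' A] [Algebra B' A]
  [IsScalarTower B' B A] [IsScalarTower B' A' A]

variable {L' : Type u} [AddCommGroup L'] [Module B' L']

section square

variable (hsq : EtMil.IsFibreSquare B' B A' A)
include hsq

theorem surjective_left : Function.Surjective (algebraMap B' B) := by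
  intro b
  obtain ⟨a', ha'⟩ := hsq.1 (algebraMap B A b)
  obtain ⟨b', hb', -⟩ := hsq.2 b a' ha'.symm
  exact ⟨b', hb'.1⟩

theorem exists_ker_lift {a' : A'} (h : algebraMap A' A a' = 0) :
    ∃ j, algebraMap B' B j = 0 ∧ algebraMap B' A' j = a' := by
  obtain ⟨j, hj, -⟩ := hsq.2 0 a' (by rw [map_zero, h])
  exact ⟨j, hj⟩

theorem ext {x y : B'} (h1 : algebraMap B' B x = algebraMap B' B y)
    (h2 : algebraMap B' A' x = algebraMap B' A' y) : x = y := by
  obtain ⟨z, -, hz⟩ := hsq.2 (algebraMap B' B x) (algebraMap B' A' x) (by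
    rw [← IsScalarTower.algebraMap_apply, ← IsScalarTower.algebraMap_apply])
  rw [hz x ⟨rfl, rfl⟩, hz y ⟨h1.symm, h2.symm⟩]

theorem map_ker {j : B'} (hj : algebraMap B' B j = 0) : algebraMap A' A (algebraMap B' A' j) = 0 := by
  rw [← IsScalarTower.algebraMap_apply, IsScalarTower.algebraMap_apply B' B A, hj, map_zero]

/-- If `l` dies in `A' ⊗ L'` then it is killed by `ker (B' → B)`. -/
theorem smul_eq_zero_of_tmul {l : L'} (h : (1 : A') ⊗ₜ[B'] l = 0) {j : B'}
    (hj : algebraMap B' B j = 0) : j • l = 0 := by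
  have hm : ∀ a' : A', ∃ k, algebraMap B' B k = 0 ∧ algebraMap B' A' k = algebraMap B' A' j * a' :=
    fun a' => exists_ker_lift hsq (by rw [map_mul, map_ker hsq hj, zero_mul])
  choose k hk1 hk2 using hm
  let μ : A' →ₗ[B'] B' :=
    { toFun := k
      map_add' := fun a b => ext hsq (by simp [hk1]) (by simp [hk2, mul_add])
      map_smul' := fun r a => ext hsq (by simp [hk1]) (by
        simp only [RingHom.id_apply, hk2, Algebra.smul_def, Algebra.algebraMap_self, map_mul]
        ring) }
  have h1 := congrArg (TensorProduct.lift ((LinearMap.lsmul B' L').comp μ)) h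
  rw [map_zero, TensorProduct.lift.tmul] at h1
  have hk : k 1 = j := ext hsq (by rw [hk1, hj]) (by rw [hk2, mul_one])
  simpa [μ, hk] using h1

omit hsq in
theorem mem_smul_top_of_tmul (hs : Function.Surjective (algebraMap B' B)) {l : L'}
    (h : (1 : B) ⊗ₜ[B'] l = 0) : l ∈ RingHom.ker (algebraMap B' B) • (⊤ : Submodule B' L') := by
  let p : B' →ₗ[B'] B := Algebra.linearMap B' B
  obtain ⟨w, hw⟩ := (rTensor_exact (M := LinearMap.ker p) L' (LinearMap.exact_subtype_ker_map p) hs
    ((1 : B') ⊗ₜ[B'] l)).1 (by simpa [p] using h)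
  have h2 := congrArg (TensorProduct.lid B' L') hw
  rw [TensorProduct.lid_tmul, one_smul] at h2
  rw [← h2]
  clear hw h2
  induction w with
  | zero => simp
  | tmul j m =>
    rw [LinearMap.rTensor_tmul, TensorProduct.lid_tmul]
    exact Submodule.smul_mem_smul j.2 trivial
  | add a b ha hb => rw [map_add, map_add]; exact add_mem ha hb

theorem subsingleton_of_baseChange [Subsingleton (B ⊗[B'] L')] [Subsingleton (A' ⊗[B'] L')] :
    Subsingleton L' := by
  refine subsingleton_of_forall_eq 0 fun l => ?_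
  have h := mem_smul_top_of_tmul (surjective_left hsq) (Subsingleton.elim ((1 : B) ⊗ₜ[B'] l) 0)
  refine Submodule.smul_induction_on h (fun j hj m _ => ?_) (fun a b ha hb => by rw [ha, hb, add_zero])
  exact smul_eq_zero_of_tmul hsq (Subsingleton.elim _ _) hj

theorem exists_glue_tensor (x : B ⊗[B'] L') (y : A' ⊗[B'] L')
    (hxy : (IsScalarTower.toAlgHom B' B A).toLinearMap.rTensor L' x =
      (IsScalarTower.toAlgHom B' A' A).toLinearMap.rTensor L' y) :
    ∃ l : L', (1 : B) ⊗ₜ[B'] l = x ∧ (1 : A') ⊗ₜ[B'] l = y := by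
  obtain ⟨l, rfl⟩ := TensorProduct.mk_surjective B' L' B (surjective_left hsq) x
  let g := (IsScalarTower.toAlgHom B' A' A).toLinearMap
  obtain ⟨w, hw⟩ := (rTensor_exact (M := LinearMap.ker g) L' (LinearMap.exact_subtype_ker_map g) hsq.1
    (y - (1 : A') ⊗ₜ[B'] l)).1 (by
      rw [map_sub, ← hxy]
      simp [g])
  suffices h : ∀ w, ∃ l₀ : L', (1 : B) ⊗ₜ[B'] l₀ = 0 ∧
      (1 : A') ⊗ₜ[B'] l₀ = (LinearMap.ker g).subtype.rTensor L' w by
    obtain ⟨l₀, h1, h2⟩ := h w
    exact ⟨l + l₀, by rw [tmul_add, h1, add_zero]; rfl, by rw [tmul_add, h2, hw]; abel⟩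
  intro w
  induction w with
  | zero => exact ⟨0, by simp, by simp⟩
  | tmul r m =>
    obtain ⟨j, hj1, hj2⟩ := exists_ker_lift hsq r.2
    refine ⟨j • m, ?_, ?_⟩
    · rw [← smul_tmul, Algebra.smul_def, hj1, zero_mul, zero_tmul]
    · rw [← smul_tmul, Algebra.smul_def, hj2, mul_one, LinearMap.rTensor_tmul]
      rfl
  | add a b ha hb =>
    obtain ⟨x1, h1, h2⟩ := ha
    obtain ⟨x2, h3, h4⟩ := hb
    exact ⟨x1 + x2, by rw [tmul_add, h1, h3, add_zero], by rw [tmul_add, map_add, h2, h4]⟩

theorem finite_of_baseChange [Module.Finite B (B ⊗[B'] L')] [Module.Finite A' (A' ⊗[B'] L')] :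
    Module.Finite B' L' := by
  have key : ∀ (C : Type u) [CommRing C] [Algebra B' C] [Module.Finite C (C ⊗[B'] L')],
      ∃ P : Submodule B' L', P.FG ∧ ∀ Q, P ≤ Q → Subsingleton (C ⊗[B'] (L' ⧸ Q)) := by
    intro C _ _ _
    obtain ⟨s, hs⟩ := Module.Finite.fg_top (R := C) (M := C ⊗[B'] L')
    obtain ⟨P, hPf, hP⟩ :=
      TensorProduct.exists_finite_submodule_right_of_setFinite (s : Set (C ⊗[B'] L')) s.finite_toSet
    refine ⟨P, Module.Finite.iff_fg.1 hPf, fun Q hQ => subsingleton_of_forall_eq 0 fun x => ?_⟩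
    have hle : ⊤ ≤ LinearMap.ker (Q.mkQ.baseChange C) := by
      rw [← hs, Submodule.span_le]
      intro z hz
      obtain ⟨w, rfl⟩ := hP hz
      show Q.mkQ.lTensor C (P.subtype.lTensor C w) = 0
      rw [← LinearMap.comp_apply, ← LinearMap.lTensor_comp,
        show Q.mkQ ∘ₗ P.subtype = 0 by ext p; simpa using hQ p.2]
      simp
    obtain ⟨y, rfl⟩ := LinearMap.lTensor_surjective C Q.mkQ_surjective x
    exact hle trivial
  obtain ⟨P₁, hP₁, h₁⟩ := key B
  obtain ⟨P₂, hP₂, h₂⟩ := key A'
  have := h₁ _ (le_sup_left (b := P₂))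
  have := h₂ _ (le_sup_right (a := P₁))
  have := subsingleton_of_baseChange hsq (L' := L' ⧸ (P₁ ⊔ P₂))
  exact ⟨Submodule.Quotient.subsingleton_iff.1 this ▸ hP₁.sup hP₂⟩

theorem isPushout : Algebra.IsPushout B' B A' A := by
  let g := (IsScalarTower.toAlgHom B' A' A).toLinearMap
  have hbij : Function.Bijective (g.liftBaseChange B) := by
    constructor
    · rw [injective_iff_map_eq_zero]
      intro z hz
      obtain ⟨a', rfl⟩ := TensorProduct.mk_surjective B' A' B (surjective_left hsq) z
      change g.liftBaseChange B ((1 : B) ⊗ₜ[B'] a') = 0 at hz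
      rw [LinearMap.liftBaseChange_tmul, one_smul] at hz
      obtain ⟨j, hj1, hj2⟩ := exists_ker_lift hsq hz
      show (1 : B) ⊗ₜ[B'] a' = 0
      rw [← hj2, Algebra.algebraMap_eq_smul_one, ← smul_tmul, Algebra.smul_def, hj1, zero_mul,
        zero_tmul]
    · intro a
      obtain ⟨a', rfl⟩ := hsq.1 a
      exact ⟨(1 : B) ⊗ₜ[B'] a', by simp [g]⟩
  exact ⟨IsBaseChange.of_equiv (LinearEquiv.ofBijective (g.liftBaseChange B) hbij)
    (fun x => by simp [g])⟩

end square

/-- If `C ⊗ L'` is `C`-flat, `L' ⊗ -` preserves injectivity of `C`-linear maps. -/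
theorem rTensor_injective_of_flat (C : Type u) [CommRing C] [Algebra B' C]
    [Module.Flat C (C ⊗[B'] L')] {U W : Type u} [AddCommGroup U] [Module C U] [Module B' U]
    [IsScalarTower B' C U] [AddCommGroup W] [Module C W] [Module B' W] [IsScalarTower B' C W]
    (h : U →ₗ[C] W) (hh : Function.Injective h) :
    Function.Injective ((h.restrictScalars B').rTensor L') := by
  let eU := AlgebraTensorModule.cancelBaseChange B' C C U L'
  let eW := AlgebraTensorModule.cancelBaseChange B' C C W L'
  have key : ∀ t, eW.symm ((h.restrictScalars B').rTensor L' t) =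
      h.rTensor (C ⊗[B'] L') (eU.symm t) := by
    intro t
    induction t with
    | zero => simp
    | tmul u l => simp [eU, eW]
    | add a b ha hb => simp only [map_add, ha, hb]
  rw [injective_iff_map_eq_zero]
  intro t ht
  have h2 := key t
  rw [ht, map_zero, eq_comm] at h2
  exact eU.symm.injective (by
    rw [map_zero]
    exact Module.Flat.rTensor_preserves_injective_linearMap h hh (h2.trans (map_zero _).symm))

theorem mk_injective_of_killed (hs : Function.Surjective (algebraMap B' B)) {U : Type u}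
    [AddCommGroup U] [Module B' U] (hU : ∀ j, algebraMap B' B j = 0 → ∀ u : U, j • u = 0) :
    Function.Injective (TensorProduct.mk B' B U 1) := by
  rw [injective_iff_map_eq_zero]
  intro u hu
  exact Submodule.smul_induction_on (mem_smul_top_of_tmul hs hu) (fun j hj m _ => hU j hj m)
    (fun a b ha hb => by rw [ha, hb, add_zero])

/-- If `B ⊗ L'` is `B`-flat, `L' ⊗ -` preserves injections of `B'`-modules killed by `ker (B' → B)`. -/
theorem rTensor_injective_of_killed (hs : Function.Surjective (algebraMap B' B))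
    [Module.Flat B (B ⊗[B'] L')] {U W : Type u} [AddCommGroup U] [Module B' U] [AddCommGroup W]
    [Module B' W] (hU : ∀ j, algebraMap B' B j = 0 → ∀ u : U, j • u = 0)
    (hW : ∀ j, algebraMap B' B j = 0 → ∀ u : W, j • u = 0)
    (h : U →ₗ[B'] W) (hh : Function.Injective h) : Function.Injective (h.rTensor L') := by
  let eU : U ≃ₗ[B'] B ⊗[B'] U :=
    LinearEquiv.ofBijective (TensorProduct.mk B' B U 1)
      ⟨mk_injective_of_killed hs hU, TensorProduct.mk_surjective B' U B hs⟩
  have hinj : Function.Injective (h.baseChange B) := by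
    rw [injective_iff_map_eq_zero]
    intro z hz
    obtain ⟨u, rfl⟩ := eU.surjective z
    have h1 : TensorProduct.mk B' B W 1 (h u) = 0 := hz
    rw [← map_zero (TensorProduct.mk B' B W 1)] at h1
    rw [← map_zero h] at h1
    rw [hh (mk_injective_of_killed hs hW h1), map_zero]
  have key := rTensor_injective_of_flat (B' := B') (L' := L') B (h.baseChange B) hinj
  have h2 : (TensorProduct.mk B' B W 1) ∘ₗ h = ((h.baseChange B).restrictScalars B') ∘ₗ eU.toLinearMap :=
    rfl
  rw [injective_iff_map_eq_zero]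
  intro t ht
  have h3 := congrArg (LinearMap.rTensor L' · t) h2
  simp only [LinearMap.rTensor_comp, LinearMap.comp_apply, ht, map_zero] at h3
  have h4 := key (h3.symm.trans (map_zero _).symm)
  exact (LinearEquiv.rTensor L' eU).injective (by rw [map_zero]; exact h4)

theorem exists_of_rTensor_eq_zero {N U : Type u} [AddCommGroup N] [Module B' N] [AddCommGroup U]
    [Module B' U] (g : N →ₗ[B'] U) (hg : Function.Surjective g) {y : N ⊗[B'] L'}
    (hy : g.rTensor L' y = 0) :
    ∃ z : LinearMap.ker g ⊗[B'] L', (LinearMap.ker g).subtype.rTensor L' z = y :=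
  (rTensor_exact (M := LinearMap.ker g) L' (LinearMap.exact_subtype_ker_map g) hg y).1 hy

theorem exists_preimage_span (hsq : EtMil.IsFibreSquare B' B A' A) {N : Type u} [AddCommGroup N]
    [Module B' N] (ι : N →ₗ[B'] B') (hιJ : ∀ k : N, algebraMap B' B (ι k) = 0) {a : A'}
    (ha : a ∈ Ideal.span {a | ∃ j, algebraMap B' B j = 0 ∧ ∃ k, a = algebraMap B' A' (j * ι k)}) :
    ∃ k : N, algebraMap B' A' (ι k) = a := by
  suffices ∀ r : A', ∃ k : N, algebraMap B' A' (ι k) = r * a by simpa using this 1
  induction ha using Submodule.span_induction with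
  | mem a ha =>
    obtain ⟨j, hj, k, rfl⟩ := ha
    intro r
    obtain ⟨j', hj'1, hj'2⟩ := exists_ker_lift hsq (a' := r * algebraMap B' A' j)
      (by rw [map_mul, map_ker hsq hj, mul_zero])
    exact ⟨j' • k, by rw [map_smul, smul_eq_mul, map_mul, hj'2, map_mul, mul_assoc]⟩
  | zero => exact fun r => ⟨0, by simp⟩
  | add a b _ _ iha ihb =>
    intro r
    obtain ⟨k, hk⟩ := iha r
    obtain ⟨l, hl⟩ := ihb r
    exact ⟨k + l, by rw [map_add, map_add, hk, hl, mul_add]⟩
  | smul s a _ iha =>
    intro r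
    obtain ⟨k, hk⟩ := iha (r * s)
    exact ⟨k, by rw [hk, smul_eq_mul, mul_assoc]⟩

theorem exists_of_killed_image (hs : Function.Surjective (algebraMap B' B)) [Module.Flat B (B ⊗[B'] L')]
    [Module.Flat A' (A' ⊗[B'] L')] {N V : Type u} [AddCommGroup N] [Module B' N] [AddCommGroup V]
    [Module A' V] [Module B' V] [IsScalarTower B' A' V] (ρ : N →ₗ[B'] V)
    (hk : ∀ j, algebraMap B' B j = 0 → ∀ k, j • ρ k = 0) {y : N ⊗[B'] L'} (hy : ρ.rTensor L' y = 0) :
    ∃ z : LinearMap.ker ρ.rangeRestrict ⊗[B'] L', (LinearMap.ker ρ.rangeRestrict).subtype.rTensor L' z = y := by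
  let W : Submodule A' V :=
    { carrier := {v | ∀ j, algebraMap B' B j = 0 → j • v = 0}
      add_mem' := fun ha hb j hj => by rw [smul_add, ha j hj, hb j hj, add_zero]
      zero_mem' := fun j _ => smul_zero _
      smul_mem' := fun r v hv j hj => by rw [smul_comm, hv j hj, smul_zero] }
  let U := LinearMap.range ρ
  have hU : ∀ j, algebraMap B' B j = 0 → ∀ u : U, j • u = 0 := by
    rintro j hj ⟨_, k, rfl⟩
    exact Subtype.ext (hk j hj k)
  have hW : ∀ j, algebraMap B' B j = 0 → ∀ w : W, j • w = 0 := fun j hj w => Subtype.ext (w.2 j hj)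
  let g : U →ₗ[B'] W :=
    { toFun := fun u => ⟨u.1, fun j hj => congrArg Subtype.val (hU j hj u)⟩
      map_add' := fun _ _ => rfl
      map_smul' := fun _ _ => rfl }
  have hg : Function.Injective g := fun a b h => Subtype.ext (congrArg (fun w : W => (w : V)) h)
  apply exists_of_rTensor_eq_zero _ ρ.surjective_rangeRestrict
  apply rTensor_injective_of_killed (L' := L') (U := U) (W := W) hs hU hW g hg
  rw [map_zero]
  apply rTensor_injective_of_flat (L' := L') A' W.subtype (Submodule.subtype_injective _)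
  rw [map_zero, ← LinearMap.comp_apply, ← LinearMap.rTensor_comp, ← LinearMap.comp_apply,
    ← LinearMap.rTensor_comp]
  exact hy

theorem eq_zero_of_le_ker (hsq : EtMil.IsFibreSquare B' B A' A) [Module.Flat B (B ⊗[B'] L')]
    [Module.Flat A' (A' ⊗[B'] L')] {N : Type u} [AddCommGroup N] [Module B' N] (ι : N →ₗ[B'] B')
    (hι : Function.Injective ι) (hιJ : ∀ k : N, algebraMap B' B (ι k) = 0) {y : N ⊗[B'] L'}
    (hy : ι.rTensor L' y = 0) : y = 0 := by
  let q : B' →ₗ[B'] A' := Algebra.linearMap B' A'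
  let S : Set A' := {a | ∃ j, algebraMap B' B j = 0 ∧ ∃ k, a = algebraMap B' A' (j * ι k)}
  let 𝔞 : Submodule A' A' := Submodule.span A' S
  let ρ : N →ₗ[B'] A' ⧸ 𝔞 := 𝔞.mkQ.restrictScalars B' ∘ₗ (q ∘ₗ ι)
  have hker : ∀ k, ρ.rangeRestrict k = 0 → q (ι k) ∈ 𝔞 := fun k hk =>
    (Submodule.Quotient.mk_eq_zero 𝔞).1 (congrArg Subtype.val hk)
  obtain ⟨z, hzy⟩ := exists_of_killed_image (L' := L') (A' := A') (surjective_left hsq) ρ
    (fun j hj k => by
      rw [← map_smul]
      exact (Submodule.Quotient.mk_eq_zero 𝔞).2 (Submodule.subset_span ⟨j, hj, k, by simp [q, Algebra.smul_def]⟩))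
    (y := y) (by rw [LinearMap.rTensor_comp, LinearMap.comp_apply, LinearMap.rTensor_comp,
      LinearMap.comp_apply, hy, map_zero, map_zero])
  suffices z = 0 by rw [← hzy, this, map_zero]
  let τ : LinearMap.ker ρ.rangeRestrict →ₗ[B'] 𝔞 :=
    LinearMap.codRestrict (𝔞.restrictScalars B') (q ∘ₗ ι ∘ₗ (LinearMap.ker ρ.rangeRestrict).subtype)
      (fun k => hker _ k.2)
  have hτ : Function.Bijective τ := by
    constructor
    · intro a b hab
      apply Subtype.ext
      apply hι
      exact ext hsq ((hιJ a).trans (hιJ b).symm) (congrArg Subtype.val hab)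
    · rintro ⟨a, ha⟩
      obtain ⟨k, hka⟩ := exists_preimage_span hsq ι hιJ ha
      refine ⟨⟨k, Subtype.ext ?_⟩, Subtype.ext hka⟩
      exact (Submodule.Quotient.mk_eq_zero 𝔞).2 ((show q (ι k) = a from hka).symm ▸ ha)
  apply (LinearEquiv.rTensor L' (LinearEquiv.ofBijective τ hτ)).injective
  rw [map_zero]
  apply rTensor_injective_of_flat (L' := L') A' 𝔞.subtype (Submodule.subtype_injective _)
  rw [map_zero]
  have h4 : (𝔞.subtype.restrictScalars B') ∘ₗ τ = q ∘ₗ (ι ∘ₗ (LinearMap.ker ρ.rangeRestrict).subtype) := rfl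
  have h5 := congrArg (LinearMap.rTensor L' · z) h4
  simp only [LinearMap.rTensor_comp, LinearMap.comp_apply] at h5
  exact h5.trans (by rw [hzy, hy, map_zero])

theorem flat_of_baseChange (hsq : EtMil.IsFibreSquare B' B A' A) [Module.Flat B (B ⊗[B'] L')]
    [Module.Flat A' (A' ⊗[B'] L')] : Module.Flat B' L' := by
  have hs := surjective_left hsq
  rw [Module.Flat.iff_rTensor_injective']
  intro K
  let J : Ideal B' := RingHom.ker (algebraMap B' B)
  let q : B' →ₗ[B'] A' := Algebra.linearMap B' A'
  rw [injective_iff_map_eq_zero]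
  intro x hx
  -- modulo `K ∩ J`
  let p : B' →ₗ[B'] B := Algebra.linearMap B' B
  let U₁ : Submodule B' B := Submodule.map p K
  let π₁ : K →ₗ[B'] U₁ := p.submoduleMap K
  have hπ₁ : Function.Surjective π₁ := p.submoduleMap_surjective K
  have hB : ∀ j, algebraMap B' B j = 0 → ∀ b : B, j • b = 0 := fun j hj b => by
    rw [Algebra.smul_def, hj, zero_mul]
  have h1 : π₁.rTensor L' x = 0 := by
    apply rTensor_injective_of_killed (L' := L') hs
      (fun j hj u => Subtype.ext (hB j hj u.1)) hB U₁.subtype (Submodule.subtype_injective _)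
    rw [map_zero, ← LinearMap.comp_apply, ← LinearMap.rTensor_comp,
      show U₁.subtype ∘ₗ π₁ = p ∘ₗ K.subtype from rfl, LinearMap.rTensor_comp, LinearMap.comp_apply,
      hx, map_zero]
  obtain ⟨y, rfl⟩ := exists_of_rTensor_eq_zero π₁ hπ₁ h1
  suffices y = 0 by rw [this, map_zero]
  refine eq_zero_of_le_ker hsq (K.subtype ∘ₗ (LinearMap.ker π₁).subtype)
    ((Submodule.subtype_injective _).comp (Submodule.subtype_injective _))
    (fun k => congrArg Subtype.val k.2) ?_
  rw [LinearMap.rTensor_comp, LinearMap.comp_apply, hx]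

theorem finitePresentation_of_baseChange (hsq : EtMil.IsFibreSquare B' B A' A)
    [Module.Flat B (B ⊗[B'] L')] [Module.FinitePresentation B (B ⊗[B'] L')]
    [Module.Flat A' (A' ⊗[B'] L')] [Module.FinitePresentation A' (A' ⊗[B'] L')] :
    Module.FinitePresentation B' L' := by
  have := finite_of_baseChange hsq (L' := L')
  have := flat_of_baseChange hsq (L' := L')
  obtain ⟨n, π, hπ⟩ := Module.Finite.exists_fin' B' L'
  have key : ∀ (N : Type u) [AddCommGroup N] [Module B' N] (i : N →ₗ[B'] (Fin n → B')),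
      Function.Injective i → Function.Exact i π → Module.Finite B' N := by
    intro N _ _ i hi hex
    have hC : ∀ (C : Type u) [CommRing C] [Algebra B' C] [Module.FinitePresentation C (C ⊗[B'] L')],
        Module.Finite C (C ⊗[B'] N) := by
      intro C _ _ _
      have hinj : Function.Injective (i.lTensor C) := by
        rw [LinearMap.lTensor_inj_iff_rTensor_inj]
        exact Groth.EtaleAlgebra.rTensor_injective_of_exact hi hπ hex C
      have hex' : Function.Exact (i.baseChange C) (π.baseChange C) := lTensor_exact C hex hπ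
      have hfg : (LinearMap.ker (π.baseChange C)).FG :=
        Module.FinitePresentation.fg_ker _ (LinearMap.lTensor_surjective C hπ)
      rw [LinearMap.exact_iff.1 hex'] at hfg
      have := Module.Finite.iff_fg.2 hfg
      exact Module.Finite.equiv (LinearEquiv.ofInjective (i.baseChange C) hinj).symm
    have := hC B
    have := hC A'
    exact finite_of_baseChange hsq
  exact Module.finitePresentation_of_surjective π hπ
    (Module.Finite.iff_fg.1 (key (LinearMap.ker π) (LinearMap.ker π).subtype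
      (Submodule.subtype_injective _) (LinearMap.exact_subtype_ker_map π)))

end Groth.EtaleAlgebra.Milnor
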