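import Mathlib.RingTheory.DedekindDomain.Dvr
import Mathlib.RingTheory.DiscreteValuationRing.TFAE
import Mathlib.RingTheory.Unramified.LocalRing
import Mathlib.RingTheory.Etale.Basic
import Mathlib.RingTheory.Flat.TorsionFree
import Mathlib.RingTheory.Flat.Stability
import Mathlib.RingTheory.Flat.Localization
import Mathlib.RingTheory.Smooth.Flat
import Mathlib.RingTheory.Filtration
import Mathlib.RingTheory.Ideal.MinimalPrime.Noetherian
import Mathlib.RingTheory.LocalProperties.Reduced
import Mathlib.RingTheory.Ideal.Quotient.Operations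
import Mathlib.RingTheory.Ideal.GoingDown
import Mathlib.RingTheory.FinitePresentation

namespace Groth.EtaleAlgebra

open IsLocalRing nonZeroDivisors

universe u

/-- A Noetherian local ring whose maximal ideal is generated by a nonzerodivisor is a domain. -/
theorem isDomain_of_maximalIdeal_eq_span {S : Type u} [CommRing S] [IsNoetherianRing S]
    [IsLocalRing S] {x : S} (hm : maximalIdeal S = Ideal.span {x}) (hx : x ∈ S⁰) : IsDomain S := by
  have hkr : ⨅ n : ℕ, Ideal.span {x} ^ n = ⊥ :=
    Ideal.iInf_pow_eq_bot_of_isLocalRing _ (hm ▸ (maximalIdeal.isMaximal S).ne_top)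
  have fac : ∀ a : S, a ≠ 0 → ∃ (n : ℕ) (u : S), IsUnit u ∧ a = x ^ n * u := by
    intro a ha
    obtain ⟨n, hn⟩ : ∃ n : ℕ, a ∉ Ideal.span {x} ^ n := by
      by_contra h
      simp only [not_exists, not_not] at h
      have : a ∈ ⨅ n : ℕ, Ideal.span {x} ^ n := Submodule.mem_iInf _ |>.2 h
      rw [hkr, Ideal.mem_bot] at this
      exact ha this
    induction n generalizing a with
    | zero => simp at hn
    | succ n ih =>
      by_cases hu : IsUnit a
      · exact ⟨0, a, hu, by simp⟩
      · have : a ∈ maximalIdeal S := (mem_maximalIdeal a).2 hu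
        rw [hm, Ideal.mem_span_singleton] at this
        obtain ⟨b, rfl⟩ := this
        have hb : b ∉ Ideal.span {x} ^ n := by
          intro hb
          apply hn
          rw [pow_succ']
          exact Ideal.mul_mem_mul (Ideal.mem_span_singleton_self x) hb
        obtain ⟨m, u, hu', rfl⟩ := ih b (fun h0 => ha (by rw [h0, mul_zero])) hb
        exact ⟨m + 1, u, hu', by rw [pow_succ']; ring⟩
  have hz : NoZeroDivisors S := by
    refine ⟨fun {a b} hab => ?_⟩
    by_contra h
    simp only [not_or] at h
    obtain ⟨i, u, hu, rfl⟩ := fac a h.1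
    obtain ⟨j, v, hv, rfl⟩ := fac b h.2
    have : x ^ (i + j) * (u * v) = 0 := by rw [pow_add]; linear_combination hab
    rw [(hu.mul hv).mul_left_eq_zero] at this
    have hxn : x ^ (i + j) ∈ S⁰ := pow_mem hx _
    exact zero_notMem_nonZeroDivisors (this ▸ hxn)
  exact NoZeroDivisors.to_isDomain S

variable {A B : Type u} [CommRing A] [IsDedekindDomain A] [CommRing B] [Algebra A B]

omit [IsDedekindDomain A] in
/-- For an unramified algebra, the maximal ideal at a prime is extended from the base. -/
theorem map_under_eq_maximalIdeal [Algebra.Etale A B] (q : Ideal B) [q.IsPrime] :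
    (q.under A).map (algebraMap A (Localization.AtPrime q)) =
      maximalIdeal (Localization.AtPrime q) := by
  let := Localization.AtPrime.algebraOfLiesOver (q.under A) q
  exact ((Algebra.isUnramifiedAt_iff_map_eq A (q.under A) q).1 inferInstance).2

/-- Localizations of an etale algebra over a Dedekind domain are domains with
principal maximal ideals. -/
theorem localization_isDomain_and_principal [Algebra.Etale A B] (q : Ideal B) [q.IsPrime] :
    IsDomain (Localization.AtPrime q) ∧ (maximalIdeal (Localization.AtPrime q)).IsPrincipal := by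
  have : IsNoetherianRing B := Algebra.FiniteType.isNoetherianRing A B
  have hmap := map_under_eq_maximalIdeal (A := A) q
  set p := q.under A with hp
  by_cases h0 : p = ⊥
  · rw [h0, Ideal.map_bot] at hmap
    exact ⟨((IsLocalRing.isField_iff_maximalIdeal_eq).2 hmap.symm).isDomain,
      hmap ▸ bot_isPrincipal⟩
  · have hdvr : IsDiscreteValuationRing (Localization.AtPrime p) :=
      IsLocalization.AtPrime.isDiscreteValuationRing_of_dedekind_domain A h0 _
    obtain ⟨ϖ, hϖ⟩ := IsDiscreteValuationRing.exists_irreducible (Localization.AtPrime p)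
    obtain ⟨π, s, hπ⟩ := IsLocalization.exists_mk'_eq p.primeCompl ϖ
    let := Localization.AtPrime.algebraOfLiesOver p q
    let π' := algebraMap A (Localization.AtPrime q) π
    have hπ0 : π ≠ 0 := by
      rintro rfl
      exact hϖ.ne_zero (by rw [← hπ, IsLocalization.mk'_zero])
    have hspan : maximalIdeal (Localization.AtPrime q) = Ideal.span {π'} := by
      have e1 : maximalIdeal (Localization.AtPrime p) =
          Ideal.span {algebraMap A (Localization.AtPrime p) π} := by
        rw [hϖ.maximalIdeal_eq, ← hπ, Ideal.span_singleton_eq_span_singleton]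
        refine ⟨(IsLocalization.map_units _ s).unit, ?_⟩
        simp [IsLocalization.mk'_spec]
      rw [← hmap, IsScalarTower.algebraMap_eq A (Localization.AtPrime p) (Localization.AtPrime q),
        ← Ideal.map_map, Localization.AtPrime.map_eq_maximalIdeal, e1, Ideal.map_span,
        Set.image_singleton, ← IsScalarTower.algebraMap_apply]
    have hnzd : π' ∈ (Localization.AtPrime q)⁰ := by
      have : Module.Flat A (Localization.AtPrime q) := Module.Flat.trans A B _
      have := Module.Flat.isSMulRegular_of_nonZeroDivisors
        (M := Localization.AtPrime q) (mem_nonZeroDivisors_of_ne_zero hπ0)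
      rw [mem_nonZeroDivisors_iff_right]
      intro y hy
      apply this
      simp only [Algebra.smul_def, mul_zero]
      rw [mul_comm]; exact hy
    exact ⟨isDomain_of_maximalIdeal_eq_span hspan hnzd, hspan ▸ ⟨⟨π', rfl⟩⟩⟩

theorem localization_isDVR [Algebra.Etale A B] (q : Ideal B) [q.IsPrime]
    (h : ¬ IsField (Localization.AtPrime q)) :
    ∃ _ : IsDomain (Localization.AtPrime q), IsDiscreteValuationRing (Localization.AtPrime q) := by
  have : IsNoetherianRing B := Algebra.FiniteType.isNoetherianRing A B
  obtain ⟨hd, hp⟩ := localization_isDomain_and_principal (A := A) q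
  have : IsNoetherianRing (Localization.AtPrime q) := IsLocalization.isNoetherianRing q.primeCompl _ inferInstance
  exact ⟨hd, ((IsDiscreteValuationRing.TFAE _ h).out 4 0 rfl rfl).1 hp⟩

theorem under_minimalPrime_eq_bot [Module.Flat A B] {P : Ideal B} (hP : P ∈ minimalPrimes B) :
    P.under A = ⊥ := by
  have : P.IsPrime := hP.1.1
  by_contra h
  have hlt : (⊥ : Ideal A) < P.under A := bot_lt_iff_ne_bot.2 h
  obtain ⟨Q, hQP, hQ, hQl⟩ := Ideal.exists_ideal_lt_liesOver_of_lt (S := B) P hlt
  exact hQP.not_ge (hP.2 ⟨hQ, bot_le⟩ hQP.le)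

/-- An etale algebra over a Dedekind domain is a finite product of Dedekind domains. -/
theorem isDedekindDomain_quotient_minimalPrime [Algebra.Etale A B] {P : Ideal B}
    (hP : P ∈ minimalPrimes B) : IsDedekindDomain (B ⧸ P) := by
  have : P.IsPrime := hP.1.1
  have : IsNoetherianRing B := Algebra.FiniteType.isNoetherianRing A B
  have : IsDedekindDomainDvr (B ⧸ P) :=
    { is_dvr_at_nonzero_prime := fun Q hQ0 hQ => by
        let q := Q.comap (Ideal.Quotient.mk P)
        have : q.IsPrime := Ideal.IsPrime.comap _
        obtain ⟨hd, hpr⟩ := localization_isDomain_and_principal (A := A) q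
        let φ : Localization.AtPrime q →+* Localization.AtPrime Q :=
          Localization.localRingHom q Q (Ideal.Quotient.mk P) rfl
        have hsurj : Function.Surjective φ := by
          intro z
          obtain ⟨x, s, rfl⟩ := IsLocalization.exists_mk'_eq Q.primeCompl z
          obtain ⟨x, rfl⟩ := Ideal.Quotient.mk_surjective x
          obtain ⟨s, hs⟩ := s
          obtain ⟨s, rfl⟩ := Ideal.Quotient.mk_surjective s
          refine ⟨IsLocalization.mk' _ x (⟨s, hs⟩ : q.primeCompl), ?_⟩
          exact Localization.localRingHom_mk' _ _ _ _ _ _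
        have : IsNoetherianRing (Localization.AtPrime Q) :=
          IsLocalization.isNoetherianRing Q.primeCompl _ inferInstance
        have hnf : ¬ IsField (Localization.AtPrime Q) :=
          IsLocalization.AtPrime.not_isField _ hQ0 _
        refine ((IsDiscreteValuationRing.TFAE _ hnf).out 4 0 rfl rfl).1 ?_
        obtain ⟨⟨g, hg⟩⟩ := hpr
        refine ⟨⟨φ g, ?_⟩⟩
        rw [← IsLocalRing.map_maximalIdeal_of_surjective φ hsurj, hg]
        simp [Ideal.submodule_span_eq, Ideal.map_span] }
  infer_instance

theorem exists_ringEquiv_pi_dedekind [Algebra.Etale A B] :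
    ∃ (n : ℕ) (D : Fin n → Type u) (_ : ∀ i, CommRing (D i)) (_ : ∀ i, IsDedekindDomain (D i)),
      Nonempty (B ≃+* ∀ i, D i) := by
  classical
  have : IsNoetherianRing B := Algebra.FiniteType.isNoetherianRing A B
  have hfin := minimalPrimes.finite_of_isNoetherianRing B
  have := hfin.to_subtype
  obtain ⟨n, ⟨e⟩⟩ := Finite.exists_equiv_fin (minimalPrimes B)
  let f : Fin n → Ideal B := fun i => (e.symm i).1
  have hpr : ∀ i, (f i).IsPrime := fun i => (e.symm i).2.1.1
  have hred : IsReduced B := isReduced_ofLocalizationMaximal B fun q hq =>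
    have := (localization_isDomain_and_principal (A := A) q).1
    inferInstance
  have hinf : ⨅ i, f i = ⊥ := by
    have h1 : sInf (minimalPrimes B) = ⊥ := by
      rw [minimalPrimes, Ideal.sInf_minimalPrimes]
      exact nilradical_eq_zero B
    refine le_bot_iff.1 (le_trans ?_ h1.le)
    exact le_sInf fun P hP => iInf_le_of_le (e ⟨P, hP⟩) (by simp [f])
  have hcop : Pairwise (Function.onFun IsCoprime f) := by
    intro i j hij
    rw [Function.onFun, Ideal.isCoprime_iff_sup_eq]
    by_contra hne
    obtain ⟨q, hq, hle⟩ := Ideal.exists_le_maximal _ hne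
    have hd := (localization_isDomain_and_principal (A := A) q).1
    have key : ∀ k, f k ≤ q → (f k).map (algebraMap B (Localization.AtPrime q)) = ⊥ := by
      intro k hk
      have hdis : Disjoint (q.primeCompl : Set B) (f k : Set B) :=
        Set.disjoint_left.2 fun x hx hx' => hx (hk hx')
      have hpk : ((f k).map (algebraMap B (Localization.AtPrime q))).IsPrime :=
        IsLocalization.isPrime_of_isPrime_disjoint q.primeCompl _ _ (hpr k) hdis
      have hc := IsLocalization.under_map_of_isPrime_disjoint q.primeCompl
        (Localization.AtPrime q) (hpr k) hdis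
      have hbot : (⊥ : Ideal (Localization.AtPrime q)).IsPrime := Ideal.isPrime_bot
      have hle' : (⊥ : Ideal (Localization.AtPrime q)).under B ≤ f k := by
        rw [← hc]; exact Ideal.comap_mono bot_le
      have := (e.symm k).2.2 ⟨hbot.under B , bot_le⟩ hle'
      refine le_bot_iff.1 (Ideal.map_le_iff_le_comap.2 ?_)
      exact this
    have hi : f i ≤ q := le_sup_left.trans hle
    have hj : f j ≤ q := le_sup_right.trans hle
    have hfe : ∀ k, f k ≤ q → f k = (⊥ : Ideal (Localization.AtPrime q)).under B := fun k hk => by
      rw [← key k hk]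
      exact (IsLocalization.under_map_of_isPrime_disjoint q.primeCompl _ (hpr k)
        (Set.disjoint_left.2 fun x hx hx' => hx (hk hx'))).symm
    exact hij (e.symm.injective (Subtype.ext ((hfe i hi).trans (hfe j hj).symm)))
  exact ⟨n, fun i => B ⧸ f i, fun i => inferInstance,
    fun i => isDedekindDomain_quotient_minimalPrime (A := A) (e.symm i).2,
    ⟨(RingEquiv.quotientBot B).symm.trans ((Ideal.quotEquivOfEq hinf.symm).trans
      (Ideal.quotientInfRingEquivPiQuotient f hcop))⟩⟩

end Groth.EtaleAlgebra
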