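import Groth.Agent.Hensel1.Finite
import Mathlib.RingTheory.Adjoin.FG
import Mathlib.RingTheory.IntegralClosure.IsIntegralClosure.Basic
import Mathlib.FieldTheory.PurelyInseparable.Basic
import Mathlib.RingTheory.LocalRing.ResidueField.Basic

namespace Groth.EtaleAlgebra

open IsLocalRing

universe u

/-- A domain finite over a henselian local ring is local. -/
theorem isLocalRing_of_finite_domain (A : Type u) [CommRing A] [HenselianLocalRing A] (C : Type u)
    [CommRing C] [IsDomain C] [Algebra A C] [Module.Finite A C] : IsLocalRing C := by
  classical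
  obtain ⟨ι, _, e, he, hloc⟩ := Groth.Hensel1.exists_completeOrthogonalIdempotents_local A C
  obtain ⟨i, hi⟩ : ∃ i, e i ≠ 0 := by
    by_contra! h
    have := he.complete
    simp [h] at this
  have h1 : e i = 1 := (IsIdempotentElem.iff_eq_zero_or_one.1 (he.idem i)).resolve_left hi
  have := hloc i
  let eq : (C ⧸ Ideal.span {1 - e i}) ≃+* C :=
    (Ideal.quotEquivOfEq (by simp [h1])).trans (RingEquiv.quotientBot C)
  exact eq.isLocalRing

/-- A domain integral over a henselian local ring is local. -/
theorem isLocalRing_of_isIntegral_domain (A : Type u) [CommRing A] [HenselianLocalRing A]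
    (B : Type u) [CommRing B] [IsDomain B] [Algebra A B] [Algebra.IsIntegral A B] :
    IsLocalRing B := by
  refine .of_nonunits_add ?_
  intro x y hx hy
  let S := Algebra.adjoin A ({x, y} : Set B)
  have hfg : S.toSubmodule.FG :=
    fg_adjoin_of_finite (Set.toFinite _) fun b _ => Algebra.IsIntegral.isIntegral b
  have : Module.Finite A S := Module.Finite.iff_fg.2 hfg
  have : IsLocalRing S := isLocalRing_of_finite_domain A S
  have : Algebra.IsIntegral S B := Algebra.IsIntegral.tower_top A
  have key : ∀ z : S, IsUnit (z : B) ↔ IsUnit z := fun z => isUnit_map_iff (algebraMap S B) z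
  let x' : S := ⟨x, Algebra.subset_adjoin (by simp)⟩
  let y' : S := ⟨y, Algebra.subset_adjoin (by simp)⟩
  intro h
  rcases IsLocalRing.isUnit_or_isUnit_of_isUnit_add ((key (x' + y')).1 h) with h' | h'
  · exact hx ((key x').2 h')
  · exact hy ((key y').2 h')

/-- A local ring integral over a henselian local ring is henselian. -/
theorem henselianLocalRing_of_isIntegral (A : Type u) [CommRing A] [HenselianLocalRing A]
    (B : Type u) [CommRing B] [IsLocalRing B] [Algebra A B] [Algebra.IsIntegral A B] :
    HenselianLocalRing B := by
  have : HenselianRing A (maximalIdeal A) := inferInstance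
  have := Groth.Hensel1.henselianRing_of_isIntegral (I := maximalIdeal A) B
  have : HenselianRing B (maximalIdeal B) := by
    refine Groth.Hensel1.henselianRing_of_le_radical (I := (maximalIdeal A).map (algebraMap A B)) ?_
    rw [Ideal.radical_eq_sInf]
    refine le_sInf fun P ⟨hP, hprime⟩ => ?_
    have hle : maximalIdeal A ≤ P.comap (algebraMap A B) := Ideal.map_le_iff_le_comap.mp hP
    have hmax : (P.comap (algebraMap A B)).IsMaximal := by
      rw [← (maximalIdeal.isMaximal A).eq_of_le (Ideal.IsPrime.ne_top inferInstance) hle]
      exact maximalIdeal.isMaximal A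
    have : P.IsMaximal := Ideal.isMaximal_of_isIntegral_of_isMaximal_comap P hmax
    exact (IsLocalRing.eq_maximalIdeal this).ge
  exact Groth.Hensel1.henselianLocalRing_of_henselianRing

theorem isLocalHom_of_isIntegral (A : Type u) [CommRing A] [IsLocalRing A]
    (B : Type u) [CommRing B] [IsLocalRing B] [Algebra A B] [Algebra.IsIntegral A B] :
    IsLocalHom (algebraMap A B) := by
  refine ((IsLocalRing.local_hom_TFAE (algebraMap A B)).out 0 4 rfl rfl).2 ?_
  exact IsLocalRing.eq_maximalIdeal
    (Ideal.isMaximal_comap_of_isIntegral_of_isMaximal (maximalIdeal B))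

theorem isPurelyInseparable_residueField (A : Type u) [CommRing A] [IsLocalRing A]
    (B : Type u) [CommRing B] [IsLocalRing B] [Algebra A B] [Algebra.IsIntegral A B]
    [IsLocalHom (algebraMap A B)] [IsSepClosed (ResidueField A)] :
    letI := (IsLocalRing.ResidueField.map (algebraMap A B)).toAlgebra
    IsPurelyInseparable (ResidueField A) (ResidueField B) ∧ IsSepClosed (ResidueField B) := by
  let := (IsLocalRing.ResidueField.map (algebraMap A B)).toAlgebra
  have : IsScalarTower A (ResidueField A) (ResidueField B) :=
    IsScalarTower.of_algebraMap_eq fun a => rfl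
  have : Algebra.IsIntegral A (ResidueField B) := Algebra.IsIntegral.trans B
  have : Algebra.IsIntegral (ResidueField A) (ResidueField B) := Algebra.IsIntegral.tower_top A
  have : Algebra.IsAlgebraic (ResidueField A) (ResidueField B) := Algebra.IsIntegral.isAlgebraic
  exact ⟨inferInstance, Algebra.IsAlgebraic.isSepClosed (F := ResidueField A)⟩

end Groth.EtaleAlgebra
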