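import Mathlib

/-! Etale coordinates: maps out of a polynomial ring and Kähler differentials of the variables. -/

namespace Groth.Agent.EtaleAlgebra.EtaleCoord

open scoped TensorProduct
open KaehlerDifferential

variable (R B : Type*) (σ : Type*) [CommRing R] [CommRing B] [Algebra R B]
  [Algebra (MvPolynomial σ R) B] [IsScalarTower R (MvPolynomial σ R) B]

lemma mapBaseChange_basis (i : σ) :
    mapBaseChange R (MvPolynomial σ R) B
      (((mvPolynomialBasis R σ).baseChange B) i) =
      D R B (algebraMap (MvPolynomial σ R) B (MvPolynomial.X i)) := by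
  rw [Module.Basis.baseChange_apply, mapBaseChange_tmul, one_smul, mvPolynomialBasis_apply, map_D]

lemma range_mapBaseChange_eq :
    LinearMap.range (mapBaseChange R (MvPolynomial σ R) B) =
      Submodule.span B (Set.range fun i : σ =>
        D R B (algebraMap (MvPolynomial σ R) B (MvPolynomial.X i))) := by
  rw [LinearMap.range_eq_map, ← ((mvPolynomialBasis R σ).baseChange B).span_eq,
    Submodule.map_span, ← Set.range_comp]
  congr 1
  ext x
  simp only [Set.mem_range, Function.comp_apply, mapBaseChange_basis]

/-- `B` is formally unramified over `R[X_σ]` iff the `dX_i` generate `Ω[B⁄R]`. -/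
theorem formallyUnramified_iff_span :
    Algebra.FormallyUnramified (MvPolynomial σ R) B ↔
      Submodule.span B (Set.range fun i : σ =>
        D R B (algebraMap (MvPolynomial σ R) B (MvPolynomial.X i))) = ⊤ := by
  rw [← range_mapBaseChange_eq, LinearMap.range_eq_top, Algebra.formallyUnramified_iff]
  constructor
  · intro h x
    exact (exact_mapBaseChange_map R (MvPolynomial σ R) B x).mp (Subsingleton.elim _ _)
  · intro h
    refine ⟨fun a b => ?_⟩
    have hs : Function.Surjective (map R (MvPolynomial σ R) B B) :=
      map_surjective R (MvPolynomial σ R) B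
    obtain ⟨a, rfl⟩ := hs a
    obtain ⟨b, rfl⟩ := hs b
    rw [(exact_mapBaseChange_map R (MvPolynomial σ R) B a).mpr (h a),
      (exact_mapBaseChange_map R (MvPolynomial σ R) B b).mpr (h b)]

/-- `B` formally smooth over `R` is formally etale over `R[X_σ]` iff the `dX_i` form a basis. -/
theorem formallyEtale_iff_linearIndependent_span [Algebra.FormallySmooth R B] :
    Algebra.FormallyEtale (MvPolynomial σ R) B ↔
      LinearIndependent B (fun i : σ =>
          D R B (algebraMap (MvPolynomial σ R) B (MvPolynomial.X i))) ∧
        Submodule.span B (Set.range fun i : σ =>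
          D R B (algebraMap (MvPolynomial σ R) B (MvPolynomial.X i))) = ⊤ := by
  set b := (mvPolynomialBasis R σ).baseChange B with hb
  have hli : LinearIndependent B (fun i : σ =>
      D R B (algebraMap (MvPolynomial σ R) B (MvPolynomial.X i))) ↔
      Function.Injective (mapBaseChange R (MvPolynomial σ R) B) := by
    rw [show (fun i : σ => D R B (algebraMap (MvPolynomial σ R) B (MvPolynomial.X i))) =
      mapBaseChange R (MvPolynomial σ R) B ∘ b from funext fun i => (mapBaseChange_basis R B σ i).symm]
    constructor
    · intro h x y hxy
      apply b.repr.injective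
      have key : ∀ z, mapBaseChange R (MvPolynomial σ R) B z =
          Finsupp.linearCombination B (mapBaseChange R (MvPolynomial σ R) B ∘ b) (b.repr z) := by
        intro z
        conv_lhs => rw [← b.linearCombination_repr z, Finsupp.apply_linearCombination]
      exact h (((key x).symm.trans hxy).trans (key y))
    · intro h
      exact b.linearIndependent.map' _ (LinearMap.ker_eq_bot.mpr h)
  rw [← formallyUnramified_iff_span, hli, Algebra.formallyEtale_iff, Algebra.formallyUnramified_iff,
    and_comm]
  refine and_congr_left fun _ => ?_
  constructor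
  · intro h x y hxy
    rw [← sub_eq_zero]
    obtain ⟨z, hz⟩ := (Algebra.H1Cotangent.exact_δ_mapBaseChange R (MvPolynomial σ R) B (x - y)).mp
      (by rw [map_sub, hxy, sub_self])
    rw [← hz, Subsingleton.elim z 0, map_zero]
  · intro h
    refine ⟨fun a b => ?_⟩
    suffices H : ∀ z : Algebra.H1Cotangent (MvPolynomial σ R) B, z = 0 by rw [H a, H b]
    intro z
    have hz : Algebra.H1Cotangent.δ R (MvPolynomial σ R) B z = 0 :=
      h (((Algebra.H1Cotangent.exact_δ_mapBaseChange R (MvPolynomial σ R) B) _).mpr ⟨z, rfl⟩ |>.trans
        (map_zero _).symm)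
    obtain ⟨w, rfl⟩ := (Algebra.H1Cotangent.exact_map_δ R (MvPolynomial σ R) B z).mp hz
    rw [Subsingleton.elim w 0, map_zero]

end Groth.Agent.EtaleAlgebra.EtaleCoord
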