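import Groth.Agent.EtaleAlgebra.Milnor
import Mathlib.RingTheory.Spectrum.Prime.Topology
import Mathlib.Topology.Category.TopCat.Basic
import Mathlib.CategoryTheory.Limits.Shapes.Pullback.IsPullback.Basic

/-!
# The spectrum of a Milnor square
-/

namespace Groth.EtaleAlgebra.MilnorSpec

open PrimeSpectrum CategoryTheory CategoryTheory.Limits
open Groth.EtaleAlgebra

set_option linter.unusedSectionVars false

universe u

variable {B' B A' A : Type u} [CommRing B'] [CommRing B] [CommRing A'] [CommRing A]
  [Algebra B' B] [Algebra B' A'] [Algebra B A] [Algebra A' A] [Algebra B' A]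
  [IsScalarTower B' B A] [IsScalarTower B' A' A]
  (hsq : EtMil.IsFibreSquare B' B A' A)

include hsq

theorem exists_left_of_ker_le (p : PrimeSpectrum B')
    (h : RingHom.ker (algebraMap B' B) ≤ p.asIdeal) :
    ∃ q : PrimeSpectrum B, comap (algebraMap B' B) q = p := by
  have hs : Function.Surjective (algebraMap B' B) := Milnor.surjective_left hsq
  exact ⟨⟨p.asIdeal.map (algebraMap B' B), Ideal.map_isPrime_of_surjective hs h⟩,
    PrimeSpectrum.ext (by
      rw [comap_asIdeal, Ideal.comap_map_of_surjective' _ hs, sup_eq_left.2 h])⟩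

theorem exists_lift_mul {j : B'} (hj : algebraMap B' B j = 0) (x : A') :
    ∃ b', algebraMap B' B b' = 0 ∧ algebraMap B' A' b' = x * algebraMap B' A' j :=
  Milnor.exists_ker_lift hsq (by rw [map_mul, Milnor.map_ker hsq hj, mul_zero])

theorem exists_right_of_notMem (p : PrimeSpectrum B') {j : B'} (hj : algebraMap B' B j = 0)
    (hjp : j ∉ p.asIdeal) : ∃ q : PrimeSpectrum A', comap (algebraMap B' A') q = p := by
  choose ℓ hℓ1 hℓ2 using exists_lift_mul hsq hj
  let Q : Ideal A' :=
    { carrier := {x | ℓ x ∈ p.asIdeal}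
      zero_mem' := by
        show ℓ 0 ∈ p.asIdeal
        rw [Milnor.ext hsq (x := ℓ 0) (y := 0) (by rw [hℓ1, map_zero]) (by rw [hℓ2, zero_mul, map_zero])]
        exact zero_mem _
      add_mem' := fun {x y} hx hy => by
        show ℓ (x + y) ∈ p.asIdeal
        rw [Milnor.ext hsq (x := ℓ (x + y)) (y := ℓ x + ℓ y) (by rw [map_add, hℓ1, hℓ1, hℓ1, add_zero])
          (by rw [map_add, hℓ2, hℓ2, hℓ2, add_mul])]
        exact add_mem hx hy
      smul_mem' := fun c x hx => by
        refine (p.isPrime.mem_or_mem ?_).resolve_left hjp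
        show j * ℓ (c * x) ∈ p.asIdeal
        rw [Milnor.ext hsq (x := j * ℓ (c * x)) (y := ℓ c * ℓ x)
          (by simp [hℓ1, hj])
          (by rw [map_mul, map_mul, hℓ2, hℓ2, hℓ2]; ring)]
        exact p.asIdeal.mul_mem_left _ hx }
  have hmem : ∀ x, x ∈ Q ↔ ℓ x ∈ p.asIdeal := fun _ => Iff.rfl
  have hcomap : ∀ b : B', algebraMap B' A' b ∈ Q ↔ b ∈ p.asIdeal := fun b => by
    rw [hmem, Milnor.ext hsq (x := ℓ (algebraMap B' A' b)) (y := b * j)
      (by rw [hℓ1, map_mul, hj, mul_zero]) (by rw [hℓ2, map_mul])]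
    exact ⟨fun h => (p.isPrime.mem_or_mem h).resolve_right hjp, fun h => p.asIdeal.mul_mem_right _ h⟩
  have hQ : Q.IsPrime := by
    refine ⟨(Ideal.ne_top_iff_one Q).2 fun h1 => ?_, fun {x y} hxy => ?_⟩
    · rw [← map_one (algebraMap B' A'), hcomap] at h1
      exact p.isPrime.ne_top ((Ideal.eq_top_iff_one _).2 h1)
    · rw [hmem, hmem]
      refine p.isPrime.mem_or_mem ?_
      rw [Milnor.ext hsq (x := ℓ x * ℓ y) (y := j * ℓ (x * y))
        (by simp [hℓ1, hj])
        (by rw [map_mul, map_mul, hℓ2, hℓ2, hℓ2]; ring)]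
      exact p.asIdeal.mul_mem_left _ hxy
  exact ⟨⟨Q, hQ⟩, PrimeSpectrum.ext (Ideal.ext hcomap)⟩

theorem right_injective_of_notMem {q q' : PrimeSpectrum A'} {j : B'}
    (hj : algebraMap B' B j = 0) (hjp : j ∉ (comap (algebraMap B' A') q).asIdeal)
    (h : comap (algebraMap B' A') q = comap (algebraMap B' A') q') : q = q' := by
  suffices H : ∀ a b : PrimeSpectrum A', comap (algebraMap B' A') a = comap (algebraMap B' A') b →
      j ∉ (comap (algebraMap B' A') b).asIdeal → a.asIdeal ≤ b.asIdeal from
    PrimeSpectrum.ext (le_antisymm (H q q' h (h ▸ hjp)) (H q' q h.symm hjp))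
  intro a b hab hjb x hx
  obtain ⟨b', -, hb'2⟩ := exists_lift_mul hsq hj x
  have h1 : b' ∈ (comap (algebraMap B' A') a).asIdeal := by
    rw [comap_asIdeal, Ideal.mem_comap, hb'2]; exact a.asIdeal.mul_mem_right _ hx
  rw [hab, comap_asIdeal, Ideal.mem_comap, hb'2] at h1
  exact (b.isPrime.mem_or_mem h1).resolve_right hjb

theorem exists_common_of_ker_le {q : PrimeSpectrum A'}
    (h : RingHom.ker (algebraMap B' B) ≤ (comap (algebraMap B' A') q).asIdeal) :
    ∃ r : PrimeSpectrum A, comap (algebraMap A' A) r = q := by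
  have hI : RingHom.ker (algebraMap A' A) ≤ q.asIdeal := fun a ha => by
    obtain ⟨j, hj, rfl⟩ := Milnor.exists_ker_lift hsq ha
    exact h hj
  exact ⟨⟨q.asIdeal.map (algebraMap A' A), Ideal.map_isPrime_of_surjective hsq.1 hI⟩,
    PrimeSpectrum.ext (by
      rw [comap_asIdeal, Ideal.comap_map_of_surjective' _ hsq.1, sup_eq_left.2 hI])⟩

theorem comap_square (r : PrimeSpectrum A) :
    comap (algebraMap B' B) (comap (algebraMap B A) r) =
      comap (algebraMap B' A') (comap (algebraMap A' A) r) := by
  rw [← comap_comp_apply, ← comap_comp_apply, ← IsScalarTower.algebraMap_eq,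
    ← IsScalarTower.algebraMap_eq]

/-- A set with closed preimages on both sides is closed. -/
theorem isClosed_of_preimage {Z : Set (PrimeSpectrum B')}
    (h₁ : IsClosed (comap (algebraMap B' B) ⁻¹' Z))
    (h₂ : IsClosed (comap (algebraMap B' A') ⁻¹' Z)) : IsClosed Z := by
  obtain ⟨L, hL⟩ := (isClosed_iff_zeroLocus_ideal _).1 h₁
  obtain ⟨K, hK⟩ := (isClosed_iff_zeroLocus_ideal _).1 h₂
  have hs : Function.Surjective (algebraMap B' B) := Milnor.surjective_left hsq
  have hLA : L.map (algebraMap B A) ≤ (K.map (algebraMap A' A)).radical := by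
    rw [Ideal.radical_eq_sInf]
    refine le_sInf fun P ⟨hKP, hP⟩ => ?_
    have hr : comap (algebraMap A' A) (⟨P, hP⟩ : PrimeSpectrum A) ∈
        comap (algebraMap B' A') ⁻¹' Z := by
      rw [hK, mem_zeroLocus, comap_asIdeal]
      exact Ideal.map_le_iff_le_comap.1 hKP
    rw [Set.mem_preimage, ← comap_square hsq, ← Set.mem_preimage, hL, mem_zeroLocus,
      comap_asIdeal] at hr
    exact Ideal.map_le_iff_le_comap.2 hr
  have key : Z = zeroLocus ((L.comap (algebraMap B' B) ⊓ K.comap (algebraMap B' A') : Ideal B') : Set B') := by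
    ext p
    rw [mem_zeroLocus, SetLike.coe_subset_coe]
    constructor
    · intro hp
      by_cases hJ : RingHom.ker (algebraMap B' B) ≤ p.asIdeal
      · obtain ⟨q, rfl⟩ := exists_left_of_ker_le hsq p hJ
        have : q ∈ zeroLocus (L : Set B) := hL ▸ hp
        exact inf_le_left.trans (Ideal.comap_mono this)
      · obtain ⟨j, hj, hjp⟩ := SetLike.not_le_iff_exists.1 hJ
        obtain ⟨q, rfl⟩ := exists_right_of_notMem hsq p hj hjp
        have : q ∈ zeroLocus (K : Set A') := hK ▸ hp
        exact inf_le_right.trans (Ideal.comap_mono this)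
    · intro hp
      by_cases hJ : RingHom.ker (algebraMap B' B) ≤ p.asIdeal
      · obtain ⟨q, rfl⟩ := exists_left_of_ker_le hsq p hJ
        show q ∈ comap (algebraMap B' B) ⁻¹' Z
        rw [hL, mem_zeroLocus]
        rcases (Ideal.IsPrime.inf_le (comap (algebraMap B' B) q).isPrime).1 hp with h | h
        · exact fun x hx => by
            obtain ⟨b, rfl⟩ := hs x
            exact h hx
        · intro x hx
          obtain ⟨n, hn⟩ := hLA (Ideal.mem_map_of_mem _ hx)
          obtain ⟨k, hk, hkn⟩ := (Ideal.mem_map_iff_of_surjective _ hsq.1).1 hn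
          obtain ⟨b', ⟨hb1, hb2⟩, -⟩ := hsq.2 (x ^ n) k (by rw [hkn, map_pow])
          have : b' ∈ (comap (algebraMap B' B) q).asIdeal := h (by
            rw [Ideal.mem_comap, hb2]; exact hk)
          rw [comap_asIdeal, Ideal.mem_comap, hb1] at this
          exact q.isPrime.mem_of_pow_mem n this
      · obtain ⟨j, hj, hjp⟩ := SetLike.not_le_iff_exists.1 hJ
        obtain ⟨q, rfl⟩ := exists_right_of_notMem hsq p hj hjp
        show q ∈ comap (algebraMap B' A') ⁻¹' Z
        rw [hK, mem_zeroLocus]
        rcases (Ideal.IsPrime.inf_le (comap (algebraMap B' A') q).isPrime).1 hp with h | h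
        · exact absurd (h (Ideal.mem_comap.2 ((RingHom.mem_ker.1 hj).symm ▸ L.zero_mem))) hjp
        · intro x hx
          obtain ⟨b', -, hb2⟩ := exists_lift_mul hsq (RingHom.mem_ker.1 hj) x
          have : b' ∈ (comap (algebraMap B' A') q).asIdeal := h (by
            rw [Ideal.mem_comap, hb2]; exact K.mul_mem_right _ hx)
          rw [comap_asIdeal, Ideal.mem_comap, hb2] at this
          exact (q.isPrime.mem_or_mem this).resolve_right hjp
  rw [key]
  exact isClosed_zeroLocus _

theorem exists_left_or_right (p : PrimeSpectrum B') :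
    (∃ q, comap (algebraMap B' B) q = p) ∨ ∃ q, comap (algebraMap B' A') q = p := by
  by_cases hJ : RingHom.ker (algebraMap B' B) ≤ p.asIdeal
  · exact Or.inl (exists_left_of_ker_le hsq p hJ)
  · obtain ⟨j, hj, hjp⟩ := SetLike.not_le_iff_exists.1 hJ
    exact Or.inr (exists_right_of_notMem hsq p hj hjp)

/-- Continuous maps glue along the square. -/
theorem exists_desc {W : Type u} [TopologicalSpace W] (g₁ : PrimeSpectrum B → W)
    (g₂ : PrimeSpectrum A' → W) (c₁ : Continuous g₁) (c₂ : Continuous g₂)
    (h : ∀ r, g₁ (comap (algebraMap B A) r) = g₂ (comap (algebraMap A' A) r)) :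
    ∃ g : PrimeSpectrum B' → W, Continuous g ∧ (∀ q, g (comap (algebraMap B' B) q) = g₁ q) ∧
      ∀ q, g (comap (algebraMap B' A') q) = g₂ q := by
  classical
  have hs : Function.Surjective (algebraMap B' B) := Milnor.surjective_left hsq
  have hinj := comap_injective_of_surjective _ hs
  have hker : ∀ q : PrimeSpectrum B,
      RingHom.ker (algebraMap B' B) ≤ (comap (algebraMap B' B) q).asIdeal := fun q b hb => by
    rw [comap_asIdeal, Ideal.mem_comap, RingHom.mem_ker.1 hb]; exact zero_mem _
  let g : PrimeSpectrum B' → W := fun p =>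
    if hp : RingHom.ker (algebraMap B' B) ≤ p.asIdeal then g₁ (exists_left_of_ker_le hsq p hp).choose
    else g₂ (exists_right_of_notMem hsq p (SetLike.not_le_iff_exists.1 hp).choose_spec.1
      (SetLike.not_le_iff_exists.1 hp).choose_spec.2).choose
  have e1 : ∀ q, g (comap (algebraMap B' B) q) = g₁ q := fun q => by
    simp only [g, dif_pos (hker q)]
    exact congrArg g₁ (hinj (exists_left_of_ker_le hsq _ (hker q)).choose_spec)
  have e2 : ∀ q, g (comap (algebraMap B' A') q) = g₂ q := fun q => by
    by_cases hp : RingHom.ker (algebraMap B' B) ≤ (comap (algebraMap B' A') q).asIdeal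
    · obtain ⟨r, rfl⟩ := exists_common_of_ker_le hsq hp
      rw [← comap_square hsq, e1, h]
    · simp only [g, dif_neg hp]
      obtain ⟨j, hj, hjp⟩ := SetLike.not_le_iff_exists.1 hp
      exact congrArg g₂ (right_injective_of_notMem hsq hj hjp (Eq.symm (Exists.choose_spec
        (exists_right_of_notMem hsq _ (SetLike.not_le_iff_exists.1 hp).choose_spec.1
          (SetLike.not_le_iff_exists.1 hp).choose_spec.2)))).symm
  refine ⟨g, continuous_iff_isClosed.2 fun C hC => isClosed_of_preimage hsq ?_ ?_, e1, e2⟩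
  · convert hC.preimage c₁ using 1
    ext q; simp [e1]
  · convert hC.preimage c₂ using 1
    ext q; simp [e2]

theorem isPushout_top :
    IsPushout (TopCat.ofHom (ContinuousMap.mk (comap (algebraMap B A)) (continuous_comap _)))
      (TopCat.ofHom (ContinuousMap.mk (comap (algebraMap A' A)) (continuous_comap _)))
      (TopCat.ofHom (ContinuousMap.mk (comap (algebraMap B' B)) (continuous_comap _)))
      (TopCat.ofHom (ContinuousMap.mk (comap (algebraMap B' A')) (continuous_comap _))) := by
  have hd : ∀ s : PushoutCocone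
      (TopCat.ofHom (ContinuousMap.mk (comap (algebraMap B A)) (continuous_comap _)))
      (TopCat.ofHom (ContinuousMap.mk (comap (algebraMap A' A)) (continuous_comap _))),
      ∃ g : PrimeSpectrum B' → s.pt, Continuous g ∧
        (∀ q, g (comap (algebraMap B' B) q) = s.inl q) ∧
        ∀ q, g (comap (algebraMap B' A') q) = s.inr q := fun s =>
    exists_desc hsq _ _ s.inl.hom.continuous s.inr.hom.continuous fun r =>
      ConcreteCategory.congr_hom s.condition r
  choose g hg h1 h2 using hd
  refine IsPushout.of_isColimit' ⟨?_⟩ (PushoutCocone.IsColimit.mk _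
    (fun s => TopCat.ofHom ⟨g s, hg s⟩) (fun s => ?_) (fun s => ?_) fun s m m1 m2 => ?_)
  · exact ConcreteCategory.hom_ext _ _ fun r => comap_square hsq r
  · ext q; exact h1 s q
  · ext q; exact h2 s q
  · ext p
    rcases exists_left_or_right hsq p with ⟨q, rfl⟩ | ⟨q, rfl⟩
    · exact (ConcreteCategory.congr_hom m1 q).trans (h1 s q).symm
    · exact (ConcreteCategory.congr_hom m2 q).trans (h2 s q).symm

end Groth.EtaleAlgebra.MilnorSpec
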