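import Groth.Agent.EtaleAlgebra.GlueFP
import Mathlib.RingTheory.Kaehler.TensorProduct
import Mathlib.RingTheory.Smooth.Fiber
import Mathlib.RingTheory.Smooth.Flat

universe u

open TensorProduct

namespace Groth.EtaleAlgebra.Glue

variable {R R' : Type u} [CommRing R] [CommRing R'] [Algebra R R'] {f : R}

theorem flatFP_iff (h : EtGlue.IsGlueingPair R R' f) (B : Type u) [CommRing B] [Algebra R B] :
    (Module.Flat R B ∧ Algebra.FinitePresentation R B) ↔
      (Module.Flat R' (R' ⊗[R] B) ∧ Algebra.FinitePresentation R' (R' ⊗[R] B)) ∧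
      (Module.Flat (Localization.Away f) (Localization.Away f ⊗[R] B) ∧
        Algebra.FinitePresentation (Localization.Away f) (Localization.Away f ⊗[R] B)) := by
  refine ⟨fun ⟨_, _⟩ => ⟨⟨inferInstance, inferInstance⟩, inferInstance, inferInstance⟩,
    fun ⟨⟨_, _⟩, _, _⟩ => ?_⟩
  have : Module.Flat R (Localization.Away f ⊗[R] B) := Module.Flat.trans R (Localization.Away f) _
  exact ⟨flat_of_local h, finitePresentation_algebra_of_local h B⟩

theorem etale_iff (h : EtGlue.IsGlueingPair R R' f) (B : Type u) [CommRing B] [Algebra R B] :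
    Algebra.Etale R B ↔ Algebra.Etale R' (R' ⊗[R] B) ∧
      Algebra.Etale (Localization.Away f) (Localization.Away f ⊗[R] B) := by
  refine ⟨fun _ => ⟨inferInstance, inferInstance⟩, fun ⟨_, _⟩ => ?_⟩
  obtain ⟨_, _⟩ := (flatFP_iff h B).2 ⟨⟨inferInstance, inferInstance⟩, inferInstance, inferInstance⟩
  have : Algebra.FormallyUnramified R B := by
    constructor
    have hC : ∀ (C : Type u) [CommRing C] [Algebra R C] [Algebra.FormallyUnramified C (C ⊗[R] B)],
        Subsingleton (C ⊗[R] Ω[B⁄R]) := by
      intro C _ _ _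
      let : Algebra B (C ⊗[R] B) := Algebra.TensorProduct.rightAlgebra
      exact (KaehlerDifferential.tensorKaehlerEquivBase R C B (C ⊗[R] B)).toEquiv.subsingleton
    have := hC R'
    have := hC (Localization.Away f)
    have htop : (⊥ : Submodule R (Ω[B⁄R])) = ⊤ := eq_top_of_local h.1
      (fun m => exists_pow_smul_mem (C := Localization.Away f) ⟨0, Subsingleton.elim _ _⟩)
      (fun m => ⟨0, Subsingleton.elim _ _⟩)
    exact ⟨fun a b => (Submodule.eq_bot_iff _).1 htop.symm a trivial |>.trans
      ((Submodule.eq_bot_iff _).1 htop.symm b trivial).symm⟩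
  exact Algebra.Etale.of_formallyUnramified_of_flat

end Groth.EtaleAlgebra.Glue
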