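import Groth.Agent.EtaleAlgebra.MilnorGlue
import Groth.Agent.EtaleAlgebra.MilnorSpec
import Groth.Agent.EtaleAlgebra.GlueEtale
import Mathlib.RingTheory.Etale.Descent
import Mathlib.RingTheory.Smooth.Fiber

/-!
# Algebra properties along a Milnor square
-/

universe u

open TensorProduct

namespace Groth.EtaleAlgebra.MilnorAlgebra

variable {B' B A' A : Type u} [CommRing B'] [CommRing B] [CommRing A'] [CommRing A]
  [Algebra B' B] [Algebra B' A'] [Algebra B A] [Algebra A' A] [Algebra B' A]
  [IsScalarTower B' B A] [IsScalarTower B' A' A]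

section pushout

variable {D' D C' C : Type u} [CommRing D'] [CommRing D] [CommRing C'] [CommRing C]
  [Algebra D' D] [Algebra D' C'] [Algebra D C] [Algebra C' C] [Algebra D' C]
  [IsScalarTower D' D C] [IsScalarTower D' C' C]
  [Algebra B' D'] [Algebra B D] [Algebra A' C'] [Algebra A C]
  [Algebra B' D] [IsScalarTower B' B D] [IsScalarTower B' D' D]
  [Algebra B' C'] [IsScalarTower B' A' C'] [IsScalarTower B' D' C']
  [Algebra B C] [IsScalarTower B A C] [IsScalarTower B D C]
  [Algebra A' C] [IsScalarTower A' A C] [IsScalarTower A' C' C]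

theorem isPushout_pair (hsq : EtMil.IsFibreSquare B' B A' A) (hsq' : EtMil.IsFibreSquare D' D C' C)
    [h1 : Algebra.IsPushout B D A C] [h2 : Algebra.IsPushout A' C' A C] :
    Algebra.IsPushout B' B D' D ∧ Algebra.IsPushout B' A' D' C' := by
  have := h1.symm
  have := h2.symm
  let e₁ : A ⊗[B] D ≃ₐ[A] C := Algebra.IsPushout.equiv B A D C
  let e₂ : A ⊗[A'] C' ≃ₐ[A] C := Algebra.IsPushout.equiv A' A C' C
  let φ : A ⊗[B] D ≃ₗ[A] A ⊗[A'] C' := e₁.toLinearEquiv.trans e₂.toLinearEquiv.symm
  have hd : ∀ d : D, e₁ ((1 : A) ⊗ₜ[B] d) = algebraMap D C d := fun d => by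
    simp [e₁, Algebra.IsPushout.equiv_tmul]
  have hc : ∀ c : C', e₂ ((1 : A) ⊗ₜ[A'] c) = algebraMap C' C c := fun c => by
    simp [e₂, Algebra.IsPushout.equiv_tmul]
  have hiff : ∀ x : D × C', x ∈ EtMil.glue B' φ ↔ algebraMap D C x.1 = algebraMap C' C x.2 := by
    intro x
    show e₂.symm (e₁ (1 ⊗ₜ[B] x.1)) = 1 ⊗ₜ[A'] x.2 ↔ _
    rw [AlgEquiv.symm_apply_eq, hd, hc]
  let θ₀ : D' →ₗ[B'] EtMil.glue B' φ :=
    LinearMap.codRestrict _ ((IsScalarTower.toAlgHom B' D' D).toLinearMap.prod
      (IsScalarTower.toAlgHom B' D' C').toLinearMap) (fun x => (hiff _).2 (by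
        show algebraMap D C (algebraMap D' D x) = algebraMap C' C (algebraMap D' C' x)
        rw [← IsScalarTower.algebraMap_apply, ← IsScalarTower.algebraMap_apply]))
  have hθ : Function.Bijective θ₀ := by
    refine ⟨fun x y h => ?_, fun z => ?_⟩
    · exact Milnor.ext hsq' (congrArg (fun w : EtMil.glue B' φ => (w : D × C').1) h)
        (congrArg (fun w : EtMil.glue B' φ => (w : D × C').2) h)
    · obtain ⟨x, ⟨hx1, hx2⟩, -⟩ := hsq'.2 (z : D × C').1 (z : D × C').2 ((hiff _).1 z.2)
      exact ⟨x, Subtype.ext (Prod.ext hx1 hx2)⟩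
  let θ := LinearEquiv.ofBijective θ₀ hθ
  have b1 := Milnor.glueFst_bijective (φ := φ) (Milnor.surjective_left hsq) hsq.1
    (fun _ => Milnor.exists_ker_lift hsq)
  have b2 := Milnor.glueSnd_bijective (φ := φ) hsq
  refine ⟨⟨IsBaseChange.of_equiv ((θ.baseChange B' B).trans (LinearEquiv.ofBijective _ b1)) fun x => ?_⟩,
    ⟨IsBaseChange.of_equiv ((θ.baseChange B' A').trans (LinearEquiv.ofBijective _ b2)) fun x => ?_⟩⟩
  · simp [θ, θ₀, EtMil.glueFst]
  · simp [θ, θ₀, EtMil.glueSnd]

end pushout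

section descent

variable {L : Type u} [CommRing L] [Algebra B' L] (hsq : EtMil.IsFibreSquare B' B A' A)
include hsq

theorem finiteType_of_baseChange [Algebra.FiniteType B (B ⊗[B'] L)]
    [Algebra.FiniteType A' (A' ⊗[B'] L)] : Algebra.FiniteType B' L := by
  obtain ⟨P, hP, hPs⟩ := Glue.exists_fg_subalgebra_surj (R := B') B L
  obtain ⟨Q, hQ, hQs⟩ := Glue.exists_fg_subalgebra_surj (R := B') A' L
  let T : Submodule B' L := Subalgebra.toSubmodule (P ⊔ Q)
  have key : ∀ (E : Type u) [CommRing E] [Algebra B' E],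
      (∀ l : L, (1 : E) ⊗ₜ[B'] l ∈ LinearMap.range (T.subtype.lTensor E)) →
      Subsingleton (E ⊗[B'] (L ⧸ T)) := by
    intro E _ _ h
    refine subsingleton_of_forall_eq 0 fun z => ?_
    induction z with
    | zero => rfl
    | add a b ha hb => rw [ha, hb, add_zero]
    | tmul e m =>
      obtain ⟨l, rfl⟩ := T.mkQ_surjective m
      obtain ⟨w, hw⟩ := h l
      have h1 : T.mkQ.lTensor E ((1 : E) ⊗ₜ[B'] l) = 0 := by
        rw [← hw, ← LinearMap.comp_apply, ← LinearMap.lTensor_comp,
          show T.mkQ ∘ₗ T.subtype = 0 by ext x; simp]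
        simp
      rw [LinearMap.lTensor_tmul] at h1
      calc e ⊗ₜ[B'] T.mkQ l = e • ((1 : E) ⊗ₜ[B'] T.mkQ l) := by
            rw [TensorProduct.smul_tmul', smul_eq_mul, mul_one]
        _ = 0 := by rw [h1, smul_zero]
  have := key B fun l => Glue.mem_range_lTensor_mono
    (Subalgebra.toSubmodule.monotone (le_sup_left (b := Q))) (hPs l)
  have := key A' fun l => Glue.mem_range_lTensor_mono
    (Subalgebra.toSubmodule.monotone (le_sup_right (a := P))) (hQs l)
  have : T = ⊤ := Submodule.Quotient.subsingleton_iff.1 (Milnor.subsingleton_of_baseChange hsq)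
  have h3 : P ⊔ Q = ⊤ := Subalgebra.toSubmodule.injective (by
    rw [show Subalgebra.toSubmodule (P ⊔ Q) = T from rfl, this, Algebra.top_toSubmodule])
  exact ⟨h3 ▸ hP.sup hQ⟩

theorem finitePresentation_of_baseChange [Module.Flat B (B ⊗[B'] L)] [Module.Flat A' (A' ⊗[B'] L)]
    [Algebra.FinitePresentation B (B ⊗[B'] L)] [Algebra.FinitePresentation A' (A' ⊗[B'] L)] :
    Algebra.FinitePresentation B' L := by
  have := Milnor.flat_of_baseChange hsq (L' := L)
  have := finiteType_of_baseChange hsq (L := L)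
  obtain ⟨n, π, hπ⟩ := Algebra.FiniteType.iff_quotient_mvPolynomial''.1 this
  obtain ⟨J, hJ, hJle, hJr⟩ := Glue.exists_fg_ideal_range (C := B) π hπ
  obtain ⟨J', hJ', hJle', hJr'⟩ := Glue.exists_fg_ideal_range (C := A') π hπ
  suffices RingHom.ker π.toRingHom = J ⊔ J' from
    Algebra.FinitePresentation.of_surjective hπ (this ▸ Submodule.FG.sup hJ hJ')
  refine le_antisymm ?_ (sup_le hJle hJle')
  let K := LinearMap.ker π.toLinearMap
  let P : Submodule B' K := ((J ⊔ J').restrictScalars B').comap K.subtype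
  have key : ∀ (E : Type u) [CommRing E] [Algebra B' E] (J₀ : Ideal (MvPolynomial (Fin n) B'))
      (_ : J₀ ≤ J ⊔ J') (_ : J₀ ≤ RingHom.ker π),
      LinearMap.range (K.subtype.lTensor E) ≤ LinearMap.range ((J₀.restrictScalars B').subtype.lTensor E) →
      Subsingleton (E ⊗[B'] (K ⧸ P)) := by
    intro E _ _ J₀ hle hker hr
    have hi : Function.Injective (K.subtype.lTensor E) := by
      rw [LinearMap.lTensor_inj_iff_rTensor_inj]
      exact rTensor_injective_of_exact (P := L) (Submodule.subtype_injective K) hπ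
        (LinearMap.exact_subtype_ker_map π.toLinearMap) E
    let g : J₀.restrictScalars B' →ₗ[B'] P :=
      { toFun := fun x => ⟨⟨x, hker x.2⟩, hle x.2⟩
        map_add' := fun _ _ => rfl
        map_smul' := fun _ _ => rfl }
    refine subsingleton_of_forall_eq 0 fun z => ?_
    obtain ⟨y, rfl⟩ := LinearMap.lTensor_surjective E P.mkQ_surjective z
    obtain ⟨v, hv⟩ := hr ⟨y, rfl⟩
    have hy : y = P.subtype.lTensor E (g.lTensor E v) := hi (by
      rw [← hv, ← LinearMap.comp_apply, ← LinearMap.comp_apply, ← LinearMap.lTensor_comp,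
        ← LinearMap.lTensor_comp]
      rfl)
    rw [hy, ← LinearMap.comp_apply, ← LinearMap.lTensor_comp,
      show P.mkQ ∘ₗ P.subtype = 0 by ext x; simp]
    simp
  have := key B J le_sup_left hJle hJr
  have := key A' J' le_sup_right hJle' hJr'
  have hP : P = ⊤ := Submodule.Quotient.subsingleton_iff.1 (Milnor.subsingleton_of_baseChange hsq)
  intro x hx
  have : (⟨x, hx⟩ : K) ∈ P := hP ▸ Submodule.mem_top
  exact this

omit hsq in
theorem formallySmooth_fiber_of_baseChange (E : Type u) [CommRing E] [Algebra B' E]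
    [Algebra.Smooth E (E ⊗[B'] L)] (p : Ideal B') [p.IsPrime] (P : Ideal E) [P.IsPrime]
    [P.LiesOver p] : Algebra.FormallySmooth p.ResidueField (p.Fiber L) := by
  let := Localization.AtPrime.algebraOfLiesOver p P
  let e : P.ResidueField ⊗[p.ResidueField] (p.Fiber L) ≃ₐ[P.ResidueField]
      P.ResidueField ⊗[E] (E ⊗[B'] L) :=
    (Algebra.TensorProduct.cancelBaseChange B' p.ResidueField P.ResidueField P.ResidueField L).trans
      (Algebra.TensorProduct.cancelBaseChange B' E P.ResidueField P.ResidueField L).symm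
  have : Algebra.Smooth P.ResidueField (P.ResidueField ⊗[p.ResidueField] (p.Fiber L)) :=
    Algebra.Smooth.of_equiv e.symm
  have := Algebra.Smooth.of_smooth_tensorProduct_of_faithfullyFlat P.ResidueField
    (R := p.ResidueField) (S := p.Fiber L)
  infer_instance

theorem smooth_of_baseChange [Algebra.Smooth B (B ⊗[B'] L)] [Algebra.Smooth A' (A' ⊗[B'] L)] :
    Algebra.Smooth B' L := by
  have := Milnor.flat_of_baseChange hsq (L' := L)
  have := finitePresentation_of_baseChange hsq (L := L)
  refine Algebra.Smooth.of_formallySmooth_fiber fun p _ => ?_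
  rcases MilnorSpec.exists_left_or_right hsq ⟨p, inferInstance⟩ with ⟨q, hq⟩ | ⟨q, hq⟩
  · have : q.asIdeal.LiesOver p := ⟨congrArg PrimeSpectrum.asIdeal hq.symm⟩
    exact formallySmooth_fiber_of_baseChange (L := L) B p q.asIdeal
  · have : q.asIdeal.LiesOver p := ⟨congrArg PrimeSpectrum.asIdeal hq.symm⟩
    exact formallySmooth_fiber_of_baseChange (L := L) A' p q.asIdeal

theorem etale_of_baseChange [Algebra.Etale B (B ⊗[B'] L)] [Algebra.Etale A' (A' ⊗[B'] L)] :
    Algebra.Etale B' L := by
  have := Milnor.flat_of_baseChange hsq (L' := L)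
  have := finitePresentation_of_baseChange hsq (L := L)
  have : Algebra.FormallyUnramified B' L := by
    constructor
    have hC : ∀ (E : Type u) [CommRing E] [Algebra B' E] [Algebra.FormallyUnramified E (E ⊗[B'] L)],
        Subsingleton (E ⊗[B'] Ω[L⁄B']) := by
      intro E _ _ _
      let : Algebra L (E ⊗[B'] L) := Algebra.TensorProduct.rightAlgebra
      exact (KaehlerDifferential.tensorKaehlerEquivBase B' E L (E ⊗[B'] L)).toEquiv.subsingleton
    have := hC B
    have := hC A'
    exact Milnor.subsingleton_of_baseChange hsq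
  exact Algebra.Etale.of_formallyUnramified_of_flat

end descent

end Groth.EtaleAlgebra.MilnorAlgebra
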