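import Groth.Agent.EtaleAlgebra.GluePair
import Mathlib.RingTheory.Localization.BaseChange
import Mathlib.RingTheory.LocalProperties.Basic
import Mathlib.RingTheory.FiniteType
import Mathlib.RingTheory.TensorProduct.Finite
import Mathlib.RingTheory.FiniteStability
import Mathlib.RingTheory.TensorProduct.Maps
import Mathlib.LinearAlgebra.TensorProduct.Finiteness

universe u

open TensorProduct

namespace Groth.EtaleAlgebra.Glue

variable {R R' : Type u} [CommRing R] [CommRing R'] [Algebra R R'] {f : R}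

section algebraLevel

variable (A : Type u) [CommRing A] [Algebra R A]

attribute [local instance] Algebra.TensorProduct.rightAlgebra

theorem pow_map_smul (n : ℕ) (x : R' ⊗[R] A) :
    (algebraMap R A f) ^ n • x = f ^ n • x := by
  rw [← map_pow, algebraMap_smul]

theorem algebraMap_right (a : A) : algebraMap A (R' ⊗[R] A) a = (1 : R') ⊗ₜ[R] a := rfl

theorem quotPow_algebra (hq : EtGlue.QuotPowBijective R R' f) :
    EtGlue.QuotPowBijective A (R' ⊗[R] A) (algebraMap R A f) := by
  intro n _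
  constructor
  · intro p q hpq
    obtain ⟨a, rfl⟩ := Ideal.Quotient.mk_surjective p
    obtain ⟨b, rfl⟩ := Ideal.Quotient.mk_surjective q
    rw [Ideal.quotientMap_mk, Ideal.quotientMap_mk, Ideal.Quotient.eq, ← map_sub, Ideal.map_span,
      Set.image_singleton, Ideal.mem_span_singleton'] at hpq
    obtain ⟨x, hx⟩ := hpq
    obtain ⟨g, hg⟩ := exists_eq_smul_of_tmul hq n (m := a - b) (x := x) (by
      rw [← algebraMap_right, ← hx, Algebra.smul_def, mul_comm, ← map_pow,
        ← IsScalarTower.algebraMap_apply])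
    rw [Ideal.Quotient.eq, Ideal.mem_span_singleton]
    exact ⟨g, by rw [hg, Algebra.smul_def, map_pow]⟩
  · intro p
    obtain ⟨x, rfl⟩ := Ideal.Quotient.mk_surjective p
    obtain ⟨m, x', rfl⟩ := exists_lift hq n x
    refine ⟨Ideal.Quotient.mk _ m, ?_⟩
    rw [Ideal.quotientMap_mk, Ideal.Quotient.eq, algebraMap_right, sub_add_cancel_left, Ideal.map_span,
      Set.image_singleton, Ideal.mem_span_singleton']
    exact ⟨-x', by rw [Algebra.smul_def, ← map_pow, ← IsScalarTower.algebraMap_apply]; ring⟩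

theorem isGlueingPair_algebra (h : EtGlue.IsGlueingPair R R' f) (hA : TorsInj R R' f A) :
    EtGlue.IsGlueingPair A (R' ⊗[R] A) (algebraMap R A f) := by
  refine isGlueingPair_of (quotPow_algebra A h.1) (fun x hx h0 => ?_) (fun x hx => ?_)
  · obtain ⟨n, hn⟩ := hx
    exact hA x ⟨n, by rwa [← map_pow, algebraMap_smul] at hn⟩ h0
  · obtain ⟨n, hn⟩ := hx
    obtain ⟨m, ⟨k, hk⟩, hm⟩ := torsSurj h A x ⟨n, by rwa [pow_map_smul] at hn⟩
    exact ⟨m, ⟨k, by rwa [← map_pow, algebraMap_smul]⟩, hm⟩

variable (B : Type u) [CommRing B] [Algebra R B] [Algebra A B] [IsScalarTower R A B]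

theorem map_iff {P : ∀ {S T : Type u} [CommRing S] [CommRing T], (S →+* T) → Prop}
    (hP : RingHom.RespectsIso @P) :
    P (Algebra.TensorProduct.map (AlgHom.id R R') (IsScalarTower.toAlgHom R A B)).toRingHom ↔
      P (algebraMap (R' ⊗[R] A) ((R' ⊗[R] A) ⊗[A] B)) := by
  let e := (Algebra.IsPushout.cancelBaseChangeAlg R R' A (R' ⊗[R] A) B).toRingEquiv
  have h : algebraMap (R' ⊗[R] A) ((R' ⊗[R] A) ⊗[A] B) = e.symm.toRingHom.comp
      (Algebra.TensorProduct.map (AlgHom.id R R') (IsScalarTower.toAlgHom R A B)).toRingHom := by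
    refine RingHom.ext fun x => ?_
    have := congr($(Algebra.IsPushout.cancelBaseChange_symm_comp_lTensor R A B R') x)
    exact this.symm
  rw [h]
  refine ⟨fun hh => hP.1 _ e.symm hh, fun hh => ?_⟩
  have := hP.1 _ e hh
  convert this using 1
  exact RingHom.ext fun x => (e.apply_symm_apply _).symm

theorem away_iff {P : ∀ {S T : Type u} [CommRing S] [CommRing T], (S →+* T) → Prop}
    (hP : RingHom.RespectsIso @P) (g : A) :
    P (Localization.awayMap (algebraMap A B) g) ↔
      P (algebraMap (Localization.Away g) (Localization.Away g ⊗[A] B)) := by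
  let e := (IsLocalization.Away.tensorRightEquiv B g (A := Localization.Away g)).toRingEquiv
  have h : Localization.awayMap (algebraMap A B) g =
      e.toRingHom.comp (algebraMap (Localization.Away g) (Localization.Away g ⊗[A] B)) := by
    refine IsLocalization.ringHom_ext (Submonoid.powers g) ?_
    ext a
    simp only [RingHom.comp_apply]
    rw [awayMap_algebraMap, ← IsScalarTower.algebraMap_apply A (Localization.Away g)
      (Localization.Away g ⊗[A] B), ← IsScalarTower.algebraMap_apply A B (Localization.Away (algebraMap A B g))]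
    exact ((IsLocalization.Away.tensorRightEquiv B g (A := Localization.Away g)).restrictScalars A).commutes a |>.symm
  rw [h]
  refine ⟨fun hh => ?_, fun hh => hP.1 _ e hh⟩
  have := hP.1 _ e.symm hh
  convert this using 1
  ext x
  simp

end algebraLevel

section finite

variable {M : Type u} [AddCommGroup M] [Module R M]

theorem exists_pow_smul_mem {C : Type u} [CommRing C] [Algebra R C] [IsLocalization.Away f C]
    {P : Submodule R M} {m : M} (h : (1 : C) ⊗ₜ[R] m ∈ LinearMap.range (P.subtype.lTensor C)) :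
    ∃ n : ℕ, f ^ n • m ∈ P := by
  obtain ⟨w, hw⟩ := h
  have h2 : (TensorProduct.mk R C (M ⧸ P) 1) (P.mkQ m) = 0 := by
    have := congrArg (P.mkQ.lTensor C) hw
    rw [LinearMap.lTensor_tmul, ← LinearMap.comp_apply, ← LinearMap.lTensor_comp] at this
    have h0 : P.mkQ ∘ₗ P.subtype = 0 := by ext x; simp
    rw [h0, LinearMap.lTensor_zero, LinearMap.zero_apply] at this
    exact this.symm
  have : IsLocalizedModule (Submonoid.powers f) (TensorProduct.mk R C (M ⧸ P) 1) :=
    (isLocalizedModule_iff_isBaseChange (Submonoid.powers f) C _).2 (TensorProduct.isBaseChange R _ C)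
  obtain ⟨⟨_, n, rfl⟩, hn⟩ := (IsLocalizedModule.eq_zero_iff (Submonoid.powers f) _).1 h2
  refine ⟨n, ?_⟩
  rwa [Submonoid.smul_def, ← map_smul, Submodule.mkQ_apply, Submodule.Quotient.mk_eq_zero] at hn

theorem exists_fg_surj (C : Type u) [CommRing C] [Algebra R C] [Module.Finite C (C ⊗[R] M)] :
    ∃ P : Submodule R M, P.FG ∧ ∀ m : M, (1 : C) ⊗ₜ[R] m ∈ LinearMap.range (P.subtype.lTensor C) := by
  obtain ⟨s, hs⟩ := Module.Finite.fg_top (R := C) (M := C ⊗[R] M)
  obtain ⟨P, hPf, hP⟩ :=
    TensorProduct.exists_finite_submodule_right_of_setFinite (s : Set (C ⊗[R] M)) s.finite_toSet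
  refine ⟨P, Module.Finite.iff_fg.1 hPf, fun m => ?_⟩
  have h : ⊤ ≤ LinearMap.range (P.subtype.baseChange C) := by
    rw [← hs, Submodule.span_le]
    exact fun x hx => hP hx
  exact h Submodule.mem_top

theorem exists_fg_subalgebra_surj (C B : Type u) [CommRing C] [Algebra R C] [CommRing B] [Algebra R B]
    [Algebra.FiniteType C (C ⊗[R] B)] :
    ∃ P : Subalgebra R B, P.FG ∧
      ∀ b : B, (1 : C) ⊗ₜ[R] b ∈ LinearMap.range (P.toSubmodule.subtype.lTensor C) := by
  obtain ⟨s, hs⟩ := Algebra.FiniteType.out (R := C) (A := C ⊗[R] B)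
  obtain ⟨P, hPf, hP⟩ :=
    TensorProduct.exists_finite_submodule_right_of_setFinite (s : Set (C ⊗[R] B)) s.finite_toSet
  obtain ⟨t, ht⟩ := Module.Finite.iff_fg.1 hPf
  let Q := Algebra.adjoin R (t : Set B)
  refine ⟨Q, Subalgebra.fg_adjoin_finset t, fun b => ?_⟩
  have hPQ : P ≤ Subalgebra.toSubmodule Q := by
    rw [← ht, Submodule.span_le]; exact Algebra.subset_adjoin
  let j : C ⊗[R] Q →ₐ[C] C ⊗[R] B := Algebra.TensorProduct.map (AlgHom.id C C) Q.val
  have h : ⊤ ≤ j.range := by
    rw [← hs, Algebra.adjoin_le_iff]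
    intro x hx
    obtain ⟨w, hw⟩ := hP hx
    refine ⟨(Submodule.inclusion hPQ).lTensor C w, ?_⟩
    rw [← hw]
    show Q.val.toLinearMap.lTensor C ((Submodule.inclusion hPQ).lTensor C w) = _
    rw [← LinearMap.comp_apply, ← LinearMap.lTensor_comp]
    rfl
  obtain ⟨w, hw⟩ := h (x := (1 : C) ⊗ₜ[R] b) Algebra.mem_top
  exact ⟨w, hw⟩

theorem mem_range_lTensor_mono {P Q : Submodule R M} (h : P ≤ Q) {C : Type u} [AddCommGroup C]
    [Module R C] {x : C ⊗[R] M} (hx : x ∈ LinearMap.range (P.subtype.lTensor C)) :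
    x ∈ LinearMap.range (Q.subtype.lTensor C) := by
  obtain ⟨w, rfl⟩ := hx
  refine ⟨(Submodule.inclusion h).lTensor C w, ?_⟩
  rw [← LinearMap.comp_apply, ← LinearMap.lTensor_comp]
  rfl

theorem finite_iff (hq : EtGlue.QuotPowBijective R R' f) :
    Module.Finite R M ↔ Module.Finite R' (R' ⊗[R] M) ∧
      Module.Finite (Localization.Away f) (Localization.Away f ⊗[R] M) := by
  refine ⟨fun _ => ⟨inferInstance, inferInstance⟩, fun ⟨h1, h2⟩ => ?_⟩
  obtain ⟨P, hP, hPs⟩ := exists_fg_surj (R := R) (M := M) R'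
  obtain ⟨Q, hQ, hQs⟩ := exists_fg_surj (R := R) (M := M) (Localization.Away f)
  have : P ⊔ Q = ⊤ := eq_top_of_local hq
    (fun m => exists_pow_smul_mem (mem_range_lTensor_mono le_sup_right (hQs m)))
    (fun m => mem_range_lTensor_mono le_sup_left (hPs m))
  exact ⟨this ▸ hP.sup hQ⟩

theorem finiteType_iff (hq : EtGlue.QuotPowBijective R R' f) (B : Type u) [CommRing B] [Algebra R B] :
    Algebra.FiniteType R B ↔ Algebra.FiniteType R' (R' ⊗[R] B) ∧
      Algebra.FiniteType (Localization.Away f) (Localization.Away f ⊗[R] B) := by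
  refine ⟨fun _ => ⟨inferInstance, inferInstance⟩, fun ⟨h1, h2⟩ => ?_⟩
  obtain ⟨P, hP, hPs⟩ := exists_fg_subalgebra_surj (R := R) R' B
  obtain ⟨Q, hQ, hQs⟩ := exists_fg_subalgebra_surj (R := R) (Localization.Away f) B
  have hl : Subalgebra.toSubmodule P ≤ Subalgebra.toSubmodule (P ⊔ Q) :=
    Subalgebra.toSubmodule.monotone le_sup_left
  have hr : Subalgebra.toSubmodule Q ≤ Subalgebra.toSubmodule (P ⊔ Q) :=
    Subalgebra.toSubmodule.monotone le_sup_right
  have : Subalgebra.toSubmodule (P ⊔ Q) = ⊤ := eq_top_of_local hq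
    (fun m => exists_pow_smul_mem (mem_range_lTensor_mono hr (hQs m)))
    (fun m => mem_range_lTensor_mono hl (hPs m))
  have h3 : P ⊔ Q = ⊤ := Subalgebra.toSubmodule.injective (by rw [this, Algebra.top_toSubmodule])
  exact ⟨h3 ▸ hP.sup hQ⟩

theorem surjective_iff (hq : EtGlue.QuotPowBijective R R' f) (B : Type u) [CommRing B] [Algebra R B] :
    Function.Surjective (algebraMap R B) ↔ Function.Surjective (algebraMap R' (R' ⊗[R] B)) ∧
      Function.Surjective (algebraMap (Localization.Away f) (Localization.Away f ⊗[R] B)) := by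
  let g : R →ₗ[R] B := Algebra.linearMap R B
  have key : ∀ (C : Type u) [CommRing C] [Algebra R C], Function.Surjective (algebraMap C (C ⊗[R] B)) ↔
      Function.Surjective (g.lTensor C) := by
    intro C _ _
    have h : ∀ c, algebraMap C (C ⊗[R] B) c = g.lTensor C ((TensorProduct.rid R C).symm c) := by
      intro c; simp [g]
    constructor
    · intro hs x
      obtain ⟨c, rfl⟩ := hs x
      exact ⟨_, (h c).symm⟩
    · intro hs x
      obtain ⟨w, rfl⟩ := hs x
      exact ⟨TensorProduct.rid R C w, by rw [h, LinearEquiv.symm_apply_apply]⟩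
  rw [key, key]
  refine ⟨fun hs => ⟨LinearMap.lTensor_surjective _ hs, LinearMap.lTensor_surjective _ hs⟩, fun ⟨h1, h2⟩ => ?_⟩
  have hin : ∀ (C : Type u) [CommRing C] [Algebra R C], Function.Surjective (g.lTensor C) →
      ∀ b : B, (1 : C) ⊗ₜ[R] b ∈ LinearMap.range ((LinearMap.range g).subtype.lTensor C) := by
    intro C _ _ hs b
    obtain ⟨w, hw⟩ := hs ((1 : C) ⊗ₜ[R] b)
    refine ⟨g.rangeRestrict.lTensor C w, ?_⟩
    rw [← hw, ← LinearMap.comp_apply, ← LinearMap.lTensor_comp]
    rfl
  exact LinearMap.range_eq_top.1 (eq_top_of_local hq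
    (fun m => exists_pow_smul_mem (hin _ h2 m)) (hin R' h1))

end finite

end Groth.EtaleAlgebra.Glue
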