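import Groth.Agent.EtaleAlgebra.GlueBasic
import Mathlib.LinearAlgebra.TensorProduct.RightExactness

universe u

open TensorProduct

namespace Groth.EtaleAlgebra.Glue

variable {R R' : Type u} [CommRing R] [CommRing R'] [Algebra R R'] {f : R}
variable {M : Type u} [AddCommGroup M] [Module R M] {N : Type u} [AddCommGroup N] [Module R N]

theorem away_eq_zero_iff {S : Type u} [CommRing S] {g x : S} :
    algebraMap S (Localization.Away g) x = 0 ↔ ∃ n : ℕ, g ^ n * x = 0 := by
  rw [IsLocalization.map_eq_zero_iff (Submonoid.powers g)]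
  constructor
  · rintro ⟨⟨_, n, rfl⟩, h⟩
    exact ⟨n, h⟩
  · rintro ⟨n, h⟩
    exact ⟨⟨g ^ n, n, rfl⟩, h⟩

theorem awayMap_algebraMap {A B : Type u} [CommRing A] [CommRing B] (φ : A →+* B) (g a : A) :
    Localization.awayMap φ g (algebraMap A (Localization.Away g) a) =
      algebraMap B (Localization.Away (φ g)) (φ a) := by
  simp [Localization.awayMap, IsLocalization.Away.map, IsLocalization.map_eq]

/-- Surjectivity on torsion for the ring. -/
theorem pair_surj (h : EtGlue.IsGlueingPair R R' f) (x' : R') (hx : IsTors f x') :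
    ∃ x : R, IsTors f x ∧ algebraMap R R' x = x' := by
  obtain ⟨n, hn⟩ := hx
  rw [Algebra.smul_def, map_pow] at hn
  obtain ⟨r, h1, h2⟩ := h.2.2.1 x' 0 (by rw [map_zero]; exact away_eq_zero_iff.2 ⟨n, hn⟩)
  exact ⟨r, by simpa [IsTors] using away_eq_zero_iff.1 h2, h1⟩

theorem pair_inj (h : EtGlue.IsGlueingPair R R' f) (x : R) (hx : IsTors f x)
    (h0 : algebraMap R R' x = 0) : x = 0 := by
  apply h.2.1
  simp [h0, away_eq_zero_iff.2 (by simpa [IsTors] using hx)]

theorem rid_one_tmul (r : R) : TensorProduct.rid R R' ((1 : R') ⊗ₜ[R] r) = algebraMap R R' r := by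
  rw [TensorProduct.rid_tmul, Algebra.algebraMap_eq_smul_one]

theorem finsupp_apply_one_tmul {ι : Type u} [DecidableEq ι] (m : ι →₀ R) (i : ι) :
    TensorProduct.finsuppScalarRight R R R' ι ((1 : R') ⊗ₜ[R] m) i = algebraMap R R' (m i) := by
  rw [finsuppScalarRight_apply_tmul_apply, Algebra.algebraMap_eq_smul_one]

theorem torsInj_finsupp (h : EtGlue.IsGlueingPair R R' f) (ι : Type u) :
    TorsInj R R' f (ι →₀ R) := by
  classical
  intro m ⟨n, hn⟩ h0
  ext i
  apply pair_inj h
  · exact ⟨n, by simpa using DFunLike.congr_fun hn i⟩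
  · rw [← finsupp_apply_one_tmul, h0]; simp

theorem torsSurj_finsupp (h : EtGlue.IsGlueingPair R R' f) (ι : Type u) :
    TorsSurj R R' f (ι →₀ R) := by
  classical
  intro x ⟨n, hn⟩
  let e := TensorProduct.finsuppScalarRight R R R' ι
  have hi : ∀ i, IsTors f (e x i) := fun i => ⟨n, by
    rw [← Finsupp.smul_apply, ← map_smul, hn]; simp⟩
  choose g hg1 hg2 using fun i => pair_surj h _ (hi i)
  have hsupp : ∀ i, g i ≠ 0 → i ∈ (e x).support := by
    intro i hi'
    rw [Finsupp.mem_support_iff]
    intro h0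
    exact hi' (pair_inj h _ (hg1 i) (by rw [hg2, h0]))
  refine ⟨Finsupp.onFinset (e x).support g hsupp, ?_, ?_⟩
  · choose k hk using hg1
    refine ⟨(e x).support.sup k, ?_⟩
    ext i
    by_cases h' : i ∈ (e x).support
    · obtain ⟨j, hj⟩ := Nat.exists_eq_add_of_le (Finset.le_sup (f := k) h')
      have := hk i
      simp only [Finsupp.smul_apply, Finsupp.onFinset_apply, hj, pow_add, mul_comm (f ^ k i), mul_smul,
        this, smul_zero, Finsupp.coe_zero, Pi.zero_apply]
    · have : g i = 0 := by_contra fun h0 => h' (hsupp i h0)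
      simp [this]
  · apply e.injective
    ext i
    rw [finsupp_apply_one_tmul]
    simpa using hg2 i

theorem torsSurj_of_surjective (hq : EtGlue.QuotPowBijective R R' f) {π : N →ₗ[R] M}
    (hπ : Function.Surjective π) (hN : TorsSurj R R' f N) : TorsSurj R R' f M := by
  intro x ⟨n, hn⟩
  obtain ⟨y, rfl⟩ := LinearMap.lTensor_surjective R' hπ x
  have hker : Function.Exact (LinearMap.ker π).subtype π := LinearMap.exact_subtype_ker_map π
  obtain ⟨w, hw⟩ := (lTensor_exact R' hker hπ (f ^ n • y)).1 (by rw [map_smul, hn])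
  obtain ⟨k, w', rfl⟩ := exists_lift hq n w
  rw [map_add, map_smul, LinearMap.lTensor_tmul] at hw
  obtain ⟨g, hg⟩ := exists_eq_smul_of_tmul hq n (m := (k : N))
    (x := y - (LinearMap.ker π).subtype.lTensor R' w') (by rw [smul_sub, ← hw]; simp)
  obtain ⟨t, ⟨j, hj⟩, ht'⟩ := hN (y - (LinearMap.ker π).subtype.lTensor R' w' - (1 : R') ⊗ₜ[R] g)
    ⟨n, by rw [smul_sub, smul_sub, ← hw, ← tmul_smul, ← hg]; simp⟩
  have hkπ : f ^ n • π g = 0 := by rw [← map_smul, ← hg]; exact k.2
  refine ⟨π (g + t), ?_, ?_⟩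
  · rw [map_add]
    exact IsTors.add ⟨n, hkπ⟩ ⟨j, by rw [← map_smul, hj, map_zero]⟩
  · rw [← LinearMap.lTensor_tmul, tmul_add, ht', add_sub_cancel, map_sub, ← LinearMap.comp_apply,
      ← LinearMap.lTensor_comp, LinearMap.comp_ker_subtype, LinearMap.lTensor_zero]
    simp

theorem torsSurj (h : EtGlue.IsGlueingPair R R' f) (M : Type u) [AddCommGroup M] [Module R M] :
    TorsSurj R R' f M :=
  torsSurj_of_surjective h.1 (π := Finsupp.linearCombination R (id : M → M))
    (Finsupp.linearCombination_id_surjective R M) (torsSurj_finsupp h M)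

theorem isGlueable_iff (h : EtGlue.IsGlueingPair R R' f) :
    EtGlue.IsGlueable R R' f M ↔ TorsInj R R' f M :=
  ⟨torsInj_of_glueable, fun hi => isGlueable_of h.1 hi (torsSurj h M)⟩

theorem exists_glue' (h : EtGlue.IsGlueingPair R R' f)
    (x : R' ⊗[R] M) (y : LocalizedModule (Submonoid.powers f) M)
    (hxy : EtGlue.locOfTensor R R' f M x = EtGlue.tensorOfLoc R R' f M y) :
    ∃ m : M, (1 : R') ⊗ₜ[R] m = x ∧ LocalizedModule.mkLinearMap (Submonoid.powers f) M m = y :=
  exists_glue h.1 (torsSurj h M) x y hxy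

theorem TorsInj.of_injective (hM : TorsInj R R' f M) (g : N →ₗ[R] M) (hg : Function.Injective g) :
    TorsInj R R' f N := by
  intro m ⟨n, hn⟩ h0
  apply hg
  rw [map_zero]
  refine hM _ ⟨n, by rw [← map_smul, hn, map_zero]⟩ ?_
  rw [← LinearMap.lTensor_tmul, h0, map_zero]

theorem torsInj_self (h : EtGlue.IsGlueingPair R R' f) : TorsInj R R' f R := by
  intro m hm h0
  exact pair_inj h m hm (by rw [← rid_one_tmul, h0, map_zero])

theorem isGlueingPair_of (hq : EtGlue.QuotPowBijective R R' f)
    (hi : ∀ x : R, IsTors f x → algebraMap R R' x = 0 → x = 0)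
    (hs : ∀ x' : R', IsTors f x' → ∃ x : R, IsTors f x ∧ algebraMap R R' x = x') :
    EtGlue.IsGlueingPair R R' f := by
  refine ⟨hq, ?_, ?_, ?_⟩
  · intro a b hab
    obtain ⟨h1, h2⟩ := Prod.mk.injEq _ _ _ _ ▸ hab
    rw [← sub_eq_zero]
    refine hi _ ?_ (by rw [map_sub, h1, sub_self])
    obtain ⟨n, hn⟩ := away_eq_zero_iff.1
      (show algebraMap R (Localization.Away f) (a - b) = 0 by rw [map_sub, h2, sub_self])
    exact ⟨n, by rwa [smul_eq_mul]⟩
  · intro x y hxy
    obtain ⟨n, r, hy⟩ := IsLocalization.Away.surj f y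
    have h1 : algebraMap R' (Localization.Away (algebraMap R R' f))
        (algebraMap R R' f ^ n * x - algebraMap R R' r) = 0 := by
      rw [map_sub, map_mul, map_pow, hxy, ← awayMap_algebraMap, ← awayMap_algebraMap, ← hy, map_mul,
        map_pow, mul_comm, sub_self]
    obtain ⟨N, hN⟩ := away_eq_zero_iff.1 h1
    obtain ⟨a, x', hx⟩ := exists_quot_lift hq (N + n) x
    rw [Algebra.smul_def, map_pow] at hx
    obtain ⟨e, he⟩ := pow_dvd_of_map_mem hq (n := N + n) (r := f ^ N * r - f ^ (N + n) * a)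
      (x := f ^ (N + n) • x') (by
        simp only [Algebra.smul_def, map_sub, map_mul, map_pow]
        rw [hx] at hN
        linear_combination -hN)
    obtain ⟨t, ⟨k, hk⟩, ht⟩ := hs (x - algebraMap R R' (a + e)) ⟨N + n, by
      rw [Algebra.smul_def, map_pow, map_add]
      have he' := congrArg (algebraMap R R') he
      simp only [map_sub, map_mul, map_pow] at he'
      linear_combination hN + he'⟩
    rw [smul_eq_mul] at hk
    refine ⟨a + e + t, by rw [map_add, ht]; ring, ?_⟩
    apply (IsLocalization.Away.algebraMap_pow_isUnit f (k + N + n)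
      (S := Localization.Away f)).mul_left_cancel
    have e2 : f ^ (k + N + n) * (a + e + t) = f ^ (k + N) * r := by
      linear_combination -(f ^ k) * he + f ^ (N + n) * hk
    rw [← map_pow, ← map_mul, e2, map_mul, map_pow, map_pow, ← hy]
    ring
  · intro z
    obtain ⟨n, w, hw⟩ := IsLocalization.Away.surj (algebraMap R R' f) z
    obtain ⟨r, x, rfl⟩ := exists_quot_lift hq n w
    obtain ⟨y, hy⟩ := (IsLocalization.Away.algebraMap_pow_isUnit f n (S := Localization.Away f)).exists_right_inv
    refine ⟨x, -(algebraMap R (Localization.Away f) r * y), ?_⟩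
    apply (IsLocalization.Away.algebraMap_pow_isUnit (algebraMap R R' f) n
      (S := Localization.Away (algebraMap R R' f))).mul_right_cancel
    have hy' : algebraMap R' (Localization.Away (algebraMap R R' f)) (algebraMap R R' f) ^ n *
        Localization.awayMap (algebraMap R R') f y = 1 := by
      rw [← awayMap_algebraMap, ← map_pow, ← map_mul, hy, map_one]
    rw [hw, Algebra.smul_def, map_pow]
    simp only [map_neg, map_mul, map_add, map_pow, awayMap_algebraMap]
    linear_combination algebraMap R' (Localization.Away (algebraMap R R' f)) (algebraMap R R' r) * hy'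

end Groth.EtaleAlgebra.Glue
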