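import Groth.Agent.HensPair.Universal
import Groth.Agent.HensPair.Ops
import Groth.Agent.HensPair.Truncation
import Groth.Agent.Calg8.DecayingCompletion
import Groth.Agent.Calg1.Completion
import Groth.Agent.Hensel1.Transfer
import Mathlib.RingTheory.AdicCompletion.AsTensorProduct
import Mathlib.RingTheory.AdicCompletion.Algebra
import Mathlib.RingTheory.Flat.EquationalCriterion
import Mathlib.RingTheory.Flat.FaithfullyFlat.Basic

/-! Henselizations of Noetherian pairs are Noetherian, with the same completion. -/

universe u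

namespace Groth.EtaleAlgebra

open Hens2 Groth.HensPair

variable {A : Type u} [CommRing A] {I : Ideal A} {B : Type u} [CommRing B] [Algebra A B]

theorem completion_bijective (hB : IsPairHenselization A I B) :
    Function.Bijective (AdicCompletion.map I (Algebra.linearMap A B)) := by
  refine Groth.Calg8.completionMap_bijective _ (fun n y => ?_) fun n x hx => ?_
  · obtain ⟨q, hq⟩ := (quotPow_bijective hB n).2 (Ideal.Quotient.mk _ y)
    obtain ⟨x, rfl⟩ := Ideal.Quotient.mk_surjective q
    rw [Ideal.quotientMap_mk, Ideal.Quotient.eq] at hq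
    exact ⟨x, by rw [Ideal.smul_top_eq_map]; exact hq⟩
  · rw [Ideal.smul_top_eq_map] at hx
    rw [smul_eq_mul, Ideal.mul_top, ← Ideal.Quotient.eq_zero_iff_mem]
    refine (quotPow_bijective hB n).1 ?_
    rw [Ideal.quotientMap_mk, map_zero, Ideal.Quotient.eq_zero_iff_mem]
    exact hx

/-- The completion of the henselization is the completion of the base. -/
theorem exists_completion_algEquiv (hB : IsPairHenselization A I B) :
    Nonempty (AdicCompletion I A ≃ₐ[A] AdicCompletion (I.map (algebraMap A B)) B) := by
  let J := I.map (algebraMap A B)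
  let e : ∀ n, (A ⧸ I ^ n) ≃+* (B ⧸ J ^ n) := fun n =>
    (RingEquiv.ofBijective _ (quotPow_bijective hB n)).trans
      (Ideal.quotEquivOfEq (Ideal.map_pow _ _ _))
  have he : ∀ n a, e n (Ideal.Quotient.mk _ a) = Ideal.Quotient.mk _ (algebraMap A B a) :=
    fun n a => rfl
  have hcompat : ∀ {m n : ℕ} (h : m ≤ n) (q : A ⧸ I ^ n),
      Ideal.Quotient.factorPow J h (e n q) = e m (Ideal.Quotient.factorPow I h q) := by
    intro m n h q
    obtain ⟨a, rfl⟩ := Ideal.Quotient.mk_surjective q
    rfl
  have hev : ∀ {R : Type u} [CommRing R] (K : Ideal R) {m n : ℕ} (h : m ≤ n) (x : AdicCompletion K R),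
      Ideal.Quotient.factorPow K h (AdicCompletion.evalₐ K n x) = AdicCompletion.evalₐ K m x := by
    intro R _ K m n h x
    obtain ⟨y, rfl⟩ := AdicCompletion.mk_surjective K R x
    simp only [AdicCompletion.evalₐ_mk, Ideal.Quotient.factor_mk]
    exact AdicCompletion.Ideal.mk_eq_mk _ h y
  let F := fun n => (e n).toRingHom.comp (AdicCompletion.evalₐ I n).toRingHom
  let G := fun n => (e n).symm.toRingHom.comp (AdicCompletion.evalₐ J n).toRingHom
  have hF : ∀ {m n : ℕ} (h : m ≤ n), (Ideal.Quotient.factorPow J h).comp (F n) = F m :=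
    fun {m n} h => RingHom.ext fun x => (hcompat h _).trans (congrArg (e m) (hev I h x))
  have hG : ∀ {m n : ℕ} (h : m ≤ n), (Ideal.Quotient.factorPow I h).comp (G n) = G m :=
    fun {m n} h => RingHom.ext fun x => (e m).injective <| by
      show e m (Ideal.Quotient.factorPow I h ((e n).symm (AdicCompletion.evalₐ J n x))) =
        e m ((e m).symm (AdicCompletion.evalₐ J m x))
      rw [← hcompat h, (e n).apply_symm_apply, (e m).apply_symm_apply, hev J h x]
  let f := AdicCompletion.liftRingHom J F hF
  let g := AdicCompletion.liftRingHom I G hG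
  have h1 : g.comp f = RingHom.id _ := RingHom.ext fun x => AdicCompletion.ext_evalₐ fun n => by
    refine (AdicCompletion.evalₐ_liftRingHom I G hG n _).trans ?_
    exact (congrArg (e n).symm (AdicCompletion.evalₐ_liftRingHom J F hF n _)).trans
      ((e n).symm_apply_apply _)
  have h2 : f.comp g = RingHom.id _ := RingHom.ext fun x => AdicCompletion.ext_evalₐ fun n => by
    refine (AdicCompletion.evalₐ_liftRingHom J F hF n _).trans ?_
    exact (congrArg (e n) (AdicCompletion.evalₐ_liftRingHom I G hG n _)).trans
      ((e n).apply_symm_apply _)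
  refine ⟨AlgEquiv.ofRingEquiv (f := RingEquiv.ofRingHom f g h2 h1) fun a => AdicCompletion.ext_evalₐ fun n => ?_⟩
  show AdicCompletion.evalₐ J n (f _) = _
  refine (AdicCompletion.evalₐ_liftRingHom J F hF n _).trans ?_
  rfl

theorem flat_completion [IsNoetherianRing A] (hB : IsPairHenselization A I B) :
    Module.Flat B (AdicCompletion (I.map (algebraMap A B)) B) := by
  obtain ⟨e⟩ := nonempty_algEquiv_hz hB
  refine Module.Flat.iff_forall_isTrivialRelation.2 fun {l f x} hfx => ?_
  obtain ⟨i, y, hy⟩ := Groth.HensPair.exists_of_fintype (I := I) fun k => e.symm (f k)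
  let φ : i.Obj →ₐ[A] B := e.toAlgHom.comp (of I i)
  let _ : Algebra i.Obj B := φ.toRingHom.toAlgebra
  have : IsScalarTower A i.Obj B := IsScalarTower.of_algebraMap_eq fun a => (φ.commutes a).symm
  have hB' := isPairHenselization_of_isNbhd hB (A' := i.Obj) i.isNbhd
  have := i.isNbhd.etale
  have : IsNoetherianRing i.Obj := Algebra.FiniteType.isNoetherianRing A _
  obtain ⟨c⟩ := exists_completion_algEquiv hB'
  have hJ : (I.map (algebraMap A i.Obj)).map (algebraMap i.Obj B) = I.map (algebraMap A B) := by
    rw [Ideal.map_map, ← IsScalarTower.algebraMap_eq]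
  rw [hJ] at c
  have : Module.Flat i.Obj (AdicCompletion (I.map (algebraMap A B)) B) :=
    Module.Flat.of_linearEquiv c.symm.toLinearEquiv
  have : IsScalarTower i.Obj B (AdicCompletion (I.map (algebraMap A B)) B) :=
    IsScalarTower.of_algebraMap_eq fun _ => rfl
  have hyf : ∀ k, algebraMap i.Obj B (y k) = f k := fun k => by
    show e (of I i (y k)) = f k
    rw [hy, e.apply_symm_apply]
  obtain ⟨k, a, z, hxz, ha⟩ := Module.Flat.isTrivialRelation_of_sum_smul_eq_zero
    (R := i.Obj) (f := y) (x := x) (by
      rw [← hfx]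
      exact Finset.sum_congr rfl fun k _ => by rw [← hyf k, IsScalarTower.algebraMap_smul])
  refine ⟨k, fun p q => algebraMap i.Obj B (a p q), z, fun p => ?_, fun q => ?_⟩
  · rw [hxz p]
    exact Finset.sum_congr rfl fun q _ => (IsScalarTower.algebraMap_smul B _ _).symm
  · simp only [← hyf, ← map_mul, ← map_sum, ha q, map_zero]

theorem faithfullyFlat_completion [IsNoetherianRing A] (hB : IsPairHenselization A I B) :
    Module.FaithfullyFlat B (AdicCompletion (I.map (algebraMap A B)) B) := by
  have := flat_completion hB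
  refine ⟨fun m hm h => hm.ne_top ((Ideal.eq_top_iff_one _).2 ?_)⟩
  rw [Ideal.smul_top_eq_map, Submodule.restrictScalars_eq_top_iff] at h
  have h1 := Ideal.mem_map_of_mem (AdicCompletion.evalOneₐ (I.map (algebraMap A B))).toRingHom
    (h ▸ (Submodule.mem_top (x := (1 : AdicCompletion (I.map (algebraMap A B)) B))))
  rw [Ideal.map_map, AlgHom.toRingHom_eq_coe, AlgHom.comp_algebraMap, map_one,
    Ideal.Quotient.algebraMap_eq] at h1
  have h2 : (1 : B) ∈ (m.map (Ideal.Quotient.mk (I.map (algebraMap A B)))).comap (Ideal.Quotient.mk _) := by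
    rw [Ideal.mem_comap, map_one]; exact h1
  rw [Ideal.comap_map_of_surjective _ Ideal.Quotient.mk_surjective, ← RingHom.ker_eq_comap_bot,
    Ideal.mk_ker] at h2
  exact (sup_le le_rfl (hB.1.jac.trans (sInf_le ⟨bot_le, hm⟩))) h2

theorem isNoetherianRing_of_isPairHenselization [IsNoetherianRing A]
    (hB : IsPairHenselization A I B) : IsNoetherianRing B := by
  have : IsNoetherianRing (B ⧸ I.map (algebraMap A B)) :=
    isNoetherianRing_of_ringEquiv _ (RingEquiv.ofBijective _ (quotientMap_bijective_of_isPairHenselization hB))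
  have := Calg1.isNoetherianRing_adicCompletion (I.map (algebraMap A B))
    (Ideal.FG.map (IsNoetherian.noetherian I) _)
  have := faithfullyFlat_completion hB
  exact Groth.Hensel1.isNoetherianRing_of_faithfullyFlat' B (AdicCompletion (I.map (algebraMap A B)) B)

end Groth.EtaleAlgebra
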