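import Groth.Agent.EtaleAlgebra.WeaklyEtale
import Mathlib.RingTheory.LocalRing.ResidueField.Ideal
import Mathlib.RingTheory.Localization.AtPrime.Basic
import Mathlib.RingTheory.Nilpotent.Lemmas
import Mathlib.RingTheory.Ideal.IdempotentFG

/-! Absolutely flat rings and their weakly etale algebras. -/

universe u

namespace Groth.EtaleAlgebra

open TensorProduct

variable {R : Type u} [CommRing R]

/-- Von Neumann regular rings have only flat modules. -/
theorem flat_of_regular (h : ∀ x : R, ∃ y, x = x * y * x) (M : Type*) [AddCommGroup M] [Module R M] :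
    Module.Flat R M := by
  rw [Module.Flat.iff_rTensor_injective]
  intro I hI
  have hidem : IsIdempotentElem I := le_antisymm Ideal.mul_le_right fun x hx => by
    obtain ⟨y, hy⟩ := h x
    rw [hy]
    exact Ideal.mul_mem_mul (I.mul_mem_right _ hx) hx
  obtain ⟨e, he, hIe⟩ := (Ideal.isIdempotentElem_iff_of_fg I hI).1 hidem
  have heI : e ∈ I := hIe ▸ Submodule.mem_span_singleton_self e
  let r : R →ₗ[R] I := LinearMap.toSpanSingleton R I ⟨e, heI⟩
  have hr : r ∘ₗ I.subtype = LinearMap.id := by
    ext ⟨x, hx⟩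
    obtain ⟨a, rfl⟩ := Ideal.mem_span_singleton'.1 (show x ∈ Ideal.span {e} by rw [hIe] at hx; exact hx)
    simp [r, mul_assoc, he.eq]
  intro a b hab
  have := congrArg (r.rTensor M) hab
  rwa [← LinearMap.rTensor_comp_apply, ← LinearMap.rTensor_comp_apply, hr, LinearMap.rTensor_id_apply,
    LinearMap.rTensor_id_apply] at this

/-- A ring with only flat modules is von Neumann regular. -/
theorem regular_of_flat (h : ∀ (M : Type u) [AddCommGroup M] [Module R M], Module.Flat R M) (x : R) :
    ∃ y, x = x * y * x := by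
  have : (Ideal.span {x}).Pure := h _
  obtain ⟨y, hy, hxy⟩ := Ideal.exists_eq_mul_of_pure (Ideal.mem_span_singleton_self x)
  obtain ⟨c, rfl⟩ := Ideal.mem_span_singleton'.1 hy
  exact ⟨c, by rw [mul_assoc]; exact hxy⟩

theorem isReduced_of_regular (h : ∀ x : R, ∃ y, x = x * y * x) : IsReduced R := ⟨fun x hx => by
  obtain ⟨y, hy⟩ := h x
  have : x * (1 - y * x) = 0 := by rw [mul_sub, mul_one, ← mul_assoc, ← hy, sub_self]
  exact (IsUnit.mul_left_eq_zero (IsNilpotent.isUnit_one_sub (Commute.isNilpotent_mul_left (Commute.all y x) hx))).1 this⟩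

theorem isMaximal_of_regular (h : ∀ x : R, ∃ y, x = x * y * x) (p : Ideal R) [p.IsPrime] : p.IsMaximal := by
  refine Ideal.isMaximal_iff.2 ⟨p.one_notMem, fun J x hpJ hxp hxJ => ?_⟩
  obtain ⟨y, hy⟩ := h x
  have : x * (1 - y * x) ∈ p := by
    rw [mul_sub, mul_one, ← mul_assoc, ← hy, sub_self]; exact p.zero_mem
  have h1 := hpJ ((‹p.IsPrime›.mem_or_mem this).resolve_left hxp)
  simpa using J.add_mem h1 (J.mul_mem_left y hxJ)

theorem regular_of_isField_localization (h : ∀ (p : Ideal R) [p.IsPrime], IsField (Localization.AtPrime p))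
    (x : R) : ∃ y, x = x * y * x := by
  let J : Ideal R :=
    { carrier := {r | ∃ c, r * x = c * (x * x)}
      add_mem' := fun {a b} ⟨c, hc⟩ ⟨d, hd⟩ => ⟨c + d, by rw [add_mul, add_mul, hc, hd]⟩
      zero_mem' := ⟨0, by simp⟩
      smul_mem' := fun r a ⟨c, hc⟩ => ⟨r * c, by rw [smul_eq_mul, mul_assoc, hc, mul_assoc]⟩ }
  suffices J = ⊤ by
    obtain ⟨c, hc⟩ := (J.eq_top_iff_one).1 this
    rw [one_mul] at hc
    exact ⟨c, by rw [mul_comm x c, mul_assoc]; exact hc⟩
  by_contra hJ
  obtain ⟨m, hm, hJm⟩ := Ideal.exists_le_maximal J hJ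
  have := (h m).toField
  rcases eq_or_ne (algebraMap R (Localization.AtPrime m) x) 0 with h0 | h0
  · obtain ⟨s, hs⟩ := (IsLocalization.map_eq_zero_iff m.primeCompl _ x).1 h0
    exact s.2 (hJm ⟨0, by rw [hs, zero_mul]⟩)
  · obtain ⟨u, hu⟩ := (h m).mul_inv_cancel h0
    have : IsUnit (algebraMap R (Localization.AtPrime m) x) := isUnit_iff_exists_inv.2 ⟨u, hu⟩
    exact (IsLocalization.AtPrime.isUnit_to_map_iff _ m x).1 this (hJm ⟨1, by rw [one_mul]⟩)

theorem regular_pi {ι : Type*} {K : ι → Type*} [∀ i, Field (K i)] (x : ∀ i, K i) :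
    ∃ y, x = x * y * x := by
  refine ⟨fun i => (x i)⁻¹, funext fun i => ?_⟩
  show x i = x i * (x i)⁻¹ * x i
  rcases eq_or_ne (x i) 0 with h | h <;> simp [h]

/-- A weakly etale algebra over an absolutely flat ring is absolutely flat. -/
theorem regular_of_weaklyEtale (hR : ∀ x : R, ∃ y, x = x * y * x) (B : Type u) [CommRing B]
    [Algebra R B] [Algebra.WeaklyEtale R B] : ∀ x : B, ∃ y, x = x * y * x :=
  regular_of_flat fun M _ _ => by
    let _ := Module.compHom M (algebraMap R B)
    have : IsScalarTower R B M := IsScalarTower.of_algebraMap_smul fun _ _ => rfl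
    have : Module.Flat R M := flat_of_regular hR M
    exact flat_of_flat_mul R B (Algebra.WeaklyEtale.flat_lmul' R B) M

/-- A weakly etale algebra over a reduced ring is reduced. -/
theorem isReduced_of_weaklyEtale (A B : Type u) [CommRing A] [CommRing B] [Algebra A B] [IsReduced A]
    [Algebra.WeaklyEtale A B] : IsReduced B := by
  let P := ∀ p : PrimeSpectrum A, p.asIdeal.ResidueField
  let f : A →ₐ[A] P := Algebra.ofId A P
  have hf : Function.Injective f := by
    rw [injective_iff_map_eq_zero]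
    intro a ha
    refine IsNilpotent.eq_zero (mem_nilradical.1 ?_)
    rw [nilradical_eq_sInf, Ideal.mem_sInf]
    intro q hq
    have hq' : q.IsPrime := hq
    exact Ideal.algebraMap_residueField_eq_zero.1 (congrFun ha ⟨q, hq'⟩)
  have := isReduced_of_regular (regular_of_weaklyEtale (regular_pi (K := fun p : PrimeSpectrum A =>
    p.asIdeal.ResidueField)) (P ⊗[A] B))
  let g : B →ₐ[A] P ⊗[A] B := Algebra.TensorProduct.includeRight
  refine isReduced_of_injective g fun x y hxy => ?_
  have h1 : Function.Injective (f.toLinearMap.rTensor B) :=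
    Module.Flat.rTensor_preserves_injective_linearMap _ hf
  have h2 : ∀ z, f.toLinearMap.rTensor B ((TensorProduct.lid A B).symm z) = g z := fun z => by
    simp [f, g]
  exact (TensorProduct.lid A B).symm.injective (h1 (by rw [h2, h2, hxy]))

end Groth.EtaleAlgebra
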