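import Groth.Agent.EtaleAlgebra.GlueFlat

universe u

open TensorProduct

namespace Groth.EtaleAlgebra.Glue

set_option linter.unusedSectionVars false

variable {R R' : Type u} [CommRing R] [CommRing R'] [Algebra R R'] {f : R}
variable {M' : Type u} [AddCommGroup M'] [Module R' M'] [Module R M'] [IsScalarTower R R' M']
variable {M₁ : Type u} [AddCommGroup M₁] [Module R M₁]
variable {g : M' →ₗ[R'] R' ⊗[R] M₁}
variable {M : Type u} [AddCommGroup M] [Module R M] {p₁ : M →ₗ[R] M'} {p₂ : M →ₗ[R] M₁}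

theorem leftComm_lTensor_mk {C N P : Type u} [CommRing C] [Algebra R C] [AddCommGroup N] [Module R N]
    [AddCommGroup P] [Module R P] (z : P ⊗[R] N) :
    TensorProduct.leftComm R P C N ((TensorProduct.mk R C N 1).lTensor P z) = (1 : C) ⊗ₜ[R] z := by
  induction z with
  | zero => simp
  | tmul s m => simp
  | add x y hx hy => simp only [map_add, tmul_add, hx, hy]

theorem lTensor_eq_zero_of_loc {N N₁ N₂ P : Type u} [AddCommGroup N] [Module R N] [AddCommGroup N₁]
    [Module R N₁] [AddCommGroup N₂] [Module R N₂] [AddCommGroup P] [Module R P] (p : N →ₗ[R] N₁)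
    (q : N →ₗ[R] N₂) [IsLocalizedModule (Submonoid.powers f) p]
    [IsLocalizedModule (Submonoid.powers f) q] {z : P ⊗[R] N} (hz : p.lTensor P z = 0) :
    q.lTensor P z = 0 := by
  have hι : (IsLocalizedModule.linearEquiv (Submonoid.powers f) p q).toLinearMap ∘ₗ p = q :=
    LinearMap.ext fun m => IsLocalizedModule.linearEquiv_apply (Submonoid.powers f) p q m
  rw [← hι, LinearMap.lTensor_comp, LinearMap.comp_apply, hz, map_zero]

theorem isTors_of_lTensor_loc' (C : Type u) [CommRing C] [Algebra R C] [IsLocalization.Away f C]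
    {N N₁ P : Type u} [AddCommGroup N] [Module R N] [AddCommGroup N₁]
    [Module R N₁] [AddCommGroup P] [Module R P] (p : N →ₗ[R] N₁)
    (hp : IsLocalizedModule (Submonoid.powers f) p) {z : P ⊗[R] N} (hz : p.lTensor P z = 0) :
    IsTors f z := by
  have hν : IsLocalizedModule (Submonoid.powers f) (TensorProduct.mk R C N 1) :=
    (isLocalizedModule_iff_isBaseChange (Submonoid.powers f) C _).2 (TensorProduct.isBaseChange R _ C)
  refine isTors_of_tensor (C := C) ?_
  rw [← leftComm_lTensor_mk, lTensor_eq_zero_of_loc (f := f) p (TensorProduct.mk R C N 1) hz, map_zero]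

theorem isTors_of_lTensor_loc {N N₁ P : Type u} [AddCommGroup N] [Module R N] [AddCommGroup N₁]
    [Module R N₁] [AddCommGroup P] [Module R P] (p : N →ₗ[R] N₁)
    (hp : IsLocalizedModule (Submonoid.powers f) p) {z : P ⊗[R] N} (hz : p.lTensor P z = 0) :
    IsTors f z :=
  isTors_of_lTensor_loc' (Localization.Away f) p hp hz

/-- `M` is the fibre product of `M'` and `M₁` over `R' ⊗ M₁`, along a localization map `g`. -/
structure IsDatum (f : R) (g : M' →ₗ[R'] R' ⊗[R] M₁) (p₁ : M →ₗ[R] M') (p₂ : M →ₗ[R] M₁) : Prop where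
  bij : Function.Bijective fun y : M₁ => f • y
  surj : ∀ z, ∃ (n : ℕ) (w : M'), f ^ n • z = g w
  ker : ∀ w, g w = 0 → IsTors f w
  inj : ∀ m, p₁ m = 0 → p₂ m = 0 → m = 0
  pullback : ∀ x y, g x = (1 : R') ⊗ₜ[R] y → ∃ m, p₁ m = x ∧ p₂ m = y
  comp : ∀ m, g (p₁ m) = (1 : R') ⊗ₜ[R] p₂ m

namespace IsDatum

variable (hd : IsDatum f g p₁ p₂)
include hd

theorem pow_bij (n : ℕ) : Function.Bijective fun y : M₁ => f ^ n • y := by
  induction n with
  | zero =>
    simp only [pow_zero, one_smul]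
    exact Function.bijective_id
  | succ n ih =>
    have h : (fun y : M₁ => f ^ (n + 1) • y) = (fun y => f ^ n • y) ∘ fun y => f • y := by
      funext y; simp [pow_succ, mul_smul]
    exact h ▸ ih.comp hd.bij

theorem map_eq_zero_of_isTors {m : M} (hm : IsTors f m) : p₂ m = 0 := by
  obtain ⟨n, hn⟩ := hm
  apply (hd.pow_bij n).1
  show f ^ n • p₂ m = f ^ n • 0
  rw [← map_smul, hn, map_zero, smul_zero]

theorem isLocalizedModule : IsLocalizedModule (Submonoid.powers f) p₂ where
  map_units := by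
    rintro ⟨_, n, rfl⟩
    exact (Module.End.isUnit_iff _).2 (hd.pow_bij n)
  surj := by
    intro y
    obtain ⟨n, w, hw⟩ := hd.surj ((1 : R') ⊗ₜ[R] y)
    obtain ⟨m, -, hm⟩ := hd.pullback w (f ^ n • y) (by rw [tmul_smul, hw])
    exact ⟨(m, ⟨f ^ n, n, rfl⟩), hm.symm⟩
  exists_of_eq := by
    intro a b hab
    obtain ⟨k, hk⟩ := hd.ker (p₁ (a - b)) (by rw [hd.comp, map_sub, hab, sub_self, tmul_zero])
    refine ⟨⟨f ^ k, k, rfl⟩, ?_⟩
    show f ^ k • a = f ^ k • b
    rw [← sub_eq_zero, ← smul_sub]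
    refine hd.inj _ (by rw [map_smul, hk]) ?_
    rw [map_smul, map_sub, hab, sub_self, smul_zero]

theorem comp_liftBaseChange (z : R' ⊗[R] M) : g (p₁.liftBaseChange R' z) = p₂.lTensor R' z := by
  induction z with
  | zero => simp
  | tmul s m => simp [hd.comp, smul_tmul']
  | add x y hx hy => simp only [map_add, hx, hy]

theorem surjective_liftBaseChange (hq : EtGlue.QuotPowBijective R R' f) :
    Function.Surjective (p₁.liftBaseChange R') := by
  have h1 : ∀ z : R' ⊗[R] M₁, ∃ (y : M₁) (x₀ : R' ⊗[R] M),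
      z = (1 : R') ⊗ₜ[R] y + g (p₁.liftBaseChange R' x₀) := by
    intro z
    induction z with
    | zero => exact ⟨0, 0, by simp⟩
    | tmul r' y =>
      obtain ⟨⟨m, _, n, rfl⟩, hm⟩ := hd.isLocalizedModule.surj y
      obtain ⟨r, s, rfl⟩ := exists_quot_lift hq n r'
      refine ⟨r • y, s ⊗ₜ[R] m, ?_⟩
      rw [LinearMap.liftBaseChange_tmul, map_smul, hd.comp, add_tmul,
        Algebra.algebraMap_eq_smul_one, smul_tmul, smul_tmul', smul_eq_mul, mul_one, smul_tmul,
        ← hm]
      rfl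
    | add x y hx hy =>
      obtain ⟨a, a', rfl⟩ := hx
      obtain ⟨b, b', rfl⟩ := hy
      exact ⟨a + b, a' + b', by rw [tmul_add, map_add, map_add]; abel⟩
  intro x
  obtain ⟨y, x₀, hy⟩ := h1 (g x)
  obtain ⟨m, hm, -⟩ := hd.pullback (x - p₁.liftBaseChange R' x₀) y (by rw [map_sub, hy]; abel)
  exact ⟨(1 : R') ⊗ₜ[R] m + x₀, by rw [map_add, LinearMap.liftBaseChange_tmul, one_smul, hm]; abel⟩

theorem injective_liftBaseChange (h : EtGlue.IsGlueingPair R R' f) :
    Function.Injective (p₁.liftBaseChange R') := by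
  rw [injective_iff_map_eq_zero]
  intro z hz
  have h1 : p₂.lTensor R' z = 0 := by rw [← hd.comp_liftBaseChange, hz, map_zero]
  obtain ⟨m, hmt, rfl⟩ := torsSurj h M z (isTors_of_lTensor_loc p₂ hd.isLocalizedModule h1)
  rw [LinearMap.liftBaseChange_tmul, one_smul] at hz
  rw [hd.inj m hz (hd.map_eq_zero_of_isTors hmt), tmul_zero]

theorem bijective_liftBaseChange (h : EtGlue.IsGlueingPair R R' f) :
    Function.Bijective (p₁.liftBaseChange R') :=
  ⟨hd.injective_liftBaseChange h, hd.surjective_liftBaseChange h.1⟩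

theorem isGlueable (h : EtGlue.IsGlueingPair R R' f) : EtGlue.IsGlueable R R' f M := by
  rw [isGlueable_iff h]
  intro m hm h0
  refine hd.inj m ?_ (hd.map_eq_zero_of_isTors hm)
  have := congrArg (p₁.liftBaseChange R') h0
  rwa [LinearMap.liftBaseChange_tmul, one_smul, map_zero] at this

end IsDatum

end Groth.EtaleAlgebra.Glue
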