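import Mathlib

/-! Rings all of whose ideals are flat. -/

universe u

namespace Groth.Agent.EtaleAlgebra.WeakDimOne

variable (A : Type u) [CommRing A]

/-- Localizations at primes are valuation domains, if all finitely generated ideals are flat. -/
theorem valuationRing_of_fg_flat (h : ∀ I : Ideal A, I.FG → Module.Flat A I)
    (p : Ideal A) [p.IsPrime] :
    ∃ _ : IsDomain (Localization.AtPrime p), ValuationRing (Localization.AtPrime p) := by
  set L := Localization.AtPrime p with hL
  set ι := algebraMap A L with hι
  have hunit : ∀ {s : A}, s ∉ p → IsUnit (ι s) := fun {s} hs =>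
    IsLocalization.map_units L (⟨s, hs⟩ : p.primeCompl)
  have hdom : ∀ r a : A, r * a = 0 → ι r = 0 ∨ ι a = 0 := by
    intro r a hra
    haveI := h (Ideal.span {a}) (Submodule.fg_span (Set.finite_singleton a))
    have hzero : ∑ i : Fin 1, (fun _ => r) i • (fun _ => (⟨a, Ideal.mem_span_singleton_self a⟩ :
        Ideal.span {a})) i = 0 := by
      apply Subtype.ext; simpa using hra
    obtain ⟨k, c, y, hy, hc⟩ := Module.Flat.isTrivialRelation_of_sum_smul_eq_zero hzero
    choose u hu using fun j => Ideal.mem_span_singleton.mp (y j).2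
    by_cases hex : ∃ j, c 0 j ∉ p
    · obtain ⟨j, hj⟩ := hex
      refine Or.inl ((hunit hj).mul_left_eq_zero.mp ?_)
      rw [← map_mul]
      have := hc j
      simp at this
      rw [this, map_zero]
    · push Not at hex
      refine Or.inr ?_
      have hat : a = (∑ j, c 0 j * u j) * a := by
        have := congrArg Subtype.val (hy 0)
        simp [smul_eq_mul, hu] at this
        conv_lhs => rw [this]
        rw [Finset.sum_mul]
        exact Finset.sum_congr rfl fun j _ => by ring
      have ht : (1 - ∑ j, c 0 j * u j) ∉ p := fun hmem => Ideal.IsPrime.ne_top' (I := p)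
        ((Ideal.eq_top_iff_one _).mpr (by
          simpa using p.add_mem hmem (p.sum_mem (t := Finset.univ) fun j _ => p.mul_mem_right (u j) (hex j))))
      refine (hunit ht).mul_right_eq_zero.mp ?_
      rw [← map_mul, sub_mul, one_mul, ← hat, sub_self, map_zero]
  haveI hD : IsDomain L := by
    haveI : NoZeroDivisors L := ⟨fun {x y} hxy => by
      obtain ⟨⟨a, s⟩, hxs⟩ := IsLocalization.surj p.primeCompl x
      obtain ⟨⟨b, t⟩, hyt⟩ := IsLocalization.surj p.primeCompl y
      have h0 : ι (a * b) = 0 := by
        rw [map_mul, hι, ← hxs, ← hyt]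
        linear_combination (algebraMap A L (s : A) * algebraMap A L (t : A)) * hxy
      obtain ⟨w, hw⟩ := (IsLocalization.map_eq_zero_iff p.primeCompl L _).mp h0
      rcases hdom ((w : A) * a) b (by linear_combination hw) with h1 | h1
      · left
        rw [map_mul] at h1
        have := (IsLocalization.map_units L w).mul_right_eq_zero.mp h1
        rw [← (IsLocalization.map_units L s).mul_left_eq_zero, hxs]
        exact this
      · right
        rw [← (IsLocalization.map_units L t).mul_left_eq_zero, hyt]
        exact h1⟩
    exact NoZeroDivisors.to_isDomain _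
  refine ⟨hD, ValuationRing.iff_dvd_total.mpr ⟨fun x y => ?_⟩⟩
  suffices key : ∀ a b : A, ι a ∣ ι b ∨ ι b ∣ ι a by
    obtain ⟨⟨a, s⟩, hxs⟩ := IsLocalization.surj p.primeCompl x
    obtain ⟨⟨b, t⟩, hyt⟩ := IsLocalization.surj p.primeCompl y
    rcases key a b with h1 | h1
    · left
      rw [← (IsLocalization.map_units L t).dvd_mul_right, hyt]
      rw [← hxs] at h1
      exact (dvd_mul_right _ _).trans h1
    · right
      rw [← (IsLocalization.map_units L s).dvd_mul_right, hxs]
      rw [← hyt] at h1
      exact (dvd_mul_right _ _).trans h1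
  intro a b
  haveI := h (Ideal.span {a, b}) (Submodule.fg_span (Set.toFinite _))
  let xa : Ideal.span ({a, b} : Set A) := ⟨a, Ideal.subset_span (by simp)⟩
  let xb : Ideal.span ({a, b} : Set A) := ⟨b, Ideal.subset_span (by simp)⟩
  have hzero : ∑ i : Fin 2, ![b, -a] i • ![xa, xb] i = 0 := by
    apply Subtype.ext; simp [Fin.sum_univ_two, xa, xb]; ring
  obtain ⟨k, c, y, hy, hc⟩ := Module.Flat.isTrivialRelation_of_sum_smul_eq_zero hzero
  have hc' : ∀ j, b * c 0 j = a * c 1 j := fun j => by
    have := hc j
    simp [Fin.sum_univ_two] at this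
    linear_combination this
  by_cases hex : ∃ j, c 0 j ∉ p ∨ c 1 j ∉ p
  · obtain ⟨j, hj | hj⟩ := hex
    · left
      rw [← (hunit hj).dvd_mul_right, ← map_mul, hc', map_mul]
      exact dvd_mul_right _ _
    · right
      rw [← (hunit hj).dvd_mul_right, ← map_mul, ← hc', map_mul]
      exact dvd_mul_right _ _
  · push Not at hex
    choose u v huv using fun j => Ideal.mem_span_pair.mp (y j).2
    left
    let t := ∑ j, (c 0 j * u j + c 1 j * v j)
    have ht : 1 - t ∉ p := fun hmem => Ideal.IsPrime.ne_top' (I := p)
      ((Ideal.eq_top_iff_one _).mpr (by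
        simpa [t] using p.add_mem hmem (p.sum_mem (t := Finset.univ) fun j _ =>
          p.add_mem (p.mul_mem_right (u j) (hex j).1) (p.mul_mem_right (v j) (hex j).2))))
    have hb : b = t * b := by
      have := congrArg Subtype.val (hy 1)
      simp [xb, ← huv] at this
      conv_lhs => rw [this]
      rw [Finset.sum_mul]
      refine Finset.sum_congr rfl fun j _ => ?_
      linear_combination -(u j) * hc' j
    have hb0 : ι b = 0 := (hunit ht).mul_right_eq_zero.mp (by
      rw [← map_mul, sub_mul, one_mul, ← hb, sub_self, map_zero])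
    rw [hb0]
    exact dvd_zero _

/-- If the localizations at primes are valuation domains, submodules of flat modules are flat. -/
theorem flat_submodule (h : ∀ (p : Ideal A) [p.IsPrime],
      ∃ _ : IsDomain (Localization.AtPrime p), ValuationRing (Localization.AtPrime p))
    {M : Type u} [AddCommGroup M] [Module A M] [Module.Flat A M] (N : Submodule A M) :
    Module.Flat A N := by
  refine Module.flat_of_localized_maximal N fun P _ => ?_
  obtain ⟨_, _⟩ := h P
  let f := LocalizedModule.map P.primeCompl N.subtype
  have hf : Function.Injective f := LocalizedModule.map_injective P.primeCompl _ N.subtype_injective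
  haveI : Module.Flat (Localization P.primeCompl) (LocalizedModule P.primeCompl M) :=
    Module.Flat.of_isLocalizedModule _ P.primeCompl (LocalizedModule.mkLinearMap P.primeCompl M)
  rw [← Module.flat_iff_of_isLocalization (Localization P.primeCompl) P.primeCompl,
    Module.Flat.flat_iff_torsion_eq_bot_of_isBezout, eq_bot_iff]
  rintro m ⟨⟨r, hr⟩, hm⟩
  rw [Submodule.mem_bot]
  apply hf
  rw [map_zero]
  refine Module.Flat.isSMulRegular_of_nonZeroDivisors hr ?_
  show r • f m = r • (0 : LocalizedModule P.primeCompl M)
  rw [smul_zero, ← map_smul]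
  exact (congrArg f hm).trans (map_zero f)

theorem flat_submodule_of_ideals_flat (h : ∀ I : Ideal A, Module.Flat A I)
    {M : Type u} [AddCommGroup M] [Module A M] [Module.Flat A M] (N : Submodule A M) :
    Module.Flat A N :=
  flat_submodule A (fun p _ => valuationRing_of_fg_flat A (fun I _ => h I) p) N

end Groth.Agent.EtaleAlgebra.WeakDimOne
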