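import Groth.Agent.Hensel1.Lift
import Mathlib.RingTheory.Etale.Weakly
import Mathlib.RingTheory.Flat.FaithfullyFlat.Basic
import Mathlib.RingTheory.Flat.FaithfullyFlat.Algebra
import Mathlib.RingTheory.Flat.Tensor
import Mathlib.RingTheory.Ideal.Pure

/-! Weakly etale algebras: flatness ascends, maps between weakly etale algebras, descent. -/

universe u

namespace Groth.EtaleAlgebra

open TensorProduct

section

variable (A B : Type*) [CommRing A] [CommRing B] [Algebra A B] (M : Type*) [AddCommGroup M]
  [Module A M] [Module B M] [IsScalarTower A B M] (N : Type*) [AddCommGroup N]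
  [Module A N] [Module B N] [IsScalarTower A B N]

/-- The action of `B ⊗[A] B` on `M ⊗[A] N`. -/
noncomputable def act : B ⊗[A] B →ₐ[A] Module.End A (M ⊗[A] N) :=
  Algebra.TensorProduct.lift
    ((Module.End.rTensorAlgHom A M N).comp (Algebra.lsmul A A M))
    ((Module.End.lTensorAlgHom A N M).comp (Algebra.lsmul A A N))
    fun b c => TensorProduct.ext' fun m n => rfl

theorem act_tmul (b c : B) (m : M) (n : N) :
    act A B M N (b ⊗ₜ c) (m ⊗ₜ n) = (b • m) ⊗ₜ (c • n) := by
  rw [act, Algebra.TensorProduct.lift_tmul]
  rfl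

/-- The action is compatible with the map to the tensor product over `B`. -/
theorem mapOfCompatibleSMul_act (t : B ⊗[A] B) (x : M ⊗[A] N) :
    TensorProduct.mapOfCompatibleSMul B A A M N (act A B M N t x) =
      Algebra.TensorProduct.lmul' A t • TensorProduct.mapOfCompatibleSMul B A A M N x := by
  induction t with
  | zero => simp
  | add t t' h h' => simp [add_smul, h, h']
  | tmul b c =>
    induction x with
    | zero => simp
    | add x y hx hy => simp [hx, hy]
    | tmul m n =>
      rw [act_tmul, mapOfCompatibleSMul_tmul, mapOfCompatibleSMul_tmul,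
        Algebra.TensorProduct.lmul'_apply_tmul, tmul_smul]
      simp only [smul_tmul', smul_smul, mul_comm]

end

/-- If multiplication `B ⊗[A] B → B` is flat, a `B`-module flat over `A` is flat over `B`. -/
theorem flat_of_flat_mul (A B : Type u) [CommRing A] [CommRing B] [Algebra A B]
    (h : (Algebra.TensorProduct.lmul' A (S := B)).Flat) (N : Type u) [AddCommGroup N] [Module A N]
    [Module B N] [IsScalarTower A B N] [Module.Flat A N] : Module.Flat B N := by
  rw [Module.Flat.iff_rTensor_injective']
  intro J
  rw [injective_iff_map_eq_zero]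
  intro z hz
  let μ := Algebra.TensorProduct.lmul' A (S := B)
  let I : Ideal (B ⊗[A] B) := RingHom.ker μ
  have : I.Pure := by
    let _ := μ.toRingHom.toAlgebra
    have : Module.Flat (B ⊗[A] B) B := h
    let e := Ideal.quotientKerAlgEquivOfSurjective (f := Algebra.ofId (B ⊗[A] B) B)
      (fun b => ⟨b ⊗ₜ 1, by simp [μ, RingHom.algebraMap_toAlgebra]⟩)
    exact Module.Flat.of_linearEquiv e.toLinearEquiv
  obtain ⟨w, rfl⟩ := TensorProduct.mapOfCompatibleSMul_surjective B A A (↥J) N z
  let ι : (↥J) ⊗[A] N →ₗ[A] B ⊗[A] N := (J.subtype.restrictScalars A).rTensor N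
  have hι : Function.Injective ι :=
    Module.Flat.rTensor_preserves_injective_linearMap _ J.injective_subtype
  have hιact : ∀ t x, ι (act A B (↥J) N t x) = act A B B N t (ι x) := by
    intro t x
    induction t with
    | zero => simp
    | add t t' h h' => simp [h, h']
    | tmul b c =>
      induction x with
      | zero => simp
      | add x y hx hy => simp [hx, hy]
      | tmul m n => simp [ι, act_tmul]
  -- multiplication `B ⊗[A] N → N`
  let ρ : B ⊗[A] N →ₗ[A] N := TensorProduct.lift ((Algebra.lsmul A A N).toLinearMap)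
  have hgen : ∀ u : B ⊗[A] N, ∃ y ∈ I, act A B B N (1 - y) (u - 1 ⊗ₜ ρ u) = 0 := by
    intro u
    induction u with
    | zero => exact ⟨0, zero_mem _, by simp⟩
    | tmul b n =>
      let k : B ⊗[A] B := b ⊗ₜ 1 - 1 ⊗ₜ b
      have hk : k ∈ I := by simp [I, μ, k]
      obtain ⟨y, hy, hky⟩ := Ideal.exists_eq_mul_of_pure hk
      refine ⟨y, hy, ?_⟩
      have : (b ⊗ₜ n - 1 ⊗ₜ ρ (b ⊗ₜ n) : B ⊗[A] N) = act A B B N k (1 ⊗ₜ n) := by
        simp [k, ρ, act_tmul]
      rw [this, ← Module.End.mul_apply, ← map_mul,
        show (1 - y) * k = 0 by rw [sub_mul, one_mul, mul_comm, ← hky, sub_self]]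
      simp
    | add u v hu hv =>
      obtain ⟨y, hy, hyu⟩ := hu
      obtain ⟨y', hy', hyv⟩ := hv
      refine ⟨1 - (1 - y) * (1 - y'), by simp only [I, RingHom.mem_ker] at hy hy' ⊢; simp [hy, hy'], ?_⟩
      have h1 : (u + v : B ⊗[A] N) - 1 ⊗ₜ ρ (u + v) = (u - 1 ⊗ₜ ρ u) + (v - 1 ⊗ₜ ρ v) := by
        rw [map_add, TensorProduct.tmul_add]; abel
      rw [sub_sub_cancel, h1, map_add]
      conv_lhs => congr; · rw [mul_comm, map_mul, Module.End.mul_apply, hyu, map_zero]
      rw [map_mul, Module.End.mul_apply, hyv, map_zero, zero_add]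
  have hρ : ρ (ι w) = TensorProduct.lid B N ((J.subtype).rTensor N
      (TensorProduct.mapOfCompatibleSMul B A A (↥J) N w)) := by
    clear hz
    induction w with
    | zero => simp
    | add x y hx hy => simp [hx, hy]
    | tmul m n => simp [ρ, ι]
  obtain ⟨y, hy, hyw⟩ := hgen (ι w)
  rw [hρ, hz, map_zero, tmul_zero, sub_zero, ← hιact] at hyw
  have h0 : act A B (↥J) N (1 - y) w = 0 := hι (by rw [hyw, map_zero])
  have h2 := mapOfCompatibleSMul_act A B (↥J) N (1 - y) w
  rw [h0, map_zero, map_sub, map_one, show μ y = 0 from hy, sub_zero, one_smul] at h2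
  exact h2.symm

/-- Flatness descends along a faithfully flat extension of the algebra. -/
theorem flat_of_faithfullyFlat_target (T B C : Type u) [CommRing T] [CommRing B] [CommRing C]
    [Algebra T B] [Algebra T C] [Algebra B C] [IsScalarTower T B C]
    [Module.FaithfullyFlat B C] [Module.Flat T C] : Module.Flat T B := by
  rw [Module.Flat.iff_lTensor_injective']
  intro J
  let f : B ⊗[T] (↥J) →ₗ[B] B ⊗[T] T := AlgebraTensorModule.map LinearMap.id J.subtype
  suffices Function.Injective f from this
  rw [← Module.FaithfullyFlat.lTensor_injective_iff_injective B C f]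
  have h := Module.Flat.lTensor_preserves_injective_linearMap (M := C) J.subtype J.injective_subtype
  have hc : ∀ x, AlgebraTensorModule.cancelBaseChange T B B C T (f.lTensor C x) =
      J.subtype.lTensor C (AlgebraTensorModule.cancelBaseChange T B B C (↥J) x) := by
    intro x
    induction x with
    | zero => simp
    | add x y hx hy => simp [hx, hy]
    | tmul c z =>
      induction z with
      | zero => simp
      | add x y hx hy => simp only [tmul_add, map_add, hx, hy]
      | tmul b j => simp [f]
  exact fun x y hxy => (AlgebraTensorModule.cancelBaseChange T B B C (↥J)).injective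
    (h (by rw [← hc, ← hc, hxy]))

/-- The second of two maps is flat if the composite is and the first is surjective. -/
theorem flat_of_comp_surjective {T S M : Type u} [CommRing T] [CommRing S] [CommRing M]
    (f : T →+* S) (g : S →+* M) (hf : Function.Surjective f) (h : (g.comp f).Flat) : g.Flat := by
  algebraize [f, g, g.comp f]
  have hμ : (Algebra.TensorProduct.lmul' T (S := S)).Flat := by
    refine RingHom.Flat.of_bijective ⟨fun p q hpq => ?_, fun y => ⟨y ⊗ₜ 1, by simp⟩⟩
    have hs : ∀ t : S ⊗[T] S, ∃ y, t = y ⊗ₜ 1 := by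
      intro t
      induction t with
      | zero => exact ⟨0, by simp⟩
      | add x y hx hy =>
        obtain ⟨a, rfl⟩ := hx
        obtain ⟨b, rfl⟩ := hy
        exact ⟨a + b, by rw [add_tmul]⟩
      | tmul x y =>
        obtain ⟨y, rfl⟩ := hf y
        refine ⟨y • x, ?_⟩
        rw [show f y = y • (1 : S) from Algebra.algebraMap_eq_smul_one y, ← smul_tmul]
    obtain ⟨a, rfl⟩ := hs p
    obtain ⟨b, rfl⟩ := hs q
    simp at hpq
    rw [hpq]
  exact flat_of_flat_mul T S hμ M

/-- An algebra map between weakly etale algebras is weakly etale. -/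
theorem weaklyEtale_of_tower (A B C : Type u) [CommRing A] [CommRing B] [CommRing C]
    [Algebra A B] [Algebra A C] [Algebra B C] [IsScalarTower A B C] [Algebra.WeaklyEtale A B]
    [Algebra.WeaklyEtale A C] : Algebra.WeaklyEtale B C := by
  refine ⟨flat_of_flat_mul A B (Algebra.WeaklyEtale.flat_lmul' A B) C, ?_⟩
  refine flat_of_comp_surjective (Algebra.TensorProduct.mapOfCompatibleSMul B A A C C).toRingHom _
    (Algebra.TensorProduct.mapOfCompatibleSMul_surjective B A A C C) ?_
  convert Algebra.WeaklyEtale.flat_lmul' A C using 1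
  refine RingHom.ext fun x => ?_
  induction x with
  | zero => simp
  | add x y hx hy => simp only [map_add, hx, hy]
  | tmul a b => simp

theorem flat_of_comp_faithfullyFlat {T B : Type u} [CommRing T] [CommRing B] (f : T →+* B)
    (C : Type u) [CommRing C] [Algebra B C] [Module.FaithfullyFlat B C]
    (h : ((algebraMap B C).comp f).Flat) : f.Flat := by
  let _ := f.toAlgebra
  let _ := ((algebraMap B C).comp f).toAlgebra
  have : IsScalarTower T B C := IsScalarTower.of_algebraMap_eq fun _ => rfl
  have : Module.Flat T C := h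
  exact flat_of_faithfullyFlat_target T B C

/-- Weak etaleness descends along a faithfully flat extension. -/
theorem weaklyEtale_of_faithfullyFlat (A B C : Type u) [CommRing A] [CommRing B] [CommRing C]
    [Algebra A B] [Algebra B C] [Algebra A C] [IsScalarTower A B C] [Module.FaithfullyFlat B C]
    [Algebra.WeaklyEtale A C] : Algebra.WeaklyEtale A B := by
  have := flat_of_faithfullyFlat_target A B C
  refine ⟨this, ?_⟩
  let μ := Algebra.TensorProduct.lmul' A (S := B)
  let ι : B ⊗[A] B →ₐ[A] C ⊗[A] C :=
    Algebra.TensorProduct.map (IsScalarTower.toAlgHom A B C) (IsScalarTower.toAlgHom A B C)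
  have hg : (IsScalarTower.toAlgHom A B C).toRingHom.Flat :=
    RingHom.flat_algebraMap_iff.2 inferInstance
  have hcomp : ((Algebra.TensorProduct.lmul' A (S := C)).comp ι).toRingHom.Flat :=
    RingHom.Flat.comp (RingHom.Flat.tensorProductMap hg hg) (Algebra.WeaklyEtale.flat_lmul' A C)
  refine flat_of_comp_faithfullyFlat μ.toRingHom C ?_
  convert hcomp using 1
  refine RingHom.ext fun x => ?_
  induction x with
  | zero => simp
  | add x y hx hy => simp only [map_add, hx, hy]
  | tmul a b => simp [μ, ι]

end Groth.EtaleAlgebra
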