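import Groth.Agent.EtaleAlgebra.ValuationContent
import Groth.Agent.EtaleAlgebra.WeakDimOne
import Groth.Agent.EtaleAlgebra.WeaklyEtale
import Mathlib.RingTheory.Unramified.LocalStructure
import Mathlib.RingTheory.Etale.Weakly
import Mathlib.RingTheory.Flat.FaithfullyFlat.Basic

set_option autoImplicit false

/-!
# Étale algebras over valuation rings
-/

universe u

open TensorProduct Polynomial

namespace Groth.EtaleAlgebra.ValuationEtale

open IsLocalRing

/-- Localisations of weakly etale algebras over valuation rings are valuation rings. -/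
theorem valuationRing_atPrime (A : Type u) [CommRing A] [IsDomain A] [ValuationRing A]
    (B : Type u) [CommRing B] [Algebra A B] [Algebra.WeaklyEtale A B] (m : Ideal B) [m.IsPrime] :
    ∃ _ : IsDomain (Localization.AtPrime m), ValuationRing (Localization.AtPrime m) := by
  refine Groth.Agent.EtaleAlgebra.WeakDimOne.valuationRing_of_fg_flat B (fun I _ => ?_) m
  have hA : ∀ J : Ideal A, Module.Flat A J := fun J =>
    Module.Flat.flat_iff_torsion_eq_bot_of_isBezout.2
      (Submodule.isTorsionFree_iff_torsion_eq_bot.1 inferInstance)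
  have : Module.Flat A (I.restrictScalars A) :=
    Groth.Agent.EtaleAlgebra.WeakDimOne.flat_submodule_of_ideals_flat A hA (I.restrictScalars A)
  have : Module.Flat A I := this
  exact flat_of_flat_mul A B (Algebra.WeaklyEtale.flat_lmul' A B) I

/-- In a weakly etale algebra over a valuation ring, the extension of a prime becomes prime after
localising at a prime above it. -/
theorem isPrime_map_atPrime (A : Type u) [CommRing A] [IsDomain A] [ValuationRing A]
    (B : Type u) [CommRing B] [Algebra A B] [Algebra.WeaklyEtale A B] (m : Ideal B) [m.IsPrime]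
    (p : Ideal A) [p.IsPrime] (hpm : p ≤ m.comap (algebraMap A B)) :
    (p.map (algebraMap A (Localization.AtPrime m))).IsPrime := by
  have : ValuationRing (A ⧸ p) := ValuationContent.valuationRing_quotient A p
  let T := (A ⧸ p) ⊗[A] B
  let f : B →ₐ[A] T := Algebra.TensorProduct.includeRight
  have hpB : ∀ b, f b = 0 → b ∈ p.map (algebraMap A B) := by
    intro b hb
    let π : T →ₐ[A] B ⧸ p.map (algebraMap A B) :=
      Algebra.TensorProduct.lift (Ideal.quotientMapₐ (p.map (algebraMap A B)) (Algebra.ofId A B)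
        Ideal.le_comap_map) (Ideal.Quotient.mkₐ A _) fun _ _ => Commute.all _ _
    have h1 : π (f b) = Ideal.Quotient.mk _ b :=
      (Algebra.TensorProduct.lift_tmul _ _ _ 1 b).trans (by rw [map_one, one_mul]; rfl)
    rw [hb, map_zero] at h1
    exact Ideal.Quotient.eq_zero_iff_mem.1 h1.symm
  have hfs : Function.Surjective f := by
    intro x
    induction x using TensorProduct.induction_on with
    | zero => exact ⟨0, map_zero f⟩
    | tmul a b =>
      obtain ⟨a, rfl⟩ := Ideal.Quotient.mk_surjective a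
      refine ⟨a • b, ?_⟩
      show (1 : A ⧸ p) ⊗ₜ[A] (a • b) = _
      rw [tmul_smul, smul_tmul', Algebra.smul_def, mul_one]
      rfl
    | add x y hx hy =>
      obtain ⟨x, rfl⟩ := hx
      obtain ⟨y, rfl⟩ := hy
      exact ⟨x + y, map_add f _ _⟩
  let ρ : T →ₐ[A] B ⧸ m :=
    Algebra.TensorProduct.lift (Ideal.quotientMapₐ m (Algebra.ofId A B) hpm)
      (Ideal.Quotient.mkₐ A _) fun _ _ => Commute.all _ _
  let mT : Ideal T := RingHom.ker ρ
  have : mT.IsPrime := RingHom.ker_isPrime _
  have hmT : ∀ b, f b ∈ mT ↔ b ∈ m := by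
    intro b
    show ρ (f b) = 0 ↔ _
    rw [show ρ (f b) = Ideal.Quotient.mk m b from
      (Algebra.TensorProduct.lift_tmul _ _ _ 1 b).trans (by rw [map_one, one_mul]; rfl)]
    exact Ideal.Quotient.eq_zero_iff_mem
  obtain ⟨_, -⟩ := valuationRing_atPrime (A ⧸ p) T mT
  let P₀ : Ideal B := RingHom.ker ((algebraMap T (Localization.AtPrime mT)).comp f.toRingHom)
  have hP₀ : P₀.IsPrime := RingHom.ker_isPrime _
  have hP₀m : P₀ ≤ m := fun b hb => by
    by_contra hbm
    refine (IsLocalization.map_units (Localization.AtPrime mT)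
      (⟨f b, fun h => hbm ((hmT b).1 h)⟩ : mT.primeCompl)).ne_zero ?_
    exact hb
  have hpP₀ : p.map (algebraMap A B) ≤ P₀ := Ideal.map_le_iff_le_comap.2 fun a ha => by
    show algebraMap T (Localization.AtPrime mT) (f (algebraMap A B a)) = 0
    rw [AlgHom.commutes, IsScalarTower.algebraMap_apply A (A ⧸ p) T,
      show algebraMap A (A ⧸ p) a = 0 from Ideal.Quotient.eq_zero_iff_mem.2 ha, map_zero, map_zero]
  have heq : p.map (algebraMap A (Localization.AtPrime m)) =
      P₀.map (algebraMap B (Localization.AtPrime m)) := by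
    rw [IsScalarTower.algebraMap_eq A B (Localization.AtPrime m), ← Ideal.map_map]
    refine le_antisymm (Ideal.map_mono hpP₀) (Ideal.map_le_iff_le_comap.2 fun b hb => ?_)
    obtain ⟨⟨c, hc⟩, hcb⟩ := (IsLocalization.map_eq_zero_iff mT.primeCompl _ (f b)).1 hb
    obtain ⟨s, rfl⟩ := hfs c
    rw [← map_mul] at hcb
    exact (IsLocalization.algebraMap_mem_map_algebraMap_iff m.primeCompl _ _ b).2
      ⟨s, fun h => hc ((hmT s).2 h), hpB _ hcb⟩
  rw [heq]
  exact IsLocalization.isPrime_of_isPrime_disjoint m.primeCompl _ P₀ hP₀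
    (Set.disjoint_left.2 fun b hb hb' => hb (hP₀m hb'))

theorem content_atPrime (A B : Type u) [CommRing A] [IsDomain A] [ValuationRing A] [CommRing B]
    [Algebra A B] [Algebra.Etale A B] (m : Ideal B) [m.IsPrime]
    (hm : m.comap (algebraMap A B) = maximalIdeal A) :
    Function.Injective (algebraMap A (Localization.AtPrime m)) ∧
      IsLocalHom (algebraMap A (Localization.AtPrime m)) ∧
      ∀ b : Localization.AtPrime m, b ≠ 0 → ∃ (a : A) (u : (Localization.AtPrime m)ˣ),
        b = u * algebraMap A (Localization.AtPrime m) a := by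
  classical
  obtain ⟨_, -⟩ := valuationRing_atPrime A B m
  let W := Localization.AtPrime m
  let φ := algebraMap A W
  have hloc : IsLocalHom φ := ⟨fun a ha => by
    by_contra hna
    have h1 : algebraMap A B a ∈ m := by
      rw [← Ideal.mem_comap, hm]; exact hna
    refine ((IsLocalization.AtPrime.isUnit_to_map_iff W m _).1 ?_) h1
    rw [← IsScalarTower.algebraMap_apply]
    exact ha⟩
  have : Module.Flat B W := IsLocalization.flat W m.primeCompl
  have : Module.Flat A W := Module.Flat.trans A B W
  have : IsLocalHom (algebraMap A W) := hloc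
  have : Module.FaithfullyFlat A W := Module.FaithfullyFlat.of_flat_of_isLocalHom
  have hinj : Function.Injective φ := FaithfulSMul.algebraMap_injective A W
  refine ⟨hinj, hloc, ?_⟩
  obtain ⟨g, hg, hgs⟩ := Algebra.IsEtaleAt.exists_isStandardEtale (R := A) m
  obtain ⟨⟨P⟩⟩ := hgs
  let ε : Localization.Away g →ₐ[A] W :=
    IsLocalization.liftAlgHom (M := Submonoid.powers g) (f := IsScalarTower.toAlgHom A B W)
      (by
        rintro ⟨_, k, rfl⟩
        exact IsLocalization.map_units W
          (⟨g ^ k, fun h => hg (‹m.IsPrime›.mem_of_pow_mem k h)⟩ : m.primeCompl))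
  have hεx := P.hasMap.map ε
  let x : W := ε P.x
  have hxint : IsIntegral A x := ⟨P.f, P.monic_f, by rw [← aeval_def]; exact hεx.1⟩
  let R : Subalgebra A W := Algebra.adjoin A {x}
  have : Module.Finite A R := Module.Finite.iff_fg.2 hxint.fg_adjoin_singleton
  have : FaithfulSMul A R := (faithfulSMul_iff_algebraMap_injective A R).2 fun a b h =>
    hinj (congrArg Subtype.val h)
  have hR : ∀ p : A[X], ε (aeval P.x p) ∈ R := fun p => by
    rw [← Polynomial.aeval_algHom_apply]
    show aeval x p ∈ Algebra.adjoin A {x}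
    rw [Algebra.adjoin_singleton_eq_range_aeval]
    exact ⟨p, rfl⟩
  let mR : Ideal R := (maximalIdeal W).comap R.val
  have : mR.IsPrime := inferInstanceAs ((maximalIdeal W).comap R.val).IsPrime
  have hring : ∀ z : Localization.Away g, ∃ (n : ℕ) (p : A[X]),
      z * aeval P.x P.g ^ n = aeval P.x p := by
    let T : Subalgebra A (Localization.Away g) :=
      { carrier := {z | ∃ (n : ℕ) (p : A[X]), z * aeval P.x P.g ^ n = aeval P.x p}
        one_mem' := ⟨0, 1, by simp⟩
        zero_mem' := ⟨0, 0, by simp⟩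
        mul_mem' := by
          rintro z w ⟨n, p, hz⟩ ⟨k, q, hw⟩
          exact ⟨n + k, p * q, by rw [map_mul, ← hz, ← hw]; ring⟩
        add_mem' := by
          rintro z w ⟨n, p, hz⟩ ⟨k, q, hw⟩
          exact ⟨n + k, p * P.g ^ k + q * P.g ^ n, by
            rw [map_add, map_mul, map_mul, map_pow, map_pow, ← hz, ← hw]; ring⟩
        algebraMap_mem' := fun a => ⟨0, C a, by simp⟩ }
    let xT : T := ⟨P.x, 0, X, by simp⟩
    have hcoe : ∀ q : A[X], ((aeval xT q : T) : Localization.Away g) = aeval P.x q := fun q =>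
      (Polynomial.aeval_algHom_apply T.val xT q).symm
    have hxT : P.P.HasMap xT := by
      refine ⟨Subtype.ext ((hcoe _).trans P.hasMap.1), ?_⟩
      obtain ⟨u, hu⟩ := P.hasMap.2
      refine isUnit_iff_exists_inv.2 ⟨⟨↑u⁻¹, 1, 1, by rw [pow_one, ← hu, Units.inv_mul, map_one]⟩, ?_⟩
      refine Subtype.ext ?_
      show ((aeval xT P.g : T) : Localization.Away g) * ↑u⁻¹ = 1
      rw [hcoe, ← hu, Units.mul_inv]
    intro z
    obtain ⟨y, hy⟩ := P.lift_bijective.2 z
    have hcomp : T.val.comp (P.P.lift xT hxT) = P.P.lift P.x P.hasMap :=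
      P.P.hom_ext (by simp [xT])
    rw [← hy, ← hcomp]
    exact (P.P.lift xT hxT y).2
  have hgu : IsUnit (ε (aeval P.x P.g)) := P.hasMap.2.map ε
  have hBW : ∀ b : B, ∃ (r s : R), s ∉ mR ∧ algebraMap B W b * s = r := by
    intro b
    let z := algebraMap B (Localization.Away g) b
    obtain ⟨n, p, hp⟩ := hring z
    refine ⟨⟨_, hR p⟩, ⟨_, hR (P.g ^ n)⟩, fun h => ?_, ?_⟩
    · refine (mem_maximalIdeal _).1 h ?_
      show IsUnit (ε (aeval P.x (P.g ^ n)))
      rw [map_pow, map_pow]
      exact hgu.pow n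
    · show algebraMap B W b * ε (aeval P.x (P.g ^ n)) = ε (aeval P.x p)
      rw [← hp, map_mul ε z, map_pow (aeval P.x)]
      congr 1
      simp [ε, z]
  have hsurj : ∀ w : W, ∃ (r s : R), s ∉ mR ∧ w * s = r := by
    intro w
    obtain ⟨b, t, rfl⟩ := IsLocalization.exists_mk'_eq m.primeCompl w
    obtain ⟨r, s, hs, hrs⟩ := hBW b
    obtain ⟨r', s', hs', hrs'⟩ := hBW t
    have hr' : r' ∉ mR := fun h => by
      refine (mem_maximalIdeal _).1 h ?_
      rw [show R.val r' = (r' : W) from rfl, ← hrs']
      exact (IsLocalization.map_units W t).mul (notMem_maximalIdeal.1 hs')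
    refine ⟨r * s', s * r', fun h => (Ideal.IsPrime.mem_or_mem inferInstance h).elim hs hr', ?_⟩
    simp only [Subalgebra.coe_mul]
    rw [← hrs, ← hrs', ← IsLocalization.mk'_spec W b t]
    ring
  have hmR : mR.comap (algebraMap A R) = maximalIdeal A := by
    ext a
    show algebraMap A W a ∈ maximalIdeal W ↔ a ∈ maximalIdeal A
    rw [mem_maximalIdeal, mem_maximalIdeal, mem_nonunits_iff, mem_nonunits_iff, isUnit_map_iff]
  have hU : ∀ Q : Ideal R, Q.IsPrime → Q ≤ mR → ∀ z ∈ Q,
      ∃ s, s ∉ mR ∧ s * z ∈ (Q.comap (algebraMap A R)).map (algebraMap A R) := by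
    intro Q hQ hQm z hz
    let p := Q.comap (algebraMap A R)
    have hpm : p ≤ m.comap (algebraMap A B) := by
      rw [hm, ← hmR]; exact Ideal.comap_mono hQm
    have := isPrime_map_atPrime A B m p hpm
    let P₁ : Ideal R := (p.map φ).comap R.val
    have hP₁ : P₁.IsPrime := inferInstanceAs ((p.map φ).comap R.val).IsPrime
    -- elements of the extended ideal come from `p R` up to units
    have hmem : ∀ w ∈ p.map φ, ∀ r : R, (r : W) = w →
        ∃ s, s ∉ mR ∧ s * r ∈ p.map (algebraMap A R) := by
      intro w hw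
      have key : ∀ w ∈ p.map φ, ∃ s : R, s ∉ mR ∧
          ∃ y ∈ p.map (algebraMap A R), w * s = (y : W) := by
        intro w hw
        induction hw using Submodule.span_induction with
        | mem w hw =>
          obtain ⟨a, ha, rfl⟩ := hw
          exact ⟨1, fun h => Ideal.IsPrime.one_notMem inferInstance h, _,
            Ideal.mem_map_of_mem _ ha, by simp [φ]⟩
        | zero => exact ⟨1, fun h => Ideal.IsPrime.one_notMem inferInstance h, 0, zero_mem _, by simp⟩
        | add v w _ _ hv hw =>
          obtain ⟨s, hs, y, hy, hvy⟩ := hv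
          obtain ⟨s', hs', y', hy', hwy⟩ := hw
          refine ⟨s * s', fun h => (Ideal.IsPrime.mem_or_mem inferInstance h).elim hs hs',
            y * s' + y' * s, add_mem (Ideal.mul_mem_right _ _ hy) (Ideal.mul_mem_right _ _ hy'), ?_⟩
          simp only [Subalgebra.coe_mul, Subalgebra.coe_add, ← hvy, ← hwy]
          ring
        | smul c w _ hw =>
          obtain ⟨s, hs, y, hy, hwy⟩ := hw
          obtain ⟨r₁, s₁, hs₁, hc⟩ := hsurj c
          refine ⟨s * s₁, fun h => (Ideal.IsPrime.mem_or_mem inferInstance h).elim hs hs₁,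
            r₁ * y, Ideal.mul_mem_left _ _ hy, ?_⟩
          simp only [Subalgebra.coe_mul, smul_eq_mul, ← hc, ← hwy]
          ring
      intro r hr
      obtain ⟨s, hs, y, hy, hwy⟩ := key w hw
      refine ⟨s, hs, ?_⟩
      convert hy using 1
      apply Subtype.ext
      rw [Subalgebra.coe_mul, hr, mul_comm]
      exact hwy
    have hle : P₁ ≤ Q := fun r hr => by
      obtain ⟨s, hs, hsr⟩ := hmem _ hr r rfl
      exact (hQ.mem_or_mem (Ideal.map_le_iff_le_comap.2 le_rfl hsr)).resolve_left fun h => hs (hQm h)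
    have heq : P₁ = Q := by
      by_contra hne
      obtain ⟨y, hyQ, hyP⟩ := SetLike.exists_of_lt (lt_of_le_of_ne hle hne)
      have hlt := Ideal.comap_lt_comap_of_integral_mem_sdiff (R := A) hle ⟨hyQ, hyP⟩
        (Algebra.IsIntegral.isIntegral y)
      refine hlt.not_ge fun a ha => ?_
      show algebraMap A W a ∈ p.map φ
      exact Ideal.mem_map_of_mem _ ha
    exact hmem _ (heq.symm ▸ hz : z ∈ P₁) z rfl
  intro w hw
  obtain ⟨r, s, hs, hrs⟩ := hsurj w
  have hr0 : r ≠ 0 := fun h => hw (by
    have hu : IsUnit (s : W) := notMem_maximalIdeal.1 hs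
    rw [h] at hrs
    exact hu.mul_left_eq_zero.1 (by simpa using hrs))
  obtain ⟨a, r', s', hr', hs', he⟩ := ValuationContent.exists_mul_eq mR hmR hU hr0
  obtain ⟨ur, hur⟩ : IsUnit (r' : W) := notMem_maximalIdeal.1 hr'
  obtain ⟨us, hus⟩ : IsUnit ((s' : W) * (s : W)) :=
    (notMem_maximalIdeal.1 hs').mul (notMem_maximalIdeal.1 hs)
  refine ⟨a, ur * us⁻¹, ?_⟩
  have h1 : w * us = ur * algebraMap A W a := by
    have h2 := congrArg (Subtype.val : R → W) he
    simp only [Subalgebra.coe_mul, Subalgebra.coe_algebraMap] at h2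
    rw [hus, hur]
    linear_combination (s' : W) * hrs + h2
  rw [Units.val_mul, mul_right_comm, ← h1, Units.mul_inv_cancel_right]

end Groth.EtaleAlgebra.ValuationEtale
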