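import Groth.Agent.EtaleAlgebra.ExtBaseChange
import Groth.Agent.Pi1Etale.Reduced
import Mathlib.RingTheory.Etale.Field
import Mathlib.RingTheory.Etale.StandardEtale
import Mathlib.FieldTheory.Separable

/-!
# Abhyankar's lemma for extensions of discrete valuation rings

* `weaklyUnramified_of_generators`: a general criterion for `V ⊆ W` to be weakly unramified,
  with control of the residue field.
* `abhyankar_data`: Abhyankar's lemma in the form needed for local extensions.
-/

set_option autoImplicit false
set_option linter.style.haveILetI false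
set_option linter.overlappingInstances false
universe u

namespace Groth.EtaleAlgebra.Abhy

open IsLocalRing TensorProduct EtRam Polynomial

/-- A reduced algebra over a perfect field is geometrically reduced. -/
theorem isGeometricallyReduced_of_perfectField (k A : Type u) [Field k] [PerfectField k]
    [CommRing A] [Algebra k A] [IsReduced A] : Algebra.IsGeometricallyReduced k A := by
  rw [Algebra.isGeometricallyReduced_field_iff]
  have h : IsReduced (A ⊗[k] AlgebraicClosure k) :=
    IsReduced.tensorProduct_of_flat_of_forall_fg fun B hB => by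
      have : Algebra.IsIntegral k B :=
        Algebra.IsIntegral.of_injective B.val Subtype.val_injective
      have : Algebra.FiniteType k B := ⟨B.fg_top.2 hB⟩
      have : Module.Finite k B := Algebra.IsIntegral.finite
      let _ : Field B := (isField_of_isIntegral_of_isField' (R := k) (Field.toIsField k)).toField
      have : Algebra.IsSeparable k B := Algebra.IsAlgebraic.isSeparable_of_perfectField
      have : Algebra.FormallyEtale k B := (Algebra.FormallyEtale.iff_isSeparable k B).2 this
      have : Algebra.Etale k B := ⟨this, Algebra.FinitePresentation.of_finiteType.1 inferInstance⟩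
      exact Groth.Pi1Etale.isReduced_of_finite_etale A (A ⊗[k] B)
  exact isReduced_of_injective (Algebra.TensorProduct.comm k (AlgebraicClosure k) A).toRingHom
    (Algebra.TensorProduct.comm k (AlgebraicClosure k) A).injective

/-- Geometric reducedness ascends along finite étale maps. -/
theorem isGeometricallyReduced_of_finite_etale (k S₀ S : Type u) [Field k] [CommRing S₀]
    [CommRing S] [Algebra k S₀] [Algebra k S] [Algebra S₀ S] [IsScalarTower k S₀ S]
    [Module.Finite S₀ S] [Algebra.Etale S₀ S] [Algebra.IsGeometricallyReduced k S₀] :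
    Algebra.IsGeometricallyReduced k S := by
  rw [Algebra.isGeometricallyReduced_field_iff]
  let C := AlgebraicClosure k
  have h0 : IsReduced (C ⊗[k] S₀) :=
    (Algebra.isGeometricallyReduced_field_iff k S₀).1 inferInstance
  have h1 : IsReduced (S₀ ⊗[k] C) :=
    isReduced_of_injective (Algebra.TensorProduct.comm k S₀ C).toRingHom
      (Algebra.TensorProduct.comm k S₀ C).injective
  have h2 : IsReduced ((S₀ ⊗[k] C) ⊗[S₀] S) :=
    Groth.Pi1Etale.isReduced_of_finite_etale (S₀ ⊗[k] C) _
  have h3 : IsReduced (S ⊗[S₀] (S₀ ⊗[k] C)) :=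
    isReduced_of_injective (Algebra.TensorProduct.comm S₀ S (S₀ ⊗[k] C)).toRingHom
      (Algebra.TensorProduct.comm S₀ S (S₀ ⊗[k] C)).injective
  have h4 : IsReduced (S ⊗[k] C) :=
    isReduced_of_injective (Algebra.TensorProduct.cancelBaseChange k S₀ S S C).symm.toRingHom
      (Algebra.TensorProduct.cancelBaseChange k S₀ S S C).symm.injective
  exact isReduced_of_injective (Algebra.TensorProduct.comm k C S).toRingHom
    (Algebra.TensorProduct.comm k C S).injective

/-- `S[X]/(X^n - c)` is finite étale for a unit `c` and an invertible `n`. -/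
theorem etale_adjoinRoot_X_pow_sub_C {R : Type u} [CommRing R] [Nontrivial R] {n : ℕ}
    (hn0 : n ≠ 0) (hn : IsUnit (n : R)) (c : Rˣ) :
    Module.Finite R (AdjoinRoot (X ^ n - C (c : R))) ∧
      Algebra.Etale R (AdjoinRoot (X ^ n - C (c : R))) := by
  have hm : (X ^ n - C (c : R)).Monic := monic_X_pow_sub_C _ hn0
  obtain ⟨a, b, hab⟩ := separable_X_pow_sub_C_unit c hn
  let P : StandardEtalePair R :=
    { f := X ^ n - C (c : R), monic_f := hm, g := 1,
      cond := ⟨b, a, 0, by rw [pow_zero, ← hab]; ring⟩ }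
  have hone : IsUnit (AdjoinRoot.mk P.f P.g) := by simp [P]
  exact ⟨hm.finite_adjoinRoot, Algebra.Etale.of_equiv (P.equivAwayAdjoinRoot.trans
    ((IsLocalization.atUnit (AdjoinRoot P.f) (Localization.Away (AdjoinRoot.mk P.f P.g)) _
      hone).symm.restrictScalars R))⟩

/-- Criterion: `V ⊆ W` DVRs, `D` a subalgebra of `W` generating the fraction field, such that
`D/pD` is a quotient of a reduced zero-dimensional ring `S` geometrically reduced over `κ_V`.
Then `W` is weakly unramified over `V` with geometrically reduced residue field. -/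
theorem weaklyUnramified_of_generators (V W : Type u) [CommRing V] [IsDomain V]
    [IsDiscreteValuationRing V] [CommRing W] [IsDomain W] [IsDiscreteValuationRing W]
    [Algebra V W] [IsLocalHom (algebraMap V W)] (hVW : Function.Injective (algebraMap V W))
    {π : V} (hπ : Irreducible π) (D : Subalgebra V W)
    (hgen : ∀ w : W, ∃ a b : D, (b : W) ≠ 0 ∧ w * b = a)
    (S : Type u) [CommRing S] [Algebra (ResidueField V) S]
    [Algebra.IsGeometricallyReduced (ResidueField V) S]
    (hdim : ∀ Q : Ideal S, Q.IsPrime → Q.IsMaximal)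
    (σ : S →+* D ⧸ Ideal.span {algebraMap V D π}) (hσ : Function.Surjective σ)
    (hσV : ∀ v : V, σ (algebraMap (ResidueField V) S (residue V v)) =
      Ideal.Quotient.mk _ (algebraMap V D v)) :
    IsWeaklyUnramified V W ∧
      Algebra.IsGeometricallyReduced (ResidueField V) (ResidueField W) := by
  classical
  have : IsReduced S := Algebra.isReduced_of_isGeometricallyReduced (ResidueField V)
  let p : W := algebraMap V W π
  have hp0 : p ≠ 0 := fun h => hπ.ne_zero (hVW (h.trans (map_zero _).symm))
  have hpm : p ∈ maximalIdeal W := (mem_maximalIdeal _).2 fun h =>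
    hπ.not_isUnit (IsUnit.of_map (algebraMap V W) _ h)
  let J : Ideal D := Ideal.span {algebraMap V D π}
  let r : D ⧸ J →+* ResidueField W :=
    Ideal.Quotient.lift J ((residue W).comp D.val.toRingHom) fun d hd => by
      obtain ⟨c, rfl⟩ := Ideal.mem_span_singleton'.1 hd
      show residue W ((c : W) * p) = 0
      exact (residue_eq_zero_iff _).2 (Ideal.mul_mem_left _ _ hpm)
  let χ : S →+* ResidueField W := r.comp σ
  let P : Ideal S := RingHom.ker χ
  have : P.IsPrime := RingHom.ker_isPrime χ
  have key : ∀ d : D, (d : W) ∈ maximalIdeal W →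
      ∃ s t : D, IsUnit (s : W) ∧ (s : W) * d = p * t := by
    intro d hd
    obtain ⟨a, ha⟩ := hσ (Ideal.Quotient.mk J d)
    have haP : a ∈ P := by
      show r (σ a) = 0
      rw [ha]
      exact (residue_eq_zero_iff _).2 hd
    obtain ⟨b, hb, hba⟩ := exists_notMem_mul_eq_zero hdim P haP
    obtain ⟨s, hs⟩ := Ideal.Quotient.mk_surjective (σ b)
    have h0 : Ideal.Quotient.mk J (s * d) = 0 := by
      rw [map_mul, hs, ← ha, ← map_mul, hba, map_zero]
    obtain ⟨t, ht⟩ := Ideal.mem_span_singleton'.1 (Ideal.Quotient.eq_zero_iff_mem.1 h0)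
    refine ⟨s, t, not_not.1 fun h => hb ?_, ?_⟩
    · show r (σ b) = 0
      rw [← hs]
      exact (residue_eq_zero_iff _).2 ((mem_maximalIdeal _).2 h)
    · rw [← MulMemClass.coe_mul, ← ht, MulMemClass.coe_mul, mul_comm]
      rfl
  have main : ∀ d : D, (d : W) ≠ 0 → ∃ (n : ℕ) (s t : D),
      IsUnit (s : W) ∧ IsUnit (t : W) ∧ (s : W) * d = p ^ n * t := by
    intro d hd
    obtain ⟨m, hm⟩ : ∃ m : ℕ, (d : W) ∉ maximalIdeal W ^ m := by
      by_contra h
      push Not at h
      have h' : (d : W) ∈ ⨅ m : ℕ, maximalIdeal W ^ m := (Submodule.mem_iInf _).2 h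
      rw [Ideal.iInf_pow_eq_bot_of_isLocalRing _ (maximalIdeal.isMaximal W).ne_top,
        Ideal.mem_bot] at h'
      exact hd h'
    clear hd
    induction m generalizing d with
    | zero => exact absurd (by simp) hm
    | succ m ih =>
      by_cases hu : IsUnit (d : W)
      · exact ⟨0, 1, d, by simp, hu, by simp⟩
      obtain ⟨s, t, hs, hst⟩ := key d ((mem_maximalIdeal _).2 hu)
      obtain ⟨n, s', u, hs', hu', h'⟩ := ih t fun h => hm <| by
        rw [← Ideal.unit_mul_mem_iff_mem _ hs, hst, pow_succ']
        exact Ideal.mul_mem_mul hpm h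
      refine ⟨n + 1, s' * s, u, by rw [MulMemClass.coe_mul]; exact hs'.mul hs, hu', ?_⟩
      rw [MulMemClass.coe_mul, mul_assoc, hst, mul_left_comm, h', pow_succ']
      ring
  have hform : ∀ w : W, w ≠ 0 → ∃ (n : ℕ) (s u : D),
      IsUnit (s : W) ∧ IsUnit (u : W) ∧ (s : W) * w = p ^ n * u := by
    intro w hw0
    obtain ⟨t, s, hs, hts⟩ := hgen w
    obtain ⟨a, s₁, u₁, hs₁, hu₁, e₁⟩ := main s hs
    obtain ⟨b, s₂, u₂, hs₂, hu₂, e₂⟩ := main t
      (fun h => mul_ne_zero hw0 hs (hts.trans h))
    have e : p ^ a * (((u₁ * s₂ : D) : W) * w) = p ^ b * ((s₁ * u₂ : D) : W) := by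
      simp only [MulMemClass.coe_mul]
      calc p ^ a * ((u₁ : W) * s₂ * w) = (s₂ : W) * w * (p ^ a * u₁) := by ring
        _ = (s₁ : W) * (s₂ * (w * s)) := by rw [← e₁]; ring
        _ = (s₁ : W) * (s₂ * t) := by rw [hts]
        _ = p ^ b * (s₁ * u₂) := by rw [e₂]; ring
    have hunit : IsUnit ((u₁ * s₂ : D) : W) ∧ IsUnit ((s₁ * u₂ : D) : W) := by
      simp only [MulMemClass.coe_mul]
      exact ⟨hu₁.mul hs₂, hs₁.mul hu₂⟩
    by_cases hab : a ≤ b
    · refine ⟨b - a, u₁ * s₂, s₁ * u₂, hunit.1, hunit.2,
        mul_left_cancel₀ (pow_ne_zero a hp0) ?_⟩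
      rw [e, ← mul_assoc, ← pow_add, Nat.add_sub_cancel' hab]
    · exfalso
      obtain ⟨c, rfl⟩ : ∃ c, a = b + (c + 1) := ⟨a - b - 1, by omega⟩
      rw [pow_add, mul_assoc] at e
      have e' := mul_left_cancel₀ (pow_ne_zero b hp0) e
      exact (mem_maximalIdeal _).1 (e' ▸ Ideal.mul_mem_right _ _
        (Ideal.pow_mem_of_mem _ hpm _ (Nat.succ_pos c))) hunit.2
  refine ⟨?_, ?_⟩
  · show (maximalIdeal V).map (algebraMap V W) = maximalIdeal W
    rw [hπ.maximalIdeal_eq, Ideal.map_span, Set.image_singleton]
    refine le_antisymm ((Ideal.span_singleton_le_iff_mem _).2 hpm) fun w hw' => ?_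
    rcases eq_or_ne w 0 with rfl | hw0
    · exact zero_mem _
    obtain ⟨n, s, u, hs, hu, e⟩ := hform w hw0
    rw [← Ideal.unit_mul_mem_iff_mem _ hs, e]
    rcases n with _ | n
    · rw [pow_zero, one_mul] at e
      exact absurd (e ▸ hu) fun h => (mem_maximalIdeal _).1 hw' (isUnit_of_mul_isUnit_right h)
    · exact Ideal.mem_span_singleton.2 (dvd_mul_of_dvd_left (dvd_pow_self _ n.succ_ne_zero) _)
  have hPm : P.IsMaximal := hdim P inferInstance
  have hχV : ∀ x : ResidueField V, χ (algebraMap (ResidueField V) S x) =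
      algebraMap (ResidueField V) (ResidueField W) x := fun x => by
    obtain ⟨v, rfl⟩ := residue_surjective x
    show r (σ _) = _
    rw [hσV]
    rfl
  let χ₀ : S →ₐ[ResidueField V] ResidueField W := AlgHom.mk χ hχV
  let χ' : (S ⧸ P) →ₐ[ResidueField V] ResidueField W :=
    Ideal.Quotient.liftₐ P χ₀ fun a ha => ha
  have hχ'i : Function.Injective χ' := by
    let _ := Ideal.Quotient.field P
    exact χ'.toRingHom.injective
  have hχ's : Function.Surjective χ' := by
    let _ := Ideal.Quotient.field P
    intro x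
    obtain ⟨w, rfl⟩ := residue_surjective x
    by_cases hw' : IsUnit w
    · obtain ⟨n, s, u, hs, hu, e⟩ := hform w hw'.ne_zero
      have hn : n = 0 := by
        by_contra hn
        exact (mem_maximalIdeal _).1 (Ideal.mul_mem_right _ _
          (Ideal.pow_mem_of_mem _ hpm n (Nat.pos_of_ne_zero hn))) (e ▸ hs.mul hw')
      rw [hn, pow_zero, one_mul] at e
      obtain ⟨a, ha⟩ := hσ (Ideal.Quotient.mk J u)
      obtain ⟨b, hb⟩ := hσ (Ideal.Quotient.mk J s)
      refine ⟨Ideal.Quotient.mk P a / Ideal.Quotient.mk P b, ?_⟩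
      rw [map_div₀]
      show r (σ a) / r (σ b) = _
      rw [ha, hb]
      show residue W (u : W) / residue W (s : W) = _
      rw [← e, map_mul, mul_div_cancel_left₀]
      exact fun h => (mem_maximalIdeal _).1 ((residue_eq_zero_iff _).1 h) hs
    · exact ⟨0, (map_zero _).trans
        ((residue_eq_zero_iff _).2 ((mem_maximalIdeal _).2 hw')).symm⟩
  have := isGeometricallyReduced_quotient (ResidueField V) S P fun x hx =>
    exists_notMem_mul_eq_zero hdim P hx
  exact Algebra.IsGeometricallyReduced.of_injective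
    (AlgEquiv.ofBijective χ' ⟨hχ'i, hχ's⟩).symm.toAlgHom
    (AlgEquiv.ofBijective χ' ⟨hχ'i, hχ's⟩).symm.injective

end Groth.EtaleAlgebra.Abhy
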