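import Groth.Agent.EtaleAlgebra.EtRamBasic
import Mathlib.RingTheory.Localization.Module
import Mathlib.LinearAlgebra.Dimension.Finite

/-!
# The inequality `e * f ≤ [L : K]`
-/

namespace Groth.EtaleAlgebra

open IsLocalRing

universe u

variable (A B : Type u) [CommRing A] [IsDomain A] [IsDiscreteValuationRing A] [CommRing B]
  [IsDomain B] [IsDiscreteValuationRing B] [Algebra A B] [IsLocalHom (algebraMap A B)]

/-- Lifts of residues times powers of a uniformizer below `e` are independent. -/
theorem linearIndependent_lift_mul_pow (hinj : Function.Injective (algebraMap A B)) {ϖ : B}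
    (hϖ : Irreducible ϖ) {e : ℕ}
    (he : (maximalIdeal A).map (algebraMap A B) = maximalIdeal B ^ e) {ι : Type u} [Fintype ι]
    (b : ι → B) (hb : LinearIndependent (ResidueField A) fun i => residue B (b i)) :
    LinearIndependent A fun p : ι × Fin e => b p.1 * ϖ ^ (p.2 : ℕ) := by
  classical
  obtain ⟨τ, hτ⟩ := IsDiscreteValuationRing.exists_irreducible A
  have key : ∀ c : ι × Fin e → A, ∑ p, c p • (b p.1 * ϖ ^ (p.2 : ℕ)) = 0 →
      ∀ p, c p ∈ maximalIdeal A := by
    intro c hc
    suffices ∀ n : ℕ, ∀ j : Fin e, (j : ℕ) = n → ∀ i, c (i, j) ∈ maximalIdeal A from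
      fun p => this _ p.2 rfl p.1
    intro n
    induction n using Nat.strong_induction_on with
    | _ n ih =>
      intro j hj i
      have hpow : ∀ (a : A) (m : ℕ), m < e → a ∈ maximalIdeal A →
          algebraMap A B a ∈ maximalIdeal B ^ (m + 1) := fun a m hm ha =>
        Ideal.pow_le_pow_right hm (he ▸ Ideal.mem_map_of_mem _ ha)
      set s : B := ∑ i, c (i, j) • b i with hs
      have hmem : s * ϖ ^ (j : ℕ) ∈ maximalIdeal B ^ (n + 1) := by
        rw [hs, Finset.sum_mul]
        rw [Fintype.sum_prod_type, Finset.sum_comm, ← Finset.add_sum_erase _ _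
          (Finset.mem_univ j)] at hc
        simp only [smul_mul_assoc]
        rw [eq_neg_of_add_eq_zero_left hc, neg_mem_iff]
        refine Ideal.sum_mem _ fun k hk => Ideal.sum_mem _ fun i' _ => ?_
        rw [Finset.mem_erase] at hk
        rcases lt_trichotomy (k : ℕ) n with h | h | h
        · rw [Algebra.smul_def]
          exact Ideal.mul_mem_right _ _ (hpow _ n (hj ▸ j.2) (ih _ h k rfl i'))
        · exact absurd (Fin.ext (h.trans hj.symm)) hk.1
        · rw [Algebra.smul_def]
          refine Ideal.mul_mem_left _ _ (Ideal.mul_mem_left _ _ (Ideal.pow_le_pow_right h ?_))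
          exact Ideal.pow_mem_pow ((hϖ.maximalIdeal_eq).ge (Ideal.mem_span_singleton_self ϖ)) _
      have hsm : s ∈ maximalIdeal B := by
        rw [hϖ.maximalIdeal_eq, Ideal.span_singleton_pow, Ideal.mem_span_singleton, hj,
          pow_succ'] at hmem
        rw [hϖ.maximalIdeal_eq, Ideal.mem_span_singleton]
        exact (mul_dvd_mul_iff_right (pow_ne_zero _ hϖ.ne_zero)).1 hmem
      have h0 : ∑ i, residue A (c (i, j)) • residue B (b i) = 0 := by
        rw [← residue_eq_zero_iff, hs, map_sum] at hsm
        simpa [Algebra.smul_def, map_mul, ResidueField.algebraMap_residue] using hsm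
      exact (residue_eq_zero_iff _).1 (Fintype.linearIndependent_iff.1 hb _ h0 i)
  have main : ∀ N : ℕ, ∀ c : ι × Fin e → A, ∑ p, c p • (b p.1 * ϖ ^ (p.2 : ℕ)) = 0 →
      ∀ p, c p ∈ maximalIdeal A ^ N := by
    intro N
    induction N with
    | zero => simp
    | succ N ih =>
      intro c hc p
      have : ∀ q, τ ∣ c q := fun q => by
        rw [← Ideal.mem_span_singleton, ← hτ.maximalIdeal_eq]; exact key c hc q
      choose d hd using this
      have hd0 : ∑ p, d p • (b p.1 * ϖ ^ (p.2 : ℕ)) = 0 := by
        simp only [hd, mul_smul, ← Finset.smul_sum] at hc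
        rw [Algebra.smul_def, mul_eq_zero] at hc
        exact hc.resolve_left fun h => hτ.ne_zero (hinj (h.trans (map_zero _).symm))
      rw [hd, pow_succ']
      exact Ideal.mul_mem_mul (hτ.maximalIdeal_eq.ge (Ideal.mem_span_singleton_self τ)) (ih d hd0 p)
  refine Fintype.linearIndependent_iff.2 fun c hc p => ?_
  have : c p ∈ ⨅ N : ℕ, maximalIdeal A ^ N := Submodule.mem_iInf _ |>.2 fun N => main N c hc p
  rwa [Ideal.iInf_pow_eq_bot_of_isLocalRing _ (maximalIdeal.isMaximal A).ne_top,
    Ideal.mem_bot] at this

theorem finite_residueField_and_ramificationIdx_mul_finrank_le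
    (hinj : Function.Injective (algebraMap A B)) (K L : Type u) [Field K] [Field L] [Algebra A K]
    [IsFractionRing A K] [Algebra B L] [IsFractionRing B L] [Algebra K L] [Algebra A L]
    [IsScalarTower A K L] [IsScalarTower A B L] [FiniteDimensional K L] :
    Module.Finite (ResidueField A) (ResidueField B) ∧
      Ideal.ramificationIdx' (maximalIdeal A) (maximalIdeal B) *
        Module.finrank (ResidueField A) (ResidueField B) ≤ Module.finrank K L := by
  obtain ⟨e, he1, he, he'⟩ := exists_map_maximalIdeal_eq_pow A B hinj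
  obtain ⟨ϖ, hϖ⟩ := IsDiscreteValuationRing.exists_irreducible B
  have hbound : ∀ (ι : Type u) [Fintype ι] (v : ι → ResidueField B),
      LinearIndependent (ResidueField A) v → e * Fintype.card ι ≤ Module.finrank K L := by
    intro ι _ v hv
    choose b hb using fun i => residue_surjective (v i)
    have h1 := linearIndependent_lift_mul_pow A B hinj hϖ he b (by simpa only [hb] using hv)
    have h2 := h1.map' (IsScalarTower.toAlgHom A B L).toLinearMap
      (LinearMap.ker_eq_bot.2 (IsFractionRing.injective B L))
    have h3 := (LinearIndependent.iff_fractionRing A K).1 h2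
    simpa [Nat.mul_comm] using h3.fintype_card_le_finrank
  have hrank : Module.rank (ResidueField A) (ResidueField B) ≤ Module.finrank K L := by
    refine rank_le fun s hs => le_trans (Nat.le_mul_of_pos_left _ he1) ?_
    simpa using hbound s (fun i => (i : ResidueField B)) hs
  have hfin : Module.Finite (ResidueField A) (ResidueField B) :=
    Module.rank_lt_aleph0_iff.1 (hrank.trans_lt (Cardinal.natCast_lt_aleph0))
  refine ⟨hfin, ?_⟩
  rw [he']
  have b := Module.Free.chooseBasis (ResidueField A) (ResidueField B)
  have := hbound _ b b.linearIndependent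
  rwa [← Module.finrank_eq_card_basis b] at this

end Groth.EtaleAlgebra
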