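import Groth.Agent.Hensel1.Noetherian
import Groth.Agent.Hensel1.Reduced
import Groth.Agent.Hensel1.Transfer
import Mathlib.RingTheory.Etale.StandardEtale

/-! Formal etaleness and nilradical of henselizations. -/

universe u

namespace Groth.EtaleAlgebra

open Groth.Hensel1 IsLocalRing

variable {R : Type u} [CommRing R] {Ω : Type u} [Field Ω] [Algebra R Ω]

theorem formallyEtale_obj (i : HensIdx R Ω) : Algebra.FormallyEtale R i.Obj := by
  have : Algebra.FormallyEtale i.P.Ring i.Obj := .of_isLocalization i.q.primeCompl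
  exact Algebra.FormallyEtale.comp R i.P.Ring i.Obj

theorem formallyEtale_hens : Algebra.FormallyEtale R (Hens R Ω) := by
  refine Algebra.FormallyEtale.iff_comp_bijective.2 fun B _ _ I hI => ⟨fun g g' h => ?_, fun g => ?_⟩
  · refine AlgHom.ext fun x => ?_
    obtain ⟨i, y, rfl⟩ := Hens.exists_of x
    have := formallyEtale_obj i
    refine DFunLike.congr_fun ((Algebra.FormallyEtale.iff_comp_bijective.1 this I hI).1
      (a₁ := g.comp (Hens.of i)) (a₂ := g'.comp (Hens.of i)) ?_) y
    exact AlgHom.ext fun z => DFunLike.congr_fun h (Hens.of i z)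
  · have hb := fun i : HensIdx R Ω =>
      Algebra.FormallyEtale.iff_comp_bijective.1 (formallyEtale_obj i) (B := B) I hI
    choose φ hφ using fun i => (hb i).2 (g.comp (Hens.of i))
    have hc : ∀ i j (h : i ≤ j), (φ j).comp (HensIdx.tr i j h) = φ i := fun i j h => by
      refine (hb i).1 (AlgHom.ext fun z => ?_)
      have h1 := DFunLike.congr_fun (hφ j) (HensIdx.tr i j h z)
      have h2 := DFunLike.congr_fun (hφ i) z
      simp only [AlgHom.comp_apply] at h1 h2 ⊢
      rw [h1, h2, Hens.of_tr]
    let F : Hens R Ω →+* B := DirectLimit.Ring.lift (fun i : HensIdx R Ω => i.Obj)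
      (fun i j h => (HensIdx.tr i j h).toRingHom) B (fun i => (φ i).toRingHom)
      fun i j h x => DFunLike.congr_fun (hc i j h) x
    have hF : ∀ i x, F (Hens.of i x) = φ i x := fun i x => rfl
    refine ⟨{ F with commutes' := fun r => ?_ }, AlgHom.ext fun x => ?_⟩
    · obtain ⟨i⟩ := (inferInstance : Nonempty (HensIdx R Ω))
      show F _ = _
      rw [← (Hens.of i).commutes, hF, AlgHom.commutes]
    · obtain ⟨i, y, rfl⟩ := Hens.exists_of x
      show Ideal.Quotient.mkₐ R I (F (Hens.of i y)) = g (Hens.of i y)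
      rw [hF]
      exact DFunLike.congr_fun (hφ i) y

theorem HensModel.formallyEtale {S : Type u} [IsLocalRing R] [CommRing S] [IsLocalRing S]
    [Algebra R S] [IsLocalHom (algebraMap R S)] (M : HensModel R S) : Algebra.FormallyEtale R S :=
  have := formallyEtale_hens (R := R) (Ω := M.Ω)
  Algebra.FormallyEtale.of_equiv M.equiv

theorem formallyEtale_of_hens {S : Type u} [IsLocalRing R] [CommRing S] [IsLocalRing S]
    [Algebra R S] [IsLocalHom (algebraMap R S)]
    (h : Hensel.IsHenselization R S ∨ Hensel.IsStrictHenselization R S) :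
    Algebra.FormallyEtale R S := by
  rcases h with h | h
  · exact HensModel.formallyEtale (hensModel_of_isHenselization (R := R) (S := S)).some
  · exact HensModel.formallyEtale (hensModel_of_isStrictHenselization (R := R) (S := S)).some

theorem nilradical_standardEtale (P : StandardEtalePair R) :
    nilradical P.Ring = (nilradical R).map (algebraMap R P.Ring) := by
  refine le_antisymm (fun x hx => ?_) (Ideal.map_le_iff_le_comap.2 fun r hr => ?_)
  · let N := nilradical R
    have : IsReduced (R ⧸ N) := (Ideal.isRadical_iff_quotient_reduced N).1 (Ideal.radical_isRadical _)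
    let P' : StandardEtalePair (R ⧸ N) := P.map (algebraMap R (R ⧸ N))
    have := isReduced_standardEtale P'
    let _ : Algebra R P'.Ring := ((algebraMap (R ⧸ N) P'.Ring).comp (algebraMap R (R ⧸ N))).toAlgebra
    have : IsScalarTower R (R ⧸ N) P'.Ring := IsScalarTower.of_algebraMap_eq fun r => rfl
    let Q := P.Ring ⧸ N.map (algebraMap R P.Ring)
    let π : P.Ring →ₐ[R] Q := Ideal.Quotient.mkₐ R _
    have : IsScalarTower R (R ⧸ N) Q := IsScalarTower.of_algebraMap_eq fun r => rfl
    have hX : P.HasMap (show P'.Ring from P'.X) := by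
      have := P'.hasMap_X
      simp only [StandardEtalePair.HasMap, P', StandardEtalePair.map_f, StandardEtalePair.map_g,
        Polynomial.aeval_map_algebraMap] at this ⊢
      exact this
    let φ : P.Ring →ₐ[R] P'.Ring := P.lift _ hX
    let ψ : P'.Ring →ₐ[R ⧸ N] Q :=
      P'.lift (π P.X) ((P.hasMap_X.map π).map_algebraMap (S := R ⧸ N))
    have hψ : (ψ.restrictScalars R).comp φ = π := by
      apply StandardEtalePair.hom_ext
      simp only [AlgHom.comp_apply, AlgHom.restrictScalars_apply, φ, ψ, StandardEtalePair.lift_X]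
    have h0 : φ x = 0 := ((mem_nilradical.1 hx).map φ).eq_zero
    have : π x = 0 := by rw [← hψ, AlgHom.comp_apply, h0, map_zero]
    exact Ideal.Quotient.eq_zero_iff_mem.1 this
  · exact mem_nilradical.2 ((mem_nilradical.1 hr).map _)

theorem nilradical_obj (i : HensIdx R Ω) :
    nilradical i.Obj = (nilradical R).map (algebraMap R i.Obj) := by
  rw [IsScalarTower.algebraMap_eq R i.P.Ring i.Obj, ← Ideal.map_map, ← nilradical_standardEtale]
  refine le_antisymm (fun x hx => ?_) (Ideal.map_le_iff_le_comap.2 fun y hy =>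
    mem_nilradical.2 ((mem_nilradical.1 hy).map _))
  obtain ⟨n, hn⟩ := mem_nilradical.1 hx
  obtain ⟨c, s, rfl⟩ := IsLocalization.exists_mk'_eq i.q.primeCompl x
  rw [← IsLocalization.mk'_pow, IsLocalization.mk'_eq_zero_iff] at hn
  obtain ⟨v, hv⟩ := hn
  have h : (v : i.P.Ring) * c ∈ nilradical i.P.Ring := by
    refine mem_nilradical.2 ⟨n + 1, ?_⟩
    calc ((v : i.P.Ring) * c) ^ (n + 1) = (v : i.P.Ring) ^ n * c * ((v : i.P.Ring) * c ^ n) := by
          ring
      _ = 0 := by rw [hv, mul_zero]
  have hu := IsLocalization.map_units i.Obj v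
  have h' := Ideal.mem_map_of_mem (algebraMap i.P.Ring i.Obj) h
  rw [map_mul] at h'
  have := (Ideal.unit_mul_mem_iff_mem _ hu).1 h'
  rw [IsLocalization.mk'_eq_mul_mk'_one]
  exact Ideal.mul_mem_right _ _ this

theorem nilradical_hens [IsLocalRing R] [Algebra (ResidueField R) Ω]
    [IsScalarTower R (ResidueField R) Ω] :
    nilradical (Hens R Ω) = (nilradical R).map (algebraMap R (Hens R Ω)) := by
  refine le_antisymm (fun x hx => ?_) (Ideal.map_le_iff_le_comap.2 fun r hr =>
    mem_nilradical.2 ((mem_nilradical.1 hr).map _))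
  obtain ⟨i, y, rfl⟩ := Hens.exists_of x
  obtain ⟨n, hn⟩ := mem_nilradical.1 hx
  rw [← map_pow, map_eq_zero_iff _ (Hens.injective_of i)] at hn
  have hy : y ∈ nilradical i.Obj := mem_nilradical.2 ⟨n, hn⟩
  rw [nilradical_obj] at hy
  have := Ideal.mem_map_of_mem (Hens.of i).toRingHom hy
  rwa [Ideal.map_map, show (Hens.of i).toRingHom.comp (algebraMap R i.Obj) = algebraMap R (Hens R Ω)
    from (Hens.of i).comp_algebraMap] at this

theorem nilradical_of_hens {S : Type u} [IsLocalRing R] [CommRing S] [IsLocalRing S]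
    [Algebra R S] [IsLocalHom (algebraMap R S)]
    (h : Hensel.IsHenselization R S ∨ Hensel.IsStrictHenselization R S) :
    (nilradical R).map (algebraMap R S) = nilradical S := by
  obtain ⟨M⟩ : Nonempty (HensModel R S) := h.elim (fun _ => hensModel_of_isHenselization)
    fun _ => hensModel_of_isStrictHenselization
  refine le_antisymm (Ideal.map_le_iff_le_comap.2 fun r hr =>
    mem_nilradical.2 ((mem_nilradical.1 hr).map _)) (fun x hx => ?_)
  have h1 : M.equiv.symm x ∈ nilradical (Hens R M.Ω) :=
    mem_nilradical.2 ((mem_nilradical.1 hx).map M.equiv.symm)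
  rw [nilradical_hens] at h1
  have := Ideal.mem_map_of_mem M.equiv.toAlgHom.toRingHom h1
  rw [Ideal.map_map, show M.equiv.toAlgHom.toRingHom.comp (algebraMap R (Hens R M.Ω)) = algebraMap R S
    from M.equiv.toAlgHom.comp_algebraMap] at this
  simpa using this

end Groth.EtaleAlgebra
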