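import Groth.Agent.EtaleAlgebra.AbsFlat
import Groth.Agent.FlatMorOne.WeaklyEtaleUnram
import Mathlib.FieldTheory.IntermediateField.Adjoin.Basic
import Mathlib.FieldTheory.SeparableDegree
import Mathlib.Tactic.LinearCombination
import Mathlib.RingTheory.Unramified.Field
import Mathlib.RingTheory.Unramified.Finite
import Mathlib.RingTheory.Kaehler.Basic
import Mathlib.RingTheory.Spectrum.Prime.RingHom
import Mathlib.RingTheory.Ideal.MinimalPrime.Localization
import Mathlib.RingTheory.Adjoin.Field
import Mathlib.FieldTheory.Separable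
import Mathlib.RingTheory.LocalRing.ResidueField.Ideal

/-! Weakly etale algebras over a field: generated by roots of separable polynomials. -/

universe u

open TensorProduct Polynomial

namespace Groth.EtaleAlgebra

section

variable (K : Type u) [Field K]

/-- `x` is a root of a separable polynomial. -/
def IsSepElem {B : Type u} [CommRing B] [Algebra K B] (x : B) : Prop :=
  ∃ f : K[X], f.Separable ∧ aeval x f = 0

variable {K}

theorem IsSepElem.map {B C : Type u} [CommRing B] [Algebra K B] [CommRing C] [Algebra K C]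
    {x : B} (h : IsSepElem K x) (φ : B →ₐ[K] C) : IsSepElem K (φ x) := by
  obtain ⟨f, hf, hx⟩ := h
  exact ⟨f, hf, by rw [aeval_algHom_apply, hx, map_zero]⟩

theorem IsSepElem.of_map {B C : Type u} [CommRing B] [Algebra K B] [CommRing C] [Algebra K C]
    {x : B} (φ : B →ₐ[K] C) (hφ : Function.Injective φ) (h : IsSepElem K (φ x)) : IsSepElem K x := by
  obtain ⟨f, hf, hx⟩ := h
  exact ⟨f, hf, hφ (by rw [← aeval_algHom_apply, hx, map_zero])⟩

/-- An algebra generated by roots of separable polynomials has no differentials. -/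
theorem formallyUnramified_of_isSepElem {B : Type u} [CommRing B] [Algebra K B] (s : Set B)
    (hs : Algebra.adjoin K s = ⊤) (h : ∀ x ∈ s, IsSepElem K x) : Algebra.FormallyUnramified K B := by
  rw [Algebra.formallyUnramified_iff]
  refine subsingleton_of_forall_eq 0 fun w => ?_
  have hD : KaehlerDifferential.D K B = 0 := by
    refine Derivation.ext_of_adjoin_eq_top s hs fun x hx => ?_
    obtain ⟨f, hf, hfx⟩ := h x hx
    obtain ⟨a, b, hab⟩ := hf
    have h1 := congrArg (aeval x) hab
    rw [map_add, map_mul, map_mul, hfx, mul_zero, zero_add, map_one] at h1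
    have h2 := Derivation.map_aeval (KaehlerDifferential.D K B) f x
    rw [hfx, map_zero] at h2
    calc (KaehlerDifferential.D K B) x = (aeval x b * aeval x (derivative f)) • (KaehlerDifferential.D K B) x := by
          rw [h1, one_smul]
      _ = 0 := by rw [mul_smul, ← h2, smul_zero]
  have hw : w ∈ (⊤ : Submodule B Ω[B⁄K]) := Submodule.mem_top
  rw [← KaehlerDifferential.span_range_derivation, hD] at hw
  have : (Set.range ⇑(0 : Derivation K B Ω[B⁄K])) ⊆ {0} := by rintro _ ⟨x, rfl⟩; simp
  simpa using Submodule.span_mono this hw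

/-- Sufficient condition for weak etaleness over a field. -/
theorem weaklyEtale_of_isSepElem {B : Type u} [CommRing B] [Algebra K B] (s : Set B)
    (hs : Algebra.adjoin K s = ⊤) (h : ∀ x ∈ s, IsSepElem K x) : Algebra.WeaklyEtale K B := by
  classical
  refine ⟨inferInstance, ?_⟩
  let μ := Algebra.TensorProduct.lmul' K (S := B)
  let I := RingHom.ker μ
  have hfin : ∀ F : Finset B, ↑F ⊆ s → ∃ y ∈ I, ∀ x ∈ Algebra.adjoin K (F : Set B),
      (y : B ⊗[K] B) * (1 ⊗ₜ x - x ⊗ₜ 1) = 1 ⊗ₜ x - x ⊗ₜ 1 := by
    intro F hF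
    let S := Algebra.adjoin K (F : Set B)
    have : Algebra.FiniteType K S := (Subalgebra.fg_iff_finiteType S).1 ⟨F, rfl⟩
    have : Algebra.FormallyUnramified K S := by
      refine formallyUnramified_of_isSepElem _ (Algebra.adjoin_adjoin_coe_preimage (R := K) (s := (F : Set B))) ?_
      intro x hx
      exact IsSepElem.of_map S.val Subtype.val_injective (h _ (hF hx))
    obtain ⟨t, ht, ht1⟩ := Algebra.FormallyUnramified.iff_exists_tensorProduct.1 this
    let j := Algebra.TensorProduct.map S.val S.val
    refine ⟨1 - j t, ?_, fun x hx => ?_⟩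
    · show μ (1 - j t) = 0
      have : ∀ z, μ (j z) = S.val (Algebra.TensorProduct.lmul' K z) := fun z => by
        induction z with
        | zero => simp
        | add a b ha hb => simp [ha, hb]
        | tmul a b => simp [μ, j]
      rw [map_sub, map_one, this t, ht1, map_one, sub_self]
    · have := congrArg j (ht ⟨x, hx⟩)
      simp only [map_mul, map_sub, map_zero, j, Algebra.TensorProduct.map_tmul, map_one] at this
      rw [sub_mul, one_mul, mul_comm, sub_eq_self]
      exact this
  have hmem : ∀ x : B, ∃ F : Finset B, ↑F ⊆ s ∧ x ∈ Algebra.adjoin K (F : Set B) := by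
    intro x
    have hx : x ∈ Algebra.adjoin K s := hs ▸ Algebra.mem_top
    induction hx using Algebra.adjoin_induction with
    | mem x hx => exact ⟨{x}, by simpa using hx, Algebra.subset_adjoin (by simp)⟩
    | algebraMap r => exact ⟨∅, by simp, Subalgebra.algebraMap_mem _ r⟩
    | add x y _ _ hx hy =>
      obtain ⟨F, hF, hx⟩ := hx
      obtain ⟨G, hG, hy⟩ := hy
      exact ⟨F ∪ G, by simp [hF, hG], add_mem (Algebra.adjoin_mono (by simp) hx) (Algebra.adjoin_mono (by simp) hy)⟩
    | mul x y _ _ hx hy =>
      obtain ⟨F, hF, hx⟩ := hx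
      obtain ⟨G, hG, hy⟩ := hy
      exact ⟨F ∪ G, by simp [hF, hG], mul_mem (Algebra.adjoin_mono (by simp) hx) (Algebra.adjoin_mono (by simp) hy)⟩
  have hfix : ∀ k ∈ I, ∃ y ∈ I, y * k = k := by
    intro k hk
    change k ∈ KaehlerDifferential.ideal K B at hk
    rw [← KaehlerDifferential.span_range_eq_ideal] at hk
    induction hk using Submodule.span_induction with
    | mem k hk =>
      obtain ⟨x, rfl⟩ := hk
      obtain ⟨F, hF, hx⟩ := hmem x
      obtain ⟨y, hy, hyx⟩ := hfin F hF
      exact ⟨y, hy, hyx x hx⟩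
    | zero => exact ⟨0, zero_mem _, mul_zero _⟩
    | add a b _ _ ha hb =>
      obtain ⟨y, hy, hya⟩ := ha
      obtain ⟨z, hz, hzb⟩ := hb
      exact ⟨y + z - y * z, I.sub_mem (I.add_mem hy hz) (I.mul_mem_left _ hz), by
        linear_combination (1 - z) * hya + (1 - y) * hzb⟩
    | smul c a _ ha =>
      obtain ⟨y, hy, hya⟩ := ha
      exact ⟨y, hy, by rw [smul_eq_mul, mul_left_comm, hya]⟩
  have : I.Pure := Ideal.Pure.of_inf_eq_mul I fun J _ => le_antisymm (fun k ⟨hkI, hkJ⟩ => by
    obtain ⟨y, hy, hyk⟩ := hfix k hkI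
    exact hyk ▸ Ideal.mul_mem_mul hy hkJ) Ideal.mul_le_inf
  let _ := μ.toRingHom.toAlgebra
  let e := Ideal.quotientKerAlgEquivOfSurjective (f := Algebra.ofId (B ⊗[K] B) B)
    (fun b => ⟨b ⊗ₜ 1, by simp [μ, RingHom.algebraMap_toAlgebra]⟩)
  have : Module.Flat (B ⊗[K] B) ((B ⊗[K] B) ⧸ RingHom.ker (Algebra.ofId (B ⊗[K] B) B)) :=
    ‹I.Pure›
  exact Module.Flat.of_linearEquiv e.symm.toLinearEquiv

/-- A weakly etale field extension is separable algebraic. -/
theorem isSeparable_of_weaklyEtale (L : Type u) [Field L] [Algebra K L] [Algebra.WeaklyEtale K L]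
    (y : L) : IsSeparable K y := by
  let E : IntermediateField K L := IntermediateField.adjoin K {y}
  have : Algebra.WeaklyEtale K E := weaklyEtale_of_faithfullyFlat K E L
  have : Algebra.FormallyUnramified K E := Groth.FlatMorOne.formallyUnramified_of_weaklyEtale
  have : Algebra.EssFiniteType K E :=
    IntermediateField.essFiniteType_iff.2 ⟨{y}, by simp only [E, Finset.coe_singleton]⟩
  have : Algebra.IsSeparable K E := Algebra.FormallyUnramified.isSeparable K E
  have hy : y ∈ E := IntermediateField.mem_adjoin_simple_self K y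
  have h : IsSeparable K (⟨y, hy⟩ : E) := Algebra.IsSeparable.isSeparable K _
  unfold IsSeparable at h ⊢
  rwa [← minpoly.algHom_eq E.val E.val.injective (⟨y, hy⟩ : E)] at h

/-- Elements of weakly etale algebras over a field are roots of separable polynomials. -/
theorem isSepElem_of_weaklyEtale {B : Type u} [CommRing B] [Algebra K B] [Algebra.WeaklyEtale K B]
    (x : B) : IsSepElem K x := by
  have hK : ∀ a : K, ∃ b, a = a * b * a := fun a => ⟨a⁻¹, by
    rcases eq_or_ne a 0 with h | h <;> simp [h]⟩
  have hB := regular_of_weaklyEtale hK B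
  have hBred := isReduced_of_regular hB
  -- in the residue fields
  have hfield : ∀ (q : Ideal B) [q.IsPrime], IsSeparable K (algebraMap B q.ResidueField x) := by
    intro q _
    have := isMaximal_of_regular hB q
    let L := q.ResidueField
    have hwe : Algebra.WeaklyEtale B L := by
      refine ⟨flat_of_regular hB L, RingHom.Flat.of_bijective ⟨?_, fun l => ⟨l ⊗ₜ 1, by simp⟩⟩⟩
      have hs : ∀ t : L ⊗[B] L, ∃ l, t = l ⊗ₜ 1 := by
        intro t
        induction t with
        | zero => exact ⟨0, by simp⟩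
        | add a b ha hb =>
          obtain ⟨a, rfl⟩ := ha
          obtain ⟨b, rfl⟩ := hb
          exact ⟨a + b, by rw [add_tmul]⟩
        | tmul a b =>
          obtain ⟨b, rfl⟩ := Ideal.algebraMap_residueField_surjective q b
          exact ⟨b • a, by rw [smul_tmul, Algebra.smul_def, mul_one]⟩
      intro a b hab
      obtain ⟨a, rfl⟩ := hs a
      obtain ⟨b, rfl⟩ := hs b
      simp at hab
      rw [hab]
    have : Algebra.WeaklyEtale K L := Algebra.WeaklyEtale.trans K B L
    exact isSeparable_of_weaklyEtale L _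
  have halg : IsIntegral K x := by
    by_contra htr
    have hinj : Function.Injective (aeval x : K[X] →ₐ[K] B) := by
      rw [injective_iff_map_eq_zero]
      intro f hf
      by_contra hf0
      exact htr (isAlgebraic_iff_isIntegral.1 ⟨f, hf0, hf⟩)
    obtain ⟨q, hq, -, hqc⟩ := Ideal.exists_comap_eq_of_mem_minimalPrimes
      (aeval x : K[X] →ₐ[K] B).toRingHom (I := ⊥) ⊥ (by
        rw [Ideal.comap_bot_of_injective (aeval x : K[X] →ₐ[K] B).toRingHom hinj, Ideal.minimalPrimes_eq_subsingleton_self]
        rfl)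
    obtain ⟨g, hg0, hg⟩ := (hfield q).isIntegral.isAlgebraic
    rw [aeval_algebraMap_apply, Ideal.algebraMap_residueField_eq_zero] at hg
    have : g ∈ q.comap (aeval x : K[X] →ₐ[K] B).toRingHom := hg
    rw [hqc] at this
    exact hg0 this
  refine ⟨minpoly K x, ?_, minpoly.aeval K x⟩
  -- the minimal polynomial is squarefree with separable factors
  classical
  by_contra hns
  obtain ⟨g, hg, hgf, hgf'⟩ : ∃ g, Irreducible g ∧ g ∣ minpoly K x ∧ g ∣ derivative (minpoly K x) := by
    rw [Polynomial.separable_def, ← EuclideanDomain.gcd_isUnit_iff] at hns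
    obtain ⟨g, hg, hgd⟩ := WfDvdMonoid.exists_irreducible_factor hns (fun h => minpoly.ne_zero halg
      (EuclideanDomain.gcd_eq_zero_iff.1 h).1)
    exact ⟨g, hg, hgd.trans (EuclideanDomain.gcd_dvd_left _ _), hgd.trans (EuclideanDomain.gcd_dvd_right _ _)⟩
  obtain ⟨h, hfgh⟩ := hgf
  have h0 : minpoly K x ≠ 0 := minpoly.ne_zero halg
  have hh0 : h ≠ 0 := fun e => h0 (by rw [hfgh, e, mul_zero])
  -- a prime containing the image of `g`
  have hgx : ¬ IsUnit (aeval x g) := by
    intro hu
    have : aeval x h = 0 := hu.mul_right_eq_zero.1 (by rw [← map_mul, ← hfgh, minpoly.aeval])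
    have hle := natDegree_le_of_dvd (minpoly.dvd K x this) hh0
    rw [hfgh, natDegree_mul hg.ne_zero hh0] at hle
    have := hg.natDegree_pos
    omega
  obtain ⟨q, hqmax, hqg⟩ := exists_max_ideal_of_mem_nonunits hgx
  have hroot : aeval (algebraMap B q.ResidueField x) g = 0 := by
    rw [aeval_algebraMap_apply, Ideal.algebraMap_residueField_eq_zero]
    exact hqg
  have hgsep : g.Separable :=
    Polynomial.Separable.of_dvd (hfield q) ((minpoly.irreducible (hfield q).isIntegral).dvd_symm hg
      (minpoly.dvd K _ hroot))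
  have hgh : g ∣ h := by
    rw [hfgh, derivative_mul] at hgf'
    have h1 : g ∣ derivative g * h := by
      simpa using dvd_sub hgf' (dvd_mul_right g (derivative h))
    exact IsCoprime.dvd_of_dvd_mul_left hgsep h1
  obtain ⟨c, rfl⟩ := hgh
  have hz : aeval x (g * c) = 0 := by
    refine IsNilpotent.eq_zero ⟨2, ?_⟩
    rw [← map_pow, show (g * c) ^ 2 = g * (g * c) * c by ring, ← hfgh, map_mul, minpoly.aeval, zero_mul]
  have hle := natDegree_le_of_dvd (minpoly.dvd K x hz) hh0
  rw [hfgh, natDegree_mul hg.ne_zero hh0] at hle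
  have := hg.natDegree_pos
  omega

theorem weaklyEtale_subalgebra {B : Type u} [CommRing B] [Algebra K B] [Algebra.WeaklyEtale K B]
    (S : Subalgebra K B) : Algebra.WeaklyEtale K S :=
  weaklyEtale_of_isSepElem Set.univ (by simp) fun x _ =>
    IsSepElem.of_map S.val Subtype.val_injective (isSepElem_of_weaklyEtale _)

theorem weaklyEtale_of_surjective {B C : Type u} [CommRing B] [Algebra K B] [CommRing C] [Algebra K C]
    [Algebra.WeaklyEtale K B] (φ : B →ₐ[K] C) (hφ : Function.Surjective φ) : Algebra.WeaklyEtale K C :=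
  weaklyEtale_of_isSepElem Set.univ (by simp) fun y _ => by
    obtain ⟨x, rfl⟩ := hφ y
    exact (isSepElem_of_weaklyEtale x).map φ

end

end Groth.EtaleAlgebra
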