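import Groth.Prelude.Def_DRing2
import Groth.Agent.Calg6.TorBridge
import Groth.Agent.EtaleAlgebra.WeaklyEtale
import Mathlib.RingTheory.Flat.Stability
import Mathlib.Algebra.Category.ModuleCat.Abelian

/-!
# Weak dimension ascends along weakly etale maps
-/

namespace Groth.EtaleAlgebra

open CategoryTheory CategoryTheory.Limits

universe u

variable {R : Type u} [CommRing R]

theorem flat_of_hasTorDimLE_zero (N : Type u) [AddCommGroup N] [Module R N]
    (h : DRing.HasTorDimLE R 0 N) : Module.Flat R N := by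
  rw [Module.Flat.iff_lTensor_injective']
  intro I
  have h1 := (Groth.Calg6.isZero_tor_one_iff N (R ⧸ I)).1
    (ModuleCat.isZero_iff_subsingleton.2 (h (R ⧸ I) 1 Nat.one_pos))
  rw [Groth.Calg6.torZero_iff_of_presentation N (R ⧸ I) I.mkQ I.mkQ_surjective,
    Submodule.ker_mkQ] at h1
  exact h1

theorem hasTorDimLE_of_flat (d : ℕ) (N : Type u) [AddCommGroup N] [Module R N] [Module.Flat R N] :
    DRing.HasTorDimLE R d N := fun M _ _ p hp =>
  ModuleCat.isZero_iff_subsingleton.1
    (Groth.SGA7.TorSeq.isZero_tor_of_flat (ModuleCat.of R N) (ModuleCat.of R M) p (by omega))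

theorem isZero_tor_X₃ {S : ShortComplex (ModuleCat.{u} R)} (hS : S.ShortExact) (Y : ModuleCat.{u} R)
    (i : ℕ) (h₂ : IsZero (((Tor (ModuleCat.{u} R) (i + 1)).obj S.X₂).obj Y))
    (h₁ : IsZero (((Tor (ModuleCat.{u} R) i).obj S.X₁).obj Y)) :
    IsZero (((Tor (ModuleCat.{u} R) (i + 1)).obj S.X₃).obj Y) := by
  obtain ⟨P⟩ := (inferInstance : HasProjectiveResolution Y).out
  rw [Groth.SGA7.TorSeq.isZero_tor_iff _ Y P] at h₁ h₂ ⊢
  exact ((Groth.SGA7.TorSeq.shortExact_tsc hS P).homology_exact₃ (i + 1) i rfl).isZero_of_both_zeros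
    (h₂.eq_of_src _ _) (h₁.eq_of_tgt _ _)

section

variable {K F N : Type u} [AddCommGroup K] [Module R K] [AddCommGroup F] [Module R F]
  [AddCommGroup N] [Module R N] (f : K →ₗ[R] F) (g : F →ₗ[R] N) (hf : Function.Injective f)
  (he : Function.Exact f g) (hg : Function.Surjective g)

include hf he hg

theorem shortExact_mk : (ShortComplex.mk (ModuleCat.ofHom f) (ModuleCat.ofHom g)
    (ModuleCat.hom_ext (LinearMap.ext he.apply_apply_eq_zero))).ShortExact where
  exact := (ShortComplex.ShortExact.moduleCat_exact_iff_function_exact _).2 he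
  mono_f := (ModuleCat.mono_iff_injective _).2 hf
  epi_g := (ModuleCat.epi_iff_surjective _).2 hg

theorem hasTorDimLE_kernel [Module.Flat R F] {d : ℕ} (h : DRing.HasTorDimLE R (d + 1) N) :
    DRing.HasTorDimLE R d K := fun M _ _ p hp =>
  ModuleCat.isZero_iff_subsingleton.1 (Groth.SGA7.TorSeq.isZero_tor_X₁ (shortExact_mk f g hf he hg)
    (ModuleCat.of R M) p (ModuleCat.isZero_iff_subsingleton.2 (h M (p + 1) (by omega)))
    (ModuleCat.isZero_iff_subsingleton.2 (hasTorDimLE_of_flat d F M p hp)))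

theorem hasTorDimLE_cokernel [Module.Flat R F] {d : ℕ} (h : DRing.HasTorDimLE R d K) :
    DRing.HasTorDimLE R (d + 1) N := fun M _ _ p hp => by
  obtain ⟨q, rfl⟩ : ∃ q, p = q + 1 := ⟨p - 1, by omega⟩
  exact ModuleCat.isZero_iff_subsingleton.1 (isZero_tor_X₃ (shortExact_mk f g hf he hg)
    (ModuleCat.of R M) q (ModuleCat.isZero_iff_subsingleton.2 (hasTorDimLE_of_flat (d + 1) F M _ hp))
    (ModuleCat.isZero_iff_subsingleton.2 (h M q (by omega))))

end

theorem hasTorDimLE_of_weaklyEtale (A B : Type u) [CommRing A] [CommRing B] [Algebra A B]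
    [Algebra.WeaklyEtale A B] (d : ℕ) :
    ∀ (N : Type u) [AddCommGroup N] [Module A N] [Module B N] [IsScalarTower A B N],
      DRing.HasTorDimLE A d N → DRing.HasTorDimLE B d N := by
  induction d with
  | zero =>
    intro N _ _ _ _ h
    have : Module.Flat A N := flat_of_hasTorDimLE_zero N h
    have : Module.Flat B N := flat_of_flat_mul A B (Algebra.WeaklyEtale.flat_lmul' A B) N
    exact hasTorDimLE_of_flat 0 N
  | succ d ih =>
    intro N _ _ _ _ h
    let g : (N →₀ B) →ₗ[B] N := Finsupp.linearCombination B id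
    have hg : Function.Surjective g := fun n => ⟨Finsupp.single n 1, by simp [g]⟩
    have : Module.Flat A (N →₀ B) := Module.Flat.trans A B (N →₀ B)
    have hK : DRing.HasTorDimLE A d (LinearMap.ker g) :=
      hasTorDimLE_kernel ((LinearMap.ker g).subtype.restrictScalars A) (g.restrictScalars A)
        Subtype.val_injective (LinearMap.exact_subtype_ker_map g) hg h
    exact hasTorDimLE_cokernel (LinearMap.ker g).subtype g Subtype.val_injective
      (LinearMap.exact_subtype_ker_map g) hg (ih _ hK)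

end Groth.EtaleAlgebra
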