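import Groth.Agent.HensPair.Universal
import Groth.Prelude.Def_Hens2
import Mathlib.RingTheory.Henselian

/-! Henselization of the pair `(A, m)` versus henselization of the local ring `A`. -/

universe u

namespace Groth.EtaleAlgebra

open IsLocalRing

variable {A : Type u} [CommRing A] [IsLocalRing A]

theorem henselianLocalRing_of_pair {B : Type u} [CommRing B] [IsLocalRing B]
    (h : HenselianRing B (maximalIdeal B)) : HenselianLocalRing B where
  is_henselian f hf a₀ h₁ h₂ := h.is_henselian f hf a₀ h₁ (h₂.map _)

theorem map_maximalIdeal_isMaximal {B : Type u} [CommRing B] [Algebra A B]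
    (hB : Hens2.IsPairHenselization A (maximalIdeal A) B) :
    ((maximalIdeal A).map (algebraMap A B)).IsMaximal := by
  have e := RingEquiv.ofBijective _ (Groth.HensPair.quotientMap_bijective_of_isPairHenselization hB)
  exact Ideal.Quotient.maximal_of_isField _
    (MulEquiv.isField ((Ideal.Quotient.maximal_ideal_iff_isField_quotient _).1 inferInstance)
      e.symm.toMulEquiv)

theorem map_maximalIdeal_eq {B : Type u} [CommRing B] [IsLocalRing B] [Algebra A B]
    (hB : Hens2.IsPairHenselization A (maximalIdeal A) B) :
    (maximalIdeal A).map (algebraMap A B) = maximalIdeal B :=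
  IsLocalRing.eq_maximalIdeal (map_maximalIdeal_isMaximal hB)

theorem isLocalRing_of_isPairHenselization {B : Type u} [CommRing B] [Algebra A B]
    (hB : Hens2.IsPairHenselization A (maximalIdeal A) B) : IsLocalRing B := by
  have hM := map_maximalIdeal_isMaximal hB
  refine .of_unique_max_ideal ⟨_, hM, fun N hN => ?_⟩
  refine (hM.eq_of_le hN.ne_top (hB.1.jac.trans ?_)).symm
  exact sInf_le ⟨bot_le, hN⟩

theorem isHenselization_of_isPairHenselization {B : Type u} [CommRing B] [IsLocalRing B]
    [Algebra A B] [IsLocalHom (algebraMap A B)]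
    (hB : Hens2.IsPairHenselization A (maximalIdeal A) B) : Hensel.IsHenselization A B where
  henselian := henselianLocalRing_of_pair (by rw [← map_maximalIdeal_eq hB]; exact hB.1)
  universal T _ _ f hf := hB.2 T (maximalIdeal T) f inferInstance
    (((IsLocalRing.local_hom_TFAE f).out 0 2).1 hf)

theorem isPairHenselization_of_isHenselization {B : Type u} [CommRing B] [IsLocalRing B]
    [Algebra A B] [IsLocalHom (algebraMap A B)] (hB : Hensel.IsHenselization A B) :
    Hens2.IsPairHenselization A (maximalIdeal A) B := by
  obtain ⟨P, _, _, hP⟩ : ∃ (P : Type u) (_ : CommRing P) (_ : Algebra A P),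
      Hens2.IsPairHenselization A (maximalIdeal A) P :=
    ⟨_, _, _, Groth.HensPair.isPairHenselization (maximalIdeal A)⟩
  have := isLocalRing_of_isPairHenselization hP
  have hPl : IsLocalHom (algebraMap A P) :=
    ((IsLocalRing.local_hom_TFAE (algebraMap A P)).out 0 2).2 (map_maximalIdeal_eq hP).le
  have := hB.henselian
  have hPh := isHenselization_of_isPairHenselization hP
  have := hPh.henselian
  obtain ⟨g, hg, -⟩ := hB.universal P (algebraMap A P) hPl
  obtain ⟨h, hh, -⟩ := hPh.universal B (algebraMap A B) inferInstance
  have h1 : h.comp g = RingHom.id B :=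
    (hB.universal B (algebraMap A B) inferInstance).unique
      (show (h.comp g).comp (algebraMap A B) = _ by rw [RingHom.comp_assoc, hg, hh])
      (RingHom.id_comp _)
  have h2 : g.comp h = RingHom.id P :=
    (hPh.universal P (algebraMap A P) hPl).unique
      (show (g.comp h).comp (algebraMap A P) = _ by rw [RingHom.comp_assoc, hh, hg])
      (RingHom.id_comp _)
  let e : P ≃ₐ[A] B := AlgEquiv.ofRingEquiv (f := RingEquiv.ofRingHom h g h1 h2)
    (fun a => RingHom.congr_fun hh a)
  exact Groth.HensPair.isPairHenselization_of_algEquiv e hP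

end Groth.EtaleAlgebra
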