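import Groth.Agent.S7150
import Mathlib.Algebra.CharP.Lemmas
import Mathlib.RingTheory.DiscreteValuationRing.Basic
import Mathlib.Data.Nat.Factorization.Basic

/-!
# Normal forms modulo `g ^ p - g` and integral elements

Equivalence of Artin–Schreier parameters, and Teichmüller-free expansions along a section of the
residue map of `B / π ^ M`.
-/

set_option autoImplicit false
universe u

namespace Groth.EtaleAlgebra.ASNormal

open IsLocalRing

variable {L : Type u} [Field L] {p : ℕ} [Fact p.Prime] [CharP L p] {R : Subring L}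

/-- `x` and `y` differ by some `g ^ p - g + b` with `b ∈ R`. -/
def Rel (p : ℕ) (R : Subring L) (x y : L) : Prop := ∃ g, ∃ b ∈ R, x - y = g ^ p - g + b

theorem rel_of_mem {x y : L} (h : x - y ∈ R) : Rel p R x y :=
  ⟨0, _, h, by rw [zero_pow (Fact.out : p.Prime).ne_zero, sub_zero, zero_add]⟩

theorem rel_refl (x : L) : Rel p R x x := rel_of_mem (by rw [sub_self]; exact zero_mem R)

theorem rel_frob (t : L) : Rel p R (t ^ p) t := ⟨t, 0, zero_mem R, (add_zero _).symm⟩

theorem Rel.trans {x y z : L} (h : Rel p R x y) (h' : Rel p R y z) : Rel p R x z := by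
  obtain ⟨g, b, hb, e⟩ := h
  obtain ⟨g', b', hb', e'⟩ := h'
  exact ⟨g + g', b + b', add_mem hb hb', by rw [add_pow_char]; linear_combination e + e'⟩

theorem Rel.symm {x y : L} (h : Rel p R x y) : Rel p R y x := by
  obtain ⟨g, b, hb, e⟩ := h
  refine ⟨-g, -b, neg_mem hb, ?_⟩
  rw [show (-g) ^ p = -g ^ p by rw [← zero_sub, sub_pow_char, zero_pow (Fact.out : p.Prime).ne_zero,
    zero_sub]]
  linear_combination -e

theorem Rel.add {x y x' y' : L} (h : Rel p R x y) (h' : Rel p R x' y') :
    Rel p R (x + x') (y + y') := by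
  obtain ⟨g, b, hb, e⟩ := h
  obtain ⟨g', b', hb', e'⟩ := h'
  exact ⟨g + g', b + b', add_mem hb hb', by rw [add_pow_char]; linear_combination e + e'⟩

theorem Rel.sum {ι : Type*} {s : Finset ι} {f f' : ι → L} (h : ∀ i ∈ s, Rel p R (f i) (f' i)) :
    Rel p R (∑ i ∈ s, f i) (∑ i ∈ s, f' i) := by
  classical
  induction s using Finset.induction_on with
  | empty => simpa using rel_refl (0 : L)
  | insert a s ha ih =>
    rw [Finset.sum_insert ha, Finset.sum_insert ha]
    exact (h a (Finset.mem_insert_self a s)).add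
      (ih fun i hi => h i (Finset.mem_insert_of_mem hi))

theorem rel_pow (t : L) : ∀ j : ℕ, Rel p R (t ^ p ^ j) t
  | 0 => by rw [pow_zero, pow_one]; exact rel_refl t
  | j + 1 => by
    rw [pow_succ, pow_mul]
    exact (rel_frob _).trans (rel_pow t j)

theorem Rel.map {L' : Type u} [Field L'] [CharP L' p] {R' : Subring L'} (φ : L →+* L')
    (hφ : ∀ b ∈ R, φ b ∈ R') {x y : L} (h : Rel p R x y) : Rel p R' (φ x) (φ y) := by
  obtain ⟨g, b, hb, e⟩ := h
  exact ⟨φ g, φ b, hφ b hb, by rw [← map_sub, e, map_add, map_sub, map_pow]⟩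

section section_mod

variable {B : Type u} [CommRing B] [IsDomain B] [IsDiscreteValuationRing B]

/-- A multiplicative and additive lift of the residue field modulo `π ^ M`. -/
theorem exists_section (p : ℕ) [Fact p.Prime] [CharP B p] {π : B} (hπ : Irreducible π) {M : ℕ} (hM : 0 < M) :
    ∃ s : ResidueField B → B, (∀ c, residue B (s c) = c) ∧
      (∀ c d, π ^ M ∣ s (c + d) - (s c + s d)) ∧
      (∀ c (k : ℕ), π ^ M ∣ s (c ^ k) - s c ^ k) ∧ π ^ M ∣ s 0 := by
  have hp : p.Prime := Fact.out
  let I : Ideal B := Ideal.span {π ^ M}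
  have hI : I ≤ maximalIdeal B := by
    rw [hπ.maximalIdeal_eq, Ideal.span_singleton_le_span_singleton]
    exact dvd_pow_self π hM.ne'
  have : Nontrivial (B ⧸ I) :=
    Ideal.Quotient.nontrivial_iff.2 fun h => (maximalIdeal.isMaximal B).ne_top
      (top_le_iff.1 (h ▸ hI))
  have : IsLocalRing (B ⧸ I) :=
    IsLocalRing.of_surjective' (Ideal.Quotient.mk I) Ideal.Quotient.mk_surjective
  have : IsLocalHom (Ideal.Quotient.mk I) :=
    Function.Surjective.isLocalHom (Ideal.Quotient.mk I) Ideal.Quotient.mk_surjective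
  have : CharP (B ⧸ I) p := (CharP.charP_iff_prime_eq_zero hp).2 (by
    rw [← map_natCast (Ideal.Quotient.mk I), CharP.cast_eq_zero, map_zero])
  obtain ⟨⟨σ, hσ⟩, -⟩ := Groth.Agent.S7150.result p hp (B ⧸ I) ⟨M, by
    rw [← IsLocalRing.map_maximalIdeal_of_surjective (Ideal.Quotient.mk I)
      Ideal.Quotient.mk_surjective, ← Ideal.map_pow, Ideal.map_eq_bot_iff_le_ker,
      Ideal.mk_ker, hπ.maximalIdeal_eq, Ideal.span_singleton_pow]⟩
  let j := ResidueField.map (Ideal.Quotient.mk I)
  choose s hs using fun c => Ideal.Quotient.mk_surjective (σ (j c))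
  have hmk : ∀ {x y : B}, Ideal.Quotient.mk I x = Ideal.Quotient.mk I y → π ^ M ∣ x - y :=
    fun h => Ideal.mem_span_singleton.1 (Ideal.Quotient.eq.1 h)
  refine ⟨s, fun c => j.injective ?_, fun c d => hmk ?_, fun c k => hmk ?_, ?_⟩
  · rw [ResidueField.map_residue, hs]
    exact RingHom.congr_fun hσ (j c)
  · rw [map_add, hs, hs, hs, map_add, map_add]
  · rw [map_pow, hs, hs, map_pow, map_pow]
  · have h := hmk (x := s 0) (y := 0) (by rw [hs, map_zero, map_zero, map_zero])
    rwa [sub_zero] at h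

end section_mod

end Groth.EtaleAlgebra.ASNormal
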