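import Groth.Agent.EtaleAlgebra.EtRamBasic
import Mathlib.RingTheory.AdjoinRoot
import Mathlib.RingTheory.Polynomial.Eisenstein.Basic
import Mathlib.RingTheory.Polynomial.UniqueFactorization
import Mathlib.RingTheory.DiscreteValuationRing.TFAE

/-!
# Adjoining a root of a uniformizer to a DVR
-/

namespace Groth.EtaleAlgebra

open IsLocalRing Polynomial EtRam

universe u

variable {A : Type u} [CommRing A] [IsDomain A] [IsDiscreteValuationRing A] {π : A}
  (hπ : Irreducible π) {n : ℕ} (hn : 2 ≤ n)

include hπ hn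

theorem irreducible_X_pow_sub_C_uniformizer : Irreducible (X ^ n - C π : A[X]) := by
  have hmon : (X ^ n - C π : A[X]).Monic := monic_X_pow_sub_C π (by omega)
  refine IsEisensteinAt.irreducible (𝓟 := maximalIdeal A) ⟨?_, fun {i} hi => ?_, ?_⟩
    (maximalIdeal.isMaximal A).isPrime hmon.isPrimitive (by rw [natDegree_X_pow_sub_C]; omega)
  · rw [hmon.leadingCoeff]
    exact (maximalIdeal.isMaximal A).isPrime.one_notMem
  · rw [natDegree_X_pow_sub_C] at hi
    rw [coeff_sub, coeff_X_pow, if_neg (by omega), coeff_C]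
    split_ifs
    · rw [zero_sub, neg_mem_iff, hπ.maximalIdeal_eq]; exact Ideal.mem_span_singleton_self π
    · simp
  · rw [coeff_sub, coeff_X_pow, if_neg (by omega), coeff_C_zero, zero_sub, neg_mem_iff,
      hπ.maximalIdeal_eq, Ideal.span_singleton_pow, Ideal.mem_span_singleton]
    rintro ⟨c, hc⟩
    refine hπ.not_isUnit (IsUnit.of_mul_eq_one (a := π) (b := c) ?_)
    refine mul_left_cancel₀ hπ.ne_zero ?_
    rw [mul_one, ← mul_assoc, ← sq]
    exact hc.symm

/-- `A[x]/(x^n - π)` is a DVR with uniformizer the root, totally ramified. -/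
theorem adjoinRoot_uniformizer :
    ∃ (_ : IsDomain (AdjoinRoot (X ^ n - C π : A[X])))
      (_ : IsDiscreteValuationRing (AdjoinRoot (X ^ n - C π : A[X]))),
      maximalIdeal (AdjoinRoot (X ^ n - C π : A[X])) =
          Ideal.span {AdjoinRoot.root (X ^ n - C π : A[X])} ∧
      AdjoinRoot.root (X ^ n - C π : A[X]) ^ n = algebraMap A _ π ∧
      (∀ b : AdjoinRoot (X ^ n - C π : A[X]),
        ∃ a : A, b - algebraMap A _ a ∈ maximalIdeal (AdjoinRoot (X ^ n - C π : A[X]))) := by
  have hirr := irreducible_X_pow_sub_C_uniformizer hπ hn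
  have hmon : (X ^ n - C π : A[X]).Monic := monic_X_pow_sub_C π (by omega)
  have hfin := hmon.finite_adjoinRoot
  have hpow : AdjoinRoot.root (X ^ n - C π : A[X]) ^ n = algebraMap A _ π := by
    have h := AdjoinRoot.eval₂_root (X ^ n - C π : A[X])
    rwa [eval₂_sub, eval₂_X_pow, eval₂_C, sub_eq_zero] at h
  revert hirr hfin hpow
  generalize hf : (X ^ n - C π : A[X]) = f at hmon
  intro hirr hfin hpow
  set R := AdjoinRoot f
  set x := AdjoinRoot.root f
  have hdom : IsDomain R := AdjoinRoot.isDomain_of_prime hirr.prime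
  have hinj : Function.Injective (algebraMap A R) :=
    AdjoinRoot.of.injective_of_degree_ne_zero (by
      rw [← hf, degree_X_pow_sub_C (by omega)]
      exact Nat.cast_ne_zero.2 (by omega))
  have hint : Algebra.IsIntegral A R := Algebra.IsIntegral.of_finite A R
  have hres : ∀ b : R, ∃ a : A, b - algebraMap A R a ∈ Ideal.span {x} := by
    intro b
    obtain ⟨p, rfl⟩ := AdjoinRoot.mk_surjective b
    refine ⟨p.coeff 0, Ideal.mem_span_singleton.2 ⟨AdjoinRoot.mk f p.divX, ?_⟩⟩
    conv_lhs => arg 1; rw [← X_mul_divX_add p, map_add, map_mul, AdjoinRoot.mk_X, AdjoinRoot.mk_C]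
    rw [AdjoinRoot.algebraMap_eq, add_sub_cancel_right]
  have hmem : ∀ M : Ideal R, M.IsMaximal → x ∈ M := by
    intro M hM
    have := IsLocalRing.eq_maximalIdeal
      (Ideal.isMaximal_comap_of_isIntegral_of_isMaximal (R := A) M)
    refine hM.isPrime.mem_of_pow_mem n ?_
    rw [hpow, ← Ideal.mem_comap, this, hπ.maximalIdeal_eq]
    exact Ideal.mem_span_singleton_self π
  have hne : Ideal.span {x} ≠ ⊤ := by
    obtain ⟨M, hM⟩ := Ideal.exists_maximal R
    exact ne_top_of_le_ne_top hM.ne_top ((Ideal.span_singleton_le_iff_mem _).2 (hmem M hM))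
  have hmax : (Ideal.span {x}).IsMaximal := by
    rw [Ideal.Quotient.maximal_ideal_iff_isField_quotient]
    let φ := (Ideal.Quotient.mk (Ideal.span {x})).comp (algebraMap A R)
    have hφ : Function.Surjective φ := fun z => by
      obtain ⟨b, rfl⟩ := Ideal.Quotient.mk_surjective z
      obtain ⟨a, ha⟩ := hres b
      exact ⟨a, (Ideal.Quotient.eq.2 ha).symm⟩
    have := Ideal.Quotient.nontrivial_iff.2 hne
    have hk : RingHom.ker φ = maximalIdeal A := by
      refine ((maximalIdeal.isMaximal A).eq_of_le (RingHom.ker_ne_top φ) ?_).symm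
      rw [hπ.maximalIdeal_eq, Ideal.span_singleton_le_iff_mem, RingHom.mem_ker,
        RingHom.comp_apply, ← hpow, Ideal.Quotient.eq_zero_iff_mem]
      exact Ideal.pow_mem_of_mem _ (Ideal.mem_span_singleton_self x) n (by omega)
    exact MulEquiv.isField
      ((Ideal.Quotient.maximal_ideal_iff_isField_quotient (RingHom.ker φ)).1
        (by rw [hk]; exact maximalIdeal.isMaximal A))
      (RingHom.quotientKerEquivOfSurjective hφ).symm.toMulEquiv
  have hloc : IsLocalRing R := IsLocalRing.of_unique_max_ideal ⟨_, hmax, fun M hM =>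
    (hmax.eq_of_le hM.ne_top ((Ideal.span_singleton_le_iff_mem _).2 (hmem M hM))).symm⟩
  have hmx : maximalIdeal R = Ideal.span {x} := (IsLocalRing.eq_maximalIdeal hmax).symm
  have hx0 : x ≠ 0 := fun h0 => by
    rw [h0, zero_pow (by omega)] at hpow
    exact hπ.ne_zero (hinj (by rw [← hpow, map_zero]))
  have : IsNoetherianRing R := Algebra.FiniteType.isNoetherianRing A R
  have hnf : ¬ IsField R := fun hf' => by
    rw [isField_iff_maximalIdeal_eq, hmx, Ideal.span_singleton_eq_bot] at hf'
    exact hx0 hf'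
  exact ⟨hdom, ((IsDiscreteValuationRing.TFAE R hnf).out 4 0 rfl rfl).1 ⟨⟨x, hmx⟩⟩, hmx, hpow,
    fun b => (hres b).imp fun a ha => hmx.symm.le ha⟩

omit hn in
theorem map_maximalIdeal_adjoinRoot_uniformizer [IsLocalRing (AdjoinRoot (X ^ n - C π : A[X]))]
    (hm : maximalIdeal (AdjoinRoot (X ^ n - C π : A[X])) =
      Ideal.span {AdjoinRoot.root (X ^ n - C π : A[X])})
    (hp : AdjoinRoot.root (X ^ n - C π : A[X]) ^ n = algebraMap A _ π) :
    (maximalIdeal A).map (algebraMap A (AdjoinRoot (X ^ n - C π : A[X]))) =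
      maximalIdeal (AdjoinRoot (X ^ n - C π : A[X])) ^ n := by
  rw [hm, Ideal.span_singleton_pow, hp, hπ.maximalIdeal_eq, Ideal.map_span, Set.image_singleton]

omit hπ hn in
/-- A finite extension DVR with trivial residue extension gives a totally ramified field. -/
theorem isTotallyRamified_of_dvr {R : Type u} [CommRing R] [IsDomain R]
    [IsDiscreteValuationRing R] [Algebra A R] [Algebra.IsIntegral A R]
    (hres : ∀ b : R, ∃ a : A, b - algebraMap A R a ∈ maximalIdeal R)
    (K₁ : Type u) [Field K₁] [Algebra R K₁] [IsFractionRing R K₁] :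
    EtRam.IsTotallyRamified A ((algebraMap R K₁).comp (algebraMap A R)) := by
  have hdom : ∀ V : ValuationSubring K₁,
      Dominates A ((algebraMap R K₁).comp (algebraMap A R)) V →
        Dominates R (algebraMap R K₁) V := by
    intro V hV
    let ι : A →+* V := RingHom.codRestrict _ V hV.1
    have hmem : ∀ b : R, algebraMap R K₁ b ∈ V := fun b => by
      obtain ⟨p, hp, hpb⟩ := Algebra.IsIntegral.isIntegral (R := A) b
      have hint : IsIntegral V (algebraMap R K₁ b) := ⟨p.map ι, hp.map ι, by
        rw [Polynomial.eval₂_map,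
          show (algebraMap V K₁).comp ι = (algebraMap R K₁).comp (algebraMap A R) from rfl,
          ← Polynomial.hom_eval₂, hpb, map_zero]⟩
      obtain ⟨v, hv⟩ := IsIntegrallyClosed.isIntegral_iff.1 hint
      rw [← hv]
      exact v.2
    refine ⟨hmem, fun b hb => ?_⟩
    let j : R →+* V := RingHom.codRestrict _ V hmem
    have hmax : ((maximalIdeal V).comap j).IsMaximal := by
      refine Ideal.isMaximal_of_isIntegral_of_isMaximal_comap (R := A) _ ?_
      have hl : IsLocalHom ι := isLocalHom_codRestrict hV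
      convert maximalIdeal.isMaximal A using 1
      ext a
      exact (map_mem_nonunits_iff ι a)
    exact (V.valuation_lt_one_iff (j b)).1
      (show b ∈ (maximalIdeal V).comap j by rwa [IsLocalRing.eq_maximalIdeal hmax])
  refine ⟨?_, fun V V' hV hV' => ?_, fun V hV z => ?_⟩
  · obtain ⟨W, hW, hl⟩ := IsLocalRing.exists_factor_valuationRing (algebraMap R K₁)
    refine ⟨W, fun a => hW _, fun a ha => ?_⟩
    have hu : ¬ IsUnit (algebraMap A R a) := by
      rw [← mem_nonunits_iff, ← mem_maximalIdeal, ← Ideal.mem_comap,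
        IsLocalRing.eq_maximalIdeal (Ideal.isMaximal_comap_of_isIntegral_of_isMaximal (R := A)
          (maximalIdeal R))]
      exact ha
    exact (W.valuation_lt_one_iff (RingHom.codRestrict _ W hW _)).1
      ((mem_maximalIdeal _).2 fun h' =>
        hu (IsUnit.of_map ((algebraMap R K₁).codRestrict W.toSubring hW) _ h'))
  · have key : ∀ V : ValuationSubring K₁,
        Dominates A ((algebraMap R K₁).comp (algebraMap A R)) V →
          ∀ x, x ∈ V ↔ ∃ b, algebraMap R K₁ b = x := fun V hV x =>
      ⟨fun hx => exists_eq_of_mem_of_dominates (RingHom.id K₁)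
        (by rw [RingHom.id_comp]; exact hdom V hV) hx,
        fun ⟨b, hb⟩ => hb ▸ (hdom V hV).1 b⟩
    exact SetLike.ext fun x => (key V hV x).trans (key V' hV' x).symm
  · obtain ⟨v, rfl⟩ := residue_surjective z
    obtain ⟨b, hb⟩ := exists_eq_of_mem_of_dominates (RingHom.id K₁)
      (by rw [RingHom.id_comp]; exact hdom V hV) v.2
    obtain ⟨a, ha⟩ := hres b
    refine ⟨a, ?_⟩
    rw [← sub_eq_zero, ← map_sub, residue_eq_zero_iff, ← neg_mem_iff, neg_sub]
    have hv : v = RingHom.codRestrict (algebraMap R K₁) V (hdom V hV).1 b := Subtype.ext hb.symm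
    rw [hv, show RingHom.codRestrict ((algebraMap R K₁).comp (algebraMap A R)) V hV.1 a =
      RingHom.codRestrict (algebraMap R K₁) V (hdom V hV).1 (algebraMap A R a) from rfl, ← map_sub]
    exact mem_maximalIdeal_of_dominates (hdom V hV) ha

end Groth.EtaleAlgebra
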