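import Mathlib.AlgebraicGeometry.Morphisms.FormallyUnramified
import Mathlib.AlgebraicGeometry.Morphisms.Separated
import Mathlib.AlgebraicGeometry.Fiber

/-!
# The locus where two morphisms to an unramified target agree
-/

universe u

open CategoryTheory CategoryTheory.Limits AlgebraicGeometry

namespace Groth.EtaleAlgebra

variable {X Y S : Scheme.{u}} (h : Y ⟶ S) [FormallyUnramified h] [LocallyOfFiniteType h]
  (f g : X ⟶ Y) (w : g ≫ h = f ≫ h)

include w in
/-- The open locus where `f` and `g` agree, containing every fibre on which they agree, closed when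
`h` is separated. -/
theorem exists_agree_open :
    ∃ U : X.Opens, U.ι ≫ f = U.ι ≫ g ∧ (IsSeparated h → IsClosed (U : Set X)) ∧
      ∀ (Z : Scheme.{u}) (z : Z ⟶ X), z ≫ f = z ≫ g → Set.range z ⊆ U := by
  obtain ⟨p, hpf, hpg⟩ : ∃ p : X ⟶ pullback h h, p ≫ pullback.fst h h = f ∧
      p ≫ pullback.snd h h = g :=
    ⟨pullback.lift f g w.symm, pullback.lift_fst _ _ _, pullback.lift_snd _ _ _⟩
  let ι := pullback.snd (pullback.diagonal h) p
  have hc : pullback.fst (pullback.diagonal h) p ≫ pullback.diagonal h = ι ≫ p := pullback.condition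
  have hf : ι ≫ f = pullback.fst (pullback.diagonal h) p := by
    have := congrArg (· ≫ pullback.fst h h) hc
    simpa [hpf, hpg] using this.symm
  have hg : ι ≫ g = pullback.fst (pullback.diagonal h) p := by
    have := congrArg (· ≫ pullback.snd h h) hc
    simpa [hpf, hpg] using this.symm
  refine ⟨ι.opensRange, ?_, fun hsep => ?_, fun Z z hz => ?_⟩
  · rw [← cancel_epi ι.isoOpensRange.hom, ← Category.assoc, ← Category.assoc,
      Scheme.Hom.isoOpensRange_hom_ι, hf, hg]
  · have : IsClosedImmersion (pullback.diagonal h) := IsSeparated.isClosedImmersion_diagonal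
    have : IsClosedImmersion ι := inferInstance
    exact ι.isClosedEmbedding.isClosed_range
  · let l : Z ⟶ pullback (pullback.diagonal h) p := pullback.lift (z ≫ f) z (by
      apply pullback.hom_ext <;> simp [hpf, hpg, hz])
    rintro _ ⟨x, rfl⟩
    exact ⟨l x, by rw [← Scheme.Hom.comp_apply, show l ≫ ι = z from pullback.lift_snd _ _ _]⟩

variable (s : S) (hs : (f ≫ h).fiberι s ≫ f = (f ≫ h).fiberι s ≫ g)

include w hs in
theorem exists_agree_nhd (hc : IsClosedMap (f ≫ h).base) :
    ∃ V : S.Opens, s ∈ V ∧ ((f ≫ h) ⁻¹ᵁ V).ι ≫ f = ((f ≫ h) ⁻¹ᵁ V).ι ≫ g ∧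
      (IsSeparated h → IsOpenMap (f ≫ h).base → IsClosed (V : Set S)) := by
  obtain ⟨U, hU, hUc, hrange⟩ := exists_agree_open h f g w
  have hfib := hrange _ _ hs
  rw [Scheme.Hom.range_fiberι] at hfib
  let V : S.Opens := ⟨((f ≫ h).base '' (U : Set X)ᶜ)ᶜ, (hc _ U.isOpen.isClosed_compl).isOpen_compl⟩
  have hle : (f ≫ h) ⁻¹ᵁ V ≤ U := fun x hx => by
    by_contra hxU
    exact hx ⟨x, hxU, rfl⟩
  refine ⟨V, fun ⟨x, hxU, hxs⟩ => hxU (hfib hxs), ?_, fun hsep ho => ?_⟩
  · rw [← Scheme.homOfLE_ι X hle, Category.assoc, Category.assoc, hU]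
  · exact (ho _ (hUc hsep).isOpen_compl).isClosed_compl

end Groth.EtaleAlgebra
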