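import Mathlib.RingTheory.AlgebraicIndependent.AlgebraicClosure
import Mathlib.RingTheory.AlgebraicIndependent.TranscendenceBasis
import Mathlib.FieldTheory.IntermediateField.Adjoin.Algebra
import Mathlib.RingTheory.Localization.Module
import Mathlib.FieldTheory.SeparableClosure

/-!
# The algebraic closure of `k` in a finitely generated field extension is finite
-/

open IntermediateField
open IntermediateField.algebraAdjoinAdjoin

namespace Groth.EtaleAlgebra.AlgClosureFG

variable {k C K : Type*} [Field k] [Field C] [Field K] [Algebra k C] [Algebra k K] [Algebra C K]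
  [IsScalarTower k C K]

theorem linearIndependent_adjoin [Algebra.IsAlgebraic k C] {σ : Type*} {x : σ → K}
    (hx : AlgebraicIndependent k x) {ι : Type*} {b : ι → C} (hb : LinearIndependent k b) :
    LinearIndependent (Algebra.adjoin k (Set.range x)) (fun i => algebraMap C K (b i)) := by
  classical
  have hxC : AlgebraicIndependent C x := hx.extendScalars C
  rw [linearIndependent_iff']
  intro s g hg i hi
  have hp : ∀ j, ∃ p : MvPolynomial σ k, MvPolynomial.aeval x p = (g j : K) := fun j => by
    have : (g j : K) ∈ (MvPolynomial.aeval x : MvPolynomial σ k →ₐ[k] K).range := by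
      rw [← Algebra.adjoin_range_eq_range_aeval]; exact (g j).2
    exact this
  choose p hp using hp
  let P : MvPolynomial σ C := ∑ j ∈ s, MvPolynomial.C (b j) * MvPolynomial.map (algebraMap k C) (p j)
  have hP : P = 0 := by
    apply algebraicIndependent_iff.1 hxC
    rw [← hg]
    simp only [P, map_sum, map_mul, MvPolynomial.aeval_C, MvPolynomial.aeval_map_algebraMap, hp,
      Algebra.smul_def]
    exact Finset.sum_congr rfl fun j _ => mul_comm _ _
  have hc : ∀ m, ∑ j ∈ s, MvPolynomial.coeff m (p j) • b j = 0 := fun m => by
    have := congrArg (MvPolynomial.coeff m) hP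
    simpa [P, MvPolynomial.coeff_sum, MvPolynomial.coeff_C_mul, MvPolynomial.coeff_map,
      Algebra.smul_def, mul_comm] using this
  have hpi : p i = 0 := MvPolynomial.ext _ _ fun m => by
    rw [linearIndependent_iff'.1 hb s _ (hc m) i hi, MvPolynomial.coeff_zero]
  apply Subtype.ext
  rw [← hp i, hpi, map_zero]
  rfl

theorem finite_of_essFiniteType [Algebra.EssFiniteType k K] [Algebra.IsAlgebraic k C] :
    Module.Finite k C := by
  obtain ⟨s, hs, -⟩ := exists_finset_maximalFor_isTranscendenceBasis_separableClosure k K
  let F := IntermediateField.adjoin k (Set.range ((↑) : s → K))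
  have : Algebra.IsAlgebraic F K := hs.isAlgebraic_field
  have : Algebra.EssFiniteType F K := .of_comp k _ _
  have : Module.Finite F K := Algebra.finite_of_essFiniteType_of_isAlgebraic
  have b := Module.Basis.ofVectorSpace k C
  have h1 := linearIndependent_adjoin hs.1 b.linearIndependent
  have h2 := (LinearIndependent.iff_fractionRing _
    (IntermediateField.adjoin k (Set.range ((↑) : s → K)))).1 h1
  have := h2.finite
  exact Module.Finite.of_basis b

end Groth.EtaleAlgebra.AlgClosureFG
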