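import Groth.Agent.Hensel1.Pairs
import Mathlib.RingTheory.Flat.EquationalCriterion
import Mathlib.RingTheory.RingHom.FaithfullyFlat
import Mathlib.RingTheory.Ideal.AssociatedPrime.Finiteness
import Mathlib.RingTheory.Ideal.AssociatedPrime.Localization
import Mathlib.RingTheory.Filtration
import Mathlib.RingTheory.Artinian.Module
import Mathlib.RingTheory.Localization.Away.Basic

/-!
# Closed partitions of a punctured spectrum descend from the completion to the henselization
-/

set_option autoImplicit false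

namespace Groth.EtaleAlgebra.Punctured

open IsLocalRing

universe u

/-- In an Artinian ring some power of an element generates an idempotent ideal. -/
theorem exists_pow_eq_mul_pow {B : Type u} [CommRing B] [IsArtinianRing B] (b : B) :
    ∃ n : ℕ, 0 < n ∧ ∃ y : B, b ^ n = y * (b ^ n * b ^ n) := by
  obtain ⟨n, y, hy⟩ := IsArtinian.exists_pow_succ_smul_dvd b (1 : B)
  simp only [smul_eq_mul, mul_one, Nat.succ_eq_add_one] at hy
  have h : ∀ i, b ^ n = b ^ (n + i) * y ^ i := by
    intro i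
    induction i with
    | zero => simp
    | succ i ih =>
      calc b ^ n = b ^ (n + i) * y ^ i := ih
        _ = b ^ i * b ^ n * y ^ i := by rw [pow_add]; ring
        _ = b ^ i * (b ^ (n + 1) * y) * y ^ i := by rw [hy]
        _ = b ^ (n + (i + 1)) * y ^ (i + 1) := by rw [pow_add, pow_add, pow_succ]; ring
  refine ⟨n + 1, n.succ_pos, y ^ (n + 1), ?_⟩
  calc b ^ (n + 1) = b * b ^ n := pow_succ' b n
    _ = b * (b ^ (n + (n + 1)) * y ^ (n + 1)) := by rw [← h]
    _ = y ^ (n + 1) * (b ^ (n + 1) * b ^ (n + 1)) := by ring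

/-- A prime-avoiding element of a power of the maximal ideal: its powers only kill torsion. -/
theorem exists_torsion_detector (R : Type u) [CommRing R] [IsLocalRing R] [IsNoetherianRing R]
    (N : ℕ) : ∃ x ∈ maximalIdeal R ^ N, ∀ (n : ℕ) (s : R), x ^ n * s = 0 →
      ∃ k : ℕ, ∀ t ∈ maximalIdeal R ^ k, t * s = 0 := by
  classical
  let P : Set (Ideal R) := associatedPrimes R R \ {maximalIdeal R}
  have hfin : P.Finite := (associatedPrimes.finite R R).diff
  obtain ⟨x, hxN, hx⟩ : ∃ x ∈ maximalIdeal R ^ N, ∀ p ∈ P, x ∉ p := by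
    by_contra hcon
    push_neg at hcon
    have hsub : ((maximalIdeal R ^ N : Ideal R) : Set R) ⊆ ⋃ p ∈ (hfin.toFinset : Set (Ideal R)),
        ((id p : Ideal R) : Set R) := fun x hx => by
      obtain ⟨p, hp, hxp⟩ := hcon x hx
      exact Set.mem_iUnion₂.2 ⟨p, by simpa using hp, hxp⟩
    obtain ⟨p, hp, hle⟩ := (Ideal.subset_union_prime (f := id) (maximalIdeal R) (maximalIdeal R)
      (fun p hp _ _ => ((hfin.mem_toFinset).1 hp).1.isPrime)).1 hsub
    have hp' := (hfin.mem_toFinset).1 hp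
    have := hp'.1.isPrime
    exact hp'.2 (le_antisymm (le_maximalIdeal this.ne_top)
      (show maximalIdeal R ≤ p from Ideal.IsPrime.le_of_pow_le hle))
  refine ⟨x, hxN, fun n s hs => ?_⟩
  let I : Ideal R := LinearMap.ker (LinearMap.toSpanSingleton R R s)
  have hI : ∀ r : R, r ∈ I ↔ r * s = 0 := fun r => by simp [I]
  suffices maximalIdeal R ≤ I.radical by
    obtain ⟨k, hk⟩ := Ideal.exists_pow_le_of_le_radical_of_fg this
      (maximalIdeal R).fg_of_isNoetherianRing
    exact ⟨k, fun t ht => (hI t).1 (hk ht)⟩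
  by_cases hs0 : s = 0
  · intro t _
    exact Ideal.le_radical ((hI t).2 (by rw [hs0, mul_zero]))
  rw [Ideal.radical_eq_sInf]
  refine le_sInf fun q ⟨hIq, hq⟩ => ?_
  obtain ⟨p, hp, hpq⟩ := Ideal.exists_minimalPrimes_le (I := I) (J := q) hIq
  have hass : p ∈ associatedPrimes R (R ⧸ I) :=
    Module.associatedPrimes.minimalPrimes_annihilator_subset_associatedPrimes R (R ⧸ I)
      (by rwa [Ideal.annihilator_quotient])
  let g : (R ⧸ I) →ₗ[R] R := I.liftQ (LinearMap.toSpanSingleton R R s) le_rfl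
  have hg : Function.Injective g :=
    LinearMap.ker_eq_bot.1 (Submodule.ker_liftQ_eq_bot _ _ _ le_rfl)
  have hassR : p ∈ associatedPrimes R R := associatedPrimes.subset_of_injective hg hass
  by_cases hpm : p = maximalIdeal R
  · exact hpm ▸ hpq
  · exact absurd (hp.1.1.mem_of_pow_mem n (hp.1.2 ((hI _).2 hs))) (hx p ⟨hassR, hpm⟩)

variable {R H : Type u} [CommRing R] [CommRing H] [IsLocalRing R] [IsLocalRing H]
  [IsNoetherianRing R] [IsNoetherianRing H] [HenselianLocalRing R] [Algebra R H]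
  [Module.FaithfullyFlat R H]

set_option maxHeartbeats 1000000 in
-- one long construction inside a localization
/-- Two ideals with product zero and sum containing a power of the maximal ideal of the completion
induce such a pair on the henselian ring. -/
theorem descend (hm : (maximalIdeal R).map (algebraMap R H) = maximalIdeal H)
    (hd : ∀ (y : H) (k : ℕ), ∃ s : R, y - algebraMap R H s ∈ maximalIdeal H ^ k)
    (J₁ J₂ : Ideal H) (h12 : ∀ a ∈ J₁, ∀ b ∈ J₂, a * b = 0) (N : ℕ)
    (hN : maximalIdeal H ^ N ≤ J₁ ⊔ J₂) :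
    ∃ I₁ I₂ : Ideal R,
      (∀ P : Ideal R, P.IsPrime → P ≠ maximalIdeal R →
        (I₁ ≤ P ∨ I₂ ≤ P) ∧ ¬ (I₁ ≤ P ∧ I₂ ≤ P)) ∧
      (∀ Q : Ideal H, Q.IsPrime → Q ≠ maximalIdeal H →
        (J₁ ≤ Q → I₁ ≤ Q.comap (algebraMap R H)) ∧ (J₂ ≤ Q → I₂ ≤ Q.comap (algebraMap R H))) := by
  classical
  have hmap : ∀ {k : ℕ} {t : R}, t ∈ maximalIdeal R ^ k → algebraMap R H t ∈ maximalIdeal H ^ k := by
    intro k t ht
    rw [← hm, ← Ideal.map_pow]
    exact Ideal.mem_map_of_mem _ ht
  have hinj : Function.Injective (algebraMap R H) := FaithfulSMul.algebraMap_injective R H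
  obtain ⟨x, hxN, hxt⟩ := exists_torsion_detector R N
  let T := Localization.Away (algebraMap R H x)
  let φ : H →+* T := algebraMap H T
  let ψ : R →+* T := algebraMap R T
  have hψ : ∀ r, ψ r = φ (algebraMap R H r) := fun r => IsScalarTower.algebraMap_apply R H T r
  obtain ⟨xu, hxu⟩ : IsUnit (ψ x) := by
    rw [hψ]; exact IsLocalization.Away.algebraMap_isUnit _
  -- the kernel of `H → T` is torsion
  have hker : ∀ y : H, φ y = 0 → ∃ k, ∀ t ∈ maximalIdeal R ^ k, algebraMap R H t * y = 0 := by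
    intro y hy
    obtain ⟨⟨_, n, rfl⟩, hn⟩ := (IsLocalization.map_eq_zero_iff (Submonoid.powers (algebraMap R H x)) T y).1 hy
    replace hn : x ^ n • y = 0 := by rw [Algebra.smul_def, map_pow]; exact hn
    obtain ⟨ι, a, z, hyz, haz⟩ := Module.Flat.isTrivialRelation_of_sum_smul_eq_zero (R := R) (M := H)
      (ι := Fin 1) (f := fun _ => x ^ n) (x := fun _ => y) (by simpa using hn)
    have hk : ∀ j, ∃ k, ∀ t ∈ maximalIdeal R ^ k, t * a 0 j = 0 :=
      fun j => hxt n _ (by simpa using haz j)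
    choose k hk using hk
    refine ⟨∑ j, k j, fun t ht => ?_⟩
    rw [show y = ∑ j, a 0 j • z j from hyz 0, Finset.mul_sum]
    refine Finset.sum_eq_zero fun j _ => ?_
    rw [Algebra.smul_def, ← mul_assoc, ← map_mul,
      hk j t (Ideal.pow_le_pow_right (Finset.single_le_sum (fun i _ => Nat.zero_le _) (Finset.mem_univ j)) ht),
      map_zero, zero_mul]
  -- elements of `H` whose multiples come from `R`
  have hF3 : ∀ (y : H) (j : ℕ) (s : R), ψ x ^ j * φ y = ψ s → ∃ r, φ y = ψ r := by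
    intro y j s h
    rw [hψ, hψ, ← map_pow, ← map_mul] at h
    obtain ⟨⟨_, n, rfl⟩, hn⟩ := (IsLocalization.eq_iff_exists (Submonoid.powers (algebraMap R H x)) T).1 h
    dsimp only at hn
    have hmem : algebraMap R H (x ^ n * s) ∈ (Ideal.span {x ^ (n + j)}).map (algebraMap R H) := by
      rw [Ideal.map_span, Set.image_singleton, Ideal.mem_span_singleton, map_mul, map_pow, map_pow,
        ← hn]
      exact ⟨y, by ring⟩
    rw [← Ideal.mem_comap, Ideal.comap_map_eq_self_of_faithfullyFlat,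
      Ideal.mem_span_singleton'] at hmem
    obtain ⟨r, hr⟩ := hmem
    refine ⟨r, (xu ^ (n + j)).isUnit.mul_left_cancel ?_⟩
    rw [Units.val_pow_eq_pow_val, hxu, hψ, hψ, ← map_pow, ← map_pow, ← map_mul, ← map_mul, ← map_mul]
    congr 1
    rw [mul_comm (x ^ (n + j)), hr, map_mul, map_pow, map_pow, ← hn, pow_add]
    ring
  obtain ⟨a, ha, b, hb, hab⟩ := Submodule.mem_sup.1 (hN (hmap hxN))
  let e : T := φ b * ↑xu⁻¹
  have hxe : ψ x * e = φ b := by
    show ψ x * (φ b * _) = _
    rw [mul_left_comm, ← hxu, Units.mul_inv, mul_one]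
  have he : e * e = e := by
    refine xu.isUnit.mul_left_cancel (xu.isUnit.mul_left_cancel ?_)
    show (xu : T) * (xu * (e * e)) = xu * (xu * e)
    have hxab : ψ x = φ a + φ b := (hψ x).trans ((congrArg φ hab.symm).trans (map_add φ a b))
    rw [hxu, show ψ x * (ψ x * (e * e)) = (ψ x * e) * (ψ x * e) by ring, hxe, hxab,
      add_mul, ← map_mul, ← map_mul, h12 a ha b hb, map_zero, zero_add]
  have hte : ∀ t ∈ maximalIdeal R ^ N, ∃ a' ∈ J₁, ∃ b' ∈ J₂,
      a' + b' = algebraMap R H t ∧ ψ t * e = φ b' := by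
    intro t ht
    obtain ⟨a', ha', b', hb', hab'⟩ := Submodule.mem_sup.1 (hN (hmap ht))
    refine ⟨a', ha', b', hb', hab', xu.isUnit.mul_left_cancel ?_⟩
    show (xu : T) * (ψ t * e) = xu * φ b'
    have hxab : ψ x = φ a + φ b := (hψ x).trans ((congrArg φ hab.symm).trans (map_add φ a b))
    have htab : ψ t = φ a' + φ b' := (hψ t).trans ((congrArg φ hab'.symm).trans (map_add φ a' b'))
    rw [hxu, mul_left_comm, hxe, hxab, htab, add_mul, add_mul, ← map_mul, ← map_mul, ← map_mul,
      ← map_mul, h12 a' ha' b hb, h12 a ha b' hb', mul_comm b']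
  -- the `H`-algebra generated by `e`
  let C : Subalgebra H T :=
    { carrier := {c | ∃ u v : H, c = φ u + φ v * e}
      mul_mem' := by
        rintro _ _ ⟨u, v, rfl⟩ ⟨u', v', rfl⟩
        refine ⟨u * u', u * v' + v * u' + v * v', ?_⟩
        simp only [map_add, map_mul]
        linear_combination (φ v * φ v') * he
      add_mem' := by
        rintro _ _ ⟨u, v, rfl⟩ ⟨u', v', rfl⟩
        exact ⟨u + u', v + v', by simp only [map_add]; ring⟩
      algebraMap_mem' := fun u => ⟨u, 0, by simp [φ]⟩ }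
  have hCH : ∀ c ∈ C, ∀ t ∈ maximalIdeal R ^ N, ∃ y, ψ t * c = φ y := by
    rintro _ ⟨u, v, rfl⟩ t ht
    obtain ⟨a', -, b', -, -, hb'⟩ := hte t ht
    refine ⟨algebraMap R H t * u + v * b', ?_⟩
    rw [map_add, map_mul, map_mul, ← hψ, ← hb']
    ring
  have hφC : ∀ y, φ y ∈ C := fun y => C.algebraMap_mem y
  have hψC : ∀ r, ψ r ∈ C := fun r => hψ r ▸ hφC _
  let B : Subalgebra R T :=
    { carrier := {c | c ∈ C ∧ ∀ t ∈ maximalIdeal R ^ N, ∃ r, ψ t * c = ψ r}
      mul_mem' := by
        rintro c d ⟨hc, hc'⟩ ⟨hd', hd''⟩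
        refine ⟨mul_mem hc hd', fun t ht => ?_⟩
        obtain ⟨y, hy⟩ := hCH _ (mul_mem hc hd') t ht
        obtain ⟨r₁, h₁⟩ := hc' x hxN
        obtain ⟨r₂, h₂⟩ := hd'' x hxN
        obtain ⟨r, hr⟩ := hF3 y 2 (t * r₁ * r₂) (by
          rw [← hy, map_mul, map_mul, ← h₁, ← h₂]; ring)
        exact ⟨r, hy.trans hr⟩
      add_mem' := by
        rintro c d ⟨hc, hc'⟩ ⟨hd', hd''⟩
        refine ⟨add_mem hc hd', fun t ht => ?_⟩
        obtain ⟨r₁, h₁⟩ := hc' t ht
        obtain ⟨r₂, h₂⟩ := hd'' t ht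
        exact ⟨r₁ + r₂, by rw [mul_add, h₁, h₂, map_add]⟩
      algebraMap_mem' := fun r => ⟨hψC r, fun t _ => ⟨t * r, (map_mul ψ t r).symm⟩⟩ }
  -- `e ∈ B + H`
  obtain ⟨h, hhB, α, hα⟩ : ∃ h ∈ B, ∃ α : H, e = h + φ α := by
    obtain ⟨gen, hgen⟩ := (maximalIdeal R ^ N).fg_of_isNoetherianRing
    have hgmem : ∀ i : gen, (i : R) ∈ maximalIdeal R ^ N :=
      fun i => hgen ▸ Ideal.subset_span i.2
    choose a' _ b' _ _ htb using fun i : gen => hte _ (hgmem i)
    have heq : ∀ i : gen, ∃ n : ℕ,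
        algebraMap R H x ^ n * (algebraMap R H x * b' i - algebraMap R H i * b) = 0 := fun i => by
      have h0 : φ (algebraMap R H x * b' i - algebraMap R H i * b) = 0 := by
        rw [map_sub, map_mul, map_mul, ← hψ, ← hψ, ← htb i, ← hxe]; ring
      obtain ⟨⟨_, n, rfl⟩, hn⟩ :=
        (IsLocalization.map_eq_zero_iff (Submonoid.powers (algebraMap R H x)) T _).1 h0
      exact ⟨n, hn⟩
    choose n hn using heq
    let n₀ := ∑ i, n i
    let f : (gen → R) →ₗ[R] (Option gen → R) := Fintype.linearCombination R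
      fun i => x ^ n₀ • (Pi.single (some i) x - Pi.single none (i : R))
    let v : (Option gen → R) →ₗ[R] H := Fintype.linearCombination R fun o => o.elim b b'
    have hvs : ∀ o (r : R), v (Pi.single o r) = r • o.elim b b' := fun o r => by
      simp [v, Fintype.linearCombination_apply, Pi.single_apply, Finset.sum_ite_eq']
    have hvf : v ∘ₗ f = 0 := by
      refine LinearMap.pi_ext' fun i => LinearMap.ext_ring ?_
      simp only [LinearMap.comp_apply, LinearMap.coe_single, LinearMap.zero_apply, f,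
        Fintype.linearCombination_apply_single, one_smul, map_smul, map_sub, hvs, Option.elim]
      rw [Algebra.smul_def, Algebra.smul_def, Algebra.smul_def, map_pow,
        show n₀ = (n₀ - n i) + n i from (Nat.sub_add_cancel (Finset.single_le_sum (f := n)
          (fun i _ => Nat.zero_le _) (Finset.mem_univ i))).symm, pow_add, mul_assoc, hn i, mul_zero]
    obtain ⟨k, α', z, hv, hα'⟩ := Module.Flat.exists_factorization_of_comp_eq_zero_of_free hvf
    let β : Fin k → R := fun l => α' (Pi.single none 1) l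
    let hh : Fin k → T := fun l => ψ (β l) * ↑xu⁻¹
    have hxh : ∀ l, ψ x * hh l = ψ (β l) := fun l => by
      show ψ x * (ψ (β l) * _) = _
      rw [mul_left_comm, ← hxu, Units.mul_inv, mul_one]
    have hhl : ∀ l, ∀ t ∈ maximalIdeal R ^ N, ∃ r, ψ t * hh l = ψ r := by
      intro l t ht
      rw [← hgen] at ht
      induction ht using Submodule.span_induction with
      | mem t ht =>
        refine ⟨α' (Pi.single (some ⟨t, ht⟩) 1) l, ?_⟩
        have h1 := DFunLike.congr_fun (LinearMap.congr_fun hα' (Pi.single ⟨t, ht⟩ 1)) l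
        simp only [LinearMap.comp_apply, f, Fintype.linearCombination_apply_single, one_smul,
          map_smul, map_sub, LinearMap.zero_apply, Finsupp.coe_zero, Pi.zero_apply,
          Finsupp.smul_apply, Finsupp.coe_sub, Pi.sub_apply] at h1
        rw [show (Pi.single (some ⟨t, ht⟩) x : Option gen → R) =
            x • Pi.single (some ⟨t, ht⟩) 1 by rw [← Pi.single_smul, smul_eq_mul, mul_one],
          show (Pi.single none t : Option gen → R) = t • Pi.single none 1 by
            rw [← Pi.single_smul, smul_eq_mul, mul_one]] at h1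
        simp only [map_smul, Finsupp.smul_apply, smul_eq_mul] at h1
        replace h1 := congrArg ψ h1
        rw [map_mul, map_sub, map_mul, map_mul, map_zero, map_pow, ← hxu,
          ((xu.isUnit.pow n₀).mul_right_eq_zero), sub_eq_zero, hxu, ← hxh] at h1
        refine xu.isUnit.mul_left_cancel ?_
        rw [hxu, mul_left_comm, h1]
      | zero => exact ⟨0, by rw [map_zero, zero_mul]⟩
      | add _ _ _ _ h1 h2 =>
        obtain ⟨r₁, h1⟩ := h1
        obtain ⟨r₂, h2⟩ := h2
        exact ⟨r₁ + r₂, by rw [map_add, add_mul, h1, h2, map_add]⟩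
      | smul c _ _ h1 =>
        obtain ⟨r, h1⟩ := h1
        exact ⟨c * r, by rw [smul_eq_mul, map_mul, mul_assoc, h1, map_mul]⟩
    -- truncate the coefficients
    let w : Fin k → H := fun l => z (Finsupp.single l 1)
    choose c hc using fun l => hd (w l) N
    have hHh : ∀ l, ∀ y ∈ maximalIdeal H ^ N, ∃ y', φ y * hh l = φ y' := by
      intro l y hy
      rw [← hm, ← Ideal.map_pow, Ideal.map] at hy
      induction hy using Submodule.span_induction with
      | mem y hy =>
        obtain ⟨t, ht, rfl⟩ := hy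
        obtain ⟨r, hr⟩ := hhl l t ht
        exact ⟨algebraMap R H r, by rw [← hψ, ← hψ, hr]⟩
      | zero => exact ⟨0, by rw [map_zero, zero_mul]⟩
      | add _ _ _ _ h1 h2 =>
        obtain ⟨r₁, h1⟩ := h1
        obtain ⟨r₂, h2⟩ := h2
        exact ⟨r₁ + r₂, by rw [map_add, add_mul, h1, h2, map_add]⟩
      | smul c _ _ h1 =>
        obtain ⟨r, h1⟩ := h1
        exact ⟨c * r, by rw [smul_eq_mul, map_mul, mul_assoc, h1, map_mul]⟩
    choose y' hy' using fun l => hHh l _ (hc l)
    have hesum : e = ∑ l, φ (w l) * hh l := by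
      refine xu.isUnit.mul_left_cancel ?_
      rw [hxu, hxe, Finset.mul_sum, show b = z (α' (Pi.single none 1)) by
        rw [← LinearMap.comp_apply, ← hv, hvs]; simp]
      conv_lhs => rw [← Finsupp.univ_sum_single (α' (Pi.single none 1))]
      rw [map_sum, map_sum]
      refine Finset.sum_congr rfl fun l _ => ?_
      rw [mul_left_comm, hxh, ← Finsupp.smul_single_one l (α' _ l), map_smul, Algebra.smul_def,
        map_mul, ← hψ, mul_comm]
    have hdec : e = (∑ l, ψ (c l) * hh l) + φ (∑ l, y' l) := by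
      rw [hesum, map_sum, ← Finset.sum_add_distrib]
      refine Finset.sum_congr rfl fun l _ => ?_
      rw [← hy' l, map_sub, ← hψ, sub_mul, add_sub_cancel]
    refine ⟨_, ⟨?_, fun t ht => ?_⟩, _, hdec⟩
    · rw [← eq_sub_of_add_eq hdec.symm |>.symm]
      exact sub_mem ⟨0, 1, by simp⟩ (hφC _)
    · choose r hr using fun l => hhl l t ht
      exact ⟨∑ l, c l * r l, by
        rw [Finset.mul_sum, map_sum]
        exact Finset.sum_congr rfl fun l _ => by rw [mul_left_comm, hr, map_mul]⟩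
  obtain ⟨s, hs⟩ := hd α 1
  rw [pow_one] at hs
  let b₀ : B := ⟨h + ψ s, add_mem hhB (B.algebraMap_mem s)⟩
  let J : Ideal C := (maximalIdeal H).map (algebraMap H C)
  let ι : B →+* C := (algebraMap B T).codRestrict C.toSubring fun b => b.2.1
  let eC : C := ⟨e, ⟨0, 1, by simp⟩⟩
  have heC : eC * eC = eC := Subtype.ext he
  have hb₀ : ι b₀ - eC ∈ J := by
    have : ι b₀ - eC = -(algebraMap H C (α - algebraMap R H s)) := Subtype.ext (by
      show h + ψ s - e = -(φ (α - algebraMap R H s))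
      rw [map_sub, ← hψ, hα]; ring)
    rw [this]
    exact neg_mem (Ideal.mem_map_of_mem _ hs)
  have hBfin : Module.Finite R B := by
    let μ : B →ₗ[R] T := (LinearMap.mulLeft R (ψ x)).comp B.val.toLinearMap
    have hμ : Function.Injective μ := fun c d hcd => Subtype.ext (xu.isUnit.mul_left_cancel (by
      show (xu : T) * c.1 = xu * d.1
      rw [hxu]; exact hcd))
    have hrange : LinearMap.range μ ≤ LinearMap.range (Algebra.linearMap R T) := by
      rintro _ ⟨c, rfl⟩
      obtain ⟨r, hr⟩ := c.2.2 x hxN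
      exact ⟨r, hr.symm⟩
    have : IsNoetherian R (LinearMap.range (Algebra.linearMap R T)) :=
      isNoetherian_of_fg_of_noetherian _ (Module.Finite.iff_fg.1 inferInstance)
    have : Module.Finite R (LinearMap.range μ) :=
      Module.Finite.of_injective _ (Submodule.inclusion_injective hrange)
    exact Module.Finite.equiv (LinearEquiv.ofInjective μ hμ).symm
  let JB : Ideal B := (maximalIdeal R).map (algebraMap R B)
  have hιJ : ∀ c ∈ JB, ι c ∈ J := by
    intro c hc
    have h0 := Ideal.mem_map_of_mem ι hc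
    rw [Ideal.map_map] at h0
    refine (Ideal.map_le_iff_le_comap.2 fun r hr => ?_ : (maximalIdeal R).map _ ≤ J) h0
    rw [Ideal.mem_comap, show (ι.comp (algebraMap R B)) r = algebraMap H C (algebraMap R H r) from
      Subtype.ext (hψ r)]
    refine Ideal.mem_map_of_mem _ ?_
    rw [← pow_one (maximalIdeal H)]
    exact hmap (by rwa [pow_one])
  -- an idempotent of `B` congruent to `e`
  have : IsArtinianRing (B ⧸ JB) := by
    let _ : Field (R ⧸ maximalIdeal R) := Ideal.Quotient.field _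
    have : Module.Finite (R ⧸ maximalIdeal R) (B ⧸ JB) :=
      Module.Finite.of_restrictScalars_finite R _ _
    exact IsArtinianRing.of_finite (R ⧸ maximalIdeal R) (B ⧸ JB)
  obtain ⟨n, hn, y, hy⟩ := exists_pow_eq_mul_pow (Ideal.Quotient.mk JB b₀)
  obtain ⟨y, rfl⟩ := Ideal.Quotient.mk_surjective y
  have hy' : b₀ ^ n - y * (b₀ ^ n * b₀ ^ n) ∈ JB := by
    rw [← Ideal.Quotient.eq_zero_iff_mem]; simp [← hy]
  obtain ⟨ε, hε, hεb⟩ := Groth.Hensel1.exists_idempotent_lift (A := R) (I := maximalIdeal R)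
    (B := B) (y * b₀ ^ n) (by
      rw [show y * b₀ ^ n * (y * b₀ ^ n) - y * b₀ ^ n = -(y * (b₀ ^ n - y * (b₀ ^ n * b₀ ^ n))) by ring]
      exact neg_mem (Ideal.mul_mem_left _ _ hy'))
  let q := Ideal.Quotient.mk J
  have q0 : ∀ c ∈ JB, q (ι c) = 0 := fun c hc => Ideal.Quotient.eq_zero_iff_mem.2 (hιJ c hc)
  have hqb : q (ι b₀) = q eC := Ideal.Quotient.eq.2 hb₀
  have hqe : q eC * q eC = q eC := by rw [← map_mul, heC]
  have hqen : q eC ^ n = q eC := IsIdempotentElem.pow_eq hqe hn.ne'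
  have hqy : q (ι y) * q eC = q eC := by
    have := q0 _ hy'
    simp only [map_sub, map_mul, map_pow, hqb, hqen, hqe, sub_eq_zero] at this
    exact this.symm
  have hεe : ι ε - eC ∈ J := Ideal.Quotient.eq.1 (by
    have := q0 _ hεb
    simp only [map_sub, map_mul, map_pow, hqb, hqen, sub_eq_zero] at this
    exact this.trans hqy)
  have hCfin : Module.Finite H C := by
    refine (Module.Finite.iff_fg (N := Subalgebra.toSubmodule C)).2 ?_
    rw [show Subalgebra.toSubmodule C = Submodule.span H {1, e} by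
      ext c
      rw [Submodule.mem_span_pair]
      constructor
      · rintro ⟨u, v, rfl⟩; exact ⟨u, v, by simp [Algebra.smul_def, φ]⟩
      · rintro ⟨u, v, rfl⟩; exact ⟨u, v, by simp [Algebra.smul_def, φ]⟩]
    exact Submodule.fg_span (Set.toFinite _)
  have hεeq : ι ε = eC := by
    set d := ι ε - eC with hd0
    have hd3 : d = d ^ 3 := by
      have h1 : ι ε * ι ε = ι ε := by rw [← map_mul, hε.eq]
      rw [hd0]
      linear_combination (3 * eC - 1 - ι ε) * h1 + (1 + eC - 3 * ι ε) * heC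
    have hdk : ∀ k, d ∈ J ^ k := by
      intro k
      induction k with
      | zero => simp
      | succ k ih =>
        rw [hd3, pow_succ' J, pow_succ' d]
        exact Ideal.mul_mem_mul hεe (Ideal.pow_mem_of_mem _ ih 2 (by norm_num))
    have : d ∈ ⨅ k, (maximalIdeal H ^ k • ⊤ : Submodule H C) := by
      rw [Submodule.mem_iInf]
      intro k
      rw [Ideal.smul_top_eq_map, Ideal.map_pow]
      exact hdk k
    rw [Ideal.iInf_pow_smul_eq_bot_of_isLocalRing _ (maximalIdeal.isMaximal H).ne_top,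
      Submodule.mem_bot] at this
    exact sub_eq_zero.1 this
  have heB : ∀ t ∈ maximalIdeal R ^ N, ∃ r, ψ t * e = ψ r := by
    intro t ht
    obtain ⟨r, hr⟩ := ε.2.2 t ht
    exact ⟨r, by rw [← hr, show (ε : T) = e from congrArg Subtype.val hεeq]⟩
  let I₁ : Ideal R := LinearMap.ker ((LinearMap.mulRight R e).comp (Algebra.linearMap R T))
  let I₂ : Ideal R := LinearMap.ker ((LinearMap.mulRight R (1 - e)).comp (Algebra.linearMap R T))
  have hI₁ : ∀ r, r ∈ I₁ ↔ ψ r * e = 0 := fun r => by simp [I₁, ψ]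
  have hI₂ : ∀ r, r ∈ I₂ ↔ ψ r * (1 - e) = 0 := fun r => by simp [I₂, ψ]
  have hsum : maximalIdeal R ^ N ≤ I₁ ⊔ I₂ := by
    intro t ht
    obtain ⟨r, hr⟩ := heB t ht
    have hre : ψ r * e = ψ r := by rw [← hr, mul_assoc, he]
    refine Submodule.mem_sup.2 ⟨t - r, (hI₁ _).2 ?_, r, (hI₂ _).2 ?_, sub_add_cancel t r⟩
    · rw [map_sub, sub_mul, hre, hr, sub_self]
    · rw [mul_sub, mul_one, hre, sub_self]
  refine ⟨I₁, I₂, fun P hP hPm => ⟨?_, fun h => ?_⟩, fun Q hQ hQm => ?_⟩
  · by_contra hcon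
    rw [not_or, SetLike.not_le_iff_exists, SetLike.not_le_iff_exists] at hcon
    obtain ⟨⟨r, hr, hrP⟩, r', hr', hrP'⟩ := hcon
    have h0 : φ (algebraMap R H (r * r')) = 0 := by
      rw [← hψ, map_mul]
      linear_combination ψ r' * (hI₁ r).1 hr + ψ r * (hI₂ r').1 hr'
    obtain ⟨k, hk⟩ := hker _ h0
    obtain ⟨t, ht, htP⟩ := SetLike.not_le_iff_exists.1 (fun hle : maximalIdeal R ^ k ≤ P =>
      hPm (le_antisymm (le_maximalIdeal hP.ne_top) (Ideal.IsPrime.le_of_pow_le hle)))
    have : t * (r * r') = 0 := hinj (by rw [map_mul, hk t ht, map_zero])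
    rcases hP.mem_or_mem (show t * (r * r') ∈ P from this ▸ P.zero_mem) with h | h
    · exact htP h
    · exact (hP.mem_or_mem h).elim hrP hrP'
  · exact hPm (le_antisymm (le_maximalIdeal hP.ne_top)
      (Ideal.IsPrime.le_of_pow_le (hsum.trans (sup_le h.1 h.2))))
  · have key : ∀ (r : R) (t : R) (b' : H), ψ r * (φ b') = 0 → b' ∉ Q → algebraMap R H r ∈ Q := by
      intro r _ b' hrb hbQ
      obtain ⟨k, hk⟩ := hker (algebraMap R H r * b') (by rw [map_mul, ← hψ]; exact hrb)
      have hle : ¬ maximalIdeal R ^ k ≤ Q.comap (algebraMap R H) := fun hle => hQm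
        (le_antisymm (le_maximalIdeal hQ.ne_top)
          (hm ▸ Ideal.map_le_iff_le_comap.2 (Ideal.IsPrime.le_of_pow_le hle)))
      obtain ⟨w, hw, hwQ⟩ := SetLike.not_le_iff_exists.1 hle
      rcases hQ.mem_or_mem (show _ ∈ Q from (hk w hw).symm ▸ Q.zero_mem) with h | h
      · exact absurd h hwQ
      · exact (hQ.mem_or_mem h).resolve_right hbQ
    have hle : ¬ maximalIdeal R ^ N ≤ Q.comap (algebraMap R H) := fun hle => hQm
      (le_antisymm (le_maximalIdeal hQ.ne_top)
        (hm ▸ Ideal.map_le_iff_le_comap.2 (Ideal.IsPrime.le_of_pow_le hle)))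
    obtain ⟨t, ht, htQ⟩ := SetLike.not_le_iff_exists.1 hle
    obtain ⟨a', ha', b', hb', hab', htb⟩ := hte t ht
    have hta : ψ t * (1 - e) = φ a' := by
      rw [mul_sub, mul_one, htb, hψ, ← hab', map_add, add_sub_cancel_right]
    refine ⟨fun hJ r hr => key r t b' ?_ fun h => htQ ?_, fun hJ r hr => key r t a' ?_ fun h => htQ ?_⟩
    · rw [← htb, mul_left_comm, (hI₁ r).1 hr, mul_zero]
    · rw [Ideal.mem_comap, ← hab']; exact add_mem (hJ ha') h
    · rw [← hta, mul_left_comm, (hI₂ r).1 hr, mul_zero]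
    · rw [Ideal.mem_comap, ← hab']; exact add_mem h (hJ hb')

/-- A closed partition of the punctured spectrum of the completion descends. -/
theorem partition (hm : (maximalIdeal R).map (algebraMap R H) = maximalIdeal H)
    (hd : ∀ (y : H) (k : ℕ), ∃ s : R, y - algebraMap R H s ∈ maximalIdeal H ^ k)
    (J₁ J₂ : Ideal H) (hcov : ∀ Q : Ideal H, Q.IsPrime → J₁ ≤ Q ∨ J₂ ≤ Q)
    (hdis : ∀ Q : Ideal H, Q.IsPrime → J₁ ≤ Q → J₂ ≤ Q → Q = maximalIdeal H) :
    ∃ I₁ I₂ : Ideal R,
      (∀ P : Ideal R, P.IsPrime → P ≠ maximalIdeal R →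
        (I₁ ≤ P ∨ I₂ ≤ P) ∧ ¬ (I₁ ≤ P ∧ I₂ ≤ P)) ∧
      (∀ Q : Ideal H, Q.IsPrime → Q ≠ maximalIdeal H →
        (J₁ ≤ Q → I₁ ≤ Q.comap (algebraMap R H)) ∧ (J₂ ≤ Q → I₂ ≤ Q.comap (algebraMap R H))) := by
  obtain ⟨k, hk⟩ : ∃ k : ℕ, (J₁ * J₂) ^ k ≤ ⊥ := by
    refine Ideal.exists_pow_le_of_le_radical_of_fg ?_ (J₁ * J₂).fg_of_isNoetherianRing
    rw [Ideal.radical_eq_sInf]
    exact le_sInf fun Q hQ => (hcov Q hQ.2).elim (fun h => Ideal.mul_le_left.trans h)
      (fun h => Ideal.mul_le_right.trans h)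
  obtain ⟨N, hN⟩ : ∃ N : ℕ, maximalIdeal H ^ N ≤ J₁ ^ k ⊔ J₂ ^ k := by
    refine Ideal.exists_pow_le_of_le_radical_of_fg ?_ (maximalIdeal H).fg_of_isNoetherianRing
    rw [Ideal.radical_eq_sInf]
    refine le_sInf fun Q ⟨hle, hQ⟩ => ?_
    obtain ⟨h1, h2⟩ := sup_le_iff.1 hle
    exact (hdis Q hQ (Ideal.IsPrime.le_of_pow_le h1) (Ideal.IsPrime.le_of_pow_le h2)).ge
  obtain ⟨I₁, I₂, hP, hQ'⟩ := descend hm hd (J₁ ^ k) (J₂ ^ k) (fun a ha b hb => by
    have := hk (mul_pow J₁ J₂ k ▸ Ideal.mul_mem_mul ha hb)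
    simpa using this) N hN
  refine ⟨I₁, I₂, hP, fun Q hQ hQm => ?_⟩
  by_cases hk0 : k = 0
  · subst hk0
    exact absurd (by simpa using hk : (1 : Ideal H) ≤ ⊥) (by simp)
  exact ⟨fun h => (hQ' Q hQ hQm).1 ((Ideal.pow_le_self hk0).trans h),
    fun h => (hQ' Q hQ hQm).2 ((Ideal.pow_le_self hk0).trans h)⟩

end Groth.EtaleAlgebra.Punctured
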