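import Groth.Agent.Hensel1.MinimalPrimesNorm
import Groth.Agent.Calg8.IntegralDimEq
import Groth.Agent.HensPair.IndEtale
import Groth.Agent.EtaleDeep.IndEt.Etale
import Groth.Agent.EtaleAlgebra.AbsFlat
import Groth.Agent.Calg4.RegularFlat
import Groth.Agent.EtaleAlgebra.PuncturedClopen
import Groth.Agent.HensPair.Basic
import Mathlib.RingTheory.LocalRing.ResidueField.Fiber

/-!
# Dimensions of the irreducible components of henselizations
-/

set_option autoImplicit false

namespace Groth.EtaleAlgebra.BranchDim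

open IsLocalRing
open scoped TensorProduct

universe u

/-- Some irreducible component has dimension `d`. -/
def Has (R : Type u) [CommRing R] (d : WithBot ℕ∞) : Prop :=
  ∃ P ∈ minimalPrimes R, ringKrullDim (R ⧸ P) = d

/-- Components of the source of a surjection over its kernel. -/
theorem has_iff_of_surjective {R R' : Type u} [CommRing R] [CommRing R'] (f : R →+* R')
    (hf : Function.Surjective f) (d : WithBot ℕ∞) :
    Has R' d ↔ ∃ P ∈ (RingHom.ker f).minimalPrimes, ringKrullDim (R ⧸ P) = d := by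
  have h : ∀ P : Ideal R', ringKrullDim (R ⧸ P.comap f) = ringKrullDim (R' ⧸ P) := fun P => by
    refine ringKrullDim_eq_of_ringEquiv (RingEquiv.ofBijective
      (Ideal.quotientMap P f le_rfl) ⟨Ideal.quotientMap_injective, ?_⟩)
    exact Ideal.quotientMap_surjective hf
  rw [show (RingHom.ker f).minimalPrimes = Ideal.comap f '' (⊥ : Ideal R').minimalPrimes from Ideal.comap_minimalPrimes_eq_of_surjective hf ⊥]
  simp only [Has, minimalPrimes, Set.mem_image]
  constructor
  · rintro ⟨P, hP, hd⟩; exact ⟨_, ⟨P, hP, rfl⟩, (h P).trans hd⟩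
  · rintro ⟨_, ⟨P, hP, rfl⟩, hd⟩; exact ⟨P, hP, (h P).symm.trans hd⟩

/-- Weakly etale algebras have zero-dimensional fibres. -/
theorem eq_of_le_of_comap_eq {B T : Type u} [CommRing B] [CommRing T] [Algebra B T]
    [Algebra.WeaklyEtale B T] {Q Q' : Ideal T} [Q.IsPrime] [Q'.IsPrime] (hle : Q ≤ Q')
    (h : Q.comap (algebraMap B T) = Q'.comap (algebraMap B T)) : Q = Q' := by
  let p : PrimeSpectrum B := PrimeSpectrum.comap (algebraMap B T) ⟨Q', inferInstance⟩
  let e := PrimeSpectrum.preimageOrderIsoFiber B T p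
  let a : PrimeSpectrum.comap (algebraMap B T) ⁻¹' {p} := ⟨⟨Q, inferInstance⟩, PrimeSpectrum.ext h⟩
  let b : PrimeSpectrum.comap (algebraMap B T) ⁻¹' {p} := ⟨⟨Q', inferInstance⟩, rfl⟩
  have hmax : (e a).asIdeal.IsMaximal := Groth.EtaleAlgebra.isMaximal_of_regular
    (Groth.EtaleAlgebra.regular_of_weaklyEtale (R := p.asIdeal.ResidueField) (fun x => by
      rcases eq_or_ne x 0 with rfl | hx
      · exact ⟨0, by simp⟩
      · exact ⟨x⁻¹, by field_simp⟩) _) _
  have hab : e a = e b := PrimeSpectrum.ext (hmax.eq_of_le (e b).2.ne_top (e.monotone (a := a) (b := b) hle))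
  exact congrArg (fun z : PrimeSpectrum.comap (algebraMap B T) ⁻¹' {p} => z.1.asIdeal) (e.injective hab)

/-- In a flat algebra with zero-dimensional fibres, heights are those below. -/
theorem height_eq_height_comap {B T : Type u} [CommRing B] [CommRing T] [Algebra B T]
    [Algebra.WeaklyEtale B T] (n : Ideal T) [n.IsPrime] :
    n.height = (n.comap (algebraMap B T)).height := by
  refine ((PrimeSpectrum.height_eq_orderHeight ⟨n, inferInstance⟩).trans ?_).trans
    (PrimeSpectrum.height_eq_orderHeight (PrimeSpectrum.comap (algebraMap B T) ⟨n, inferInstance⟩)).symm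
  refine le_antisymm (Order.height_le_height_apply_of_strictMono
    (PrimeSpectrum.comap (algebraMap B T)) (fun P Q hPQ => ?_) ⟨n, inferInstance⟩) ?_
  · refine lt_of_le_of_ne (Ideal.comap_mono hPQ.le) fun h => hPQ.ne ?_
    have h' : P.asIdeal.comap (algebraMap B T) = Q.asIdeal.comap (algebraMap B T) :=
      congrArg PrimeSpectrum.asIdeal h
    exact PrimeSpectrum.ext (eq_of_le_of_comap_eq hPQ.le h')
  · refine Order.height_le fun l hl => ?_
    have : n.LiesOver l.last.asIdeal := ⟨by rw [hl]; rfl⟩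
    obtain ⟨L, hlen, hlast, -⟩ := Ideal.exists_ltSeries_of_hasGoingDown l n
    rw [← hlen]
    exact Order.length_le_height hlast.le

variable {A S : Type u} [CommRing A] [IsLocalRing A] [IsNoetherianRing A] [CommRing S] [IsLocalRing S]
  [HenselianLocalRing S] [Algebra A S] [IsLocalHom (algebraMap A S)]

omit [IsNoetherianRing A] [HenselianLocalRing S] in
/-- Minimal primes of `S` and closed points of `B`, through `T = B ⊗ S`. -/
theorem has_iff_core (B T : Type u) [CommRing B] [CommRing T] [Algebra A B] [Algebra.IsIntegral A B]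
    [Algebra S T] [Algebra B T] [Algebra A T] [IsScalarTower A S T] [IsScalarTower A B T]
    [Algebra.IsIntegral S T] [Algebra.WeaklyEtale B T] [Module.FaithfullyFlat B T]
    (hbij : Set.BijOn (fun P : Ideal T => P.comap (algebraMap S T)) (minimalPrimes T) (minimalPrimes S))
    (hu₁ : ∀ q ∈ minimalPrimes T, ∃! n : Ideal T, n.IsMaximal ∧ q ≤ n)
    (hu₂ : ∀ n : Ideal T, n.IsMaximal → ∃! q : Ideal T, q ∈ minimalPrimes T ∧ q ≤ n)
    (d : WithBot ℕ∞) :
    Has S d ↔ ∃ m' : MaximalSpectrum B, ringKrullDim (Localization.AtPrime m'.asIdeal) = d := by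
  have key : ∀ (q n : Ideal T), q ∈ minimalPrimes T → n.IsMaximal → q ≤ n →
      ∃ m' : MaximalSpectrum B, n.comap (algebraMap B T) = m'.asIdeal ∧
        ringKrullDim (S ⧸ q.comap (algebraMap S T)) = ringKrullDim (Localization.AtPrime m'.asIdeal) := by
    intro q n hq hn hle
    have : q.IsPrime := hq.1.1
    let m := n.comap (algebraMap B T)
    have hm : m.IsMaximal := by
      refine Ideal.isMaximal_of_isIntegral_of_isMaximal_comap (R := A) m ?_
      have h1 : (n.comap (algebraMap S T)).IsMaximal := Ideal.isMaximal_comap_of_isIntegral_of_isMaximal n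
      have h2 : (n.comap (algebraMap S T)).comap (algebraMap A S) = maximalIdeal A := by
        rw [IsLocalRing.eq_maximalIdeal h1]
        exact ((local_hom_TFAE (algebraMap A S)).out 0 4 rfl rfl).mp inferInstance
      rw [Ideal.comap_comap, ← IsScalarTower.algebraMap_eq]
      rw [Ideal.comap_comap, ← IsScalarTower.algebraMap_eq] at h2
      exact h2 ▸ maximalIdeal.isMaximal A
    refine ⟨⟨m, hm⟩, rfl, ?_⟩
    let _ : Algebra (S ⧸ q.comap (algebraMap S T)) (T ⧸ q) :=
      (Ideal.quotientMap q (algebraMap S T) le_rfl).toAlgebra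
    have : IsScalarTower S (S ⧸ q.comap (algebraMap S T)) (T ⧸ q) := .of_algebraMap_eq fun _ => rfl
    have : Algebra.IsIntegral (S ⧸ q.comap (algebraMap S T)) (T ⧸ q) :=
      Algebra.IsIntegral.tower_top (R := S)
    rw [← Groth.Calg8.ringKrullDim_eq_of_integral (S ⧸ q.comap (algebraMap S T)) (T ⧸ q)
      Ideal.quotientMap_injective, IsLocalization.AtPrime.ringKrullDim_eq_height m (Localization.AtPrime m),
      ← height_eq_height_comap n, show n.height = Order.height (⟨n, hn.isPrime⟩ : PrimeSpectrum T) from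
        PrimeSpectrum.height_eq_orderHeight ⟨n, hn.isPrime⟩,
      Order.height_eq_krullDim_Iic, ringKrullDim_quotient]
    refine Order.krullDim_eq_of_orderIso (OrderIso.setCongr _ _ (Set.ext fun Q => ⟨fun hQ => ?_, fun hQ => ?_⟩))
    · obtain ⟨n', hn', hle'⟩ := Ideal.exists_le_maximal Q.asIdeal Q.2.ne_top
      have := (hu₁ q hq).unique ⟨hn, hle⟩ ⟨hn', le_trans hQ hle'⟩
      exact this ▸ hle'
    · obtain ⟨q', hq', hle'⟩ := Ideal.exists_minimalPrimes_le (I := (⊥ : Ideal T)) (J := Q.asIdeal) bot_le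
      have := (hu₂ n hn).unique ⟨hq, hle⟩ ⟨hq', hle'.trans hQ⟩
      exact this ▸ hle'
  constructor
  · rintro ⟨P, hP, hd⟩
    obtain ⟨q, hq, rfl⟩ := hbij.surjOn hP
    obtain ⟨n, hn, hle⟩ := Ideal.exists_le_maximal q hq.1.1.ne_top
    obtain ⟨m', -, he⟩ := key q n hq hn hle
    exact ⟨m', he ▸ hd⟩
  · rintro ⟨m', hd⟩
    obtain ⟨Q, hQ⟩ := PrimeSpectrum.comap_surjective_of_faithfullyFlat (A := B) (B := T)
      ⟨m'.asIdeal, m'.isMaximal.isPrime⟩
    obtain ⟨n, hn, hQn⟩ := Ideal.exists_le_maximal Q.asIdeal Q.2.ne_top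
    obtain ⟨q, hq, hle⟩ := Ideal.exists_minimalPrimes_le (I := (⊥ : Ideal T)) (J := n) bot_le
    obtain ⟨m'', hm'', he⟩ := key q n hq hn hle
    have hmm : m'' = m' := MaximalSpectrum.ext (hm'' ▸ (m'.isMaximal.eq_of_le
      (Ideal.comap_isPrime _ n).ne_top ((congrArg PrimeSpectrum.asIdeal hQ).ge.trans (Ideal.comap_mono hQn))).symm)
    subst hmm
    exact ⟨_, hbij.mapsTo hq, he.trans hd⟩

/-- Components of a (strict) henselization and closed points of the normalization. -/
theorem has_iff_normRed (M : Groth.Hensel1.HensModel A S) (d : WithBot ℕ∞) :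
    Has S d ↔ ∃ m' : MaximalSpectrum (CAlg2.normRed A),
      ringKrullDim (Localization.AtPrime m'.asIdeal) = d := by
  classical
  have hfin := minimalPrimes.finite_of_isNoetherianRing A
  obtain ⟨hu₁, hu₂⟩ := Groth.Hensel1.minimal_maximal_unique_normRed M hfin
  have : Module.Flat A S := M.flat
  let _ : Algebra S (CAlg2.normRed A ⊗[A] S) := Algebra.TensorProduct.rightAlgebra
  have : Algebra.IsIntegral A (CAlg2.normRed A) := Algebra.IsIntegral.trans (CAlg2.red A)
  have : Algebra.IsIntegral S (CAlg2.normRed A ⊗[A] S) :=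
    Algebra.IsIntegral.of_surjective (Algebra.TensorProduct.commRight A S (CAlg2.normRed A)).toAlgHom
      (Algebra.TensorProduct.commRight A S (CAlg2.normRed A)).surjective
  have : Algebra.WeaklyEtale A S :=
    Groth.EtaleDeep.IndEt.weaklyEtale (Groth.HensPair.isIndEtale_of_hensModel M)
  have := M.faithfullyFlat
  exact has_iff_core (A := A) (S := S) (CAlg2.normRed A) (CAlg2.normRed A ⊗[A] S)
    (Groth.Hensel1.bijOn_minimalPrimes_normRed (A := A) (S := S)) hu₁ hu₂ d

section Completion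

variable {R H : Type u} [CommRing R] [CommRing H] [IsLocalRing R] [IsLocalRing H]
  [IsNoetherianRing R] [IsNoetherianRing H] [Algebra R H] [Module.FaithfullyFlat R H]

/-- A quotient of a flat extension with trivial closed fibre keeps the dimension. -/
theorem ringKrullDim_quotient_map (hm : (maximalIdeal R).map (algebraMap R H) = maximalIdeal H)
    (P : Ideal R) (hP : P ≠ ⊤) :
    ringKrullDim (H ⧸ P.map (algebraMap R H)) = ringKrullDim (R ⧸ P) := by
  have hPm : P ≤ maximalIdeal R := le_maximalIdeal hP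
  have hPH : P.map (algebraMap R H) ≤ maximalIdeal H := hm ▸ Ideal.map_mono hPm
  have : Nontrivial (R ⧸ P) := Ideal.Quotient.nontrivial_iff.2 hP
  have : IsLocalRing (R ⧸ P) := .of_surjective' _ Ideal.Quotient.mk_surjective
  have : Nontrivial (H ⧸ P.map (algebraMap R H)) := Ideal.Quotient.nontrivial_iff.2
    fun h => (maximalIdeal.isMaximal H).ne_top (top_le_iff.1 (h ▸ hPH))
  have : IsLocalRing (H ⧸ P.map (algebraMap R H)) := .of_surjective' _ Ideal.Quotient.mk_surjective
  have : Module.Flat (R ⧸ P) (H ⧸ P.map (algebraMap R H)) :=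
    Module.Flat.of_linearEquiv (M := (R ⧸ P) ⊗[R] H)
      (Algebra.TensorProduct.quotIdealMapEquivQuotTensor H P).toLinearEquiv
  have hmax : (maximalIdeal (R ⧸ P)).map (algebraMap (R ⧸ P) (H ⧸ P.map (algebraMap R H))) =
      maximalIdeal (H ⧸ P.map (algebraMap R H)) := by
    rw [← IsLocalRing.map_maximalIdeal_of_surjective _ (Ideal.Quotient.mk_surjective (I := P)),
      Ideal.map_map, ← IsLocalRing.map_maximalIdeal_of_surjective _
        (Ideal.Quotient.mk_surjective (I := P.map (algebraMap R H))), ← hm, Ideal.map_map]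
    rfl
  have : IsLocalHom (algebraMap (R ⧸ P) (H ⧸ P.map (algebraMap R H))) :=
    ((local_hom_TFAE _).out 0 2).mpr hmax.le
  let F := (H ⧸ P.map (algebraMap R H)) ⧸
    (maximalIdeal (R ⧸ P)).map (algebraMap (R ⧸ P) (H ⧸ P.map (algebraMap R H)))
  have : (maximalIdeal (R ⧸ P)).map (algebraMap (R ⧸ P) (H ⧸ P.map (algebraMap R H))) |>.IsMaximal :=
    hmax ▸ maximalIdeal.isMaximal _
  let _ : Field F := Ideal.Quotient.field _
  rw [Groth.Calg4.ringKrullDim_eq_add_of_flat (R ⧸ P), ringKrullDim_eq_zero_of_isField (Field.toIsField F),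
    add_zero]

theorem comap_mem_minimalPrimes {q : Ideal H} (hq : q ∈ minimalPrimes H) :
    q.comap (algebraMap R H) ∈ minimalPrimes R := by
  have : q.IsPrime := hq.1.1
  obtain ⟨p, hp, hle⟩ := Ideal.exists_minimalPrimes_le (I := (⊥ : Ideal R))
    (J := q.comap (algebraMap R H)) bot_le
  have : p.IsPrime := hp.1.1
  have hlo : q.LiesOver (q.comap (algebraMap R H)) := ⟨rfl⟩
  obtain ⟨Q, hQle, hQp, hQo⟩ := Ideal.exists_ideal_le_liesOver_of_le (p := p)
    (q := q.comap (algebraMap R H)) q hle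
  have hQq : Q = q := le_antisymm hQle (hq.2 ⟨hQp, bot_le⟩ hQle)
  have h2 : p = q.comap (algebraMap R H) := by rw [hQo.over, hQq]
  rwa [← h2]

/-- A one-dimensional component of the completion is extended from the henselian ring. -/
theorem radical_map_eq [HenselianLocalRing R]
    (hm : (maximalIdeal R).map (algebraMap R H) = maximalIdeal H)
    (hd : ∀ (y : H) (k : ℕ), ∃ s : R, y - algebraMap R H s ∈ maximalIdeal H ^ k)
    {q : Ideal H} (hq : q ∈ minimalPrimes H) (hdim : ringKrullDim (H ⧸ q) ≤ 1) :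
    ((q.comap (algebraMap R H)).map (algebraMap R H)).radical = q := by
  classical
  have hqp : q.IsPrime := hq.1.1
  refine le_antisymm (hqp.radical_le_iff.2 Ideal.map_comap_le) ?_
  by_cases hqm : q = maximalIdeal H
  · rw [hqm]
    have hc : (maximalIdeal H).comap (algebraMap R H) = maximalIdeal R := by
      rw [← hm, Ideal.comap_map_eq_self_of_faithfullyFlat]
    rw [hc, hm]
    exact Ideal.le_radical
  have : IsDomain (H ⧸ q) := Ideal.Quotient.isDomain q
  have habove : ∀ Q : Ideal H, Q.IsPrime → q ≤ Q → Q = q ∨ Q = maximalIdeal H := by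
    intro Q hQ hle
    by_cases h0 : Q.map (Ideal.Quotient.mk q) = ⊥
    · refine Or.inl (le_antisymm (fun x hx => ?_) hle)
      rw [← Ideal.Quotient.eq_zero_iff_mem, ← Ideal.mem_bot, ← h0]
      exact Ideal.mem_map_of_mem _ hx
    have : Ring.KrullDimLE 1 (H ⧸ q) := (Ring.krullDimLE_iff).2 hdim
    have hQ' : (Q.map (Ideal.Quotient.mk q)).IsPrime :=
      Ideal.map_isPrime_of_surjective Ideal.Quotient.mk_surjective (by rwa [Ideal.mk_ker])
    have hmax := Ideal.comap_isMaximal_of_surjective (Ideal.Quotient.mk q) Ideal.Quotient.mk_surjective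
      (H := Ring.krullDimLE_one_iff_of_noZeroDivisors.1 inferInstance _ h0 hQ')
    rw [Ideal.comap_map_of_surjective _ Ideal.Quotient.mk_surjective, ← RingHom.ker_eq_comap_bot,
      Ideal.mk_ker, sup_eq_left.2 hle] at hmax
    exact Or.inr (IsLocalRing.eq_maximalIdeal hmax)
  have hfin := minimalPrimes.finite_of_isNoetherianRing H
  let F := hfin.toFinset.erase q
  obtain ⟨I₁, I₂, hI, hJ⟩ := Punctured.partition hm hd q (F.inf id)
    (fun Q hQ => by
      obtain ⟨q', hq', hle⟩ := Ideal.exists_minimalPrimes_le (I := (⊥ : Ideal H)) (J := Q) bot_le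
      by_cases h0 : q' = q
      · exact Or.inl (h0 ▸ hle)
      · exact Or.inr ((Finset.inf_le (f := id) (Finset.mem_erase.2 ⟨h0, hfin.mem_toFinset.2 hq'⟩)).trans hle))
    (fun Q hQ h1 h2 => by
      rcases habove Q hQ h1 with h0 | h0
      · obtain ⟨q', hq', hle⟩ := hQ.inf_le'.1 h2
        obtain ⟨hne, hmem⟩ := Finset.mem_erase.1 hq'
        have hmin := hfin.mem_toFinset.1 hmem
        subst h0
        exact absurd (le_antisymm hle (hq.2 hmin.1 hle)) hne
      · exact h0)
  rw [Ideal.radical_eq_sInf]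
  refine le_sInf fun Q ⟨hle, hQ⟩ => ?_
  by_cases hQm : Q = maximalIdeal H
  · exact hQm ▸ le_maximalIdeal hqp.ne_top
  have hPm : Q.comap (algebraMap R H) ≠ maximalIdeal R := fun h0 => hQm (le_antisymm
    (le_maximalIdeal hQ.ne_top) (hm ▸ Ideal.map_le_iff_le_comap.2 h0.ge))
  have h1 : I₁ ≤ Q.comap (algebraMap R H) :=
    ((hJ q hqp hqm).1 le_rfl).trans (Ideal.map_le_iff_le_comap.1 hle)
  obtain ⟨q', hq', hq'le⟩ := Ideal.exists_minimalPrimes_le (I := (⊥ : Ideal H)) (J := Q) bot_le
  by_contra hqQ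
  have h2 : I₂ ≤ Q.comap (algebraMap R H) := (hJ Q hQ hQm).2 ((Finset.inf_le (f := id) (Finset.mem_erase.2
    ⟨fun (h0 : q' = q) => hqQ (h0 ▸ hq'le), hfin.mem_toFinset.2 hq'⟩)).trans hq'le)
  exact (hI _ (Ideal.comap_isPrime _ Q) hPm).2 ⟨h1, h2⟩

/-- Components of dimension at most one of a henselian ring and of its completion. -/
theorem has_iff_completion [HenselianLocalRing R]
    (hm : (maximalIdeal R).map (algebraMap R H) = maximalIdeal H)
    (hd : ∀ (y : H) (k : ℕ), ∃ s : R, y - algebraMap R H s ∈ maximalIdeal H ^ k)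
    {d : WithBot ℕ∞} (hd01 : d = 0 ∨ d = 1) : Has R d ↔ Has H d := by
  have hd1 : d ≤ 1 := by rcases hd01 with rfl | rfl <;> norm_num
  have hback : ∀ {q : Ideal H}, q ∈ minimalPrimes H → ringKrullDim (H ⧸ q) ≤ 1 →
      ringKrullDim (R ⧸ q.comap (algebraMap R H)) = ringKrullDim (H ⧸ q) := by
    intro q hq hle
    have : q.IsPrime := hq.1.1
    rw [← ringKrullDim_quotient_map hm _ (Ideal.comap_isPrime (algebraMap R H) q).ne_top,
      ringKrullDim_quotient, ringKrullDim_quotient, ← PrimeSpectrum.zeroLocus_radical,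
      radical_map_eq hm hd hq hle]
  constructor
  · rintro ⟨P, hP, hPd⟩
    have : P.IsPrime := hP.1.1
    obtain ⟨Q, hQ⟩ := PrimeSpectrum.comap_surjective_of_faithfullyFlat (A := R) (B := H) ⟨P, ‹_›⟩
    obtain ⟨q, hq, hle⟩ := Ideal.exists_minimalPrimes_le (I := (⊥ : Ideal H)) (J := Q.asIdeal) bot_le
    have hPq : q.comap (algebraMap R H) = P := le_antisymm
      ((Ideal.comap_mono hle).trans (congrArg PrimeSpectrum.asIdeal hQ).le)
      (hP.2 (comap_mem_minimalPrimes hq).1 ((Ideal.comap_mono hle).trans (congrArg PrimeSpectrum.asIdeal hQ).le))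
    have hqd : ringKrullDim (H ⧸ q) ≤ 1 := by
      refine le_trans (ringKrullDim_le_of_surjective (Ideal.Quotient.factor
        (Ideal.map_le_iff_le_comap.2 hPq.ge : P.map (algebraMap R H) ≤ q))
        (Ideal.Quotient.factor_surjective _)) ?_
      rw [ringKrullDim_quotient_map hm P ‹P.IsPrime›.ne_top, hPd]
      exact hd1
    exact ⟨q, hq, by rw [← hback hq hqd, hPq, hPd]⟩
  · rintro ⟨q, hq, hqd⟩
    exact ⟨_, comap_mem_minimalPrimes hq, (hback hq (hqd ▸ hd1)).trans hqd⟩

end Completion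

end Groth.EtaleAlgebra.BranchDim

namespace Groth.EtaleAlgebra.BranchDim

open IsLocalRing

universe v

/-- A degree below two is zero or one. -/
theorem eq_zero_or_one {R : Type v} [CommRing R] [Nontrivial R]
    (h : ¬ (2 : WithBot ℕ∞) ≤ ringKrullDim R) : ringKrullDim R = 0 ∨ ringKrullDim R = 1 := by
  rw [not_le] at h
  have hlt : ringKrullDim R < ((2 : ℕ) : WithBot ℕ∞) := by exact_mod_cast h
  obtain ⟨n, hn⟩ : ∃ n : ℕ∞, ringKrullDim R = n := by
    refine (WithBot.ne_bot_iff_exists.1 ?_).imp fun _ => Eq.symm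
    exact fun h => absurd (h ▸ ringKrullDim_nonneg_of_nontrivial (R := R)) (by simp)
  rw [hn] at hlt ⊢
  have hn2 : n < ((2 : ℕ) : ℕ∞) := WithBot.coe_lt_coe.1 hlt
  obtain ⟨m, rfl⟩ := ENat.ne_top_iff_exists.1 (ne_top_of_lt hn2)
  have hm : m < 2 := by
    have := (ENat.coe_lt_coe (m := 2)).1 hn2
    exact this
  interval_cases m <;> simp

/-- The comparison between a henselian ring and its completion passes to quotients. -/
theorem has_iff_completion_quotient {R H : Type v} [CommRing R] [CommRing H] [IsLocalRing R]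
    [IsLocalRing H] [IsNoetherianRing R] [IsNoetherianRing H] [HenselianLocalRing R] [Algebra R H]
    [Module.FaithfullyFlat R H]
    (hm : (maximalIdeal R).map (algebraMap R H) = maximalIdeal H)
    (hd : ∀ (y : H) (k : ℕ), ∃ s : R, y - algebraMap R H s ∈ maximalIdeal H ^ k)
    (I : Ideal R) (hI : I ≠ ⊤) {d : WithBot ℕ∞} (hd01 : d = 0 ∨ d = 1) :
    Has (R ⧸ I) d ↔ Has (H ⧸ I.map (algebraMap R H)) d := by
  have hle : I.map (algebraMap R H) ≤ maximalIdeal H := hm ▸ Ideal.map_mono (le_maximalIdeal hI)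
  have : Nontrivial (R ⧸ I) := Ideal.Quotient.nontrivial_iff.2 hI
  have : IsLocalRing (R ⧸ I) := .of_surjective' _ Ideal.Quotient.mk_surjective
  have : Nontrivial (H ⧸ I.map (algebraMap R H)) := Ideal.Quotient.nontrivial_iff.2
    fun h => (maximalIdeal.isMaximal H).ne_top (top_le_iff.1 (h ▸ hle))
  have : IsLocalRing (H ⧸ I.map (algebraMap R H)) := .of_surjective' _ Ideal.Quotient.mk_surjective
  have : HenselianLocalRing (R ⧸ I) := Groth.HensPair.henselianLocalRing_quotient _ hI
  have hmax : (maximalIdeal (R ⧸ I)).map (algebraMap (R ⧸ I) (H ⧸ I.map (algebraMap R H))) =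
      maximalIdeal (H ⧸ I.map (algebraMap R H)) := by
    rw [← IsLocalRing.map_maximalIdeal_of_surjective _ (Ideal.Quotient.mk_surjective (I := I)),
      Ideal.map_map, ← IsLocalRing.map_maximalIdeal_of_surjective _
        (Ideal.Quotient.mk_surjective (I := I.map (algebraMap R H))), ← hm, Ideal.map_map]
    rfl
  have : IsLocalHom (algebraMap (R ⧸ I) (H ⧸ I.map (algebraMap R H))) :=
    ((local_hom_TFAE _).out 0 2).mpr hmax.le
  have : Module.Flat (R ⧸ I) (H ⧸ I.map (algebraMap R H)) :=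
    Module.Flat.of_linearEquiv (Algebra.TensorProduct.quotIdealMapEquivQuotTensor H I).toLinearEquiv
  have : Module.FaithfullyFlat (R ⧸ I) (H ⧸ I.map (algebraMap R H)) :=
    Module.FaithfullyFlat.of_flat_of_isLocalHom
  refine has_iff_completion hmax (fun y k => ?_) hd01
  obtain ⟨y, rfl⟩ := Ideal.Quotient.mk_surjective y
  obtain ⟨s, hs⟩ := hd y k
  refine ⟨Ideal.Quotient.mk I s, ?_⟩
  rw [show algebraMap (R ⧸ I) (H ⧸ I.map (algebraMap R H)) (Ideal.Quotient.mk I s) =
    Ideal.Quotient.mk (I.map (algebraMap R H)) (algebraMap R H s) from rfl, ← map_sub,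
    ← IsLocalRing.map_maximalIdeal_of_surjective _ (Ideal.Quotient.mk_surjective (I := I.map (algebraMap R H))),
    ← Ideal.map_pow]
  exact Ideal.mem_map_of_mem _ hs

end Groth.EtaleAlgebra.BranchDim
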