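import Mathlib

/-!
# Finitely presented modules over rings in which divisibility is total
-/

universe u v

namespace Groth.EtaleAlgebra.ChainRing

variable {R : Type u} [CommRing R] (h : ∀ a b : R, a ∣ b ∨ b ∣ a)

include h in
theorem exists_dvd_all {ι : Type*} (v : ι → R) (s : Finset ι) (hs : s.Nonempty) :
    ∃ i ∈ s, ∀ j ∈ s, v i ∣ v j := by
  induction hs using Finset.Nonempty.cons_induction with
  | singleton a => exact ⟨a, by simp, fun j hj => by rw [Finset.mem_singleton] at hj; rw [hj]⟩
  | cons a s ha hs ih =>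
    obtain ⟨i, hi, hmin⟩ := ih
    rcases h (v a) (v i) with h1 | h1
    · exact ⟨a, by simp, fun j hj => (Finset.mem_cons.1 hj).elim (fun e => by rw [e]) fun hj =>
        h1.trans (hmin j hj)⟩
    · exact ⟨i, Finset.mem_cons_of_mem hi, fun j hj => (Finset.mem_cons.1 hj).elim
        (fun e => by rw [e]; exact h1) fun hj => hmin j hj⟩

include h in
theorem exists_diagonal : ∀ (n : ℕ) (S : Finset (Fin n → R)),
    ∃ f : Fin n → R, Nonempty (((Fin n → R) ⧸ Submodule.span R (S : Set (Fin n → R))) ≃ₗ[R]
      ((i : Fin n) → R ⧸ Ideal.span {f i})) := by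
  classical
  intro n
  induction n with
  | zero => exact fun S => ⟨0, ⟨(LinearEquiv.ofSubsingleton _ _)⟩⟩
  | succ n ih =>
    intro S
    rcases S.eq_empty_or_nonempty with rfl | hne
    · refine ⟨0, ⟨(Submodule.quotEquivOfEqBot _ (by simp)) ≪≫ₗ
        LinearEquiv.piCongrRight fun i => (Submodule.quotEquivOfEqBot _ (by simp)).symm⟩⟩
    obtain ⟨⟨v, j⟩, hv, hdvd⟩ := exists_dvd_all h (fun p : (Fin (n + 1) → R) × Fin (n + 1) => p.1 p.2)
      (S ×ˢ Finset.univ) (hne.product Finset.univ_nonempty)
    have hvS : v ∈ S := (Finset.mem_product.1 hv).1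
    let a := v j
    have hall : ∀ x ∈ S, ∀ i, a ∣ x i := fun x hx i =>
      hdvd (x, i) (Finset.mem_product.2 ⟨hx, Finset.mem_univ i⟩)
    choose c hc using fun i => hall v hvS i
    let w : Fin (n + 1) → R := fun i => if i = j then 1 else c i
    have hw : ∀ i, v i = a * w i := fun i => by
      by_cases hi : i = j
      · simp [w, hi, a]
      · simpa [w, hi] using hc i
    have hwj : w j = 1 := if_pos rfl
    let q : (Fin (n + 1) → R) →ₗ[R] (Fin n → R) :=
      LinearMap.pi fun i => LinearMap.proj (j.succAbove i) - w (j.succAbove i) • LinearMap.proj j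
    let Φ : (Fin (n + 1) → R) ≃ₗ[R] R × (Fin n → R) :=
      { toFun := fun x => (x j, q x)
        map_add' := fun x y => by simp
        map_smul' := fun r x => by simp
        invFun := fun p => p.1 • w + Fin.insertNth (α := fun _ => R) j 0 p.2
        left_inv := fun x => funext fun i => by
          rcases Fin.eq_self_or_eq_succAbove j i with rfl | ⟨i, rfl⟩
          · simp [hwj]
          · simp [q]; ring
        right_inv := fun p => by
          ext i
          · simp [hwj]
          · simp [q, hwj]; ring }
    obtain ⟨f, ⟨e⟩⟩ := ih (S.image q)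
    have hΦ : (Submodule.span R (S : Set (Fin (n + 1) → R))).map (Φ : _ →ₗ[R] _) =
        Submodule.prod (Ideal.span {a}) (Submodule.span R (S.image q : Set (Fin n → R))) := by
      refine le_antisymm (Submodule.map_le_iff_le_comap.2 (Submodule.span_le.2 fun x hx => ?_)) ?_
      · exact ⟨Ideal.mem_span_singleton.2 (hall x hx j),
          Submodule.subset_span (Finset.mem_coe.2 (Finset.mem_image_of_mem q hx))⟩
      · have hav : ((a, 0) : R × (Fin n → R)) ∈
            (Submodule.span R (S : Set (Fin (n + 1) → R))).map (Φ : _ →ₗ[R] _) :=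
          ⟨v, Submodule.subset_span hvS, Prod.ext rfl (funext fun i => by
            show v (j.succAbove i) - w (j.succAbove i) * v j = 0
            rw [hw (j.succAbove i)]; ring)⟩
        rintro ⟨r, y⟩ ⟨hr, hy⟩
        obtain ⟨t, rfl⟩ := Ideal.mem_span_singleton'.1 hr
        have hy' : ((0, y) : R × (Fin n → R)) ∈
            (Submodule.span R (S : Set (Fin (n + 1) → R))).map (Φ : _ →ₗ[R] _) := by
          refine (Submodule.span_le (p := ((Submodule.span R (S : Set (Fin (n + 1) → R))).map
            (Φ : _ →ₗ[R] _)).comap (LinearMap.inr R R (Fin n → R)))).2 ?_ hy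
          rintro _ hz
          obtain ⟨x, hx, rfl⟩ := Finset.mem_image.1 hz
          obtain ⟨d, hd⟩ := hall x hx j
          have h1 : Φ x ∈ (Submodule.span R (S : Set (Fin (n + 1) → R))).map (Φ : _ →ₗ[R] _) :=
            ⟨x, Submodule.subset_span hx, rfl⟩
          have h2 := Submodule.sub_mem _ h1 (Submodule.smul_mem _ d hav)
          have h3 : Φ x - d • ((a, 0) : R × (Fin n → R)) = (0, q x) := by
            refine Prod.ext ?_ ?_
            · show x j - d * a = 0
              rw [hd]; ring
            · show q x - d • 0 = q x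
              simp
          show ((0, q x) : R × (Fin n → R)) ∈ (Submodule.span R (S : Set (Fin (n + 1) → R))).map (Φ : _ →ₗ[R] _)
          rw [← h3]
          exact h2
        have h4 := Submodule.add_mem _ (Submodule.smul_mem _ t hav) hy'
        simpa using h4
    refine ⟨Fin.insertNth (α := fun _ => R) j a f, ⟨?_⟩⟩
    refine Submodule.Quotient.equiv _ _ Φ hΦ ≪≫ₗ ?_
    let E : R × (Fin n → R) →ₗ[R] ((i : Fin n) → R ⧸ Ideal.span {f i}) :=
      (e : _ →ₗ[R] _).comp ((Submodule.mkQ (Submodule.span R (S.image q : Set (Fin n → R)))).comp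
        (LinearMap.snd R R (Fin n → R)))
    let g : Fin (n + 1) → R := Fin.insertNth (α := fun _ => R) j a f
    have hgs : ∀ i, Ideal.span {f i} ≤ Ideal.span {g (j.succAbove i)} := fun i => by
      simp [g]
    let comp : ∀ i, R × (Fin n → R) →ₗ[R] R ⧸ Ideal.span {g i} :=
      Fin.insertNth (α := fun i => R × (Fin n → R) →ₗ[R] R ⧸ Ideal.span {g i}) j
        ((Submodule.mkQ _).comp (LinearMap.fst R R _))
        fun i => (Submodule.factor (hgs i)).comp ((LinearMap.proj i).comp E)
    let π : R × (Fin n → R) →ₗ[R]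
        ((i : Fin (n + 1)) → R ⧸ Ideal.span {Fin.insertNth (α := fun _ => R) j a f i}) :=
      LinearMap.pi comp
    have hπj : ∀ p, π p j = Submodule.Quotient.mk p.1 := fun p => by
      simp [π, comp]
      rfl
    have hπs : ∀ p i, π p (j.succAbove i) = Submodule.factor (hgs i)
        (e (Submodule.Quotient.mk p.2) i) := fun p i => by
      simp [π, comp]
      rfl
    have hker : LinearMap.ker π =
        Submodule.prod (Ideal.span {a}) (Submodule.span R (S.image q : Set (Fin n → R))) := by
      ext p
      rw [LinearMap.mem_ker, Submodule.mem_prod, funext_iff]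
      refine ⟨fun hp => ⟨?_, ?_⟩, fun hp i => ?_⟩
      · have h6 := hp j
        rw [hπj, Pi.zero_apply, Submodule.Quotient.mk_eq_zero, Fin.insertNth_apply_same] at h6
        exact h6
      · rw [← Submodule.Quotient.mk_eq_zero, ← e.map_eq_zero_iff]
        funext i
        have h6 := hp (j.succAbove i)
        rw [hπs] at h6
        obtain ⟨z, hz⟩ := Submodule.Quotient.mk_surjective _ (e (Submodule.Quotient.mk p.2) i)
        rw [← hz, Pi.zero_apply] at h6 ⊢
        rw [Submodule.Quotient.mk_eq_zero]
        have h7 : (Submodule.Quotient.mk z : R ⧸ Ideal.span {g (j.succAbove i)}) = 0 := h6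
        rw [Submodule.Quotient.mk_eq_zero] at h7
        simpa [g] using h7
      · rcases Fin.eq_self_or_eq_succAbove j i with rfl | ⟨i, rfl⟩
        · rw [hπj, Pi.zero_apply, Submodule.Quotient.mk_eq_zero, Fin.insertNth_apply_same]
          exact hp.1
        · rw [hπs, (Submodule.Quotient.mk_eq_zero _).2 hp.2, map_zero, Pi.zero_apply, map_zero,
            Pi.zero_apply]
    have hsurj : Function.Surjective π := fun z => by
      choose x hx using fun i => Submodule.Quotient.mk_surjective _ (z i)
      obtain ⟨y, hy⟩ := Submodule.Quotient.mk_surjective _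
        (e.symm fun i => Submodule.Quotient.mk (x (j.succAbove i)))
      refine ⟨(x j, y), funext fun i => ?_⟩
      rcases Fin.eq_self_or_eq_succAbove j i with rfl | ⟨i, rfl⟩
      · rw [hπj]; exact hx _
      · rw [hπs]
        show Submodule.factor _ (e (Submodule.Quotient.mk y) i) = z (j.succAbove i)
        rw [hy, e.apply_symm_apply]
        exact hx _
    exact Submodule.quotEquivOfEq _ _ hker.symm ≪≫ₗ π.quotKerEquivOfSurjective hsurj

include h in
theorem exists_pi_cyclic (M : Type v) [AddCommGroup M] [Module R M]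
    [Module.FinitePresentation R M] :
    ∃ (n : ℕ) (f : Fin n → R), Nonempty (M ≃ₗ[R] ((i : Fin n) → R ⧸ Ideal.span {f i})) := by
  obtain ⟨n, K, e, hK⟩ := Module.FinitePresentation.exists_fin R M
  obtain ⟨S, rfl⟩ := hK
  obtain ⟨f, ⟨e'⟩⟩ := exists_diagonal h n S
  exact ⟨n, f, ⟨e ≪≫ₗ e'⟩⟩

end Groth.EtaleAlgebra.ChainRing
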