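import Groth.Agent.EtaleAlgebra.EtRamBasic
import Mathlib.RingTheory.Flat.TorsionFree
import Mathlib.RingTheory.Flat.Stability
import Mathlib.RingTheory.Ideal.GoingDown
import Mathlib.RingTheory.LocalRing.ResidueField.Basic
import Mathlib.RingTheory.TensorProduct.Basic
import Mathlib.RingTheory.Localization.LocalizationLocalization

/-!
# A common extension of two valuations over a DVR
-/

namespace Groth.EtaleAlgebra

open IsLocalRing TensorProduct EtRam

universe u

/-- A torsion-free algebra over a Dedekind domain is flat. -/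
theorem flat_of_injective_algebraMap (B C : Type u) [CommRing B] [IsDedekindDomain B] [CommRing C]
    [IsDomain C] [Algebra B C] (h : Function.Injective (algebraMap B C)) : Module.Flat B C := by
  have : FaithfulSMul B C := (faithfulSMul_iff_algebraMap_injective B C).2 h
  infer_instance

/-- Two local domains, flat and local over `B`, have a joint prime in the tensor product sitting
over both maximal ideals, above a prime contracting to zero on both sides. -/
theorem exists_tensor_primes (B W C : Type u) [CommRing B] [IsDomain B] [IsDiscreteValuationRing B]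
    [CommRing W] [IsDomain W] [IsLocalRing W] [CommRing C] [IsDomain C] [IsLocalRing C]
    [Algebra B W] [Algebra B C] [IsLocalHom (algebraMap B W)] [IsLocalHom (algebraMap B C)]
    (hW : Function.Injective (algebraMap B W)) (hC : Function.Injective (algebraMap B C)) :
    ∃ (q P : Ideal (W ⊗[B] C)), q.IsPrime ∧ P.IsPrime ∧ P ≤ q ∧
      q.comap (Algebra.TensorProduct.includeLeftRingHom : W →+* W ⊗[B] C) = maximalIdeal W ∧
      q.comap (Algebra.TensorProduct.includeRight : C →ₐ[B] W ⊗[B] C).toRingHom = maximalIdeal C ∧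
      P.comap (Algebra.TensorProduct.includeLeftRingHom : W →+* W ⊗[B] C) = ⊥ ∧
      P.comap (Algebra.TensorProduct.includeRight : C →ₐ[B] W ⊗[B] C).toRingHom = ⊥ := by
  classical
  have : Module.Flat B C := flat_of_injective_algebraMap B C hC
  have : Module.Flat B W := flat_of_injective_algebraMap B W hW
  have : Nontrivial (ResidueField W ⊗[ResidueField B] ResidueField C) := inferInstance
  let φ : W ⊗[B] C →ₐ[B] ResidueField W ⊗[ResidueField B] ResidueField C :=
    Algebra.TensorProduct.lift
      (((Algebra.TensorProduct.includeLeft :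
          ResidueField W →ₐ[ResidueField B] _).restrictScalars B).comp
        (IsScalarTower.toAlgHom B W (ResidueField W)))
      (((Algebra.TensorProduct.includeRight :
          ResidueField C →ₐ[ResidueField B] _).restrictScalars B).comp
        (IsScalarTower.toAlgHom B C (ResidueField C)))
      (fun _ _ => Commute.all _ _)
  obtain ⟨M, hM⟩ := Ideal.exists_maximal (ResidueField W ⊗[ResidueField B] ResidueField C)
  let q : Ideal (W ⊗[B] C) := M.comap φ.toRingHom
  have hqW : q.comap (Algebra.TensorProduct.includeLeftRingHom : W →+* W ⊗[B] C) = maximalIdeal W := by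
    refine ((maximalIdeal.isMaximal W).eq_of_le (Ideal.IsPrime.ne_top inferInstance) ?_).symm
    intro w hw
    show φ (w ⊗ₜ (1 : C)) ∈ M
    have : residue W w = 0 := (residue_eq_zero_iff w).2 hw
    simp [φ, this]
  have hqC : q.comap (Algebra.TensorProduct.includeRight : C →ₐ[B] W ⊗[B] C).toRingHom =
      maximalIdeal C := by
    refine ((maximalIdeal.isMaximal C).eq_of_le (Ideal.IsPrime.ne_top inferInstance) ?_).symm
    intro c hc
    show φ ((1 : W) ⊗ₜ c) ∈ M
    have : residue C c = 0 := (residue_eq_zero_iff c).2 hc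
    simp [φ, this]
  obtain ⟨P, hP, hPq⟩ := Ideal.exists_minimalPrimes_le (I := (⊥ : Ideal (W ⊗[B] C))) (J := q) bot_le
  have hPp : P.IsPrime := hP.1.1
  have hmin : ∀ (R : Type u) [CommRing R] [IsDomain R] [Algebra R (W ⊗[B] C)]
      [Module.Flat R (W ⊗[B] C)], P.under R = ⊥ := by
    intro R _ _ _ _
    by_contra h
    have hlt : (⊥ : Ideal R) < P.under R := bot_lt_iff_ne_bot.2 h
    obtain ⟨Q, hQP, hQ, -⟩ := Ideal.exists_ideal_lt_liesOver_of_lt (S := W ⊗[B] C) P hlt
    exact hQP.not_ge (hP.2 ⟨hQ, bot_le⟩ hQP.le)
  refine ⟨q, P, inferInstance, hPp, hPq, hqW, hqC, hmin W, ?_⟩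
  let := (Algebra.TensorProduct.includeRight : C →ₐ[B] W ⊗[B] C).toRingHom.toAlgebra
  have e : C ⊗[B] W ≃ₗ[C] W ⊗[B] C :=
    { (TensorProduct.comm B C W).toAddEquiv with
      map_smul' := fun c x => by
        change TensorProduct.comm B C W (c • x) = c • TensorProduct.comm B C W x
        induction x with
        | zero => simp
        | add a b ha hb => simp only [smul_add, map_add, ha, hb]
        | tmul c' w =>
          show TensorProduct.comm B C W ((c • c') ⊗ₜ w) =
            (Algebra.TensorProduct.includeRight : C →ₐ[B] W ⊗[B] C) c * (w ⊗ₜ c')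
          simp }
  have : Module.Flat C (W ⊗[B] C) := Module.Flat.of_linearEquiv e.symm
  exact hmin C

/-- A prime above the kernel of a map to a field is sent into the nonunits of a valuation subring. -/
theorem exists_valuationSubring_of_ker_le {R : Type u} [CommRing R] {F : Type u} [Field F]
    (j : R →+* F) {q : Ideal R} (hq : q ≠ ⊤) (hker : RingHom.ker j ≤ q) :
    ∃ V : ValuationSubring F, (∀ x, j x ∈ V) ∧ ∀ x ∈ q, j x ∈ V.nonunits := by
  have hne : q.map j.rangeRestrict ≠ ⊤ := by
    intro h
    have h1 := Ideal.comap_map_of_surjective' _ j.rangeRestrict_surjective q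
    rw [h, Ideal.comap_top, RingHom.ker_rangeRestrict, sup_eq_left.2 hker] at h1
    exact hq h1.symm
  obtain ⟨V, hV, hVn⟩ := Ideal.image_subset_nonunits_valuationSubring _ hne
  exact ⟨V, fun x => hV ⟨x, rfl⟩,
    fun x hx => hVn ⟨j.rangeRestrict x, Ideal.mem_map_of_mem _ hx, rfl⟩⟩

variable {B L M M₀ : Type u} [CommRing B] [IsDomain B] [IsDiscreteValuationRing B] [Field L]
  [Algebra B L] [IsFractionRing B L] [Field M] [Algebra L M] [Field M₀] [Algebra L M₀]

set_option linter.overlappingInstances false in
/-- Two valuation subrings dominating a DVR have a common extension. -/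
theorem exists_common_extension {W : ValuationSubring M}
    (hW : Dominates B ((algebraMap L M).comp (algebraMap B L)) W) (C : Type u) [CommRing C]
    [IsDomain C] [ValuationRing C] [IsLocalRing C] [Algebra B C] [IsLocalHom (algebraMap B C)]
    [Algebra C M₀] [IsFractionRing C M₀] [Algebra B M₀] [IsScalarTower B C M₀]
    [IsScalarTower B L M₀] :
    ∃ (M' : Type u) (_ : Field M') (f : M →+* M') (g : M₀ →+* M'),
      f.comp (algebraMap L M) = g.comp (algebraMap L M₀) ∧
        ∃ W' : ValuationSubring M', W'.comap f = W ∧ Dominates C (g.comp (algebraMap C M₀)) W' := by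
  let := (RingHom.codRestrict _ W hW.1).toAlgebra
  have : IsLocalHom (algebraMap B W) := isLocalHom_codRestrict hW
  have hWi : Function.Injective (algebraMap B W) := fun a b hab =>
    IsFractionRing.injective B L ((algebraMap L M).injective (congrArg Subtype.val hab))
  have hCi : Function.Injective (algebraMap B C) := by
    refine Function.Injective.of_comp (f := algebraMap C M₀) ?_
    rw [← RingHom.coe_comp, ← IsScalarTower.algebraMap_eq B C M₀,
      IsScalarTower.algebraMap_eq B L M₀]
    exact (algebraMap L M₀).injective.comp (IsFractionRing.injective B L)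
  obtain ⟨q, P, hq, hP, hPq, hqW, hqC, hPW, hPC⟩ := exists_tensor_primes B W C hWi hCi
  let R := (W ⊗[B] C) ⧸ P
  let M' := FractionRing R
  let iW : W →+* M' := (algebraMap R M').comp
    ((Ideal.Quotient.mk P).comp Algebra.TensorProduct.includeLeftRingHom)
  let iC : C →+* M' := (algebraMap R M').comp
    ((Ideal.Quotient.mk P).comp (Algebra.TensorProduct.includeRight : C →ₐ[B] W ⊗[B] C).toRingHom)
  have hiW : Function.Injective iW := by
    refine (injective_iff_map_eq_zero iW).2 fun x hx => ?_
    have h1 := (map_eq_zero_iff _ (IsFractionRing.injective R M')).1 hx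
    exact (Submodule.mem_bot W).1 (hPW.le (Ideal.mem_comap.2 ((Ideal.Quotient.eq_zero_iff_mem (I := P)).1 h1)))
  have hiC : Function.Injective iC := by
    refine (injective_iff_map_eq_zero iC).2 fun x hx => ?_
    have h1 := (map_eq_zero_iff _ (IsFractionRing.injective R M')).1 hx
    exact (Submodule.mem_bot C).1 (hPC.le (Ideal.mem_comap.2 ((Ideal.Quotient.eq_zero_iff_mem (I := P)).1 h1)))
  let f : M →+* M' := IsFractionRing.lift (A := W) (K := M) hiW
  let g : M₀ →+* M' := IsFractionRing.lift (A := C) (K := M₀) hiC
  have hf : ∀ w : W, f (w : M) = iW w := fun w => IsFractionRing.lift_algebraMap hiW w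
  have hg : ∀ c : C, g (algebraMap C M₀ c) = iC c := fun c => IsFractionRing.lift_algebraMap hiC c
  refine ⟨M', inferInstance, f, g, ?_, ?_⟩
  · apply IsLocalization.ringHom_ext (nonZeroDivisors B)
    ext b
    simp only [RingHom.comp_apply]
    rw [← IsScalarTower.algebraMap_apply B L M₀, IsScalarTower.algebraMap_apply B C M₀, hg,
      show algebraMap L M (algebraMap B L b) = ((algebraMap B W b : W) : M) from rfl, hf]
    simp only [iW, iC, RingHom.comp_apply, AlgHom.toRingHom_eq_coe, RingHom.coe_coe,
      Algebra.TensorProduct.includeLeftRingHom_apply, Algebra.TensorProduct.includeRight_apply]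
    congr 2
    rw [Algebra.algebraMap_eq_smul_one, Algebra.algebraMap_eq_smul_one, smul_tmul]
  let j : W ⊗[B] C →+* M' := (algebraMap R M').comp (Ideal.Quotient.mk P)
  have hker : RingHom.ker j ≤ q := fun x hx => hPq (Ideal.Quotient.eq_zero_iff_mem.1
    ((map_eq_zero_iff _ (IsFractionRing.injective R M')).1 hx))
  obtain ⟨V, hmem, hnon⟩ := exists_valuationSubring_of_ker_le j hq.ne_top hker
  refine ⟨V, (valuationSubring_eq_of_le (fun x hx => ?_) fun x hx => ?_).symm, fun c => ?_, fun c hc => ?_⟩
  · show f x ∈ V
    rw [show f x = iW ⟨x, hx⟩ from hf ⟨x, hx⟩]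
    exact hmem _
  · obtain ⟨hxW, hxm⟩ := W.mem_nonunits_iff_exists_mem_maximalIdeal.1 hx
    rw [mem_nonunits_comap, show f x = iW ⟨x, hxW⟩ from hf ⟨x, hxW⟩]
    refine hnon _ ?_
    rw [← Ideal.mem_comap (f := (Algebra.TensorProduct.includeLeftRingHom : W →+* W ⊗[B] C)), hqW]
    exact hxm
  · rw [RingHom.comp_apply, hg]
    exact hmem _
  · rw [RingHom.comp_apply, hg, valuation_lt_one_iff_mem_nonunits]
    exact hnon _ (hqC.ge hc)

set_option linter.overlappingInstances false in
/-- Weak unramifiedness descends from a larger valuation ring. -/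
theorem weaklyUnramified_of_tower (R S T : Type u) [CommRing R] [IsLocalRing R] [CommRing S]
    [IsDomain S] [ValuationRing S] [IsLocalRing S] [CommRing T] [IsDomain T] [IsLocalRing T]
    [Algebra R S] [Algebra S T] [Algebra R T] [IsScalarTower R S T]
    [IsLocalHom (algebraMap R S)] [IsLocalHom (algebraMap S T)]
    (hST : Function.Injective (algebraMap S T)) (h : IsWeaklyUnramified R T) :
    IsWeaklyUnramified R S := by
  refine le_antisymm (((IsLocalRing.local_hom_TFAE (algebraMap R S)).out 0 2 rfl rfl).1 inferInstance)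
    fun x hx => ?_
  by_contra hx'
  have hx0 : x ≠ 0 := fun h0 => hx' (h0 ▸ Ideal.zero_mem _)
  have hle : (maximalIdeal R).map (algebraMap R S) ≤ Ideal.span {x} * maximalIdeal S := by
    intro a ha
    rcases ValuationRing.dvd_total a x with ⟨t, rfl⟩ | ⟨t, rfl⟩
    · exact absurd (Ideal.mul_mem_right _ _ ha) hx'
    · refine Ideal.mul_mem_mul (Ideal.mem_span_singleton_self x) ?_
      rw [mem_maximalIdeal, mem_nonunits_iff]
      exact fun hu => hx' ((Ideal.unit_mul_mem_iff_mem _ hu).1 (by rwa [mul_comm] at ha))
  have hT : maximalIdeal T ≤ Ideal.span {algebraMap S T x} * maximalIdeal T := by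
    calc maximalIdeal T = (maximalIdeal R).map (algebraMap R T) := h.symm
      _ = ((maximalIdeal R).map (algebraMap R S)).map (algebraMap S T) := by
        rw [Ideal.map_map, ← IsScalarTower.algebraMap_eq]
      _ ≤ (Ideal.span {x} * maximalIdeal S).map (algebraMap S T) := Ideal.map_mono hle
      _ ≤ Ideal.span {algebraMap S T x} * maximalIdeal T := by
        rw [Ideal.map_mul, Ideal.map_span, Set.image_singleton]
        exact Ideal.mul_mono_right
          (((IsLocalRing.local_hom_TFAE (algebraMap S T)).out 0 2 rfl rfl).1 inferInstance)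
  have hxT : algebraMap S T x ∈ maximalIdeal T :=
    ((IsLocalRing.local_hom_TFAE (algebraMap S T)).out 0 2 rfl rfl).1 inferInstance
      (Ideal.mem_map_of_mem _ hx)
  obtain ⟨t, ht, he⟩ := Ideal.mem_span_singleton_mul.1 (hT hxT)
  rw [mul_eq_left₀ ((map_ne_zero_iff _ hST).2 hx0)] at he
  exact (maximalIdeal.isMaximal T).ne_top ((Ideal.eq_top_iff_one _).2 (he ▸ ht))

end Groth.EtaleAlgebra
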