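import Groth.Agent.Calg4.SmoothRegularField
import Groth.Agent.Calg4.Japanese
import Groth.Agent.Calg1.NagataTheorem
import Groth.Agent.CurveNorm.Main
import Mathlib.RingTheory.Etale.Descent
import Mathlib.RingTheory.DedekindDomain.Basic

/-!
# A level of smoothness for the normalization of a curve

For an algebra of finite type of dimension `≤ 1` over `k` and a perfect extension `P` with
`(P ⊗ A)_red` a domain, all sufficiently large intermediate fields `E` have the property that the
normalization of `(E ⊗ A)_red` is smooth over `E`.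
-/

set_option autoImplicit false
set_option linter.style.haveILetI false
universe u
open TensorProduct

namespace Groth.EtaleAlgebra.CurveLevel

/-- A Dedekind algebra of finite type over a perfect field is smooth. -/
theorem smooth_of_dedekind (P C : Type u) [Field P] [PerfectField P] [CommRing C] [IsDedekindDomain C]
    [Algebra P C] [Algebra.FiniteType P C] : Algebra.Smooth P C := by
  haveI : Algebra.FinitePresentation P C := Algebra.FinitePresentation.of_finiteType.mp inferInstance
  refine ⟨Algebra.smoothLocus_eq_univ_iff.1 (Set.eq_univ_of_forall fun q => ?_), inferInstance⟩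
  haveI : Algebra.EssFiniteType P q.asIdeal.ResidueField := Algebra.EssFiniteType.comp P C _
  haveI : Algebra.FormallySmooth P q.asIdeal.ResidueField := Algebra.FormallySmooth.of_perfectField
  exact Groth.Calg4.isSmoothAt_of_isRegularLocalRing q.asIdeal

/-- An integral extension of a ring of dimension `≤ 1` has dimension `≤ 1`. -/
theorem dimensionLEOne_of_isIntegral (A B : Type u) [CommRing A] [CommRing B] [IsDomain B] [Algebra A B]
    [Algebra.IsIntegral A B] [Ring.KrullDimLE 1 A] : Ring.DimensionLEOne B := by
  refine ⟨fun {Q} hQ0 hQ => ?_⟩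
  rcases Ring.krullDimLE_one_iff.1 ‹_› (Q.comap (algebraMap A B)) inferInstance with hmin | hmax
  · have hlt := Ideal.IsIntegral.comap_lt_comap (R := A) (I := (⊥ : Ideal B)) (J := Q)
      (bot_lt_iff_ne_bot.2 hQ0)
    exact absurd (hmin.2 ⟨inferInstance, bot_le⟩ hlt.le) hlt.not_ge
  · exact Ideal.isMaximal_of_isIntegral_of_isMaximal_comap Q hmax

/-- The normalization of `R` becomes the normalization of `RP = P ⊗ R` as soon as the latter is
generated by elements coming from the former; smoothness then descends. -/
theorem smooth_integralClosure_of_baseChange {E P : Type u} [Field E] [Field P] [Algebra E P]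
    {R RP : Type u} [CommRing R] [IsDomain R] [Algebra E R] [CommRing RP] [IsDomain RP] [Algebra P RP]
    (e : P ⊗[E] R ≃ₐ[P] RP)
    (L : Type u) [Field L] [Algebra R L] [IsFractionRing R L] [Algebra E L] [IsScalarTower E R L]
    (M : Type u) [Field M] [Algebra RP M] [IsFractionRing RP M] [Algebra P M] [IsScalarTower P RP M]
    (g : Set M) (hg : integralClosure RP M ≤ Algebra.adjoin RP g)
    (hgen : ∀ x ∈ g, ∃ (r s : R) (q : Polynomial RP), q.Monic ∧
      (∀ n, ∃ y : R, e (1 ⊗ₜ y) = q.coeff n) ∧ Polynomial.eval₂ (algebraMap RP M) x q = 0 ∧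
      algebraMap RP M (e (1 ⊗ₜ s)) ≠ 0 ∧
      x * algebraMap RP M (e (1 ⊗ₜ s)) = algebraMap RP M (e (1 ⊗ₜ r)))
    [hsm : Algebra.Smooth P (integralClosure RP M)] : Algebra.Smooth E (integralClosure R L) := by
  letI : Algebra E M := ((algebraMap P M).comp (algebraMap E P)).toAlgebra
  haveI : IsScalarTower E P M := IsScalarTower.of_algebraMap_eq fun _ => rfl
  let eR : R →ₐ[E] M := (((IsScalarTower.toAlgHom P RP M).comp e.toAlgHom).restrictScalars E).comp
    Algebra.TensorProduct.includeRight
  have heR : Function.Injective eR :=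
    (IsFractionRing.injective RP M).comp (e.injective.comp
      (Algebra.TensorProduct.includeRight_injective (algebraMap E P).injective))
  let f : L →ₐ[E] M := IsFractionRing.liftAlgHom (g := eR) heR
  have hfr : ∀ r, f (algebraMap R L r) = algebraMap RP M (e (1 ⊗ₜ r)) := fun r =>
    IsFractionRing.lift_algebraMap (g := eR.toRingHom) heR r
  let C := integralClosure R L
  let F : P ⊗[E] C →ₐ[P] M := Algebra.TensorProduct.lift (Algebra.ofId P M)
    (f.comp (C.val.restrictScalars E)) fun _ _ => Commute.all _ _
  have hF : ∀ (p : P) (c : C), F (p ⊗ₜ c) = algebraMap P M p * f c := fun p c =>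
    Algebra.TensorProduct.lift_tmul _ _ _ p c
  have hinj : Function.Injective F := by
    rw [injective_iff_map_eq_zero]
    intro z hz
    obtain ⟨s, hs, w, hw⟩ : ∃ s : R, s ≠ 0 ∧ ∃ w : P ⊗[E] R,
        (1 : P) ⊗ₜ[E] algebraMap R C s * z =
          Algebra.TensorProduct.map (AlgHom.id P P) (IsScalarTower.toAlgHom E R C) w := by
      clear hz
      induction z using TensorProduct.induction_on with
      | zero => exact ⟨1, one_ne_zero, 0, by simp⟩
      | tmul p c =>
        obtain ⟨⟨r, s⟩, hrs⟩ := IsLocalization.surj (nonZeroDivisors R) (c : L)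
        refine ⟨s, nonZeroDivisors.ne_zero s.2, p ⊗ₜ r, ?_⟩
        rw [Algebra.TensorProduct.tmul_mul_tmul, one_mul, Algebra.TensorProduct.map_tmul]
        congr 1
        exact Subtype.ext ((mul_comm _ _).trans hrs)
      | add x y hx hy =>
        obtain ⟨s, hs, v, hv⟩ := hx
        obtain ⟨t, ht, w, hw⟩ := hy
        refine ⟨s * t, mul_ne_zero hs ht, (1 ⊗ₜ t) * v + (1 ⊗ₜ s) * w, ?_⟩
        simp only [map_add, map_mul, Algebra.TensorProduct.map_tmul, AlgHom.coe_id, id_eq, ← hv, ← hw,
          IsScalarTower.coe_toAlgHom']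
        rw [show ((1 : P) ⊗ₜ[E] (algebraMap R C s * algebraMap R C t)) =
          (1 ⊗ₜ algebraMap R C s) * (1 ⊗ₜ algebraMap R C t) by
          rw [Algebra.TensorProduct.tmul_mul_tmul, one_mul]]
        ring
    have hFmap : ∀ w : P ⊗[E] R, F (Algebra.TensorProduct.map (AlgHom.id P P)
        (IsScalarTower.toAlgHom E R C) w) = algebraMap RP M (e w) := fun w => by
      induction w using TensorProduct.induction_on with
      | zero => simp
      | tmul p r =>
        rw [Algebra.TensorProduct.map_tmul, hF, show p ⊗ₜ[E] r = p • ((1 : P) ⊗ₜ[E] r) by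
          rw [TensorProduct.smul_tmul', smul_eq_mul, mul_one], map_smul, Algebra.smul_def, map_mul,
          ← IsScalarTower.algebraMap_apply]
        exact congrArg _ (hfr r)
      | add x y hx hy => simp only [map_add, hx, hy]
    have hw0 : w = 0 := by
      refine e.injective (IsFractionRing.injective RP M ?_)
      rw [← hFmap, ← hw, map_mul, hz, mul_zero, map_zero, map_zero]
    rw [hw0, map_zero] at hw
    have hreg : Function.Injective (LinearMap.mulLeft E (algebraMap R C s)) := fun x y h => by
      refine mul_left_cancel₀ (fun h0 => hs ?_) h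
      have := congrArg Subtype.val h0
      exact IsFractionRing.injective R L (this.trans (map_zero (algebraMap R L)).symm)
    have h2 := Module.Flat.lTensor_preserves_injective_linearMap (M := P) _ hreg
    refine h2 ?_
    rw [map_zero, ← hw]
    clear hw hz
    induction z using TensorProduct.induction_on with
    | zero => simp
    | tmul p c => simp [Algebra.TensorProduct.tmul_mul_tmul]
    | add x y hx hy => simp only [map_add, mul_add, hx, hy]
  have hle : ∀ z, F z ∈ integralClosure RP M := fun z => by
    induction z using TensorProduct.induction_on with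
    | zero => rw [map_zero]; exact zero_mem _
    | tmul p c =>
      rw [hF]
      refine mul_mem ?_ ?_
      · rw [IsScalarTower.algebraMap_apply P RP M]
        exact Subalgebra.algebraMap_mem _ _
      · obtain ⟨q, hq, hq0⟩ := c.2
        refine ⟨q.map ((e.toAlgHom.toRingHom).comp
          (Algebra.TensorProduct.includeRight : R →ₐ[E] P ⊗[E] R).toRingHom), hq.map _, ?_⟩
        rw [Polynomial.eval₂_map]
        refine Eq.trans ?_ ((Polynomial.hom_eval₂ q (algebraMap R L) f.toRingHom (c : L)).symm.trans
          ((congrArg f hq0).trans (map_zero f)))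
        exact congrArg (fun ψ => Polynomial.eval₂ ψ (f (c : L)) q) (RingHom.ext fun r => (hfr r).symm)
    | add x y hx hy => rw [map_add]; exact add_mem hx hy
  let F' : P ⊗[E] C →ₐ[P] integralClosure RP M :=
    F.codRestrict ((integralClosure RP M).restrictScalars P) hle
  have hsurj : Function.Surjective F' := fun y => by
    have key : ∀ x ∈ Algebra.adjoin RP g, x ∈ F.range := fun x hx => by
      induction hx using Algebra.adjoin_induction with
      | mem x hx =>
        obtain ⟨r, s, q, hqm, hqc, hq0, hs, hxs⟩ := hgen x hx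
        let l := algebraMap R L r / algebraMap R L s
        have hl : f l = x := by
          rw [map_div₀, hfr, hfr, div_eq_iff hs]
          exact hxs.symm
        have hlint : IsIntegral R l := by
          obtain ⟨q', hq', -, hq'm⟩ := Polynomial.lifts_and_degree_eq_and_monic
            ((Polynomial.lifts_iff_coeff_lifts (f := (e.toAlgHom.toRingHom.comp
              (Algebra.TensorProduct.includeRight : R →ₐ[E] P ⊗[E] R).toRingHom)) q).2 fun n => hqc n) hqm
          refine ⟨q', hq'm, f.toRingHom.injective ?_⟩
          rw [Polynomial.hom_eval₂, map_zero]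
          refine Eq.trans ?_ hq0
          rw [show f.toRingHom l = x from hl, ← hq', Polynomial.eval₂_map]
          exact congrArg (fun ψ => Polynomial.eval₂ ψ x q') (RingHom.ext fun r => hfr r)
        refine ⟨1 ⊗ₜ ⟨l, hlint⟩, ?_⟩
        show F ((1 : P) ⊗ₜ[E] (⟨l, hlint⟩ : C)) = x
        rw [hF, map_one, one_mul]
        exact hl
      | algebraMap w =>
        obtain ⟨w, rfl⟩ := e.surjective w
        refine ⟨Algebra.TensorProduct.map (AlgHom.id P P) (IsScalarTower.toAlgHom E R C) w, ?_⟩
        induction w using TensorProduct.induction_on with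
        | zero => simp
        | tmul p r =>
          show F (Algebra.TensorProduct.map _ _ (p ⊗ₜ[E] r)) = _
          rw [Algebra.TensorProduct.map_tmul, hF, show p ⊗ₜ[E] r = p • ((1 : P) ⊗ₜ[E] r) by
            rw [TensorProduct.smul_tmul', smul_eq_mul, mul_one], map_smul, Algebra.smul_def, map_mul,
            ← IsScalarTower.algebraMap_apply]
          exact congrArg _ (hfr r)
        | add x y hx hy => simp only [map_add] at hx hy ⊢; exact congrArg₂ (· + ·) hx hy
      | add x y _ _ hx hy => exact add_mem hx hy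
      | mul x y _ _ hx hy => exact mul_mem hx hy
    obtain ⟨z, hz⟩ := key _ (hg y.2)
    exact ⟨z, Subtype.ext hz⟩
  let Φ : P ⊗[E] C ≃ₐ[P] integralClosure RP M := AlgEquiv.ofBijective F'
    ⟨fun a b h => hinj (congrArg Subtype.val h), hsurj⟩
  haveI : Algebra.Smooth P (P ⊗[E] C) := Algebra.Smooth.of_equiv Φ.symm
  exact Algebra.Smooth.of_smooth_tensorProduct_of_faithfullyFlat P

/-- An element of `P ⊗ A` comes from all levels containing finitely many scalars. -/
theorem exists_finset_mem_range {k A P : Type u} [Field k] [CommRing A] [Algebra k A] [Field P]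
    [Algebra k P] (x : P ⊗[k] A) :
    ∃ F : Finset P, ∀ (E : Type u) [Field E] [Algebra k E] [Algebra E P] [IsScalarTower k E P],
      (F : Set P) ⊆ Set.range (algebraMap E P) →
      x ∈ (Algebra.TensorProduct.map (IsScalarTower.toAlgHom k E P) (AlgHom.id k A)).range := by
  classical
  induction x using TensorProduct.induction_on with
  | zero => exact ⟨∅, fun E _ _ _ _ _ => zero_mem _⟩
  | tmul c a =>
    refine ⟨{c}, fun E _ _ _ _ h => ?_⟩
    obtain ⟨e, he⟩ := h (Finset.mem_coe.2 (Finset.mem_singleton_self c))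
    exact ⟨e ⊗ₜ a, by simp [he]⟩
  | add x y hx hy =>
    obtain ⟨F, hF⟩ := hx
    obtain ⟨G, hG⟩ := hy
    exact ⟨F ∪ G, fun E _ _ _ _ h => add_mem
      (hF E fun z hz => h (by simp [Finset.mem_coe.mp hz]))
      (hG E fun z hz => h (by simp [Finset.mem_coe.mp hz]))⟩

variable {k A P : Type u} [Field k] [CommRing A] [Algebra k A] [Algebra.FiniteType k A]
  [Ring.KrullDimLE 1 A] [Field P] [Algebra k P] [Algebra.IsAlgebraic k P] [PerfectField P]

set_option synthInstance.maxHeartbeats 100000 in
-- For all intermediate fields above some finite level, the normalization is smooth.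
set_option maxHeartbeats 1000000 in
theorem exists_level [hNp : (nilradical (P ⊗[k] A)).IsPrime] :
    ∃ S : Finset P, ∀ (E : Type u) [Field E] [Algebra k E] [Algebra E P] [IsScalarTower k E P],
      (S : Set P) ⊆ Set.range (algebraMap E P) →
      ∀ [(nilradical (E ⊗[k] A)).IsPrime] (L : Type u) [Field L]
        [Algebra ((E ⊗[k] A) ⧸ nilradical (E ⊗[k] A)) L]
        [IsFractionRing ((E ⊗[k] A) ⧸ nilradical (E ⊗[k] A)) L],
        ((algebraMap ((E ⊗[k] A) ⧸ nilradical (E ⊗[k] A))
            (integralClosure ((E ⊗[k] A) ⧸ nilradical (E ⊗[k] A)) L)).comp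
          (algebraMap E ((E ⊗[k] A) ⧸ nilradical (E ⊗[k] A)))).Smooth := by
  classical
  let N := nilradical (P ⊗[k] A)
  let RP := (P ⊗[k] A) ⧸ N
  let M := FractionRing RP
  haveI : IsNoetherianRing (P ⊗[k] A) := Algebra.FiniteType.isNoetherianRing P _
  haveI hft : Algebra.FiniteType P RP :=
    Algebra.FiniteType.of_surjective (Ideal.Quotient.mkₐ P N) Ideal.Quotient.mk_surjective
  let C := integralClosure RP M
  haveI hfin : Module.Finite RP C := Groth.Calg4.finite_ic_of_isN2
    (Groth.Calg1.isN2_self_of_isNagata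
      (Groth.Calg1.isNagata_of_finiteType (Groth.CurveNorm.isNagata_field P))) M M
  letI : Algebra A RP := ((Ideal.Quotient.mk N).comp
    (Algebra.TensorProduct.includeRight : A →ₐ[k] P ⊗[k] A).toRingHom).toAlgebra
  haveI : Algebra.IsIntegral A RP := by
    refine ⟨fun z => ?_⟩
    obtain ⟨z, rfl⟩ := Ideal.Quotient.mk_surjective z
    induction z using TensorProduct.induction_on with
    | zero => rw [map_zero]; exact isIntegral_zero
    | tmul p a =>
      rw [show p ⊗ₜ[k] a = algebraMap P (P ⊗[k] A) p * ((1 : P) ⊗ₜ[k] a) by simp, map_mul]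
      refine IsIntegral.mul ?_ (show IsIntegral A (algebraMap A RP a) from isIntegral_algebraMap)
      obtain ⟨q, hq, hq0⟩ := (Algebra.IsIntegral.isIntegral (R := k) p)
      refine ⟨q.map (algebraMap k A), hq.map _, ?_⟩
      rw [Polynomial.eval₂_map]
      refine Eq.trans ?_ ((Polynomial.hom_eval₂ q (algebraMap k P)
        ((Ideal.Quotient.mk N).comp (algebraMap P (P ⊗[k] A))) p).symm.trans
        ((congrArg _ hq0).trans (map_zero _)))
      refine congrArg (fun ψ => Polynomial.eval₂ ψ _ q) (RingHom.ext fun c => ?_)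
      show Ideal.Quotient.mk N (1 ⊗ₜ algebraMap k A c) = Ideal.Quotient.mk N (algebraMap k P c ⊗ₜ 1)
      rw [Algebra.algebraMap_eq_smul_one, Algebra.algebraMap_eq_smul_one, TensorProduct.smul_tmul]
    | add x y hx hy => rw [map_add]; exact hx.add hy
  haveI : Algebra.IsIntegral A C := Algebra.IsIntegral.trans RP
  haveI : Algebra.FiniteType P C := Algebra.FiniteType.trans hft inferInstance
  haveI : IsNoetherianRing C := Algebra.FiniteType.isNoetherianRing P _
  haveI : Ring.DimensionLEOne C := dimensionLEOne_of_isIntegral A C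
  haveI : IsIntegrallyClosed C := integralClosure.isIntegrallyClosedOfFiniteExtension M
  haveI : IsDedekindDomain C := (isDedekindDomain_iff C (FractionRing C)).2
    ⟨inferInstance, inferInstance, inferInstance, fun h => IsIntegrallyClosed.isIntegral_iff.1 h⟩
  haveI : Algebra.Smooth P C := smooth_of_dedekind P C
  -- finitely many generators, with their equations
  obtain ⟨G, hG⟩ := hfin.fg_top
  have hfrac : ∀ c : C, ∃ r s : P ⊗[k] A, Ideal.Quotient.mk N s ≠ 0 ∧
      (c : M) * algebraMap RP M (Ideal.Quotient.mk N s) = algebraMap RP M (Ideal.Quotient.mk N r) := by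
    intro c
    obtain ⟨⟨r, s⟩, hrs⟩ := IsLocalization.surj (nonZeroDivisors RP) (c : M)
    obtain ⟨r', hr'⟩ := Ideal.Quotient.mk_surjective r
    obtain ⟨s', hs'⟩ := Ideal.Quotient.mk_surjective (s : RP)
    exact ⟨r', s', hs' ▸ nonZeroDivisors.ne_zero s.2, by rw [hs', hr']; exact hrs⟩
  choose r s hs hrs using hfrac
  choose q hqm hq0 using fun c : C => (c.2 : IsIntegral RP (c : M))
  choose w hw using fun x : RP => Ideal.Quotient.mk_surjective (I := N) x
  obtain ⟨Nt, hNt⟩ := IsNoetherian.noetherian N
  let W : Finset (P ⊗[k] A) := Nt ∪ G.image r ∪ G.image s ∪ G.biUnion fun c => (q c).coeffs.image w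
  choose Fz hFz using fun z : P ⊗[k] A =>
    exists_finset_mem_range (k := k) (A := A) (P := P) z
  refine ⟨W.biUnion Fz, fun E _ _ _ _ hE _ L _ _ _ => ?_⟩
  let θ : E ⊗[k] A →ₐ[k] P ⊗[k] A :=
    Algebra.TensorProduct.map (IsScalarTower.toAlgHom k E P) (AlgHom.id k A)
  have hWθ : ∀ z ∈ W, z ∈ θ.range := fun z hz =>
    hFz z E fun p hp => hE (Finset.mem_coe.2 (Finset.mem_biUnion.2 ⟨z, hz, hp⟩))
  let NE := nilradical (E ⊗[k] A)
  let R := (E ⊗[k] A) ⧸ NE
  have hθ : Function.Injective θ :=
    Module.Flat.rTensor_preserves_injective_linearMap (IsScalarTower.toAlgHom k E P).toLinearMap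
      (algebraMap E P).injective
  have hmap : NE.map θ = N := by
    refine le_antisymm (Ideal.map_le_iff_le_comap.2 fun z hz =>
      mem_nilradical.2 ((mem_nilradical.1 hz).map θ)) (hNt.ge.trans (Ideal.span_le.2 fun z hz => ?_))
    obtain ⟨y, hy⟩ := hWθ z (by simp [W, Finset.mem_coe.1 hz])
    have hy0 : IsNilpotent y := by
      rw [← IsNilpotent.map_iff hθ]
      exact mem_nilradical.1 (by rw [show θ y = z from hy]; exact hNt.le (Ideal.subset_span hz))
    exact (show θ y = z from hy) ▸ Ideal.mem_map_of_mem θ (mem_nilradical.2 hy0)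
  let e₀ : P ⊗[E] (E ⊗[k] A) ≃ₐ[P] P ⊗[k] A := Algebra.TensorProduct.cancelBaseChange k E P P A
  have he₀ : ∀ z : E ⊗[k] A, e₀ ((1 : P) ⊗ₜ[E] z) = θ z := fun z => by
    induction z using TensorProduct.induction_on with
    | zero => simp
    | tmul c y =>
      show Algebra.TensorProduct.cancelBaseChange k E P P A _ = _
      rw [Algebra.TensorProduct.cancelBaseChange_tmul, Algebra.smul_def, mul_one]
      rfl
    | add u v hu hv => simp only [TensorProduct.tmul_add, map_add, hu, hv]
  let e : P ⊗[E] R ≃ₐ[P] RP :=
    (Algebra.TensorProduct.tensorQuotientEquiv P (E ⊗[k] A) P NE).trans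
      (Ideal.quotientEquivAlg _ N e₀ (by
        rw [← hmap]
        refine le_antisymm (Ideal.map_le_iff_le_comap.mpr fun z hz => ?_) ?_
        · rw [Ideal.mem_comap, ← he₀ z]
          exact Ideal.mem_map_of_mem _ (Ideal.mem_map_of_mem _ hz)
        · refine Ideal.map_le_iff_le_comap.mpr (Ideal.map_le_iff_le_comap.mpr fun z hz => ?_)
          show e₀ ((1 : P) ⊗ₜ[E] z) ∈ Ideal.map θ NE
          rw [he₀]
          exact Ideal.mem_map_of_mem θ hz))
  have hemk : ∀ z : E ⊗[k] A, e (1 ⊗ₜ Ideal.Quotient.mk NE z) = Ideal.Quotient.mk N (θ z) := fun z => by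
    show Ideal.Quotient.mk N (e₀ ((1 : P) ⊗ₜ[E] z)) = _
    rw [he₀]
  letI : Algebra E L := ((algebraMap R L).comp (algebraMap E R)).toAlgebra
  haveI hERL : IsScalarTower E R L := IsScalarTower.of_algebraMap_eq (R := E) (S := R) (A := L) fun _ => rfl
  have : Algebra.Smooth E (integralClosure R L) := by
    refine smooth_integralClosure_of_baseChange e L M (((↑) : C → M) '' G) ?_ ?_
    · intro x hx
      have : (⟨x, hx⟩ : C) ∈ Submodule.span RP (G : Set C) := hG ▸ Submodule.mem_top
      have h2 := Submodule.apply_mem_span_image_of_mem_span C.val.toLinearMap this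
      exact Algebra.span_le_adjoin RP _ h2
    · rintro _ ⟨c, hc, rfl⟩
      obtain ⟨r', hr'⟩ := hWθ (r c) (by simp [W]; exact Or.inr (Or.inl ⟨c, c.2, hc, rfl⟩))
      obtain ⟨s', hs'⟩ := hWθ (s c) (by simp [W]; exact Or.inr (Or.inr (Or.inl ⟨c, c.2, hc, rfl⟩)))
      have hsc : algebraMap RP M (Ideal.Quotient.mk N (s c)) ≠ 0 :=
        (map_ne_zero_iff _ (IsFractionRing.injective RP M)).2 (hs c)
      refine ⟨Ideal.Quotient.mk NE r', Ideal.Quotient.mk NE s', q c, hqm c, fun n => ?_, hq0 c, ?_, ?_⟩
      · by_cases hn : (q c).coeff n = 0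
        · exact ⟨0, by rw [hn, TensorProduct.tmul_zero, map_zero]⟩
        obtain ⟨y, hy⟩ := hWθ (w ((q c).coeff n)) (by
          simp only [W, Finset.mem_union, Finset.mem_biUnion, Finset.mem_image]
          exact Or.inr ⟨c, hc, _, Polynomial.coeff_mem_coeffs hn, rfl⟩)
        refine ⟨Ideal.Quotient.mk NE y, (hemk y).trans ?_⟩
        rw [show θ y = _ from hy, hw]
      · rw [hemk, show θ s' = s c from hs']
        exact hsc
      · rw [hemk, hemk, show θ r' = r c from hr', show θ s' = s c from hs']
        exact hrs c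
  exact RingHom.smooth_algebraMap.2 this

end Groth.EtaleAlgebra.CurveLevel
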