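import Groth.Agent.EtaleAlgebra.EtRamBasic
import Groth.Agent.Calg1.NagataTheorem
import Groth.Agent.Calg4.Japanese
import Mathlib.RingTheory.PowerBasis
import Mathlib.RingTheory.DedekindDomain.Ideal.Lemmas
import Mathlib.Tactic.LinearCombination

/-!
# Deforming a purely inseparable degree `p` extension into separable ones

For a valuation ring `W₂` of `M₂ = M₁(α^(1/p))` finite over `W₁` and `c` highly divisible, every
`M₃ = M₁(θ)` with `θ^p = α + c θ` has the valuation ring over `W₁` with the same uniformizer and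
residue field as `W₂`.
-/

set_option autoImplicit false
set_option linter.style.haveILetI false
set_option linter.overlappingInstances false
set_option linter.unusedSectionVars false
universe u

namespace Groth.EtaleAlgebra.PDeform

open IsLocalRing EtRam

/-- Fractions over the integral closure describe a dominating valuation ring. -/
theorem exists_fraction (B L M : Type u) [CommRing B] [IsDomain B] [IsDiscreteValuationRing B]
    [Field L] [Algebra B L] [IsFractionRing B L] [Field M] [Algebra L M] [Algebra B M]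
    [IsScalarTower B L M] [FiniteDimensional L M] {W : ValuationSubring M}
    (hW : Dominates B ((algebraMap L M).comp (algebraMap B L)) W) :
    (∀ c : integralClosure B M, (c : M) ∈ W) ∧
      ∀ x ∈ W, ∃ a s : integralClosure B M, W.valuation (s : M) = 1 ∧ x * (s : M) = a := by
  have hW' : ∀ b, algebraMap B M b ∈ W := fun b => by
    rw [IsScalarTower.algebraMap_apply B L M]; exact hW.1 b
  have hC : ∀ c : integralClosure B M, (c : M) ∈ W := fun c => by
    obtain ⟨q, hq, hqc⟩ := c.2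
    let ι : B →+* W := (algebraMap B M).codRestrict W.toSubring hW'
    have : IsIntegral W (c : M) := ⟨q.map ι, hq.map ι, by rw [Polynomial.eval₂_map]; exact hqc⟩
    obtain ⟨y, hy⟩ := IsIntegrallyClosed.isIntegral_iff.1 this
    exact hy ▸ y.2
  refine ⟨hC, ?_⟩
  have : IsDedekindDomain (integralClosure B M) :=
    Groth.EGA43Val.isDedekindDomain_integralClosure B L M
  have : IsFractionRing (integralClosure B M) M :=
    integralClosure.isFractionRing_of_finite_extension L M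
  let ι : integralClosure B M →+* W :=
    (algebraMap (integralClosure B M) M).codRestrict W.toSubring hC
  let P : Ideal (integralClosure B M) := (maximalIdeal W).comap ι
  have hP : P.IsPrime := Ideal.IsPrime.comap _
  have hne : W ≠ ⊤ := ne_top_of_dominates
    (fun a b h => IsFractionRing.injective B L ((algebraMap L M).injective h))
    (IsDiscreteValuationRing.not_isField B) hW
  have hunit : ∀ c : integralClosure B M, c ∉ P → W.valuation (c : M) = 1 := fun c hc =>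
    (W.valuation_eq_one_iff ⟨(c : M), hC c⟩).1 (not_not.1 fun h => hc ((mem_maximalIdeal _).2 h))
  have hinv : ∀ c : integralClosure B M, c ∉ P → (c : M)⁻¹ ∈ W := fun c hc => by
    rw [← ValuationSubring.valuation_le_one_iff, map_inv₀, hunit c hc, inv_one]
  have hP0 : P ≠ ⊥ := by
    intro h0
    refine hne (eq_top_iff.2 fun x _ => ?_)
    obtain ⟨a, b, hb, rfl⟩ := IsFractionRing.div_surjective (A := integralClosure B M) x
    rw [div_eq_mul_inv]
    refine W.mul_mem _ _ (hC a) (hinv b ?_)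
    rw [h0, Ideal.mem_bot]
    exact nonZeroDivisors.ne_zero hb
  let p : IsDedekindDomain.HeightOneSpectrum (integralClosure B M) := ⟨P, hP, hP0⟩
  have hle : IsDedekindDomain.HeightOneSpectrum.valuationSubringAtPrime M p ≤ W := by
    rintro _ ⟨a, b, hb, rfl⟩
    exact W.mul_mem _ _ (hC a) (hinv b hb)
  intro x hx
  have := Groth.EGA43Val.isDiscreteValuationRing_valuationSubringAtPrime (L := M) p
  rw [← ValuationSubring.eq_of_le_of_ne_top _ hle hne] at hx
  obtain ⟨a, b, hb, rfl⟩ := hx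
  refine ⟨a, b, hunit b hb, ?_⟩
  have hb0 : (b : M) ≠ 0 := fun h => by
    have := hunit b hb
    rw [h, map_zero] at this
    exact zero_ne_one this
  show (a : M) * (b : M)⁻¹ * (b : M) = a
  rw [mul_assoc, inv_mul_cancel₀ hb0, mul_one]

/-- Only finitely many valuation subrings dominate a DVR in a finite extension. -/
theorem finite_dominating (B L M : Type u) [CommRing B] [IsDomain B] [IsDiscreteValuationRing B]
    [Field L] [Algebra B L] [IsFractionRing B L] [Field M] [Algebra L M] [Algebra B M]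
    [IsScalarTower B L M] [FiniteDimensional L M] :
    Finite {W : ValuationSubring M // Dominates B ((algebraMap L M).comp (algebraMap B L)) W} := by
  have : IsDedekindDomain (integralClosure B M) :=
    Groth.EGA43Val.isDedekindDomain_integralClosure B L M
  have hCW := fun (W : ValuationSubring M) hW => (exists_fraction B L M (W := W) hW).1
  let P : {W : ValuationSubring M // Dominates B ((algebraMap L M).comp (algebraMap B L)) W} →
      Ideal (integralClosure B M) := fun W => (maximalIdeal W.1).comap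
        ((algebraMap (integralClosure B M) M).codRestrict W.1.toSubring (hCW W.1 W.2))
  have hP : ∀ W, P W ∈ (maximalIdeal B).primesOver (integralClosure B M) := fun W => by
    refine ⟨Ideal.IsPrime.comap _, ⟨?_⟩⟩
    ext b
    show b ∈ maximalIdeal B ↔ _
    rw [Ideal.under, Ideal.mem_comap]
    constructor
    · intro hb
      have := W.2.2 b hb
      rw [RingHom.comp_apply, ← IsScalarTower.algebraMap_apply B L M] at this
      exact (W.1.valuation_lt_one_iff _).2 this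
    · intro hb
      by_contra h
      have hu : IsUnit b := not_not.1 fun hn => h ((mem_maximalIdeal _).2 hn)
      exact (mem_maximalIdeal _).1 hb
        ((hu.map (algebraMap B (integralClosure B M))).map _)
  have hinj : Function.Injective P := by
    intro W W' h
    apply Subtype.ext
    have key : ∀ V V' : {W : ValuationSubring M //
        Dominates B ((algebraMap L M).comp (algebraMap B L)) W}, P V = P V' → V.1 ≤ V'.1 := by
      intro V V' hVV' x hx
      obtain ⟨a, s, hs, hxs⟩ := (exists_fraction B L M V.2).2 x hx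
      have hs' : V'.1.valuation (s : M) = 1 := by
        have hn : s ∉ P V := fun hmem => by
          have := (V.1.valuation_lt_one_iff _).1 hmem
          exact absurd hs (ne_of_lt this)
        rw [hVV'] at hn
        exact (V'.1.valuation_eq_one_iff ⟨(s : M), hCW V'.1 V'.2 s⟩).1
          (not_not.1 fun hc => hn ((mem_maximalIdeal _).2 hc))
      have hs0 : (s : M) ≠ 0 := fun h0 => by rw [h0, map_zero] at hs'; exact zero_ne_one hs'
      rw [show x = (a : M) * (s : M)⁻¹ by rw [← hxs, mul_assoc, mul_inv_cancel₀ hs0, mul_one]]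
      refine V'.1.mul_mem _ _ (hCW V'.1 V'.2 a) ?_
      rw [← ValuationSubring.valuation_le_one_iff, map_inv₀, hs', inv_one]
    exact le_antisymm (key W W' h) (key W' W h.symm)
  have : FaithfulSMul B (integralClosure B M) :=
    (faithfulSMul_iff_algebraMap_injective B (integralClosure B M)).2 fun a b h =>
      IsFractionRing.injective B L ((algebraMap L M).injective (by
        rw [← IsScalarTower.algebraMap_apply B L M, ← IsScalarTower.algebraMap_apply B L M]
        exact congrArg Subtype.val h))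
  have : Finite ((maximalIdeal B).primesOver (integralClosure B M)) :=
    (IsDedekindDomain.primesOver_finite (maximalIdeal B) (integralClosure B M)).to_subtype
  exact Finite.of_injective (fun W => (⟨P W, hP W⟩ : (maximalIdeal B).primesOver (integralClosure B M)))
    fun W W' h => hinj (congrArg Subtype.val h)

/-- Over a Nagata DVR `B`, a valuation ring purely inseparable of degree `p` over another is
finite over it. -/
theorem finite_pInsep (B L M₁ M₂ : Type u) [CommRing B] [IsDomain B] [IsDiscreteValuationRing B]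
    (hB : CAlg.IsNagata B) [Field L] [Algebra B L] [IsFractionRing B L] [Field M₁] [Field M₂]
    [Algebra L M₁] [Algebra L M₂] [Algebra B M₁] [Algebra B M₂] [Algebra M₁ M₂]
    [IsScalarTower B L M₁] [IsScalarTower B L M₂] [IsScalarTower L M₁ M₂]
    [FiniteDimensional L M₁] [FiniteDimensional L M₂] {p : ℕ} (hp : p ≠ 0)
    (hpow : ∀ x : M₂, ∃ a : M₁, x ^ p = algebraMap M₁ M₂ a) {W₂ : ValuationSubring M₂}
    (hW₂ : Dominates B ((algebraMap L M₂).comp (algebraMap B L)) W₂) :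
    ∃ G : Finset M₂, (∀ g ∈ G, g ∈ W₂) ∧ ∀ x ∈ W₂, ∃ cf : M₂ → M₁,
      (∀ g, cf g ∈ W₂.comap (algebraMap M₁ M₂)) ∧ x = ∑ g ∈ G, algebraMap M₁ M₂ (cf g) * g := by
  classical
  have : IsScalarTower B M₁ M₂ := IsScalarTower.of_algebraMap_eq fun b => by
    rw [IsScalarTower.algebraMap_apply B L M₁, ← IsScalarTower.algebraMap_apply L M₁ M₂,
      ← IsScalarTower.algebraMap_apply B L M₂]
  have hW₁ : Dominates B ((algebraMap L M₁).comp (algebraMap B L))
      (W₂.comap (algebraMap M₁ M₂)) := by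
    rw [← dominates_comp_iff, ← RingHom.comp_assoc, ← IsScalarTower.algebraMap_eq L M₁ M₂]
    exact hW₂
  obtain ⟨hC₂, -⟩ := exists_fraction B L M₂ hW₂
  have hfin : Module.Finite B (integralClosure B M₂) :=
    Groth.Calg4.finite_ic_of_isN2 (Groth.Calg1.isN2_self_of_isNagata hB) L M₂
  obtain ⟨G, hG⟩ := hfin.fg_top
  refine ⟨G.image (fun c : integralClosure B M₂ => (c : M₂)), fun g hg => ?_, fun x hx => ?_⟩
  · obtain ⟨c, -, rfl⟩ := Finset.mem_image.1 hg
    exact hC₂ c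
  obtain ⟨a, ha⟩ := hpow x
  have ha' : a ∈ W₂.comap (algebraMap M₁ M₂) := by
    rw [ValuationSubring.mem_comap, ← ha]
    exact pow_mem hx p
  obtain ⟨b, s, hs, hbs⟩ := (exists_fraction B L M₁ hW₁).2 a ha'
  have hs0 : (s : M₁) ≠ 0 := fun h0 => by rw [h0, map_zero] at hs; exact zero_ne_one hs
  have hint : IsIntegral B (x * algebraMap M₁ M₂ (s : M₁)) := by
    refine IsIntegral.of_pow (Nat.pos_of_ne_zero hp) ?_
    rw [mul_pow, ha, ← map_pow, ← map_mul]
    obtain ⟨q, hq⟩ : ∃ q, p = q + 1 := ⟨p - 1, by omega⟩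
    rw [hq, pow_succ', ← mul_assoc, hbs, ← SubmonoidClass.coe_pow, ← MulMemClass.coe_mul]
    exact IsIntegral.map (IsScalarTower.toAlgHom B M₁ M₂) (b * s ^ q).2
  have hmem : (⟨_, hint⟩ : integralClosure B M₂) ∈ Submodule.span B (G : Set _) :=
    hG ▸ Submodule.mem_top
  obtain ⟨f, hf⟩ := Submodule.mem_span_finset'.1 hmem
  refine ⟨fun g => if h : ∃ c : G, ((c : integralClosure B M₂) : M₂) = g
    then algebraMap B M₁ (f h.choose) * (s : M₁)⁻¹ else 0, fun g => ?_, ?_⟩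
  · dsimp only
    split_ifs with h
    · refine mul_mem ?_ ?_
      · rw [IsScalarTower.algebraMap_apply B L M₁]
        exact hW₁.1 _
      · rw [← ValuationSubring.valuation_le_one_iff, map_inv₀, hs, inv_one]
    · exact zero_mem _
  · have hf' := congrArg (fun c : integralClosure B M₂ => (c : M₂)) hf
    simp only [AddSubmonoidClass.coe_finsetSum, SetLike.val_smul] at hf'
    rw [Finset.sum_image fun c _ c' _ h => Subtype.ext h, ← Finset.sum_attach]
    have hs2 : algebraMap M₁ M₂ (s : M₁) ≠ 0 := (map_ne_zero_iff _ (algebraMap M₁ M₂).injective).2 hs0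
    apply mul_right_cancel₀ hs2
    rw [← hf', Finset.sum_mul]
    refine Finset.sum_congr rfl fun c _ => ?_
    have hex : ∃ c' : G, ((c' : integralClosure B M₂) : M₂) = ((c : integralClosure B M₂) : M₂) :=
      ⟨c, rfl⟩
    dsimp only
    rw [dif_pos hex, show hex.choose = c from Subtype.ext (Subtype.ext hex.choose_spec),
      map_mul, map_inv₀, ← IsScalarTower.algebraMap_apply B M₁ M₂, Algebra.smul_def,
      mul_assoc, mul_assoc, mul_comm ((c : integralClosure B M₂) : M₂), ← mul_assoc _⁻¹,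
      inv_mul_cancel₀ hs2, one_mul]

variable {M₁ M₂ : Type u} [Field M₁] [Field M₂] [Algebra M₁ M₂]

/-- The deformation map `β ^ i ↦ θ ^ i`. -/
noncomputable def phi (pb : PowerBasis M₁ M₂) {M₃ : Type u} [Field M₃] [Algebra M₁ M₃] (θ : M₃) :
    M₂ →ₗ[M₁] M₃ := pb.basis.constr M₁ fun i => θ ^ (i : ℕ)

/-- The correction term of the deformed multiplication. -/
noncomputable def mu (pb : PowerBasis M₁ M₂) : M₂ →ₗ[M₁] M₂ →ₗ[M₁] M₂ :=
  pb.basis.constr M₁ fun i => pb.basis.constr M₁ fun j =>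
    if (i : ℕ) + j < pb.dim then 0 else pb.gen ^ ((i : ℕ) + j - pb.dim + 1)

theorem phi_gen_pow (pb : PowerBasis M₁ M₂) {M₃ : Type u} [Field M₃] [Algebra M₁ M₃] (θ : M₃)
    {k : ℕ} (hk : k < pb.dim) : phi pb θ (pb.gen ^ k) = θ ^ k := by
  rw [show pb.gen ^ k = pb.basis ⟨k, hk⟩ from (pb.basis_eq_pow ⟨k, hk⟩).symm, phi,
    Module.Basis.constr_basis]

theorem phi_mul (pb : PowerBasis M₁ M₂) {α c : M₁} (hgen : pb.gen ^ pb.dim = algebraMap M₁ M₂ α)
    (hdim : 2 ≤ pb.dim) {M₃ : Type u} [Field M₃] [Algebra M₁ M₃] {θ : M₃}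
    (hθ : θ ^ pb.dim = algebraMap M₁ M₃ α + algebraMap M₁ M₃ c * θ) (x y : M₂) :
    phi pb θ (x * y + c • mu pb x y) = phi pb θ x * phi pb θ y := by
  suffices h : (LinearMap.mul M₁ M₂ + c • mu pb).compr₂ (phi pb θ) =
      (LinearMap.mul M₁ M₃).compl₁₂ (phi pb θ) (phi pb θ) by
    exact DFunLike.congr_fun (DFunLike.congr_fun h x) y
  refine pb.basis.ext fun i => pb.basis.ext fun j => ?_
  show phi pb θ (pb.basis i * pb.basis j + c • mu pb (pb.basis i) (pb.basis j)) =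
    phi pb θ (pb.basis i) * phi pb θ (pb.basis j)
  rw [mu, Module.Basis.constr_basis, Module.Basis.constr_basis, pb.basis_eq_pow, pb.basis_eq_pow,
    ← pow_add, phi_gen_pow pb θ i.2, phi_gen_pow pb θ j.2, ← pow_add]
  split_ifs with h
  · rw [smul_zero, add_zero, phi_gen_pow pb θ h]
  · obtain ⟨k, hk⟩ : ∃ k, (i : ℕ) + j = pb.dim + k := ⟨(i : ℕ) + j - pb.dim, by omega⟩
    have hk' : k + 1 < pb.dim := by have := i.2; have := j.2; omega
    rw [hk, pow_add pb.gen, hgen, pow_add θ, hθ, Nat.add_sub_cancel_left, ← Algebra.smul_def,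
      map_add, map_smul, map_smul, phi_gen_pow pb θ (by omega), phi_gen_pow pb θ hk',
      Algebra.smul_def, Algebra.smul_def]
    ring

theorem phi_algebraMap (pb : PowerBasis M₁ M₂) (hdim : 2 ≤ pb.dim) {M₃ : Type u} [Field M₃]
    [Algebra M₁ M₃] (θ : M₃) (a : M₁) : phi pb θ (algebraMap M₁ M₂ a) = algebraMap M₁ M₃ a := by
  rw [Algebra.algebraMap_eq_smul_one a, map_smul, show (1 : M₂) = pb.gen ^ 0 from (pow_zero _).symm,
    phi_gen_pow pb θ (by omega), pow_zero, ← Algebra.algebraMap_eq_smul_one]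

set_option maxHeartbeats 1600000 in
/-- The deformation theorem. -/
theorem deform (pb : PowerBasis M₁ M₂) {α : M₁} (hgen : pb.gen ^ pb.dim = algebraMap M₁ M₂ α)
    (hdim : 2 ≤ pb.dim) (hpow : ∀ x : M₂, ∃ a : M₁, x ^ pb.dim = algebraMap M₁ M₂ a)
    (W₁ : ValuationSubring M₁) (W₂ : ValuationSubring M₂) [IsDiscreteValuationRing W₂]
    (hW : W₂.comap (algebraMap M₁ M₂) = W₁) (G : Finset M₂) (hG : ∀ g ∈ G, g ∈ W₂)
    (hspan : ∀ x ∈ W₂, ∃ cf : M₂ → M₁,
      (∀ g, cf g ∈ W₂.comap (algebraMap M₁ M₂)) ∧ x = ∑ g ∈ G, algebraMap M₁ M₂ (cf g) * g)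
    {s : M₁} (hs : W₁.valuation s < 1) (hs0 : s ≠ 0) :
    ∃ N : ℕ, ∀ c : M₁, (∃ w ∈ W₁, c = s ^ N * w) →
      ∀ (M₃ : Type u) [Field M₃] [Algebra M₁ M₃] (θ : M₃),
        θ ^ pb.dim = algebraMap M₁ M₃ α + algebraMap M₁ M₃ c * θ →
        Algebra.adjoin M₁ {θ} = ⊤ → ∀ W₃ : ValuationSubring M₃,
          W₃.comap (algebraMap M₁ M₃) = W₁ →
          ∃ h : ∀ x : W₂, phi pb θ (x : M₂) ∈ W₃,
            (∀ ϖ : W₂, maximalIdeal W₂ = Ideal.span {ϖ} →
              maximalIdeal W₃ = Ideal.span {(⟨phi pb θ (ϖ : M₂), h ϖ⟩ : W₃)}) ∧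
            ∃ e : ResidueField W₂ ≃+* ResidueField W₃,
              ∀ x : W₂, e (residue W₂ x) = residue W₃ ⟨phi pb θ (x : M₂), h x⟩ := by
  classical
  let S₂ : M₂ := algebraMap M₁ M₂ s
  have hS₂W : S₂ ∈ W₂ := by
    rw [← ValuationSubring.mem_comap, hW, ← ValuationSubring.valuation_le_one_iff]
    exact hs.le
  let s₂ : W₂ := ⟨S₂, hS₂W⟩
  have hs₂0 : s₂ ≠ 0 := fun h => hs0 ((algebraMap M₁ M₂).injective
    ((congrArg Subtype.val h).trans (map_zero (algebraMap M₁ M₂)).symm))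
  have hs₂m : s₂ ∈ maximalIdeal W₂ := (mem_maximalIdeal _).2 fun hu => by
    obtain ⟨t, ht⟩ := hu.exists_right_inv
    have ht' : S₂ * (t : M₂) = 1 := congrArg Subtype.val ht
    have : s⁻¹ ∈ W₁ := by
      rw [← hW, ValuationSubring.mem_comap, map_inv₀, inv_eq_of_mul_eq_one_right ht']
      exact t.2
    rw [← ValuationSubring.valuation_le_one_iff, map_inv₀,
      inv_le_one₀ (zero_lt_iff.2 ((map_ne_zero _).2 hs0))] at this
    exact absurd hs (not_lt.2 this)
  obtain ⟨ϖ, hϖ⟩ := IsDiscreteValuationRing.exists_irreducible W₂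
  obtain ⟨e, u₀, hu₀⟩ := IsDiscreteValuationRing.eq_unit_mul_pow_irreducible hs₂0 hϖ
  have he : 0 < e := Nat.pos_of_ne_zero fun h => by
    rw [h, pow_zero, mul_one] at hu₀
    exact (mem_maximalIdeal _).1 hs₂m (hu₀ ▸ u₀.isUnit)
  -- every element times a power of `s` is in `W₂`
  have hclear : ∀ x : M₂, ∃ k : ℕ, x * S₂ ^ k ∈ W₂ := by
    intro x
    obtain ⟨a, b, hb, rfl⟩ := IsFractionRing.div_surjective (A := W₂) x
    obtain ⟨k, v, hv⟩ := IsDiscreteValuationRing.eq_unit_mul_pow_irreducible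
      (nonZeroDivisors.ne_zero hb) hϖ
    refine ⟨k, ?_⟩
    obtain ⟨d, hd⟩ : b ∣ s₂ ^ k := by
      rw [hv, hu₀, mul_pow, ← pow_mul]
      exact mul_dvd_mul (v.isUnit.dvd) (pow_dvd_pow _ (Nat.le_mul_of_pos_left k he))
    have hb0 : (b : M₂) ≠ 0 := fun h => nonZeroDivisors.ne_zero hb (Subtype.ext h)
    have hd' : S₂ ^ k = (b : M₂) * (d : M₂) := congrArg Subtype.val hd
    show (a : M₂) / (b : M₂) * S₂ ^ k ∈ W₂
    rw [hd', ← mul_assoc, div_mul_cancel₀ _ hb0]
    exact mul_mem a.2 d.2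
  choose k hk using hclear
  have hbound : ∀ κ : M₂ → M₂ → ℕ, ∃ n, ∀ g ∈ G, ∀ g' ∈ G, κ g g' ≤ n := fun κ =>
    ⟨(G ×ˢ G).sup fun gh => κ gh.1 gh.2, fun g hg g' hg' =>
      Finset.le_sup (f := fun gh : M₂ × M₂ => κ gh.1 gh.2)
        (show (g, g') ∈ G ×ˢ G from Finset.mem_product.2 ⟨hg, hg'⟩)⟩
  obtain ⟨n, hn0⟩ := hbound fun g g' => k (mu pb g g')
  have hn : ∀ x ∈ W₂, ∀ y ∈ W₂, mu pb x y * S₂ ^ n ∈ W₂ := by
    intro x hx y hy
    obtain ⟨cx, hcx, rfl⟩ := hspan x hx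
    obtain ⟨cy, hcy, rfl⟩ := hspan y hy
    rw [map_sum (mu pb), LinearMap.sum_apply, Finset.sum_mul]
    refine sum_mem fun g hg => ?_
    rw [map_sum ((mu pb) _), Finset.sum_mul]
    refine sum_mem fun g' hg' => ?_
    rw [← Algebra.smul_def (cx g) g, ← Algebra.smul_def (cy g') g', map_smul (mu pb),
      LinearMap.smul_apply, map_smul, smul_smul, Algebra.smul_def, map_mul, mul_assoc]
    refine mul_mem (mul_mem (hcx g) (hcy g')) ?_
    have hle : k (mu pb g g') ≤ n := hn0 g hg g' hg'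
    obtain ⟨j, hj⟩ := Nat.exists_eq_add_of_le hle
    rw [hj, pow_add, ← mul_assoc]
    exact mul_mem (hk _) (pow_mem hS₂W j)
  refine ⟨n + 2, ?_⟩
  rintro c ⟨w, hw, rfl⟩ M₃ _ _ θ hθ hadj W₃ hW₃
  set c := s ^ (n + 2) * w with hcdef
  let φ := phi pb θ
  have hφa : ∀ a : M₁, φ (algebraMap M₁ M₂ a) = algebraMap M₁ M₃ a := phi_algebraMap pb hdim θ
  have hφ1 : φ 1 = 1 := by rw [← map_one (algebraMap M₁ M₂), hφa, map_one]
  have hmulφ : ∀ x y, φ (x * y + c • mu pb x y) = φ x * φ y := phi_mul pb hgen hdim hθ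
  let S₃ : M₃ := algebraMap M₁ M₃ s
  have hS₃ : ∀ x, φ (S₂ * x) = S₃ * φ x := fun x => by
    rw [← Algebra.smul_def, map_smul, Algebra.smul_def]
  have hS₃k : ∀ (j : ℕ) x, φ (S₂ ^ j * x) = S₃ ^ j * φ x := fun j x => by
    induction j with
    | zero => rw [pow_zero, pow_zero, one_mul, one_mul]
    | succ j ih => rw [pow_succ', mul_assoc, hS₃, ih, ← mul_assoc, ← pow_succ']
  have hcmu : ∀ x ∈ W₂, ∀ y ∈ W₂, ∃ d ∈ W₂, c • mu pb x y = S₂ ^ 2 * d := by
    intro x hx y hy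
    refine ⟨algebraMap M₁ M₂ w * (mu pb x y * S₂ ^ n), mul_mem (by
      rw [← ValuationSubring.mem_comap, hW]; exact hw) (hn x hx y hy), ?_⟩
    rw [Algebra.smul_def, hcdef, map_mul, map_pow]
    ring
  -- the image of `W₂` is a ring, integral over `W₁`
  let T : Subring M₃ :=
    { carrier := φ '' (W₂ : Set M₂)
      one_mem' := ⟨1, one_mem _, hφ1⟩
      mul_mem' := by
        rintro _ _ ⟨x, hx, rfl⟩ ⟨y, hy, rfl⟩
        obtain ⟨d, hd, hd'⟩ := hcmu x hx y hy
        exact ⟨_, add_mem (mul_mem hx hy) (hd' ▸ mul_mem (pow_mem hS₂W 2) hd), hmulφ x y⟩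
      zero_mem' := ⟨0, zero_mem _, map_zero φ⟩
      add_mem' := by
        rintro _ _ ⟨x, hx, rfl⟩ ⟨y, hy, rfl⟩
        exact ⟨x + y, add_mem hx hy, map_add φ x y⟩
      neg_mem' := by
        rintro _ ⟨x, hx, rfl⟩
        exact ⟨-x, neg_mem hx, map_neg φ x⟩ }
  have hTW : ∀ x ∈ T, x ∈ W₃ := by
    let ι : W₁ →+* M₃ := (algebraMap M₁ M₃).comp W₁.subtype
    let _ : Algebra W₁ M₃ := ι.toAlgebra
    have hW₁T : ∀ a : W₁, algebraMap W₁ M₃ a ∈ T := fun a =>
      ⟨algebraMap M₁ M₂ (a : M₁), by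
        show algebraMap M₁ M₂ (a : M₁) ∈ W₂
        rw [← ValuationSubring.mem_comap, hW]
        exact a.2, hφa _⟩
    let T' : Subalgebra W₁ M₃ := { T with algebraMap_mem' := hW₁T }
    have hTfg : T'.toSubmodule.FG := by
      refine ⟨G.image φ, le_antisymm (Submodule.span_le.2 fun z hz => ?_) ?_⟩
      · obtain ⟨g, hg, rfl⟩ := Finset.mem_image.1 (Finset.mem_coe.1 hz)
        exact ⟨g, hG g hg, rfl⟩
      · rintro _ ⟨x, hx, rfl⟩
        obtain ⟨cf, hcf, rfl⟩ := hspan x hx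
        rw [map_sum]
        refine Submodule.sum_mem _ fun g hg => ?_
        rw [← Algebra.smul_def, map_smul,
          show cf g • φ g = (⟨cf g, hW ▸ hcf g⟩ : W₁) • φ g by
            rw [Algebra.smul_def, Algebra.smul_def]; rfl]
        exact Submodule.smul_mem _ _ (Submodule.subset_span (Finset.mem_coe.2
          (Finset.mem_image_of_mem φ hg)))
    intro x hx
    obtain ⟨q, hq, hqx⟩ := IsIntegral.of_mem_of_fg T' hTfg x hx
    have hι : ∀ a : W₁, ι a ∈ W₃ := fun a => by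
      show algebraMap M₁ M₃ (a : M₁) ∈ W₃
      rw [← ValuationSubring.mem_comap, hW₃]
      exact a.2
    let ι' : W₁ →+* W₃ := ι.codRestrict W₃.toSubring hι
    have : IsIntegral W₃ x := ⟨q.map ι', hq.map ι', by rw [Polynomial.eval₂_map]; exact hqx⟩
    obtain ⟨y, hy⟩ := IsIntegrallyClosed.isIntegral_iff.1 this
    exact hy ▸ y.2
  have hφW : ∀ x : W₂, φ (x : M₂) ∈ W₃ := fun x => hTW _ ⟨x, x.2, rfl⟩
  let f : W₂ → W₃ := fun x => ⟨φ (x : M₂), hφW x⟩
  let s₃ : W₃ := ⟨S₃, by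
    rw [← ValuationSubring.mem_comap, hW₃, ← ValuationSubring.valuation_le_one_iff]
    exact hs.le⟩
  have hs₃ : f s₂ = s₃ := Subtype.ext (hφa s)
  have hs₃0 : s₃ ≠ 0 := fun h => hs0 ((algebraMap M₁ M₃).injective
    ((congrArg Subtype.val h).trans (map_zero (algebraMap M₁ M₃)).symm))
  have hs₃m : s₃ ∈ maximalIdeal W₃ := (mem_maximalIdeal _).2 fun hu => by
    obtain ⟨t, ht⟩ := hu.exists_right_inv
    have ht' : S₃ * (t : M₃) = 1 := congrArg Subtype.val ht
    have : s⁻¹ ∈ W₁ := by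
      rw [← hW₃, ValuationSubring.mem_comap, map_inv₀, inv_eq_of_mul_eq_one_right ht']
      exact t.2
    rw [← ValuationSubring.valuation_le_one_iff, map_inv₀,
      inv_le_one₀ (zero_lt_iff.2 ((map_ne_zero _).2 hs0))] at this
    exact absurd hs (not_lt.2 this)
  let q := Ideal.Quotient.mk (Ideal.span {s₃ ^ 2})
  let ψ : W₂ →+* W₃ ⧸ Ideal.span {s₃ ^ 2} :=
    { toFun := fun x => q (f x)
      map_one' := by rw [show f 1 = 1 from Subtype.ext hφ1, map_one]
      map_mul' := fun x y => by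
        obtain ⟨d, hd, hd'⟩ := hcmu x x.2 y y.2
        rw [← map_mul, Ideal.Quotient.eq, Ideal.mem_span_singleton]
        refine ⟨-f ⟨d, hd⟩, Subtype.ext ?_⟩
        show φ ((x : M₂) * (y : M₂)) - φ x * φ y = S₃ ^ 2 * -φ d
        rw [← hmulφ, map_add, hd', hS₃k]
        ring
      map_zero' := by rw [show f 0 = 0 from Subtype.ext (map_zero φ), map_zero]
      map_add' := fun x y => by
        rw [show f (x + y) = f x + f y from Subtype.ext (map_add φ (x : M₂) (y : M₂)), map_add] }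
  let r : W₃ ⧸ Ideal.span {s₃ ^ 2} →+* ResidueField W₃ :=
    Ideal.Quotient.lift _ (residue W₃) fun x hx => by
      obtain ⟨d, rfl⟩ := Ideal.mem_span_singleton.1 hx
      rw [residue_eq_zero_iff]
      exact Ideal.mul_mem_right _ _ (Ideal.pow_mem_of_mem _ hs₃m 2 two_pos)
  let χ : W₂ →+* ResidueField W₃ := r.comp ψ
  have hmax : ∀ x ∈ maximalIdeal W₂, f x ∈ maximalIdeal W₃ := by
    intro x hx
    obtain ⟨a, ha⟩ := hpow (x : M₂)
    have ha' : a ∈ W₁ := by rw [← hW, ValuationSubring.mem_comap, ← ha]; exact pow_mem x.2 _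
    have ha1 : W₁.valuation a < 1 := by
      refine lt_of_le_of_ne ((W₁.valuation_le_one_iff a).2 ha') fun h1 => ?_
      have hinv : a⁻¹ ∈ W₁ := by
        rw [← ValuationSubring.valuation_le_one_iff, map_inv₀, h1, inv_one]
      have ha0 : a ≠ 0 := fun h0 => by rw [h0, map_zero] at h1; exact zero_ne_one h1
      have hu : IsUnit (x ^ pb.dim) := by
        refine IsUnit.of_mul_eq_one ⟨algebraMap M₁ M₂ a⁻¹, by
          rw [← ValuationSubring.mem_comap, hW]; exact hinv⟩ (Subtype.ext ?_)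
        show (x : M₂) ^ pb.dim * algebraMap M₁ M₂ a⁻¹ = 1
        rw [ha, ← map_mul, mul_inv_cancel₀ ha0, map_one]
      exact (mem_maximalIdeal _).1 hx ((isUnit_pow_iff (by omega)).1 hu)
    let a₃ : W₃ := ⟨algebraMap M₁ M₃ a, by rw [← ValuationSubring.mem_comap, hW₃]; exact ha'⟩
    have ha₃ : a₃ ∈ maximalIdeal W₃ := (mem_maximalIdeal _).2 fun hu => by
      obtain ⟨t, ht⟩ := hu.exists_right_inv
      have ht' : algebraMap M₁ M₃ a * (t : M₃) = 1 := congrArg Subtype.val ht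
      have ha0 : a ≠ 0 := fun h0 => by rw [h0, map_zero, zero_mul] at ht'; exact zero_ne_one ht'
      have : a⁻¹ ∈ W₁ := by
        rw [← hW₃, ValuationSubring.mem_comap, map_inv₀, inv_eq_of_mul_eq_one_right ht']
        exact t.2
      rw [← ValuationSubring.valuation_le_one_iff, map_inv₀,
        inv_le_one₀ (zero_lt_iff.2 ((map_ne_zero _).2 ha0))] at this
      exact absurd ha1 (not_lt.2 this)
    have h1 : q (f x) ^ pb.dim = q a₃ := by
      show ψ x ^ pb.dim = _
      rw [← map_pow]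
      exact congrArg q (Subtype.ext (show φ ((x ^ pb.dim : W₂) : M₂) = algebraMap M₁ M₃ a by
        rw [SubmonoidClass.coe_pow, ha, hφa]))
    rw [← map_pow, Ideal.Quotient.eq, Ideal.mem_span_singleton] at h1
    obtain ⟨d, hd⟩ := h1
    refine (maximalIdeal.isMaximal W₃).isPrime.mem_of_pow_mem pb.dim ?_
    rw [sub_eq_iff_eq_add.1 hd]
    exact add_mem (Ideal.mul_mem_right _ _ (Ideal.pow_mem_of_mem _ hs₃m 2 two_pos)) ha₃
  have hker : maximalIdeal W₂ ≤ RingHom.ker χ := fun x hx => by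
    show residue W₃ (f x) = 0
    exact (residue_eq_zero_iff _).2 (hmax x hx)
  let g : ResidueField W₂ →+* ResidueField W₃ := Ideal.Quotient.lift _ χ hker
  have hg : ∀ x, g (residue W₂ x) = residue W₃ (f x) := fun x => rfl
  have hunit : ∀ x : W₂, IsUnit x → IsUnit (f x) := fun x hx => by
    by_contra h
    exact (hx.map χ).ne_zero ((residue_eq_zero_iff _).2 ((mem_maximalIdeal _).2 h))
  let ϖ₃ := f ϖ
  have hϖ₃m : ϖ₃ ∈ maximalIdeal W₃ := hmax _ (hϖ.maximalIdeal_eq.ge (Ideal.mem_span_singleton_self ϖ))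
  -- units with residue in the range of `g`
  let Good : W₃ → Prop := fun U => IsUnit U ∧ residue W₃ U ∈ g.fieldRange
  have hGmul : ∀ U V, Good U → Good V → Good (U * V) := fun U V hU hV =>
    ⟨hU.1.mul hV.1, by rw [map_mul]; exact mul_mem hU.2 hV.2⟩
  have hGpow : ∀ U (j : ℕ), Good U → Good (U ^ j) := fun U j hU =>
    ⟨hU.1.pow j, by rw [map_pow]; exact pow_mem hU.2 j⟩
  have hGf : ∀ x : W₂, IsUnit x → Good (f x) := fun x hx => ⟨hunit x hx, ⟨_, hg x⟩⟩
  have hGone : ∀ m ∈ maximalIdeal W₃, Good (1 + m) := fun m hm => by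
    refine ⟨?_, ?_⟩
    · by_contra h
      exact (maximalIdeal.isMaximal W₃).ne_top ((Ideal.eq_top_iff_one _).2
        ((Submodule.add_mem_iff_left _ hm).1 ((mem_maximalIdeal _).2 h)))
    · rw [map_add, map_one, (residue_eq_zero_iff _).2 hm, add_zero]
      exact one_mem _
  have hGadd : ∀ U, Good U → ∀ m ∈ maximalIdeal W₃, Good (U + m) := fun U hU m hm => by
    obtain ⟨V, hV⟩ := hU.1
    have : U + m = U * (1 + ↑V⁻¹ * m) := by
      rw [mul_add, mul_one, ← mul_assoc, ← hV, Units.mul_inv, one_mul]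
    rw [this]
    exact hGmul _ _ hU (hGone _ (Ideal.mul_mem_left _ _ hm))
  have hGdiv : ∀ U V Y, Good U → Good V → Y * U = V → Good Y := fun U V Y hU hV h => by
    refine ⟨isUnit_of_mul_isUnit_left (h ▸ hV.1), ?_⟩
    have h1 := congrArg (residue W₃) h
    rw [map_mul, ← eq_div_iff ((hU.1.map (residue W₃)).ne_zero)] at h1
    rw [h1]
    exact div_mem hV.2 hU.2
  have hψpow : ∀ (j : ℕ) (x : W₂), q (f (x * ϖ ^ j)) = q (f x * ϖ₃ ^ j) := fun j x => by
    show ψ (x * ϖ ^ j) = _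
    rw [map_mul, map_pow, map_mul, map_pow]
    rfl
  obtain ⟨U₀, hU₀, hsϖ₃⟩ : ∃ U₀, Good U₀ ∧ s₃ = U₀ * ϖ₃ ^ e := by
    have h1 := hψpow e (u₀ : W₂)
    rw [← hu₀, hs₃, Ideal.Quotient.eq, Ideal.mem_span_singleton] at h1
    obtain ⟨d, hd⟩ := h1
    have hgood : Good (1 - s₃ * d) := by
      rw [sub_eq_add_neg]
      exact hGone _ (neg_mem (Ideal.mul_mem_right _ _ hs₃m))
    obtain ⟨V, hV⟩ := hgood.1
    refine ⟨↑V⁻¹ * f u₀, hGmul _ _ ?_ (hGf _ u₀.isUnit), ?_⟩
    · exact hGdiv _ 1 _ hgood ⟨isUnit_one, by rw [map_one]; exact one_mem _⟩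
        (by rw [← hV, Units.inv_mul])
    · rw [mul_assoc, show f (u₀ : W₂) * ϖ₃ ^ e = s₃ * (1 - s₃ * d) by linear_combination -hd, ← hV,
        ← mul_assoc, mul_comm _ s₃, mul_assoc, Units.inv_mul, mul_one]
  have hϖ₃0 : ϖ₃ ≠ 0 := fun h => hs₃0 (by rw [hsϖ₃, h, zero_pow he.ne', mul_zero])
  have hrep : ∀ x : W₂, x ≠ 0 → ∃ (j : ℕ) (U : W₃), Good U ∧ f x = U * ϖ₃ ^ j := by
    intro x hx
    obtain ⟨j, u, hu⟩ := IsDiscreteValuationRing.eq_unit_mul_pow_irreducible hx hϖ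
    have hmod := hψpow (j % e) ((u : W₂) * ↑(u₀ ^ (j / e))⁻¹)
    rw [Ideal.Quotient.eq, Ideal.mem_span_singleton] at hmod
    obtain ⟨d, hd⟩ := hmod
    let y : W₂ := (u : W₂) * ↑(u₀ ^ (j / e))⁻¹ * ϖ ^ (j % e)
    have hxy : x = s₂ ^ (j / e) * y := by
      rw [hu₀, mul_pow, ← Units.val_pow_eq_pow_val, ← pow_mul, hu]
      conv_lhs => rw [← Nat.div_add_mod j e, pow_add]
      rw [show (↑(u₀ ^ (j / e)) : W₂) * ϖ ^ (e * (j / e)) *
          ((u : W₂) * ↑(u₀ ^ (j / e))⁻¹ * ϖ ^ (j % e)) =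
        ((↑(u₀ ^ (j / e)) : W₂) * ↑(u₀ ^ (j / e))⁻¹) * ((u : W₂) *
          (ϖ ^ (e * (j / e)) * ϖ ^ (j % e))) by ring, Units.mul_inv, one_mul]
    have hfx : f x = s₃ ^ (j / e) * f y := Subtype.ext (by
      show φ (x : M₂) = S₃ ^ (j / e) * φ (y : M₂)
      rw [hxy]
      exact hS₃k _ _)
    have hlt : j % e < e := Nat.mod_lt _ he
    have hfy : f y = (f ((u : W₂) * ↑(u₀ ^ (j / e))⁻¹) +
        U₀ ^ 2 * d * ϖ₃ ^ (e - j % e) * ϖ₃ ^ e) * ϖ₃ ^ (j % e) := by
      have hpow' : ϖ₃ ^ e * ϖ₃ ^ e = ϖ₃ ^ (e - j % e) * ϖ₃ ^ e * ϖ₃ ^ (j % e) := by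
        rw [← pow_add, ← pow_add, ← pow_add]
        congr 1
        omega
      have hd' : f y = f ((u : W₂) * ↑(u₀ ^ (j / e))⁻¹) * ϖ₃ ^ (j % e) + s₃ ^ 2 * d := by
        linear_combination hd
      rw [hd', hsϖ₃, add_mul]
      congr 1
      calc (U₀ * ϖ₃ ^ e) ^ 2 * d = U₀ ^ 2 * d * (ϖ₃ ^ e * ϖ₃ ^ e) := by ring
        _ = _ := by rw [hpow']; ring
    refine ⟨e * (j / e) + j % e, U₀ ^ (j / e) * (f ((u : W₂) * ↑(u₀ ^ (j / e))⁻¹) +
      U₀ ^ 2 * d * ϖ₃ ^ (e - j % e) * ϖ₃ ^ e), hGmul _ _ (hGpow _ _ hU₀) (hGadd _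
        (hGf _ (u.isUnit.mul (Units.isUnit _))) _ ?_), ?_⟩
    · exact Ideal.mul_mem_left _ _ (Ideal.pow_mem_of_mem _ hϖ₃m e he)
    · rw [hfx, hfy, hsϖ₃, pow_add, pow_mul]
      ring
  have hsurj : ∀ y : M₃, ∃ x, φ x = y := by
    let R : Subalgebra M₁ M₃ :=
      { carrier := Set.range φ
        one_mem' := ⟨1, hφ1⟩
        mul_mem' := by
          rintro _ _ ⟨x, rfl⟩ ⟨y, rfl⟩
          exact ⟨_, hmulφ x y⟩
        zero_mem' := ⟨0, map_zero φ⟩
        add_mem' := by
          rintro _ _ ⟨x, rfl⟩ ⟨y, rfl⟩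
          exact ⟨x + y, map_add φ x y⟩
        algebraMap_mem' := fun a => ⟨_, hφa a⟩ }
    have : Algebra.adjoin M₁ {θ} ≤ R := Algebra.adjoin_le (Set.singleton_subset_iff.2
      ⟨pb.gen, by
        have := phi_gen_pow pb θ (k := 1) (by omega)
        rwa [pow_one, pow_one] at this⟩)
    intro y
    exact this (hadj ▸ Algebra.mem_top)
  have hall : ∀ y : W₃, y ≠ 0 → ∃ (j : ℕ) (U : W₃), Good U ∧ y = U * ϖ₃ ^ j := by
    intro y hy
    obtain ⟨x, hx⟩ := hsurj (y : M₃)
    have hmem : x * S₂ ^ k x ∈ W₂ := hk x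
    have hyk : y * s₃ ^ k x = f ⟨x * S₂ ^ k x, hmem⟩ := Subtype.ext (by
      show (y : M₃) * S₃ ^ k x = φ (x * S₂ ^ k x)
      rw [mul_comm x, hS₃k, hx, mul_comm])
    have hne : (⟨x * S₂ ^ k x, hmem⟩ : W₂) ≠ 0 := fun h0 => by
      rw [h0, show f 0 = 0 from Subtype.ext (map_zero φ)] at hyk
      exact mul_ne_zero hy (pow_ne_zero _ hs₃0) hyk
    obtain ⟨j, U, hU, hfU⟩ := hrep _ hne
    rw [hfU, hsϖ₃, mul_pow, ← pow_mul, ← mul_assoc] at hyk
    have hV := hGpow _ (k x) hU₀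
    rcases le_or_gt (e * k x) j with hle | hlt
    · obtain ⟨i, rfl⟩ := Nat.exists_eq_add_of_le hle
      have h1 : y * U₀ ^ k x = U * ϖ₃ ^ i := mul_right_cancel₀ (pow_ne_zero (e * k x) hϖ₃0) (by
        rw [hyk, pow_add]; ring)
      obtain ⟨V, hV'⟩ := hV.1
      refine ⟨i, U * ↑V⁻¹, hGmul _ _ hU
        (hGdiv _ 1 _ hV ⟨isUnit_one, by rw [map_one]; exact one_mem _⟩
          (by rw [← hV', Units.inv_mul])), ?_⟩
      rw [mul_right_comm, ← h1, ← hV', mul_assoc, Units.mul_inv, mul_one]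
    · exfalso
      obtain ⟨i, hi⟩ : ∃ i, e * k x = j + (i + 1) := ⟨e * k x - j - 1, by omega⟩
      rw [hi, pow_add, ← mul_assoc, mul_right_comm _ (ϖ₃ ^ j)] at hyk
      have h2 := mul_right_cancel₀ (pow_ne_zero j hϖ₃0) hyk
      exact (mem_maximalIdeal _).1 (h2 ▸ Ideal.mul_mem_left _ _
        (Ideal.pow_mem_of_mem _ hϖ₃m _ i.succ_pos)) hU.1
  refine ⟨hφW, fun ϖ' hϖ' => ?_, ?_⟩
  · have hϖ₃max : maximalIdeal W₃ = Ideal.span {ϖ₃} := by
      refine le_antisymm (fun y hy => ?_) ((Ideal.span_singleton_le_iff_mem _).2 hϖ₃m)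
      rcases eq_or_ne y 0 with rfl | hy0
      · exact zero_mem _
      obtain ⟨j, U, hU, rfl⟩ := hall y hy0
      rcases j with _ | j
      · rw [pow_zero, mul_one] at hy
        exact absurd hU.1 hy
      · exact Ideal.mul_mem_left _ _ (Ideal.pow_mem_of_mem _ (Ideal.mem_span_singleton_self ϖ₃) _
          j.succ_pos)
    obtain ⟨v, hv⟩ := Ideal.span_singleton_eq_span_singleton.1 (hϖ.maximalIdeal_eq.symm.trans hϖ')
    show maximalIdeal W₃ = Ideal.span {f ϖ'}
    have h1 : q (f ϖ') = q (ϖ₃ * f (v : W₂)) := by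
      rw [← hv]
      show ψ (ϖ * v) = _
      rw [map_mul, map_mul]
      rfl
    rw [Ideal.Quotient.eq, Ideal.mem_span_singleton] at h1
    obtain ⟨d, hd⟩ := h1
    obtain ⟨e', rfl⟩ : ∃ e', e = e' + 1 := ⟨e - 1, by omega⟩
    have hu' : IsUnit (f (v : W₂) + U₀ ^ 2 * d * ϖ₃ ^ e' * ϖ₃ ^ (e' + 1)) :=
      (hGadd _ (hGf _ v.isUnit) _ (Ideal.mul_mem_left _ _
        (Ideal.pow_mem_of_mem _ hϖ₃m _ e'.succ_pos))).1
    rw [hϖ₃max, show f ϖ' = ϖ₃ * (f (v : W₂) + U₀ ^ 2 * d * ϖ₃ ^ e' * ϖ₃ ^ (e' + 1)) by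
      rw [sub_eq_iff_eq_add.1 hd, hsϖ₃]; ring,
      Ideal.span_singleton_mul_right_unit hu']
  · refine ⟨RingEquiv.ofBijective g ⟨g.injective, fun y => ?_⟩, fun x => hg x⟩
    obtain ⟨y, rfl⟩ := residue_surjective y
    rcases eq_or_ne y 0 with rfl | hy0
    · exact ⟨0, by rw [map_zero, map_zero]⟩
    obtain ⟨j, U, hU, rfl⟩ := hall y hy0
    rcases j with _ | j
    · rw [pow_zero, mul_one]
      exact hU.2
    · exact ⟨0, by
        rw [map_zero, eq_comm, residue_eq_zero_iff]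
        exact Ideal.mul_mem_left _ _ (Ideal.pow_mem_of_mem _ hϖ₃m _ j.succ_pos)⟩

end Groth.EtaleAlgebra.PDeform
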