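import Groth.Agent.EtaleAlgebra.EtRamBasic
import Mathlib.FieldTheory.SeparableClosure
import Mathlib.NumberTheory.RamificationInertia.Basic

/-!
# Towers of valuation subrings over a DVR
-/

namespace Groth.EtaleAlgebra

open IsLocalRing EtRam

universe u

variable {A K L M : Type u} [CommRing A] [IsDomain A] [IsDiscreteValuationRing A] [Field K]
  [Algebra A K] [IsFractionRing A K] [Field L] [Field M]
  [Algebra K L] [Algebra K M] [Algebra L M] [IsScalarTower K L M] [FiniteDimensional K M]

/-- For a tower `A → V → W` coming from `K ⊆ L ⊆ M`: ramification indices multiply and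
residue separability is transitive in both directions. -/
theorem tower_data {W : ValuationSubring M} {V : ValuationSubring L}
    (hVW : W.comap (algebraMap L M) = V)
    (hV : Dominates A ((algebraMap K L).comp (algebraMap A K)) V)
    (hW : Dominates A ((algebraMap K M).comp (algebraMap A K)) W)
    (hVd : Dominates V ((algebraMap L M).comp V.subtype) W) :
    letI := (RingHom.codRestrict _ V hV.1).toAlgebra
    letI := (RingHom.codRestrict _ W hW.1).toAlgebra
    letI := (RingHom.codRestrict _ W hVd.1).toAlgebra
    haveI : IsLocalHom (algebraMap A V) := isLocalHom_codRestrict hV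
    haveI : IsLocalHom (algebraMap A W) := isLocalHom_codRestrict hW
    haveI : IsLocalHom (algebraMap V W) := isLocalHom_codRestrict hVd
    Ideal.ramificationIdx' (maximalIdeal A) (maximalIdeal W) =
        Ideal.ramificationIdx' (maximalIdeal A) (maximalIdeal V) *
          Ideal.ramificationIdx' (maximalIdeal V) (maximalIdeal W) ∧
      (IsWeaklyUnramified A W ↔ IsWeaklyUnramified A V ∧ IsWeaklyUnramified V W) ∧
      (Algebra.IsSeparable (ResidueField A) (ResidueField W) ↔
        Algebra.IsSeparable (ResidueField A) (ResidueField V) ∧
          Algebra.IsSeparable (ResidueField V) (ResidueField W)) := by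
  have : FiniteDimensional K L := FiniteDimensional.left K L M
  have : IsDiscreteValuationRing V := isDiscreteValuationRing_of_dominates A K L hV
  have : IsDiscreteValuationRing W := isDiscreteValuationRing_of_dominates A K M hW
  let := (RingHom.codRestrict _ V hV.1).toAlgebra
  let := (RingHom.codRestrict _ W hW.1).toAlgebra
  let := (RingHom.codRestrict _ W hVd.1).toAlgebra
  have : IsLocalHom (algebraMap A V) := isLocalHom_codRestrict hV
  have : IsLocalHom (algebraMap A W) := isLocalHom_codRestrict hW
  have : IsLocalHom (algebraMap V W) := isLocalHom_codRestrict hVd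
  have : IsScalarTower A V W := IsScalarTower.of_algebraMap_eq fun a => Subtype.ext
    (show algebraMap K M (algebraMap A K a) = algebraMap L M (algebraMap K L (algebraMap A K a))
      from IsScalarTower.algebraMap_apply K L M _)
  have hAV : Function.Injective (algebraMap A V) := fun a b hab =>
    IsFractionRing.injective A K ((algebraMap K L).injective (congrArg Subtype.val hab))
  have hVi : Function.Injective (algebraMap V W) := fun a b hab =>
    Subtype.ext ((algebraMap L M).injective (congrArg Subtype.val hab))
  have hAW : Function.Injective (algebraMap A W) := fun a b hab =>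
    IsFractionRing.injective A K ((algebraMap K M).injective (congrArg Subtype.val hab))
  have hmul := tower_ramificationIdx A V W hAV hVi
  have : IsScalarTower (ResidueField A) (ResidueField V) (ResidueField W) :=
    IsScalarTower.of_algebraMap_eq fun x => by
      obtain ⟨a, rfl⟩ := residue_surjective x
      rw [ResidueField.algebraMap_residue, ResidueField.algebraMap_residue,
        ResidueField.algebraMap_residue, ← IsScalarTower.algebraMap_apply]
  refine ⟨hmul, ?_, ⟨fun h => ⟨?_, ?_⟩, fun h => ?_⟩⟩
  · rw [weaklyUnramified_iff A W hAW, weaklyUnramified_iff A V hAV,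
      weaklyUnramified_iff V W hVi, hmul]
    exact mul_eq_one
  · exact Algebra.isSeparable_tower_bot_of_isSeparable _ _ (ResidueField W)
  · exact Algebra.isSeparable_tower_top_of_isSeparable (ResidueField A) _ _
  · have := h.1; have := h.2
    exact Algebra.IsSeparable.trans _ (ResidueField V) _

omit [IsFractionRing A K] [FiniteDimensional K M] in
/-- A dominating valuation subring upstairs restricts to one downstairs. -/
theorem dominates_restrict {W : ValuationSubring M}
    (hW : Dominates A ((algebraMap K M).comp (algebraMap A K)) W) :
    Dominates A ((algebraMap K L).comp (algebraMap A K)) (W.comap (algebraMap L M)) := by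
  rw [← dominates_comp_iff, ← RingHom.comp_assoc, ← IsScalarTower.algebraMap_eq K L M]
  exact hW

omit [IsFractionRing A K] [FiniteDimensional K M] in
/-- A dominating valuation subring downstairs extends. -/
theorem exists_dominates_lift {V : ValuationSubring L}
    (hV : Dominates A ((algebraMap K L).comp (algebraMap A K)) V) :
    ∃ W : ValuationSubring M, W.comap (algebraMap L M) = V ∧
      Dominates A ((algebraMap K M).comp (algebraMap A K)) W := by
  obtain ⟨W, rfl⟩ := exists_comap_eq V (algebraMap L M)
  refine ⟨W, rfl, ?_⟩
  rw [IsScalarTower.algebraMap_eq K L M, RingHom.comp_assoc]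
  exact dominates_comp_iff.2 hV

end Groth.EtaleAlgebra
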