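import Groth.Agent.EtaleAlgebra.Abhyankar
import Groth.Agent.EtaleAlgebra.EtRamTower
import Groth.Agent.S1982
import Groth.Agent.S1989
import Groth.Agent.S1990
import Mathlib.FieldTheory.IntermediateField.Adjoin.Basic
import Mathlib.FieldTheory.IsAlgClosed.AlgebraicClosure
import Mathlib.FieldTheory.Perfect
import Mathlib.FieldTheory.Minpoly.Field

/-!
# Compositum of tamely ramified / unramified extensions
-/

set_option autoImplicit false
set_option linter.style.haveILetI false
set_option linter.overlappingInstances false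
universe u

namespace Groth.EtaleAlgebra.TameComp

open IsLocalRing TensorProduct EtRam Polynomial IntermediateField

/-- An algebraic geometrically reduced field extension is separable. -/
theorem isSeparable_of_geomReduced (k F : Type u) [Field k] [Field F] [Algebra k F]
    [Algebra.IsAlgebraic k F] [Algebra.IsGeometricallyReduced k F] : Algebra.IsSeparable k F := by
  refine ⟨fun x => ?_⟩
  let C := AlgebraicClosure k
  let f := minpoly k x
  have hf0 : f ≠ 0 := minpoly.ne_zero (Algebra.IsIntegral.isIntegral x)
  have : Fact (Irreducible f) := ⟨minpoly.irreducible (Algebra.IsIntegral.isIntegral x)⟩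
  let j : AdjoinRoot f →ₐ[k] F :=
    AdjoinRoot.liftAlgHom f (Algebra.ofId k F) x (minpoly.aeval k x)
  have : Algebra.IsGeometricallyReduced k (AdjoinRoot f) :=
    Algebra.IsGeometricallyReduced.of_injective j j.toRingHom.injective
  have hred : IsReduced (C ⊗[k] AdjoinRoot f) :=
    (Algebra.isGeometricallyReduced_field_iff k _).1 inferInstance
  let fC : C[X] := f.map (algebraMap k C)
  let y : C ⊗[k] AdjoinRoot f := 1 ⊗ₜ AdjoinRoot.root f
  have hy : aeval y fC = 0 := by
    rw [aeval_map_algebraMap]
    show aeval ((Algebra.TensorProduct.includeRight : AdjoinRoot f →ₐ[k] _) (AdjoinRoot.root f)) f = 0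
    rw [aeval_algHom_apply, AdjoinRoot.aeval_eq, AdjoinRoot.mk_self, map_zero]
  have hr : aeval (AdjoinRoot.root fC) f = 0 := by
    rw [← aeval_map_algebraMap C, AdjoinRoot.aeval_eq, AdjoinRoot.mk_self]
  let φ : C ⊗[k] AdjoinRoot f →ₐ[C] AdjoinRoot fC :=
    Algebra.TensorProduct.lift (Algebra.ofId C _)
      (AdjoinRoot.liftAlgHom f (Algebra.ofId k _) (AdjoinRoot.root fC) hr)
      (fun _ _ => Commute.all _ _)
  have hφy : φ y = AdjoinRoot.root fC := by
    refine (Algebra.TensorProduct.lift_tmul _ _ _ _ _).trans ?_
    rw [map_one, one_mul, AdjoinRoot.liftAlgHom_root]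
  have hrad : IsRadical fC := fun n q hq => by
    have h1 : aeval y q = 0 := IsReduced.eq_zero _ ⟨n, by
      obtain ⟨r, hr⟩ := hq
      rw [← map_pow, hr, map_mul, hy, zero_mul]⟩
    have h2 := congrArg φ h1
    rw [← aeval_algHom_apply, hφy, map_zero, AdjoinRoot.aeval_eq, AdjoinRoot.mk_eq_zero] at h2
    exact h2
  have hsq : Squarefree fC :=
    IsRadical.squarefree ((Polynomial.map_ne_zero_iff (algebraMap k C).injective).2 hf0) hrad
  show f.Separable
  rw [← separable_map (algebraMap k C)]
  exact PerfectField.separable_iff_squarefree.2 hsq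

/-- A separable algebraic field extension is geometrically reduced. -/
theorem geomReduced_of_isSeparable (k F : Type u) [Field k] [Field F] [Algebra k F]
    [Algebra.IsSeparable k F] : Algebra.IsGeometricallyReduced k F := by
  refine Algebra.IsGeometricallyReduced.of_forall_fg fun B hB => ?_
  have : Algebra.IsIntegral k B := Algebra.IsIntegral.of_injective B.val Subtype.val_injective
  have : Algebra.FiniteType k B := ⟨B.fg_top.2 hB⟩
  have : Module.Finite k B := Algebra.IsIntegral.finite
  let _ : Field B := (isField_of_isIntegral_of_isField' (R := k) (Field.toIsField k)).toField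
  have : Algebra.IsSeparable k B := Algebra.IsSeparable.of_algHom k F B.val
  have : Algebra.FormallyEtale k B := (Algebra.FormallyEtale.iff_isSeparable k B).2 this
  have : Algebra.Etale k B := ⟨this, Algebra.FinitePresentation.of_finiteType.1 inferInstance⟩
  have : Algebra.IsGeometricallyReduced k k := by
    rw [Algebra.isGeometricallyReduced_field_iff]
    exact isReduced_of_injective (Algebra.TensorProduct.rid k k (AlgebraicClosure k)).toRingHom
      (Algebra.TensorProduct.rid k k (AlgebraicClosure k)).injective
  exact Abhy.isGeometricallyReduced_of_finite_etale k k B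

variable {A K : Type u} [CommRing A] [IsDomain A] [IsDiscreteValuationRing A] [Field K]
  [Algebra A K] [IsFractionRing A K]

local notation "str" F => RingHom.comp (algebraMap K F) (algebraMap A K)

/-- A root of order `n` of the uniformizer forces `n` to divide the ramification index. -/
theorem dvd_ramificationIdx {L : Type u} [Field L] [Algebra K L] [FiniteDimensional K L]
    {π : A} (hπ : Irreducible π) {n : ℕ} (hn : n ≠ 0) {x : L}
    (hx : x ^ n = algebraMap K L (algebraMap A K π)) {V : ValuationSubring L}
    (hV : Dominates A (str L) V) :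
    letI := (RingHom.codRestrict _ V hV.1).toAlgebra
    n ∣ Ideal.ramificationIdx' (maximalIdeal A) (maximalIdeal V) := by
  have : IsDiscreteValuationRing V := isDiscreteValuationRing_of_dominates A K L hV
  let := (RingHom.codRestrict _ V hV.1).toAlgebra
  have : IsLocalHom (algebraMap A V) := isLocalHom_codRestrict hV
  have hAV : Function.Injective (algebraMap A V) := fun a b hab =>
    IsFractionRing.injective A K ((algebraMap K L).injective (congrArg Subtype.val hab))
  obtain ⟨e, -, he, he'⟩ := exists_map_maximalIdeal_eq_pow A V hAV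
  have hxV : x ∈ V := by
    rw [← ValuationSubring.valuation_le_one_iff]
    refine (pow_le_one_iff hn).1 ?_
    rw [← map_pow, hx]
    exact V.valuation_le_one (algebraMap A V π)
  let x' : V := ⟨x, hxV⟩
  have hx' : x' ^ n = algebraMap A V π := Subtype.ext ((SubmonoidClass.coe_pow x' n).trans hx)
  have hx0 : x' ≠ 0 := fun h => by
    rw [h, zero_pow hn] at hx'
    exact hπ.ne_zero (hAV (hx'.symm.trans (map_zero _).symm))
  obtain ⟨ϖ, hϖ⟩ := IsDiscreteValuationRing.exists_irreducible V
  obtain ⟨k, hk⟩ := IsDiscreteValuationRing.ideal_eq_span_pow_irreducible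
    (s := Ideal.span {x'}) (by rwa [Ne, Ideal.span_singleton_eq_bot]) hϖ
  rw [he']
  refine ⟨k, pow_maximalIdeal_injective V ?_⟩
  show maximalIdeal V ^ e = maximalIdeal V ^ (n * k)
  rw [← he, hπ.maximalIdeal_eq, Ideal.map_span, Set.image_singleton, ← hx', mul_comm, pow_mul,
    hϖ.maximalIdeal_eq, Ideal.span_singleton_pow, ← hk, Ideal.span_singleton_pow]

/-- The ramification index is at most the degree. -/
theorem ramificationIdx_mul_le {L : Type u} [Field L] [Algebra K L] [FiniteDimensional K L]
    {V : ValuationSubring L} (hV : Dominates A (str L) V) :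
    letI := (RingHom.codRestrict _ V hV.1).toAlgebra
    haveI : IsLocalHom (algebraMap A V) := isLocalHom_codRestrict hV
    1 ≤ Ideal.ramificationIdx' (maximalIdeal A) (maximalIdeal V) ∧
      Module.Finite (ResidueField A) (ResidueField V) ∧
        Ideal.ramificationIdx' (maximalIdeal A) (maximalIdeal V) *
          Module.finrank (ResidueField A) (ResidueField V) ≤ Module.finrank K L := by
  have : IsDiscreteValuationRing V := isDiscreteValuationRing_of_dominates A K L hV
  let := (RingHom.codRestrict _ V hV.1).toAlgebra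
  have : IsLocalHom (algebraMap A V) := isLocalHom_codRestrict hV
  have hAV : Function.Injective (algebraMap A V) := fun a b hab =>
    IsFractionRing.injective A K ((algebraMap K L).injective (congrArg Subtype.val hab))
  let : Algebra A L := (str L).toAlgebra
  have : IsScalarTower A K L := IsScalarTower.of_algebraMap_eq fun _ => rfl
  have : IsScalarTower A V L := IsScalarTower.of_algebraMap_eq fun _ => rfl
  obtain ⟨h1, h2⟩ := finite_residueField_and_ramificationIdx_mul_finrank_le A V hAV K L
  obtain ⟨e, he1, -, he'⟩ := exists_map_maximalIdeal_eq_pow A V hAV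
  exact ⟨he' ▸ he1, h1, h2⟩

/-- Abhyankar step: `M = K₁ L` is unramified over `K₁` where the ramification of `L` divides
that of `K₁`. -/
theorem step {L K₁ M : Type u} [Field L] [Field K₁] [Field M] [Algebra K L] [Algebra K K₁]
    [Algebra K M] [Algebra L M] [Algebra K₁ M] [IsScalarTower K L M] [IsScalarTower K K₁ M]
    [FiniteDimensional K M] (hadj : Algebra.adjoin L (Set.range (algebraMap K₁ M)) = ⊤)
    (ht : IsTamelyRamified A (str L)) {W : ValuationSubring M} (hW : Dominates A (str M) W)
    (hdvd : letI := (RingHom.codRestrict _ (W.comap (algebraMap L M))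
        (dominates_restrict (L := L) hW).1).toAlgebra
      letI := (RingHom.codRestrict _ (W.comap (algebraMap K₁ M))
        (dominates_restrict (L := K₁) hW).1).toAlgebra
      Ideal.ramificationIdx' (maximalIdeal A) (maximalIdeal (W.comap (algebraMap L M))) ∣
        Ideal.ramificationIdx' (maximalIdeal A) (maximalIdeal (W.comap (algebraMap K₁ M)))) :
    letI : Algebra (W.comap (algebraMap K₁ M)) W := (inclOfComap W (algebraMap K₁ M)).toAlgebra
    haveI : IsLocalHom (algebraMap (W.comap (algebraMap K₁ M)) W) :=
      isLocalHom_inclOfComap W (algebraMap K₁ M)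
    IsWeaklyUnramified (W.comap (algebraMap K₁ M)) W ∧
      Algebra.IsSeparable (ResidueField (W.comap (algebraMap K₁ M))) (ResidueField W) := by
  have : FiniteDimensional K L := FiniteDimensional.left K L M
  have : FiniteDimensional K K₁ := FiniteDimensional.left K K₁ M
  have : FiniteDimensional K₁ M := FiniteDimensional.right K K₁ M
  let B := W.comap (algebraMap L M)
  let V := W.comap (algebraMap K₁ M)
  have hB : Dominates A (str L) B := dominates_restrict hW
  have hV : Dominates A (str K₁) V := dominates_restrict hW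
  have : IsDiscreteValuationRing B := isDiscreteValuationRing_of_dominates A K L hB
  let : Algebra A B := (RingHom.codRestrict _ B hB.1).toAlgebra
  have hloc : IsLocalHom (algebraMap A B) := isLocalHom_codRestrict hB
  have hinj : Function.Injective (algebraMap A B) := fun a b hab =>
    IsFractionRing.injective A K ((algebraMap K L).injective (congrArg Subtype.val hab))
  let : Algebra A L := (str L).toAlgebra
  have : IsScalarTower A K L := IsScalarTower.of_algebraMap_eq fun _ => rfl
  have : IsScalarTower A B L := IsScalarTower.of_algebraMap_eq fun _ => rfl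
  obtain ⟨hsep, hp⟩ := @ht B hB hloc
  have htame : CharZero (ResidueField A) ∨
      ∃ p : ℕ, p.Prime ∧ CharP (ResidueField A) p ∧
        ¬ p ∣ Ideal.ramificationIdx' (maximalIdeal A) (maximalIdeal B) ∧
        Algebra.IsGeometricallyReduced (ResidueField A) (ResidueField B) := by
    obtain ⟨p, hchar⟩ := CharP.exists (ResidueField A)
    rcases CharP.char_is_prime_or_zero (ResidueField A) p with hp' | rfl
    · exact Or.inr ⟨p, hp', hchar, hp p hp' hchar, geomReduced_of_isSeparable _ _⟩
    · exact Or.inl (CharP.charP_to_charZero _)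
  have hWd : Dominates B ((algebraMap L M).comp (algebraMap B L)) W := dominates_comap
  obtain ⟨h1, h2⟩ := Groth.Agent.S1982.result A B K L hinj htame K₁ M hadj W hWd hV.1 hdvd
  refine ⟨h1, ?_⟩
  let : Algebra V W := (inclOfComap W (algebraMap K₁ M)).toAlgebra
  have hVW : Dominates V ((algebraMap K₁ M).comp V.subtype) W := dominates_comap
  have : IsDiscreteValuationRing V := isDiscreteValuationRing_of_dominates A K K₁ hV
  have : IsLocalHom (algebraMap V W) := isLocalHom_inclOfComap W (algebraMap K₁ M)
  have : Module.Finite (ResidueField V) (ResidueField W) :=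
    (ramificationIdx_mul_le (A := V) (K := K₁) hVW).2.1
  have : Algebra.IsGeometricallyReduced (ResidueField V) (ResidueField W) := by
    convert h2 using 1
    refine Algebra.algebra_ext _ _ fun x => ?_
    obtain ⟨a, rfl⟩ := residue_surjective x
    rfl
  exact isSeparable_of_geomReduced (ResidueField V) (ResidueField W)

/-- Tame, resp. unramified, passes to `P ⊔ L`. -/
theorem step_sup {Ω : Type u} [Field Ω] [Algebra K Ω] (P L : IntermediateField K Ω)
    [FiniteDimensional K P] [FiniteDimensional K L] [Algebra.IsSeparable K P]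
    [Algebra.IsSeparable K L] (ht : IsTamelyRamified A (str L))
    (hdvd : ∀ (B : ValuationSubring L) (V : ValuationSubring P) (hB : Dominates A (str L) B)
      (hV : Dominates A (str P) V),
      letI := (RingHom.codRestrict _ B hB.1).toAlgebra
      letI := (RingHom.codRestrict _ V hV.1).toAlgebra
      Ideal.ramificationIdx' (maximalIdeal A) (maximalIdeal B) ∣
        Ideal.ramificationIdx' (maximalIdeal A) (maximalIdeal V)) :
    (IsTamelyRamified A (str P) → IsTamelyRamified A (str ↥(P ⊔ L))) ∧
      (IsUnramifiedExt A (str P) → IsUnramifiedExt A (str ↥(P ⊔ L))) := by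
  let M := ↥(P ⊔ L)
  have : FiniteDimensional K M := IntermediateField.finiteDimensional_sup P L
  have : Algebra.IsSeparable K M := IntermediateField.isSeparable_sup K Ω P L
  let : Algebra P M := (IntermediateField.inclusion le_sup_left).toRingHom.toAlgebra
  let : Algebra L M := (IntermediateField.inclusion le_sup_right).toRingHom.toAlgebra
  have : IsScalarTower K P M := IsScalarTower.of_algebraMap_eq fun _ => rfl
  have : IsScalarTower K L M := IsScalarTower.of_algebraMap_eq fun _ => rfl
  have : FiniteDimensional P M := FiniteDimensional.right K P M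
  have hadj : Algebra.adjoin L (Set.range (algebraMap P M)) = ⊤ := by
    refine eq_top_iff.2 fun z _ => ?_
    obtain ⟨z, hz⟩ := z
    have hz' : z ∈ Algebra.adjoin K ((P : Set Ω) ∪ (L : Set Ω)) := by
      rw [Algebra.adjoin_union, ← IntermediateField.coe_toSubalgebra, Algebra.adjoin_eq,
        ← IntermediateField.coe_toSubalgebra, Algebra.adjoin_eq,
        ← IntermediateField.sup_toSubalgebra_of_left]
      exact hz
    suffices ∀ w, w ∈ Algebra.adjoin K ((P : Set Ω) ∪ (L : Set Ω)) → ∀ hw : w ∈ P ⊔ L,
        (⟨w, hw⟩ : M) ∈ Algebra.adjoin L (Set.range (algebraMap P M)) from this z hz' hz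
    intro w hw
    induction hw using Algebra.adjoin_induction with
    | mem x hx =>
      intro hw
      rcases hx with hx | hx
      · exact Algebra.subset_adjoin ⟨⟨x, hx⟩, rfl⟩
      · exact Subalgebra.algebraMap_mem (Algebra.adjoin L (Set.range (algebraMap P M))) (⟨x, hx⟩ : L)
    | algebraMap c =>
      intro hw
      exact Subalgebra.algebraMap_mem (Algebra.adjoin L (Set.range (algebraMap P M))) (algebraMap K L c)
    | add x y hx hy h1 h2 =>
      intro hw
      have hP : ∀ v ∈ Algebra.adjoin K ((P : Set Ω) ∪ (L : Set Ω)), v ∈ P ⊔ L := fun v hv =>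
        show v ∈ (P ⊔ L).toSubalgebra from (Algebra.adjoin_le (S := (P ⊔ L).toSubalgebra)
          (Set.union_subset (fun a ha => (le_sup_left : P ≤ P ⊔ L) ha)
            fun a ha => (le_sup_right : L ≤ P ⊔ L) ha)) hv
      exact add_mem (h1 (hP x hx)) (h2 (hP y hy))
    | mul x y hx hy h1 h2 =>
      intro hw
      have hP : ∀ v ∈ Algebra.adjoin K ((P : Set Ω) ∪ (L : Set Ω)), v ∈ P ⊔ L := fun v hv =>
        show v ∈ (P ⊔ L).toSubalgebra from (Algebra.adjoin_le (S := (P ⊔ L).toSubalgebra)
          (Set.union_subset (fun a ha => (le_sup_left : P ≤ P ⊔ L) ha)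
            fun a ha => (le_sup_right : L ≤ P ⊔ L) ha)) hv
      exact mul_mem (h1 (hP x hx)) (h2 (hP y hy))
  have hu : ∀ V : ValuationSubring P, Dominates A (str P) V →
      IsUnramifiedExt V ((algebraMap P M).comp V.subtype) := by
    intro V hV W hW
    obtain rfl : W.comap (algebraMap P M) = V := (valuationSubring_eq_of_le (fun x hx => hW.1 ⟨x, hx⟩)
      fun x hx => mem_nonunits_comap.2 (by
        obtain ⟨hxV, hxm⟩ := V.mem_nonunits_iff_exists_mem_maximalIdeal.1 hx
        exact valuation_lt_one_iff_mem_nonunits.1 (hW.2 ⟨x, hxV⟩ hxm))).symm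
    have hWA : Dominates A (str M) W := by
      rw [IsScalarTower.algebraMap_eq K P M, RingHom.comp_assoc]
      exact dominates_comp_iff.2 hV
    intro _
    obtain ⟨h1, h2⟩ := step hadj ht hWA (hdvd _ _ (dominates_restrict hWA) (dominates_restrict hWA))
    exact ⟨h1, h2⟩
  refine ⟨fun hP => ?_, fun hP => (Groth.Agent.S1990.result A K P M).2 hP hu⟩
  refine (Groth.Agent.S1990.result A K P M).1 hP fun V hV W hW => ?_
  intro _
  have : IsDiscreteValuationRing V := isDiscreteValuationRing_of_dominates A K P hV
  have : IsDiscreteValuationRing W := isDiscreteValuationRing_of_dominates V P M hW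
  obtain ⟨h1, h2⟩ := @hu V hV W hW (isLocalHom_codRestrict hW)
  refine ⟨h2, fun p hp _ hd => ?_⟩
  let := (RingHom.codRestrict _ W hW.1).toAlgebra
  rw [(weaklyUnramified_iff V W (fun a b hab => Subtype.ext ((algebraMap P M).injective
    (congrArg Subtype.val hab)))).1 h1] at hd
  exact hp.not_dvd_one hd

/-- Unramified implies tame. -/
theorem tame_of_unramified {L : Type u} [Field L] [Algebra K L] [FiniteDimensional K L]
    (h : IsUnramifiedExt A (str L)) : IsTamelyRamified A (str L) := by
  intro V hV
  intro _
  have : IsDiscreteValuationRing V := isDiscreteValuationRing_of_dominates A K L hV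
  obtain ⟨h1, h2⟩ := @h V hV (isLocalHom_codRestrict hV)
  refine ⟨h2, fun p hp _ hd => ?_⟩
  let := (RingHom.codRestrict _ V hV.1).toAlgebra
  rw [(weaklyUnramified_iff A V (fun a b hab => IsFractionRing.injective A K
    ((algebraMap K L).injective (congrArg Subtype.val hab)))).1 h1] at hd
  exact hp.not_dvd_one hd

theorem unramified_sup {Ω : Type u} [Field Ω] [Algebra K Ω] (P L : IntermediateField K Ω)
    [FiniteDimensional K P] [FiniteDimensional K L] [Algebra.IsSeparable K P]
    [Algebra.IsSeparable K L] (hP : IsUnramifiedExt A (str P)) (hL : IsUnramifiedExt A (str L)) :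
    IsUnramifiedExt A (str ↥(P ⊔ L)) := by
  refine (step_sup P L (tame_of_unramified hL) fun B V hB hV => ?_).2 hP
  have : IsDiscreteValuationRing B := isDiscreteValuationRing_of_dominates A K L hB
  let := (RingHom.codRestrict _ B hB.1).toAlgebra
  have : IsLocalHom (algebraMap A B) := isLocalHom_codRestrict hB
  rw [(weaklyUnramified_iff A B (fun a b hab => IsFractionRing.injective A K
    ((algebraMap K L).injective (congrArg Subtype.val hab)))).1 (@hL B hB (isLocalHom_codRestrict hB)).1]
  exact one_dvd _

theorem tame_sup {Ω : Type u} [Field Ω] [Algebra K Ω] [IsAlgClosed Ω]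
    (L₁ L₂ : IntermediateField K Ω) [FiniteDimensional K L₁] [FiniteDimensional K L₂]
    [Algebra.IsSeparable K L₁] [Algebra.IsSeparable K L₂]
    (h₁ : IsTamelyRamified A (str L₁)) (h₂ : IsTamelyRamified A (str L₂)) :
    IsTamelyRamified A (str ↥(L₁ ⊔ L₂)) := by
  classical
  let d := max (Module.finrank K L₁) (Module.finrank K L₂)
  let S := (Finset.Icc 1 d).filter fun i : ℕ => (i : ResidueField A) ≠ 0
  let E := ∏ i ∈ S, i
  have hEk : (E : ResidueField A) ≠ 0 := by
    rw [Nat.cast_prod]
    exact Finset.prod_ne_zero_iff.2 fun i hi => (Finset.mem_filter.1 hi).2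
  have hE0 : E ≠ 0 := fun h => hEk (by rw [h, Nat.cast_zero])
  have hEA : IsUnit (E : A) := by
    rw [← residue_ne_zero_iff_isUnit, map_natCast]
    exact hEk
  have hEK : (E : K) ≠ 0 := by
    rw [← map_natCast (algebraMap A K)]
    exact (hEA.map _).ne_zero
  -- adjoin a root of a uniformizer
  obtain ⟨π, hπ⟩ := IsDiscreteValuationRing.exists_irreducible A
  let c := algebraMap A K π
  have hc : c ≠ 0 := (map_ne_zero_iff _ (IsFractionRing.injective A K)).2 hπ.ne_zero
  obtain ⟨θ, hθ⟩ := IsAlgClosed.exists_pow_nat_eq (algebraMap K Ω c) (Nat.pos_of_ne_zero hE0)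
  let g : K[X] := X ^ E - C c
  have hgθ : aeval θ g = 0 := by simp [g, hθ]
  have hgm : g.Monic := monic_X_pow_sub_C c hE0
  have hint : IsIntegral K θ := ⟨g, hgm, hgθ⟩
  let N := K⟮θ⟯
  have : FiniteDimensional K N := IntermediateField.adjoin.finiteDimensional hint
  have : Algebra.IsSeparable K N := IntermediateField.isSeparable_adjoin_simple_iff_isSeparable K Ω |>.2
    ((separable_X_pow_sub_C c hEK hc).of_dvd (minpoly.dvd K θ hgθ))
  have hNE : Module.finrank K N ≤ E := by
    rw [IntermediateField.adjoin.finrank hint]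
    exact (natDegree_le_of_dvd (minpoly.dvd K θ hgθ) hgm.ne_zero).trans_eq natDegree_X_pow_sub_C
  -- the index E is attained at every place of a field containing θ
  have hdiv : ∀ (P : IntermediateField K Ω) (_ : FiniteDimensional K P), θ ∈ P →
      ∀ (V : ValuationSubring P) (hV : Dominates A (str P) V),
        letI := (RingHom.codRestrict _ V hV.1).toAlgebra
        E ∣ Ideal.ramificationIdx' (maximalIdeal A) (maximalIdeal V) := fun P _ hθP V hV =>
    dvd_ramificationIdx hπ hE0 (x := (⟨θ, hθP⟩ : P)) (Subtype.ext hθ) hV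
  have hN : IsTamelyRamified A (str N) := by
    intro V hV
    let := (RingHom.codRestrict _ V hV.1).toAlgebra
    intro _
    obtain ⟨he1, hfin, hle⟩ := ramificationIdx_mul_le hV
    obtain ⟨k, hk⟩ := hdiv N inferInstance (mem_adjoin_simple_self K θ) V hV
    have hf1 : 1 ≤ Module.finrank (ResidueField A) (ResidueField V) := Module.finrank_pos
    rw [hk] at hle he1 ⊢
    have hk0 : 1 ≤ k := Nat.pos_of_ne_zero fun h => by rw [h, mul_zero] at he1; omega
    have hkf : k * Module.finrank (ResidueField A) (ResidueField V) ≤ 1 := by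
      refine Nat.le_of_mul_le_mul_left ?_ (Nat.pos_of_ne_zero hE0)
      rw [mul_one, ← mul_assoc]
      exact hle.trans hNE
    have hk1 : k = 1 ∧ Module.finrank (ResidueField A) (ResidueField V) = 1 :=
      mul_eq_one.1 (le_antisymm hkf (Nat.one_le_iff_ne_zero.2 (Nat.mul_ne_zero (by omega) (by omega))))
    refine ⟨⟨fun x => ?_⟩, fun p hp hcp hd => ?_⟩
    · obtain ⟨a, ha⟩ : ∃ a, algebraMap (ResidueField A) (ResidueField V) a = x := by
        have h := Subalgebra.bot_eq_top_iff_finrank_eq_one.2 hk1.2
        have hx : x ∈ (⊥ : Subalgebra (ResidueField A) (ResidueField V)) := h ▸ Algebra.mem_top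
        exact Algebra.mem_bot.1 hx
      exact ha ▸ isSeparable_algebraMap a
    · rw [hk1.1, mul_one] at hd
      exact hEk ((CharP.cast_eq_zero_iff (ResidueField A) p E).2 hd)
  -- the ramification indices of L₁, L₂ divide E
  have hdE : ∀ (L : IntermediateField K Ω) (_ : FiniteDimensional K L),
      IsTamelyRamified A (str L) → Module.finrank K L ≤ d →
      ∀ (B : ValuationSubring L) (hB : Dominates A (str L) B),
        letI := (RingHom.codRestrict _ B hB.1).toAlgebra
        Ideal.ramificationIdx' (maximalIdeal A) (maximalIdeal B) ∣ E := by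
    intro L _ hL hd B hB
    let := (RingHom.codRestrict _ B hB.1).toAlgebra
    have : IsLocalHom (algebraMap A B) := isLocalHom_codRestrict hB
    obtain ⟨he1, hfin, hle⟩ := ramificationIdx_mul_le hB
    obtain ⟨-, hp⟩ := @hL B hB (isLocalHom_codRestrict hB)
    refine Finset.dvd_prod_of_mem _ (Finset.mem_filter.2 ⟨Finset.mem_Icc.2 ⟨he1, ?_⟩, fun h0 => ?_⟩)
    · exact ((Nat.le_mul_of_pos_right _ Module.finrank_pos).trans hle).trans hd
    · obtain ⟨p, hchar⟩ := CharP.exists (ResidueField A)
      rcases CharP.char_is_prime_or_zero (ResidueField A) p with hp' | rfl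
      · exact hp p hp' hchar ((CharP.cast_eq_zero_iff (ResidueField A) p _).1 h0)
      · have := CharP.charP_to_charZero (ResidueField A)
        exact absurd (Nat.cast_eq_zero.1 h0) (by omega)
  have : FiniteDimensional K ↥(N ⊔ L₁) := IntermediateField.finiteDimensional_sup _ _
  have : Algebra.IsSeparable K ↥(N ⊔ L₁) := IntermediateField.isSeparable_sup K Ω N L₁
  have hN1 : IsTamelyRamified A (str ↥(N ⊔ L₁)) := (step_sup N L₁ h₁ fun B V hB hV =>
    (hdE L₁ inferInstance h₁ (le_max_left _ _) B hB).trans
      (hdiv N inferInstance (mem_adjoin_simple_self K θ) V hV)).1 hN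
  have hN2 : IsTamelyRamified A (str ↥(N ⊔ L₁ ⊔ L₂)) := (step_sup (N ⊔ L₁) L₂ h₂ fun B V hB hV =>
    (hdE L₂ inferInstance h₂ (le_max_right _ _) B hB).trans
      (hdiv _ inferInstance ((le_sup_left : N ≤ N ⊔ L₁) (mem_adjoin_simple_self K θ)) V hV)).1 hN1
  have : FiniteDimensional K ↥(N ⊔ L₁ ⊔ L₂) := IntermediateField.finiteDimensional_sup _ _
  have : Algebra.IsSeparable K ↥(N ⊔ L₁ ⊔ L₂) := IntermediateField.isSeparable_sup K Ω (N ⊔ L₁) L₂
  have hle : L₁ ⊔ L₂ ≤ N ⊔ L₁ ⊔ L₂ := sup_le (le_sup_right.trans le_sup_left) le_sup_right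
  let : Algebra ↥(L₁ ⊔ L₂) ↥(N ⊔ L₁ ⊔ L₂) := (IntermediateField.inclusion hle).toRingHom.toAlgebra
  have : IsScalarTower K ↥(L₁ ⊔ L₂) ↥(N ⊔ L₁ ⊔ L₂) := IsScalarTower.of_algebraMap_eq fun _ => rfl
  exact (Groth.Agent.S1989.result A K ↥(L₁ ⊔ L₂) ↥(N ⊔ L₁ ⊔ L₂)).1 hN2

end Groth.EtaleAlgebra.TameComp
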