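import Groth.Agent.Calg2.CompleteNagata
import Groth.Agent.Calg6.BranchCount
import Groth.Agent.EtaleAlgebra.HensDomain
import Groth.Agent.EGA43Valuative.DominatingDVR

/-!
# One-dimensional quotients of complete local rings map finitely to DVRs
-/

set_option autoImplicit false
universe u

namespace Groth.EtaleAlgebra.DimOneQuot

open IsLocalRing

/-- The normalisation of a one-dimensional quotient domain of a complete local ring. -/
theorem exists_dvr (A : Type u) [CommRing A] [IsNoetherianRing A] [IsLocalRing A]
    [IsAdicComplete (maximalIdeal A) A] (p : Ideal A) [p.IsPrime]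
    (hp : ringKrullDim (A ⧸ p) = 1) :
    ∃ (V : Type u) (_ : CommRing V) (_ : IsDomain V) (_ : IsDiscreteValuationRing V) (φ : A →+* V),
      IsLocalHom φ ∧ φ.Finite ∧ RingHom.ker φ = p := by
  have := Groth.Calg6.Branch.henselianLocalRing_of_isAdicComplete A
  haveI : IsLocalRing (A ⧸ p) :=
    IsLocalRing.of_surjective' (Ideal.Quotient.mk p) Ideal.Quotient.mk_surjective
  have hnf : ¬ IsField (A ⧸ p) := fun h => by
    rw [ringKrullDim_eq_zero_of_isField h] at hp
    exact zero_ne_one hp
  haveI : Ring.KrullDimLE 1 (A ⧸ p) := Ring.krullDimLE_iff.2 hp.le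
  let F := FractionRing (A ⧸ p)
  let C := integralClosure (A ⧸ p) F
  haveI : Module.Finite (A ⧸ p) C :=
    (Groth.Calg2.CompleteNagata.isNagata_of_isAdicComplete A).2 p F inferInstance
  haveI : IsDedekindDomain C := Groth.EGA43Val.isDedekindDomain_integralClosure (A ⧸ p) F F
  let φ : A →+* C := (algebraMap (A ⧸ p) C).comp (Ideal.Quotient.mk p)
  have hinj : Function.Injective (algebraMap (A ⧸ p) C) := fun a b h =>
    IsFractionRing.injective (A ⧸ p) F (congrArg Subtype.val h)
  have hfin : φ.Finite := RingHom.Finite.comp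
    (RingHom.finite_algebraMap.2 inferInstance) (RingHom.Finite.of_surjective _ Ideal.Quotient.mk_surjective)
  let _ : Algebra A C := φ.toAlgebra
  haveI : Module.Finite A C := hfin
  haveI : IsLocalRing C := Groth.EtaleAlgebra.isLocalRing_of_finite_domain A C
  have hCnf : ¬ IsField C := fun h => hnf (isField_of_isIntegral_of_isField hinj h)
  haveI : IsDiscreteValuationRing C :=
    ((IsDiscreteValuationRing.TFAE C hCnf).out 0 2 rfl rfl).2 inferInstance
  refine ⟨C, inferInstance, inferInstance, inferInstance, φ, ?_, hfin, ?_⟩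
  · haveI : IsLocalHom (algebraMap (A ⧸ p) C) :=
      RingHom.IsIntegral.isLocalHom (algebraMap_isIntegral_iff.2 inferInstance) hinj
    haveI : IsLocalHom (Ideal.Quotient.mk p) := .of_surjective _ Ideal.Quotient.mk_surjective
    exact RingHom.isLocalHom_comp _ _
  · rw [← RingHom.comap_ker, (RingHom.injective_iff_ker_eq_bot _).1 hinj,
      ← RingHom.ker_eq_comap_bot, Ideal.mk_ker]

end Groth.EtaleAlgebra.DimOneQuot
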