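import Groth.Prelude.Def_EtRam
import Groth.Agent.EGA43Valuative.DominatingDVR
import Mathlib.RingTheory.Valuation.LocalSubring
import Mathlib.FieldTheory.SeparableClosure
import Mathlib.RingTheory.DiscreteValuationRing.TFAE

/-!
# Valuation subrings of finite extensions dominating a DVR

Support for the ramification statements phrased with `EtRam.Dominates`.
-/

namespace Groth.EtaleAlgebra

open IsLocalRing EtRam

universe u

set_option linter.overlappingInstances false

variable {A : Type u} [CommRing A] [IsLocalRing A] {F M : Type u} [Field F] [Field M]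

theorem mem_maximalIdeal_of_dominates {g : A →+* F} {V : ValuationSubring F}
    (h : Dominates A g V) {a : A} (ha : a ∈ maximalIdeal A) :
    RingHom.codRestrict g V h.1 a ∈ maximalIdeal V :=
  (V.valuation_lt_one_iff _).2 (h.2 a ha)

theorem isLocalHom_codRestrict {g : A →+* F} {V : ValuationSubring F} (h : Dominates A g V) :
    IsLocalHom (RingHom.codRestrict g V h.1) :=
  ⟨fun a ha => by
    by_contra hu
    exact (mem_nonunits_iff.1 ((mem_maximalIdeal _).1
      (mem_maximalIdeal_of_dominates h ((mem_maximalIdeal a).2 hu)))) ha⟩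

/-- An element of the field of fractions of a valuation ring lying in a dominating valuation
subring lies in the ring. -/
theorem exists_eq_of_mem_of_dominates [IsDomain A] [ValuationRing A] {K : Type u} [Field K]
    [Algebra A K] [IsFractionRing A K] (f : K →+* F) {V : ValuationSubring F}
    (h : Dominates A (f.comp (algebraMap A K)) V) {x : K} (hx : f x ∈ V) :
    ∃ a : A, algebraMap A K a = x := by
  rcases ValuationRing.isInteger_or_isInteger A x with ⟨a, ha⟩ | ⟨a, ha⟩
  · exact ⟨a, ha⟩
  · rcases eq_or_ne x 0 with rfl | hx0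
    · exact ⟨0, map_zero _⟩
    by_cases hu : IsUnit a
    · obtain ⟨u, rfl⟩ := hu
      refine ⟨↑u⁻¹, ?_⟩
      have h1 : algebraMap A K ↑u * algebraMap A K ↑u⁻¹ = 1 := by
        rw [← map_mul, Units.mul_inv, map_one]
      rw [ha] at h1
      field_simp at h1
      exact h1
    · exfalso
      have h1 := h.2 a ((mem_maximalIdeal a).2 hu)
      rw [RingHom.comp_apply, ha, map_inv₀, map_inv₀] at h1
      have h2 := (V.valuation_le_one_iff _).2 hx
      have h3 : (0 : _) < V.valuation (f x) := zero_lt_iff.2 (by simpa using hx0)
      exact absurd h1 (not_lt.2 ((one_le_inv₀ h3).2 h2))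

/-- A valuation subring has no proper dominating valuation subring. -/
theorem valuationSubring_eq_of_le {V V' : ValuationSubring F} (h : V ≤ V')
    (h' : ∀ x ∈ V.nonunits, x ∈ V'.nonunits) : V = V' := by
  refine le_antisymm h fun x hx => ?_
  by_contra hxV
  have hx0 : x ≠ 0 := fun h0 => hxV (h0 ▸ V.zero_mem)
  rcases (ValuationSubring.inv_mem_nonunits_iff V').1
    (h' _ ((ValuationSubring.inv_mem_nonunits_iff V).2 (Or.inr hxV))) with h1 | h1
  · exact hx0 h1
  · exact h1 hx

theorem valuation_lt_one_iff_mem_nonunits {V : ValuationSubring F} {x : F} :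
    V.valuation x < 1 ↔ x ∈ V.nonunits := V.mem_nonunits_iff.symm

theorem mem_nonunits_comap {W : ValuationSubring M} {f : F →+* M} {x : F} :
    x ∈ (W.comap f).nonunits ↔ f x ∈ W.nonunits := by
  rw [ValuationSubring.mem_nonunits_iff_or, ValuationSubring.mem_nonunits_iff_or,
    ValuationSubring.mem_comap, map_inv₀, map_eq_zero]

theorem dominates_comp_iff {W : ValuationSubring M} {g : A →+* F} {f : F →+* M} :
    Dominates A (f.comp g) W ↔ Dominates A g (W.comap f) := by
  simp only [Dominates, valuation_lt_one_iff_mem_nonunits, mem_nonunits_comap,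
    ValuationSubring.mem_comap, RingHom.comp_apply]

theorem dominates_subtype (V : ValuationSubring F) : Dominates V V.subtype V :=
  ⟨fun a => a.2, fun a ha => (V.valuation_lt_one_iff a).1 ha⟩

theorem dominates_comap {W : ValuationSubring M} {f : F →+* M} :
    Dominates (W.comap f) (f.comp (W.comap f).subtype) W :=
  dominates_comp_iff.2 (dominates_subtype _)

/-- Every valuation subring extends along a field extension. -/
theorem exists_comap_eq (V : ValuationSubring F) (f : F →+* M) :
    ∃ W : ValuationSubring M, W.comap f = V := by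
  obtain ⟨W, hW, hl⟩ := IsLocalRing.exists_factor_valuationRing (f.comp V.subtype)
  refine ⟨W, (valuationSubring_eq_of_le (fun x hx => hW ⟨x, hx⟩) fun x hx => ?_).symm⟩
  obtain ⟨hxV, hxm⟩ := V.mem_nonunits_iff_exists_mem_maximalIdeal.1 hx
  rw [mem_nonunits_comap]
  refine W.mem_nonunits_iff_exists_mem_maximalIdeal.2 ⟨hW ⟨x, hxV⟩, ?_⟩
  rw [IsLocalRing.mem_maximalIdeal, mem_nonunits_iff] at hxm ⊢
  exact fun hu => hxm (IsUnit.of_map ((f.comp V.subtype).codRestrict W.toSubring hW) _ hu)

/-- A dominating valuation subring is proper when the base is not a field. -/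
theorem ne_top_of_dominates {g : A →+* F} (hg : Function.Injective g) (hA : ¬ IsField A)
    {V : ValuationSubring F} (h : Dominates A g V) : V ≠ ⊤ := by
  rintro rfl
  have hne : maximalIdeal A ≠ ⊥ := fun h0 => hA ((isField_iff_maximalIdeal_eq).2 h0)
  obtain ⟨a, ha, ha0⟩ := Submodule.exists_mem_ne_zero_of_ne_bot hne
  have := valuation_lt_one_iff_mem_nonunits.1 (h.2 a ha)
  rcases (ValuationSubring.mem_nonunits_iff_or _).1 this with h' | h'
  · exact ha0 (hg (h'.trans (map_zero g).symm))
  · exact h' trivial

/-- Valuation subrings of a finite extension dominating a DVR are DVRs. -/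
theorem isDiscreteValuationRing_of_dominates (A K L : Type u) [CommRing A] [IsDomain A]
    [IsDiscreteValuationRing A] [Field K] [Algebra A K] [IsFractionRing A K] [Field L]
    [Algebra K L] [FiniteDimensional K L] {V : ValuationSubring L}
    (h : Dominates A ((algebraMap K L).comp (algebraMap A K)) V) : IsDiscreteValuationRing V := by
  let := ((algebraMap K L).comp (algebraMap A K)).toAlgebra
  have : IsScalarTower A K L := IsScalarTower.of_algebraMap_eq' rfl
  have hD : IsDedekindDomain (integralClosure A L) :=
    Groth.EGA43Val.isDedekindDomain_integralClosure A K L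
  have : IsFractionRing (integralClosure A L) L :=
    integralClosure.isFractionRing_of_finite_extension K L
  refine Groth.EGA43Val.isDiscreteValuationRing_of_le (C := integralClosure A L) V
    (ne_top_of_dominates (fun a b hab => IsFractionRing.injective A K ((algebraMap K L).injective hab))
      (IsDiscreteValuationRing.not_isField A) h) fun c => ?_
  let ι : A →+* V := RingHom.codRestrict _ V h.1
  obtain ⟨p, hp, hpc⟩ := c.2
  have hint : IsIntegral V (c : L) :=
    ⟨p.map ι, hp.map ι, by rw [Polynomial.eval₂_map]; exact hpc⟩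
  obtain ⟨v, hv⟩ := IsIntegrallyClosed.isIntegral_iff.1 hint
  rw [show algebraMap (integralClosure A L) L c = (v : L) from hv.symm]
  exact v.2

/-- For a local map of DVRs the maximal ideal extends to a positive power. -/
theorem exists_map_maximalIdeal_eq_pow (R S : Type u) [CommRing R] [IsDomain R]
    [IsDiscreteValuationRing R] [CommRing S] [IsDomain S] [IsDiscreteValuationRing S]
    [Algebra R S] (hinj : Function.Injective (algebraMap R S)) [IsLocalHom (algebraMap R S)] :
    ∃ e, 1 ≤ e ∧ (maximalIdeal R).map (algebraMap R S) = maximalIdeal S ^ e ∧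
      Ideal.ramificationIdx' (maximalIdeal R) (maximalIdeal S) = e := by
  have hne : (maximalIdeal R).map (algebraMap R S) ≠ ⊥ :=
    (Ideal.map_eq_bot_iff_of_injective hinj).not.2 (IsDiscreteValuationRing.not_a_field R)
  obtain ⟨π, hπ⟩ := IsDiscreteValuationRing.exists_irreducible S
  obtain ⟨e, he⟩ := IsDiscreteValuationRing.ideal_eq_span_pow_irreducible hne hπ
  have he' : (maximalIdeal R).map (algebraMap R S) = maximalIdeal S ^ e := by
    rw [he, hπ.maximalIdeal_eq, Ideal.span_singleton_pow]
  have hle : (maximalIdeal R).map (algebraMap R S) ≤ maximalIdeal S :=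
    ((IsLocalRing.local_hom_TFAE (algebraMap R S)).out 0 2 rfl rfl).1 inferInstance
  refine ⟨e, Nat.one_le_iff_ne_zero.2 fun h0 => ?_, he', Ideal.ramificationIdx'_spec he'.le ?_⟩
  · rw [he', h0, pow_zero, Ideal.one_eq_top, top_le_iff] at hle
    exact (maximalIdeal.isMaximal S).ne_top hle
  · rw [he']
    exact fun h => (Ideal.pow_succ_lt_pow (IsDiscreteValuationRing.not_a_field S)
      e).not_ge h

theorem pow_maximalIdeal_injective (S : Type u) [CommRing S] [IsDomain S]
    [IsDiscreteValuationRing S] : Function.Injective fun n : ℕ => maximalIdeal S ^ n :=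
  (Ideal.pow_right_strictAnti (maximalIdeal S) (IsDiscreteValuationRing.not_a_field S)
    (maximalIdeal.isMaximal S).ne_top).injective

/-- Multiplicativity of ramification and separability in a tower of DVRs. -/
theorem tower_ramificationIdx (R S T : Type u) [CommRing R] [IsDomain R]
    [IsDiscreteValuationRing R] [CommRing S] [IsDomain S] [IsDiscreteValuationRing S]
    [CommRing T] [IsDomain T] [IsDiscreteValuationRing T]
    [Algebra R S] [Algebra S T] [Algebra R T] [IsScalarTower R S T]
    (hRS : Function.Injective (algebraMap R S)) (hST : Function.Injective (algebraMap S T))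
    [IsLocalHom (algebraMap R S)] [IsLocalHom (algebraMap S T)] [IsLocalHom (algebraMap R T)] :
    Ideal.ramificationIdx' (maximalIdeal R) (maximalIdeal T) =
      Ideal.ramificationIdx' (maximalIdeal R) (maximalIdeal S) *
        Ideal.ramificationIdx' (maximalIdeal S) (maximalIdeal T) := by
  obtain ⟨a, -, ha, ha'⟩ := exists_map_maximalIdeal_eq_pow R S hRS
  obtain ⟨b, -, hb, hb'⟩ := exists_map_maximalIdeal_eq_pow S T hST
  have hRT : Function.Injective (algebraMap R T) := by
    rw [IsScalarTower.algebraMap_eq R S T]; exact hST.comp hRS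
  obtain ⟨c, -, hc, hc'⟩ := exists_map_maximalIdeal_eq_pow R T hRT
  rw [ha', hb', hc']
  apply pow_maximalIdeal_injective T
  show maximalIdeal T ^ c = maximalIdeal T ^ (a * b)
  rw [← hc, IsScalarTower.algebraMap_eq R S T, ← Ideal.map_map, ha, Ideal.map_pow, hb, ← pow_mul,
    mul_comm]

theorem weaklyUnramified_iff (R S : Type u) [CommRing R] [IsDomain R]
    [IsDiscreteValuationRing R] [CommRing S] [IsDomain S] [IsDiscreteValuationRing S]
    [Algebra R S] (hinj : Function.Injective (algebraMap R S)) [IsLocalHom (algebraMap R S)] :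
    IsWeaklyUnramified R S ↔ Ideal.ramificationIdx' (maximalIdeal R) (maximalIdeal S) = 1 := by
  obtain ⟨e, -, he, he'⟩ := exists_map_maximalIdeal_eq_pow R S hinj
  rw [IsWeaklyUnramified, he, he']
  exact ⟨fun h => pow_maximalIdeal_injective S (h.trans (pow_one _).symm), fun h => by
    rw [h, pow_one]⟩

end Groth.EtaleAlgebra
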