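import Groth.Agent.NeronArea.SymSmooth
import Mathlib.RingTheory.Smooth.Locus
import Mathlib.RingTheory.Etale.Locus
import Mathlib.RingTheory.Etale.Kaehler
import Mathlib.RingTheory.LocalRing.Module
import Mathlib.RingTheory.Kaehler.Polynomial
import Mathlib.LinearAlgebra.TensorProduct.Quotient
import Mathlib.LinearAlgebra.Dimension.Constructions
import Mathlib.RingTheory.OrzechProperty
import Mathlib.RingTheory.Finiteness.Nakayama

/-! A family whose differentials form a basis of the cotangent fibre at a smooth point gives etale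
coordinates. -/

universe u

namespace Groth.EtaleAlgebra

open TensorProduct

theorem isEtaleAt_of_basis {k R : Type u} [CommRing k] [CommRing R] [Algebra k R]
    [Algebra.FiniteType k R] {d : ℕ} (x : Fin d → R)
    [Algebra (MvPolynomial (Fin d) k) R] [IsScalarTower k (MvPolynomial (Fin d) k) R]
    (m : Ideal R) [m.IsMaximal] [Algebra.IsSmoothAt k m]
    (b : Module.Basis (Fin d) (R ⧸ m) ((R ⧸ m) ⊗[R] Ω[R⁄k]))
    (hb : ∀ i, (1 : R ⧸ m) ⊗ₜ KaehlerDifferential.D k R (x i) = b i)
    (hx : ∀ i, algebraMap (MvPolynomial (Fin d) k) R (MvPolynomial.X i) = x i := by intros; simp [RingHom.algebraMap_toAlgebra]) :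
    Algebra.IsEtaleAt (MvPolynomial (Fin d) k) m := by
  let P := MvPolynomial (Fin d) k
  let T := Localization.AtPrime m
  let L := KaehlerDifferential.map k k R T
  have hL : IsLocalizedModule m.primeCompl L := inferInstance
  have : Module.Finite R Ω[R⁄k] := inferInstance
  have : Module.Finite T Ω[T⁄k] := Module.Finite.of_isLocalizedModule m.primeCompl L
  have : Module.Projective T Ω[T⁄k] := inferInstance
  have : Module.Free T Ω[T⁄k] := Module.free_of_flat_of_isLocalRing
  apply Groth.NeronArea.SymSmooth.formallyEtale_of_bijective k P T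
  let f := KaehlerDifferential.mapBaseChange k P T
  let b0 : Module.Basis (Fin d) T (T ⊗[P] Ω[P⁄k]) := (KaehlerDifferential.mvPolynomialBasis k (Fin d)).baseChange T
  have hf : ∀ i, f (b0 i) = L (KaehlerDifferential.D k R (x i)) := fun i => by
    rw [show b0 i = (1 : T) ⊗ₜ KaehlerDifferential.D k P (MvPolynomial.X i) by simp [b0, P]]
    show KaehlerDifferential.mapBaseChange k P T _ = KaehlerDifferential.map k k R T _
    rw [KaehlerDifferential.mapBaseChange_tmul, one_smul, KaehlerDifferential.map_D,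
      KaehlerDifferential.map_D, IsScalarTower.algebraMap_apply P R T, hx]
  -- Nakayama
  have hsurj : Function.Surjective f := by
    rw [← LinearMap.range_eq_top, eq_top_iff]
    refine Submodule.le_of_le_smul_of_le_jacobson_bot Module.Finite.fg_top
      (IsLocalRing.maximalIdeal_le_jacobson (⊥ : Ideal T)) fun w _ => ?_
    obtain ⟨⟨ω, s⟩, hω⟩ := IsLocalizedModule.surj m.primeCompl L w
    have hu := IsLocalization.map_units T s
    suffices h : L ω ∈ LinearMap.range f ⊔ IsLocalRing.maximalIdeal T • ⊤ by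
      rw [← hω, Submonoid.smul_def, ← IsScalarTower.algebraMap_smul T (s : R) w] at h
      obtain ⟨v, hv⟩ := isUnit_iff_exists_inv.1 hu
      have h' := Submodule.smul_mem _ v h
      rwa [smul_smul, mul_comm, hv, one_smul] at h'
    have hrep := b.sum_repr ((1 : R ⧸ m) ⊗ₜ ω)
    choose a ha using fun i => Ideal.Quotient.mk_surjective (b.repr ((1 : R ⧸ m) ⊗ₜ ω) i)
    have hker : (1 : R ⧸ m) ⊗ₜ[R] (ω - ∑ i, a i • KaehlerDifferential.D k R (x i)) = 0 := by
      rw [tmul_sub, tmul_sum, sub_eq_zero]
      refine hrep.symm.trans (Finset.sum_congr rfl fun i _ => ?_)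
      rw [← ha i, ← hb i, smul_tmul', smul_eq_mul, mul_one, tmul_smul, smul_tmul',
        Algebra.smul_def, mul_one, Ideal.Quotient.algebraMap_eq]
    have hmem : ω - ∑ i, a i • KaehlerDifferential.D k R (x i) ∈ m • (⊤ : Submodule R Ω[R⁄k]) := by
      have := congrArg (TensorProduct.quotTensorEquivQuotSMul Ω[R⁄k] m) hker
      rw [map_zero, ← map_one (Ideal.Quotient.mk m), TensorProduct.quotTensorEquivQuotSMul_mk_tmul,
        one_smul, Submodule.Quotient.mk_eq_zero] at this
      exact this
    have h1 : L ω = ∑ i, a i • f (b0 i) + L (ω - ∑ i, a i • KaehlerDifferential.D k R (x i)) := by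
      simp only [map_sub, map_sum, LinearMap.map_smul_of_tower, hf, add_sub_cancel]
    rw [h1]
    refine add_mem (Submodule.mem_sup_left (Submodule.sum_mem _ fun i _ => ?_)) (Submodule.mem_sup_right ?_)
    · rw [← IsScalarTower.algebraMap_smul T (a i)]
      exact Submodule.smul_mem _ _ ⟨_, rfl⟩
    · refine Submodule.smul_induction_on hmem (fun r hr z _ => ?_) (fun p q hp hq => by rw [map_add]; exact add_mem hp hq)
      rw [LinearMap.map_smul_of_tower, ← IsScalarTower.algebraMap_smul T r]
      exact Submodule.smul_mem_smul ((IsLocalization.AtPrime.to_map_mem_maximal_iff T m r).2 hr) Submodule.mem_top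
  -- the rank
  let σ : T →+* R ⧸ m := IsLocalization.lift (M := m.primeCompl) (g := Ideal.Quotient.mk m) fun s => by
    obtain ⟨v, hv⟩ := ((Ideal.Quotient.maximal_ideal_iff_isField_quotient m).1 inferInstance).mul_inv_cancel
      (fun h => s.2 (Ideal.Quotient.eq_zero_iff_mem.1 h) : Ideal.Quotient.mk m (s : R) ≠ 0)
    exact isUnit_iff_exists_inv.2 ⟨v, hv⟩
  let _ : Algebra T (R ⧸ m) := σ.toAlgebra
  have : IsScalarTower R T (R ⧸ m) := IsScalarTower.of_algebraMap_eq fun r => (IsLocalization.lift_eq _ r).symm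
  have hbc : IsBaseChange T L := IsLocalizedModule.isBaseChange m.primeCompl T L
  let e : (R ⧸ m) ⊗[R] Ω[R⁄k] ≃ₗ[R ⧸ m] (R ⧸ m) ⊗[T] Ω[T⁄k] :=
    (AlgebraTensorModule.cancelBaseChange R T (R ⧸ m) (R ⧸ m) Ω[R⁄k]).symm.trans
      (AlgebraTensorModule.congr (LinearEquiv.refl (R ⧸ m) (R ⧸ m)) hbc.equiv)
  have hrank : Module.finrank T Ω[T⁄k] = d := by
    rw [← Module.finrank_baseChange (R := R ⧸ m), ← e.finrank_eq, Module.finrank_eq_card_basis b, Fintype.card_fin]
  let b1 := Module.finBasisOfFinrankEq T Ω[T⁄k] hrank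
  let u := b1.equiv b0 (Equiv.refl _)
  refine ⟨?_, hsurj⟩
  have h1 : Function.Injective (f ∘ₗ u.toLinearMap) :=
    OrzechProperty.injective_of_surjective_endomorphism _ (hsurj.comp u.surjective)
  intro p q hpq
  obtain ⟨p, rfl⟩ := u.surjective p
  obtain ⟨q, rfl⟩ := u.surjective q
  rw [h1 hpq]

end Groth.EtaleAlgebra
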