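import Groth.Agent.EtaleBase.Rigidity
import Mathlib.AlgebraicGeometry.Morphisms.ClosedImmersion

/-!
# Morphisms into étale schemes extend uniquely along surjective closed immersions
-/

universe u

open CategoryTheory CategoryTheory.Limits AlgebraicGeometry

namespace Groth.EtaleAlgebra

set_option backward.isDefEq.respectTransparency.types false in
theorem existsUnique_etale_lift {X S S' S₀ : Scheme.{u}} (p : X ⟶ S) [Etale p] (g : S' ⟶ S)
    (i : S₀ ⟶ S') [IsClosedImmersion i] [Surjective i] (f₀ : S₀ ⟶ X) (h₀ : f₀ ≫ p = i ≫ g) :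
    ∃! f : S' ⟶ X, f ≫ p = g ∧ i ≫ f = f₀ := by
  let X' : Over S' := Over.mk (pullback.snd p g)
  let Y : Over S' := Over.mk (𝟙 S')
  have : Etale X'.hom := inferInstanceAs (Etale (pullback.snd p g))
  have hb := Groth.EtaleBase.pullback_hom_bijective i X' Y
  let a : pullback (𝟙 S') i ⟶ S₀ := pullback.snd (𝟙 S') i
  let l : pullback (𝟙 S') i ⟶ pullback p g := pullback.lift (a ≫ f₀) (a ≫ i) (by
    rw [Category.assoc, h₀, Category.assoc])
  let ψ : (Over.pullback i).obj Y ⟶ (Over.pullback i).obj X' :=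
    Over.homMk (pullback.lift l a (pullback.lift_snd _ _ _)) (pullback.lift_snd _ _ _)
  let e : S₀ ⟶ pullback (𝟙 S') i := pullback.lift i (𝟙 S₀) (by simp)
  obtain ⟨φ, hφ⟩ := hb.2 ψ
  have hw : φ.left ≫ pullback.snd p g = 𝟙 S' := Over.w φ
  have hφ' := congrArg (fun α => Over.Hom.left α ≫ pullback.fst X'.hom i) hφ
  simp only [Over.pullback_map_left, pullback.lift_fst, ψ, Over.homMk_left] at hφ'
  refine ⟨φ.left ≫ pullback.fst p g, ⟨?_, ?_⟩, fun f hf => ?_⟩
  · exact (Category.assoc _ _ _).trans ((congrArg (φ.left ≫ ·) pullback.condition).trans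
      ((Category.assoc _ _ _).symm.trans ((congrArg (· ≫ g) hw).trans (Category.id_comp g))))
  · have h1 : e ≫ pullback.fst (𝟙 S') i = i := pullback.lift_fst _ _ _
    have h2 : e ≫ a = 𝟙 S₀ := pullback.lift_snd _ _ _
    have h3 : l ≫ pullback.fst p g = a ≫ f₀ := pullback.lift_fst _ _ _
    calc i ≫ φ.left ≫ pullback.fst p g
        = (e ≫ pullback.fst (𝟙 S') i) ≫ φ.left ≫ pullback.fst p g :=
          congrArg (· ≫ φ.left ≫ pullback.fst p g) h1.symm
      _ = e ≫ (pullback.fst (𝟙 S') i ≫ φ.left) ≫ pullback.fst p g := by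
          simp only [Category.assoc]
      _ = e ≫ l ≫ pullback.fst p g := congrArg (fun t => e ≫ t ≫ pullback.fst p g) hφ'
      _ = e ≫ a ≫ f₀ := congrArg (e ≫ ·) h3
      _ = f₀ := (Category.assoc _ _ _).symm.trans ((congrArg (· ≫ f₀) h2).trans (Category.id_comp f₀))
  · let φ' : Y ⟶ X' := Over.homMk (pullback.lift f (𝟙 S') (hf.1.trans (Category.id_comp g).symm))
      (pullback.lift_snd _ _ _)
    have hpull : (Over.pullback i).map φ' = ψ := by
      apply Over.OverMorphism.ext
      apply pullback.hom_ext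
      · simp only [Over.pullback_map_left, pullback.lift_fst, ψ, Over.homMk_left, φ']
        have hc : pullback.fst (𝟙 S') i = a ≫ i := by
          simpa using (pullback.condition (f := 𝟙 S') (g := i))
        refine Eq.trans (congrArg (· ≫ pullback.lift f (𝟙 S') _) hc) ?_
        apply pullback.hom_ext
        · rw [Category.assoc, Category.assoc, pullback.lift_fst, pullback.lift_fst, hf.2]
        · rw [Category.assoc, Category.assoc, pullback.lift_snd, pullback.lift_snd]
          exact congrArg (a ≫ ·) (Category.comp_id i)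
      · exact (pullback.lift_snd _ _ _).trans (pullback.lift_snd _ _ _).symm
    have hφe : φ' = φ := hb.1 (hpull.trans hφ.symm)
    rw [← hφe]
    exact (pullback.lift_fst _ _ _).symm

end Groth.EtaleAlgebra
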