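import Groth.Agent.Limits.SmoothDescent
import Groth.Agent.Calg4.ColimitDescent
import Groth.Agent.PropsBasic2.Misc
import Mathlib.AlgebraicGeometry.Morphisms.FormallyUnramified

/-!
# A property holds on the limit iff it holds at some stage
-/

universe u

open CategoryTheory Limits AlgebraicGeometry

namespace Groth.EtaleAlgebra

theorem ringDescends_formallyUnramified :
    Groth.Limits.RingDescends.{u} RingHom.FormallyUnramified := by
  intro ι _ _ _ A₀ _ G _ _ A _ _ f g H C _ _ _ h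
  rw [RingHom.formallyUnramified_algebraMap] at h
  obtain ⟨n, -, hn⟩ := H.exists_unramified (B := A₀) (C := C) h (Classical.arbitrary ι)
  exact ⟨n, RingHom.formallyUnramified_algebraMap.2 hn.formallyUnramified⟩

variable {I : Type u} [SmallCategory I] [IsCofiltered I] {D : I ⥤ Scheme.{u}}
  [∀ (i j : I) (m : i ⟶ j), IsAffineHom (D.map m)] {c : Cone D}
  {i₀ : I} {X₀ Y₀ X Y : Scheme.{u}} {f₀ : X₀ ⟶ Y₀} {g₀ : Y₀ ⟶ D.obj i₀} {f : X ⟶ Y}
  {g : Y ⟶ c.pt} {qY : Y ⟶ Y₀} {qX : X ⟶ X₀}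

omit [IsCofiltered I] [∀ (i j : I) (m : i ⟶ j), IsAffineHom (D.map m)] in
/-- The limit morphism is the base change of any stage. -/
theorem exists_isPullback_stage (hY : IsPullback qY g g₀ (c.π.app i₀)) (hX : IsPullback qX f f₀ qY)
    {j : I} (φ : j ⟶ i₀) {Xj Yj : Scheme.{u}} {fj : Xj ⟶ Yj} {gj : Yj ⟶ D.obj j} {pY : Yj ⟶ Y₀}
    {pX : Xj ⟶ X₀} (hpY : IsPullback pY gj g₀ (D.map φ)) (hpX : IsPullback pX fj f₀ pY) :
    ∃ (rY : Y ⟶ Yj) (rX : X ⟶ Xj), IsPullback rY g gj (c.π.app j) ∧ IsPullback rX f fj rY ∧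
      rX ≫ pX = qX ∧ rX ≫ fj ≫ gj = f ≫ g ≫ c.π.app j := by
  let rY : Y ⟶ Yj := hpY.lift qY (g ≫ c.π.app j) (by rw [Category.assoc, c.w φ, hY.w])
  have h1 : rY ≫ pY = qY := hpY.lift_fst _ _ _
  have h2 : rY ≫ gj = g ≫ c.π.app j := hpY.lift_snd _ _ _
  have hY' : IsPullback rY g gj (c.π.app j) :=
    IsPullback.of_right (by rw [h1, c.w φ]; exact hY) h2 hpY
  let rX : X ⟶ Xj := hpX.lift qX (f ≫ rY) (by rw [Category.assoc, h1, hX.w])
  have h3 : rX ≫ pX = qX := hpX.lift_fst _ _ _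
  have h4 : rX ≫ fj = f ≫ rY := hpX.lift_snd _ _ _
  exact ⟨rY, rX, hY', IsPullback.of_right (by rw [h3, h1]; exact hX) h4 hpX, h3,
    by rw [reassoc_of% h4, h2]⟩

theorem prop_iff_exists_stage (P : MorphismProperty Scheme.{u})
    {Q : ∀ {R S : Type u} [CommRing R] [CommRing S], (R →+* S) → Prop} [HasRingHomProperty P Q]
    [P.IsStableUnderComposition] [P.IsStableUnderBaseChange]
    (hQ : Groth.Limits.RingDescends.{u} Q) (hopen : @IsOpenImmersion ≤ P) (hc : IsLimit c)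
    [LocallyOfFinitePresentation g₀] [LocallyOfFinitePresentation (f₀ ≫ g₀)] [CompactSpace X₀]
    (hY : IsPullback qY g g₀ (c.π.app i₀)) (hX : IsPullback qX f f₀ qY) :
    P f ↔ ∃ (j : I) (φ : j ⟶ i₀) (Xj Yj : Scheme.{u}) (fj : Xj ⟶ Yj) (gj : Yj ⟶ D.obj j)
      (pY : Yj ⟶ Y₀) (pX : Xj ⟶ X₀), IsPullback pY gj g₀ (D.map φ) ∧ IsPullback pX fj f₀ pY ∧ P fj := by
  constructor
  · intro h
    have : LocallyOfFinitePresentation f₀ := Groth.PropsBasic2.lfp_of_comp f₀ g₀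
    obtain ⟨j, hj⟩ := Groth.Limits.exists_prop_stage P hQ hopen hc hY hX h
    exact ⟨j.left, j.hom, _, _, _, pullback.fst (D.map j.hom) g₀, pullback.snd (D.map j.hom) g₀,
      pullback.fst f₀ _, (IsPullback.of_hasPullback _ _).flip, IsPullback.of_hasPullback _ _, hj⟩
  · rintro ⟨j, φ, Xj, Yj, fj, gj, pY, pX, hpY, hpX, hfj⟩
    obtain ⟨rY, rX, -, h, -⟩ := exists_isPullback_stage hY hX φ hpY hpX
    exact MorphismProperty.of_isPullback h hfj

end Groth.EtaleAlgebra
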