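import Groth.Agent.SpectralTopology.CanDescend
import Groth.Agent.EtaleAlgebra.StageIff

set_option autoImplicit false

/-!
# A finitely presented scheme with a descending property has a model over a finitely generated
subring with the same property
-/

universe u

open CategoryTheory CategoryTheory.Limits AlgebraicGeometry

namespace Groth.EtaleAlgebra

open Groth.SpectralTopology

variable (P : MorphismProperty Scheme.{u})
    {Q : ∀ {R S : Type u} [CommRing R] [CommRing S], (R →+* S) → Prop} [HasRingHomProperty P Q]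
    [P.IsStableUnderComposition] [P.IsStableUnderBaseChange]
    (hQ : Groth.Limits.RingDescends.{u} Q) (hopen : @IsOpenImmersion ≤ P)

include hQ hopen in
theorem exists_prop_stage_fgSchemes (A : CommRingCat.{u}) {X : Scheme.{u}} (f : X ⟶ (fgCone A).pt)
    (h₁ : LocallyOfFinitePresentation f) (h₂ : QuasiCompact f) (h₃ : QuasiSeparated f) (hf : P f) :
    ∃ (j : (FGSub A)ᵒᵖ) (Xj : Scheme.{u}) (fj : Xj ⟶ (fgSchemes A).obj j) (g : X ⟶ Xj),
      P fj ∧ LocallyOfFinitePresentation fj ∧ QuasiCompact fj ∧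
        IsPullback g f fj ((fgCone A).π.app j) := by
  obtain ⟨i, X₀, f₀, g, hlfp, hqc, -, hsq⟩ := canDescend A X f h₁ h₂ h₃
  have : CompactSpace X₀ := QuasiCompact.compactSpace_of_compactSpace f₀
  have : LocallyOfFinitePresentation (f₀ ≫ 𝟙 ((fgSchemes A).obj i)) := by
    rw [Category.comp_id]; exact hlfp
  have hY : IsPullback ((fgCone A).π.app i) (𝟙 (fgCone A).pt) (𝟙 ((fgSchemes A).obj i))
      ((fgCone A).π.app i) :=
    @IsPullback.of_vert_isIso _ _ _ _ _ _ _ _ _ _ (IsIso.id _) (IsIso.id _)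
      ⟨(Category.comp_id _).trans (Category.id_comp _).symm⟩
  obtain ⟨j, φ, Xj, Yj, fj, gj, pY, pX, hpY, hpX, hfj⟩ :=
    (prop_iff_exists_stage P hQ hopen (isLimitFgCone _) hY hsq).1 hf
  obtain ⟨rY, rX, hY', hX', -, -⟩ := exists_isPullback_stage hY hsq φ hpY hpX
  have : IsIso gj := hpY.isIso_snd_of_isIso
  have : LocallyOfFinitePresentation fj := MorphismProperty.of_isPullback hpX hlfp
  have : QuasiCompact fj := MorphismProperty.of_isPullback hpX hqc
  have h := hX'.paste_vert hY'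
  replace h : IsPullback rX f (fj ≫ gj) ((fgCone A).π.app j) :=
    Eq.mp (congrArg (fun t => IsPullback rX t _ _) (Category.comp_id f)) h
  exact ⟨j, Xj, fj ≫ gj, rX, (P.cancel_right_of_respectsIso fj gj).2 hfj,
    inferInstance, inferInstance, h⟩

include hQ hopen in
theorem exists_prop_model_over_fgSubalgebra
    (A : Type u) [CommRing A] {X : Scheme.{u}} (f : X ⟶ Spec (CommRingCat.of A))
    [LocallyOfFinitePresentation f] [QuasiCompact f] [QuasiSeparated f] (hf : P f) :
    ∃ A₀ : Subalgebra ℤ A, A₀.FG ∧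
      ∃ (X₀ : Scheme.{u}) (f₀ : X₀ ⟶ Spec (CommRingCat.of ↥A₀)) (g : X ⟶ X₀),
        P f₀ ∧ LocallyOfFinitePresentation f₀ ∧ QuasiCompact f₀ ∧
          IsPullback g f f₀ (Spec.map (CommRingCat.ofHom (algebraMap (↥A₀) A))) := by
  obtain ⟨j, Xj, fj, g, h₁, h₂, h₃, h₄⟩ :=
    exists_prop_stage_fgSchemes P hQ hopen (CommRingCat.of A) f ‹_› ‹_› ‹_› hf
  exact ⟨j.unop.1, j.unop.2, Xj, fj, g, h₁, h₂, h₃, h₄⟩

end Groth.EtaleAlgebra
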