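import Mathlib.RingTheory.Adjoin.Tower
import Mathlib.RingTheory.FiniteType
import Mathlib.RingTheory.Finiteness.Basic
import Mathlib.Algebra.Algebra.Prod
import Mathlib.RingTheory.Finiteness.Ideal

universe u

namespace Groth.EtaleAlgebra

variable {R A B C E : Type u} [CommRing R] [CommRing A] [CommRing B] [CommRing C] [CommRing E]
  [Algebra R A] [Algebra R B] [Algebra R C] [Algebra R E]

/-- Eakin-Artin-Tate for fibre products of rings. -/
theorem finiteType_of_fibreProduct [IsNoetherianRing R] [Algebra.FiniteType R A]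
    [Algebra.FiniteType R C] (f : A →ₐ[R] B) (hf : Function.Surjective f) (g : C →ₐ[R] B)
    (hg : g.toRingHom.Finite) (p : E →ₐ[R] A) (q : E →ₐ[R] C)
    (hinj : Function.Injective fun e => (p e, q e)) (hcomp : ∀ e, f (p e) = g (q e))
    (hpb : ∀ a c, f a = g c → ∃ e, p e = a ∧ q e = c) : Algebra.FiniteType R E := by
  classical
  let : Algebra E (A × C) := (p.prod q).toRingHom.toAlgebra
  have : IsScalarTower R E (A × C) := IsScalarTower.of_algebraMap_eq fun r => ((p.prod q).commutes r).symm
  have hsm : ∀ (e : E) (x : A × C), e • x = (p e * x.1, q e * x.2) := fun e x => rfl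
  have hq : ∀ c, ∃ e, q e = c := fun c => by
    obtain ⟨a, ha⟩ := hf (g c)
    obtain ⟨e, -, he⟩ := hpb a c ha
    exact ⟨e, he⟩
  let : Algebra C B := g.toRingHom.toAlgebra
  have : Module.Finite C B := hg
  obtain ⟨s, hs⟩ := Module.Finite.fg_top (R := C) (M := B)
  choose lift hlift using hf
  let G : Finset (A × C) := {((1 : A), (0 : C)), (0, 1)} ∪ s.image fun b => (lift b, (0 : C))
  have hG : (⊤ : Submodule E (A × C)) ≤ Submodule.span E (G : Set (A × C)) := by
    have h01 : ∀ c : C, ((0 : A), c) ∈ Submodule.span E (G : Set (A × C)) := fun c => by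
      obtain ⟨e, he⟩ := hq c
      have : ((0 : A), c) = e • ((0 : A), (1 : C)) := by rw [hsm]; simp [he]
      rw [this]
      exact Submodule.smul_mem _ _ (Submodule.subset_span (by simp [G]))
    have h10 : ∀ b ∈ Submodule.span C (s : Set B), ∀ a, f a = b →
        ((a : A), (0 : C)) ∈ Submodule.span E (G : Set (A × C)) := by
      have hker : ∀ k, f k = 0 → (k, (0 : C)) ∈ Submodule.span E (G : Set (A × C)) := fun k hk => by
        obtain ⟨e, he1, he2⟩ := hpb k 0 (by rw [hk, map_zero])
        have : (k, (0 : C)) = e • ((1 : A), (0 : C)) := by rw [hsm]; simp [he1]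
        rw [this]
        exact Submodule.smul_mem _ _ (Submodule.subset_span (by simp [G]))
      intro b hb
      suffices ∃ a, f a = b ∧ (a, (0 : C)) ∈ Submodule.span E (G : Set (A × C)) by
        obtain ⟨a₀, ha₀, hm⟩ := this
        intro a ha
        have := add_mem hm (hker (a - a₀) (by rw [map_sub, ha, ha₀, sub_self]))
        simpa using this
      induction hb using Submodule.span_induction with
      | mem b hb =>
        exact ⟨lift b, hlift b, Submodule.subset_span
          (Finset.mem_union_right _ (Finset.mem_image.2 ⟨b, hb, rfl⟩))⟩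
      | zero => exact ⟨0, map_zero f, zero_mem _⟩
      | add x y _ _ ihx ihy =>
        obtain ⟨a, ha, ha'⟩ := ihx
        obtain ⟨c, hc, hc'⟩ := ihy
        exact ⟨a + c, by rw [map_add, ha, hc], by simpa using add_mem ha' hc'⟩
      | smul c x _ ihx =>
        obtain ⟨a, ha, ha'⟩ := ihx
        obtain ⟨e, he⟩ := hq c
        refine ⟨p e * a, ?_, ?_⟩
        · rw [map_mul, hcomp, he, ha, Algebra.smul_def]
          rfl
        · have := Submodule.smul_mem _ e ha'
          rw [hsm] at this
          simpa using this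
    rintro ⟨a, c⟩ -
    have := add_mem (h10 (f a) (hs ▸ trivial) a rfl) (h01 c)
    simpa using this
  refine ⟨fg_of_fg_of_fg R E (A × C) Algebra.FiniteType.out ⟨G, eq_top_iff.2 hG⟩ hinj⟩

end Groth.EtaleAlgebra
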