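import Mathlib.RingTheory.AdicCompletion.AsTensorProduct
import Mathlib.RingTheory.AdicCompletion.LocalRing
import Mathlib.RingTheory.Artinian.Ring
import Mathlib.RingTheory.Ideal.GoingUp

/-!
# Finite algebras over complete local rings
-/

set_option autoImplicit false

namespace Groth.EtaleAlgebra.FiniteComplete

open IsLocalRing
open scoped TensorProduct

universe u

/-- A finite module over a complete Noetherian ring is complete. -/
theorem isAdicComplete_of_finite {C : Type u} [CommRing C] [IsNoetherianRing C] (I : Ideal C)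
    [IsAdicComplete I C] (M : Type u) [AddCommGroup M] [Module C M] [Module.Finite C M] :
    IsAdicComplete I M := by
  rw [← AdicCompletion.of_bijective_iff]
  have h1 := AdicCompletion.ofTensorProduct_bijective_of_finite_of_isNoetherian I M
  have hC : Function.Bijective (AdicCompletion.of I C) := AdicCompletion.of_bijective_iff.2 inferInstance
  let e : C ≃ₗ[C] AdicCompletion I C := LinearEquiv.ofBijective (AdicCompletion.of I C) hC
  have : AdicCompletion.of I M =
      ((AdicCompletion.ofTensorProduct I M).restrictScalars C).comp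
        ((TensorProduct.congr e (LinearEquiv.refl C M)).toLinearMap.comp (TensorProduct.lid C M).symm.toLinearMap) := by
    refine LinearMap.ext fun m => ?_
    simp only [LinearMap.comp_apply, LinearEquiv.coe_coe, TensorProduct.lid_symm_apply,
      TensorProduct.congr_tmul, LinearEquiv.refl_apply, LinearMap.restrictScalars_apply,
      AdicCompletion.ofTensorProduct_tmul]
    show _ = AdicCompletion.of I C 1 • AdicCompletion.of I M m
    rw [show AdicCompletion.of I C (1 : C) = 1 from AdicCompletion.ext fun n => rfl, one_smul]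
  rw [this]
  exact h1.comp ((TensorProduct.congr e (LinearEquiv.refl C M)).bijective.comp
    (TensorProduct.lid C M).symm.bijective)

/-- A local algebra, finite over a complete Noetherian local ring, is complete. -/
theorem isAdicComplete_maximal {C D : Type u} [CommRing C] [IsLocalRing C] [IsNoetherianRing C]
    [IsAdicComplete (maximalIdeal C) C] [CommRing D] [IsLocalRing D] [IsNoetherianRing D]
    [Algebra C D] [IsLocalHom (algebraMap C D)] [Module.Finite C D] :
    IsAdicComplete (maximalIdeal D) D := by
  let I := maximalIdeal C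
  let J := maximalIdeal D
  have := isAdicComplete_of_finite I D
  have hIJ : I.map (algebraMap C D) ≤ J :=
    ((local_hom_TFAE (algebraMap C D)).out 0 2 rfl rfl).mp inferInstance
  obtain ⟨e, he⟩ : ∃ e, J ^ e ≤ I.map (algebraMap C D) := by
    refine Ideal.exists_pow_le_of_le_radical_of_fg ?_ J.fg_of_isNoetherianRing
    rw [Ideal.radical_eq_sInf]
    refine le_sInf fun P ⟨hle, hP⟩ => ?_
    have hPm : P.IsMaximal := by
      refine Ideal.isMaximal_of_isIntegral_of_isMaximal_comap (R := C) P ?_
      rw [← (maximalIdeal.isMaximal C).eq_of_le (Ideal.comap_isPrime (algebraMap C D) P).ne_top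
        (Ideal.map_le_iff_le_comap.1 hle)]
      exact maximalIdeal.isMaximal C
    exact (eq_maximalIdeal hPm).ge
  have hpow : ∀ n, J ^ ((e + 1) * n) ≤ (I.map (algebraMap C D)) ^ n := fun n => by
    rw [pow_mul]
    exact Ideal.pow_right_mono ((Ideal.pow_le_pow_right e.le_succ).trans he) n
  have hsmul : ∀ n, ((I ^ n • ⊤ : Submodule C D) : Set D) = ((I.map (algebraMap C D)) ^ n : Ideal D) := by
    intro n
    rw [Ideal.smul_top_eq_map, ← Ideal.map_pow]
    rfl
  refine { haus' := fun x hx => ?_, prec' := fun f hf => ?_ }
  · refine IsHausdorff.haus (I := I) inferInstance x fun n => ?_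
    have := (SModEq.zero).1 (hx ((e + 1) * n))
    rw [smul_eq_mul, Ideal.mul_top] at this
    rw [SModEq.zero, ← SetLike.mem_coe, hsmul]
    exact hpow n this
  · have hg : ∀ {m n}, m ≤ n → f ((e + 1) * m) ≡ f ((e + 1) * n) [SMOD (I ^ m • ⊤ : Submodule C D)] := by
      intro m n hmn
      have := SModEq.sub_mem.1 (hf (Nat.mul_le_mul_left (e + 1) hmn))
      rw [smul_eq_mul, Ideal.mul_top] at this
      rw [SModEq.sub_mem, ← SetLike.mem_coe, hsmul]
      exact hpow m this
    obtain ⟨L, hL⟩ := IsPrecomplete.prec (I := I) inferInstance hg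
    refine ⟨L, fun n => ?_⟩
    rw [SModEq.sub_mem, smul_eq_mul, Ideal.mul_top]
    have h1 := SModEq.sub_mem.1 (hf (show n ≤ (e + 1) * n by nlinarith))
    rw [smul_eq_mul, Ideal.mul_top] at h1
    have h2 : f ((e + 1) * n) - L ∈ ((I ^ n • ⊤ : Submodule C D) : Set D) := SModEq.sub_mem.1 (hL n)
    rw [hsmul] at h2
    rw [← sub_add_sub_cancel (f n) (f ((e + 1) * n)) L]
    exact add_mem h1 (Ideal.pow_right_mono hIJ n h2)

end Groth.EtaleAlgebra.FiniteComplete
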