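import Groth.Agent.EtaleAlgebra.WeaklyEtale
import Groth.Agent.FlatMorOne.WeaklyEtaleUnram
import Mathlib.RingTheory.Unramified.LocalStructure
import Mathlib.RingTheory.Smooth.Fiber
import Mathlib.RingTheory.RingHom.FinitePresentation
import Mathlib.RingTheory.Spectrum.Prime.Topology
import Mathlib.RingTheory.Ideal.GoingDown
import Mathlib.RingTheory.QuasiFinite.Basic
import Mathlib.AlgebraicGeometry.Morphisms.Etale
import Mathlib.AlgebraicGeometry.Morphisms.Flat
import Mathlib.AlgebraicGeometry.Morphisms.FormallyUnramified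

/-! Flat, finite type, unramified algebras over rings with finitely many minimal primes are etale. -/

universe u

namespace Groth.EtaleAlgebra

open PrimeSpectrum

/-- A pure ideal of a ring with finitely many minimal primes is generated by an idempotent. -/
theorem exists_idempotent_span_of_pure {R : Type u} [CommRing R] (h : (minimalPrimes R).Finite)
    (J : Ideal R) [J.Pure] : ∃ e : R, IsIdempotentElem e ∧ J = Ideal.span {e} := by
  have hgen : ∀ p q : PrimeSpectrum R, p.asIdeal ≤ q.asIdeal → q ∈ zeroLocus (J : Set R) →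
      p ∈ zeroLocus (J : Set R) := by
    intro p q hpq hq x hx
    obtain ⟨y, hy, hxy⟩ := Ideal.exists_eq_mul_of_pure hx
    have h1 : 1 - y ∉ q.asIdeal := fun h1 => q.isPrime.one_notMem (by
      simpa using q.asIdeal.add_mem h1 (hq hy))
    have : x * (1 - y) ∈ p.asIdeal := by
      rw [mul_sub, mul_one, ← hxy, sub_self]; exact p.asIdeal.zero_mem
    exact (p.isPrime.mem_or_mem this).resolve_right fun h2 => h1 (hpq h2)
  have hopen : IsOpen (zeroLocus (J : Set R)) := by
    rw [← isClosed_compl_iff]
    have hunion : (zeroLocus (J : Set R))ᶜ =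
        ⋃ p ∈ {p ∈ minimalPrimes R | ¬ J ≤ p}, zeroLocus (p : Set R) := by
      ext q
      simp only [Set.mem_compl_iff, Set.mem_iUnion, mem_zeroLocus, SetLike.coe_subset_coe,
        Set.mem_setOf_eq, exists_prop]
      constructor
      · intro hq
        obtain ⟨p, hp, hpq⟩ := Ideal.exists_minimalPrimes_le (I := (⊥ : Ideal R)) (J := q.asIdeal) bot_le
        exact ⟨p, ⟨hp, fun hJ => hq (hJ.trans hpq)⟩, hpq⟩
      · rintro ⟨p, ⟨hp, hJ⟩, hpq⟩ hq
        exact hJ (hgen ⟨p, Ideal.minimalPrimes_isPrime hp⟩ q hpq hq)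
    rw [hunion]
    exact (h.subset fun p hp => hp.1).isClosed_biUnion fun p _ => isClosed_zeroLocus _
  obtain ⟨e, he, heq⟩ := isClopen_iff_zeroLocus.1 ⟨isClosed_zeroLocus _, hopen⟩
  have : (Ideal.span {e}).Pure := Ideal.Pure.of_isIdempotentElem (Submodule.fg_span_singleton e) (by
    show Ideal.span {e} * Ideal.span {e} = Ideal.span {e}
    rw [Ideal.span_singleton_mul_span_singleton, he.eq])
  exact ⟨e, he, Ideal.zeroLocus_inj_of_pure.1 (by rw [heq, zeroLocus_span])⟩

/-- An etale algebra over a ring with finitely many minimal primes has finitely many minimal primes. -/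
theorem finite_minimalPrimes_of_etale {A C : Type u} [CommRing A] [CommRing C] [Algebra A C]
    [Algebra.Etale A C] (h : (minimalPrimes A).Finite) : (minimalPrimes C).Finite := by
  refine (h.biUnion fun p _ => Algebra.QuasiFinite.finite_primesOver (S := C) p).subset fun P hP => ?_
  have hPp : P.IsPrime := Ideal.minimalPrimes_isPrime hP
  have : Algebra.HasGoingDown A C := Algebra.HasGoingDown.of_flat
  obtain ⟨p, hp, hpP⟩ := Ideal.exists_minimalPrimes_le (I := (⊥ : Ideal A)) (J := P.under A) bot_le
  have : p.IsPrime := Ideal.minimalPrimes_isPrime hp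
  obtain ⟨Q, hQP, hQ, hQo⟩ := Ideal.exists_ideal_le_liesOver_of_le P (q := P.under A) hpP
  have hle : P ≤ Q := hP.2 ⟨hQ, bot_le⟩ hQP
  exact Set.mem_biUnion hp ⟨hPp, le_antisymm hle hQP ▸ hQo⟩

/-- A flat, finite type, formally unramified algebra over a ring with finitely many minimal primes
is etale. -/
theorem etale_of_flat_of_formallyUnramified {A B : Type u} [CommRing A] [CommRing B] [Algebra A B]
    [Algebra.FiniteType A B] [Module.Flat A B] [Algebra.FormallyUnramified A B]
    (h : (minimalPrimes A).Finite) : Algebra.Etale A B := by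
  have key : ∀ Q : Ideal B, Q.IsPrime →
      ∃ f ∉ Q, Algebra.FinitePresentation A (Localization.Away f) := by
    intro Q _
    have : Algebra.IsUnramifiedAt A Q := Algebra.FormallyUnramified.comp A B _
    obtain ⟨f, hf, P, φ, hφ⟩ := Algebra.IsUnramifiedAt.exists_hasStandardEtaleSurjectionOn (R := A) Q
    refine ⟨f, hf, ?_⟩
    let _ : Algebra P.Ring (Localization.Away f) := φ.toRingHom.toAlgebra
    have : IsScalarTower A P.Ring (Localization.Away f) :=
      IsScalarTower.of_algebraMap_eq fun a => (φ.commutes a).symm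
    have : Module.Flat A (Localization.Away f) := Module.Flat.trans A B _
    have : Module.Flat P.Ring (Localization.Away f) :=
      flat_of_flat_mul A P.Ring (Algebra.WeaklyEtale.flat_lmul' A P.Ring) _
    let e := Ideal.quotientKerAlgEquivOfSurjective (f := Algebra.ofId P.Ring (Localization.Away f)) hφ
    have : (RingHom.ker (Algebra.ofId P.Ring (Localization.Away f))).Pure :=
      Module.Flat.of_linearEquiv e.toLinearEquiv
    obtain ⟨d, -, hd⟩ := exists_idempotent_span_of_pure (finite_minimalPrimes_of_etale (C := P.Ring) h)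
      (RingHom.ker (Algebra.ofId P.Ring (Localization.Away f)))
    refine Algebra.FinitePresentation.of_surjective hφ ?_
    exact ⟨{d}, by rw [Finset.coe_singleton]; exact hd.symm⟩
  let s := {f : B | Algebra.FinitePresentation A (Localization.Away f)}
  have hs : Ideal.span s = ⊤ := by
    by_contra hne
    obtain ⟨Q, hQ, hle⟩ := Ideal.exists_le_maximal _ hne
    obtain ⟨f, hfQ, hf⟩ := key Q hQ.isPrime
    exact hfQ (hle (Ideal.subset_span hf))
  have : Algebra.FinitePresentation A B := by
    rw [← RingHom.finitePresentation_algebraMap]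
    refine RingHom.finitePresentation_ofLocalizationSpanTarget (algebraMap A B) s hs fun ⟨r, hr⟩ => ?_
    show RingHom.FinitePresentation ((algebraMap B (Localization.Away r)).comp (algebraMap A B))
    rw [← IsScalarTower.algebraMap_eq, RingHom.finitePresentation_algebraMap]
    exact hr
  exact Algebra.Etale.of_formallyUnramified_of_flat

/-- An open subspace has at most as many irreducible components. -/
theorem finite_irreducibleComponents_of_isOpenEmbedding {X Y : Type*} [TopologicalSpace X]
    [TopologicalSpace Y] {g : X → Y} (hg : Topology.IsOpenEmbedding g)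
    (h : (irreducibleComponents Y).Finite) : (irreducibleComponents X).Finite := by
  refine (h.image (g ⁻¹' ·)).subset fun C hC => ?_
  obtain ⟨T, hT, hsub⟩ := exists_mem_irreducibleComponents_subset_of_isIrreducible (g '' C)
    (hC.1.image g hg.continuous.continuousOn)
  refine ⟨T, hT, ?_⟩
  have hCT : C ⊆ g ⁻¹' T := Set.image_subset_iff.1 hsub
  obtain ⟨c, hc⟩ := hC.1.nonempty
  exact le_antisymm (hC.2 ⟨⟨c, hCT hc⟩, hT.1.isPreirreducible.preimage hg⟩ hCT) hCT

open CategoryTheory AlgebraicGeometry in
theorem etale_of_flat_formallyUnramified {X Y : Scheme.{u}} (f : X ⟶ Y)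
    [LocallyOfFiniteType f] [Flat f] [FormallyUnramified f]
    (hY : ∀ y : Y, ∃ U : Y.Opens, y ∈ U ∧ (irreducibleComponents (U : Set Y)).Finite) : Etale f := by
  rw [HasRingHomProperty.iff_exists_appLE (P := @Etale)
    (RingHom.Etale.stableUnderComposition.stableUnderCompositionWithLocalizationAway
      (fun R S _ _ _ r _ => RingHom.etale_algebraMap.2 (Algebra.Etale.of_isLocalizationAway r))).1]
  intro x
  obtain ⟨U₀, hxU₀, hfin⟩ := hY (f x)
  obtain ⟨_, ⟨U, hU, rfl⟩, hxU, hUU₀⟩ :=
    Y.isBasis_affineOpens.exists_subset_of_mem_open hxU₀ U₀.2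
  obtain ⟨_, ⟨V, hV, rfl⟩, hxV, hVU⟩ :=
    X.isBasis_affineOpens.exists_subset_of_mem_open (show x ∈ (f ⁻¹ᵁ U : Set X) from hxU) (f ⁻¹ᵁ U).2
  refine ⟨⟨U, hU⟩, ⟨V, hV⟩, hxV, hVU, ?_⟩
  have hmin : (minimalPrimes Γ(Y, U)).Finite := by
    let g : PrimeSpectrum Γ(Y, U) → (U₀ : Set Y) := fun p => ⟨hU.fromSpec p, hUU₀ (by
      rw [← hU.range_fromSpec]; exact Set.mem_range_self p)⟩
    have hg : Topology.IsOpenEmbedding g :=
      Topology.IsOpenEmbedding.of_comp g U₀.2.isOpenEmbedding_subtypeVal hU.fromSpec.isOpenEmbedding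
    have := (finite_irreducibleComponents_of_isOpenEmbedding hg hfin).to_subtype
    exact Set.finite_coe_iff.1 (Finite.of_equiv _
      ((minimalPrimes.equivIrreducibleComponents _).toEquiv.trans OrderDual.ofDual).symm)
  let _ := (f.appLE U V hVU).hom.toAlgebra
  have : Module.Flat Γ(Y, U) Γ(X, V) := HasRingHomProperty.appLE (P := @Flat) f inferInstance ⟨U, hU⟩ ⟨V, hV⟩ hVU
  have : Algebra.FormallyUnramified Γ(Y, U) Γ(X, V) :=
    HasRingHomProperty.appLE (P := @FormallyUnramified) f inferInstance ⟨U, hU⟩ ⟨V, hV⟩ hVU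
  have : Algebra.FiniteType Γ(Y, U) Γ(X, V) :=
    LocallyOfFiniteType.finiteType_appLE f hU hV hVU
  exact etale_of_flat_of_formallyUnramified hmin

end Groth.EtaleAlgebra
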