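import Groth.Prelude.Def_EtGlue
import Mathlib.RingTheory.TensorProduct.DirectLimitFG
import Mathlib.LinearAlgebra.DirectSum.Finsupp
import Mathlib.RingTheory.Finiteness.Basic
import Mathlib.RingTheory.Localization.Away.Basic
import Mathlib.Tactic.LinearCombination
import Mathlib.Tactic.Abel
import Mathlib.Tactic.Ring

universe u

open TensorProduct

namespace Groth.EtaleAlgebra.Glue

variable {R R' : Type u} [CommRing R] [CommRing R'] [Algebra R R'] {f : R}
variable {M : Type u} [AddCommGroup M] [Module R M] {N : Type u} [AddCommGroup N] [Module R N]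

/-- `x` is killed by a power of `f`. -/
def IsTors (f : R) (x : M) : Prop := ∃ n : ℕ, f ^ n • x = 0

theorem IsTors.add {x y : M} (hx : IsTors f x) (hy : IsTors f y) : IsTors f (x + y) := by
  obtain ⟨a, ha⟩ := hx
  obtain ⟨b, hb⟩ := hy
  refine ⟨a + b, ?_⟩
  rw [smul_add]
  nth_rewrite 1 [pow_add, mul_comm]
  rw [mul_smul, ha, smul_zero, pow_add, mul_smul, hb, smul_zero, add_zero]

theorem loc_eq_zero_iff {m : M} :
    LocalizedModule.mkLinearMap (Submonoid.powers f) M m = 0 ↔ IsTors f m := by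
  rw [IsLocalizedModule.eq_zero_iff (Submonoid.powers f)]
  constructor
  · rintro ⟨⟨_, n, rfl⟩, h⟩
    exact ⟨n, h⟩
  · rintro ⟨n, h⟩
    exact ⟨⟨f ^ n, n, rfl⟩, h⟩

theorem exists_pow_smul_eq_loc (y : LocalizedModule (Submonoid.powers f) M) :
    ∃ (n : ℕ) (m : M), f ^ n • y = LocalizedModule.mkLinearMap (Submonoid.powers f) M m := by
  obtain ⟨⟨m, _, n, rfl⟩, h⟩ :=
    IsLocalizedModule.surj (Submonoid.powers f) (LocalizedModule.mkLinearMap (Submonoid.powers f) M) y
  exact ⟨n, m, h⟩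

theorem pow_smul_loc_inj (n : ℕ) {x y : LocalizedModule (Submonoid.powers f) M}
    (h : f ^ n • x = f ^ n • y) : x = y :=
  IsLocalizedModule.smul_injective (LocalizedModule.mkLinearMap (Submonoid.powers f) M)
    (⟨f ^ n, n, rfl⟩ : Submonoid.powers f) h

section quot

variable (hq : EtGlue.QuotPowBijective R R' f)
include hq

theorem exists_quot_lift (n : ℕ) (r' : R') : ∃ (r : R) (x : R'), r' = algebraMap R R' r + f ^ n • x := by
  rcases Nat.eq_zero_or_pos n with rfl | hn
  · exact ⟨0, r', by simp⟩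
  obtain ⟨r0, hr0⟩ := (hq n hn).surjective (Ideal.Quotient.mk _ r')
  obtain ⟨r, rfl⟩ := Ideal.Quotient.mk_surjective r0
  rw [Ideal.quotientMap_mk, Ideal.Quotient.eq, Ideal.map_span, Set.image_singleton,
    Ideal.mem_span_singleton'] at hr0
  obtain ⟨x, hx⟩ := hr0
  refine ⟨r, -x, ?_⟩
  rw [Algebra.smul_def]
  linear_combination hx

theorem pow_dvd_of_map_mem {n : ℕ} {r : R} {x : R'} (h : algebraMap R R' r = f ^ n • x) :
    f ^ n ∣ r := by
  rcases Nat.eq_zero_or_pos n with rfl | hn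
  · simp
  have h2 := (hq n hn).injective
    (a₁ := Ideal.Quotient.mk _ r) (a₂ := Ideal.Quotient.mk _ 0) (by
      rw [Ideal.quotientMap_mk, Ideal.quotientMap_mk, Ideal.Quotient.eq, map_zero, sub_zero,
        Ideal.map_span, Set.image_singleton, Ideal.mem_span_singleton']
      exact ⟨x, by rw [h, Algebra.smul_def, mul_comm]⟩)
  rwa [map_zero, Ideal.Quotient.eq_zero_iff_mem, Ideal.mem_span_singleton] at h2

/-- Every element of `R' ⊗ M` is congruent to one from `M` modulo `f ^ n`. -/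
theorem exists_lift (n : ℕ) (x : R' ⊗[R] M) :
    ∃ (m : M) (x' : R' ⊗[R] M), x = (1 : R') ⊗ₜ[R] m + f ^ n • x' := by
  induction x with
  | zero => exact ⟨0, 0, by simp⟩
  | tmul r' m =>
    obtain ⟨r, x, rfl⟩ := exists_quot_lift hq n r'
    refine ⟨r • m, x ⊗ₜ m, ?_⟩
    rw [add_tmul, Algebra.algebraMap_eq_smul_one, smul_tmul, smul_tmul']
  | add x y hx hy =>
    obtain ⟨m, x', rfl⟩ := hx
    obtain ⟨k, y', rfl⟩ := hy
    exact ⟨m + k, x' + y', by rw [tmul_add, smul_add]; abel⟩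

/-- The map `R' → R/(f^n)`. -/
theorem exists_projection (n : ℕ) : ∃ π : R' →ₗ[R] R ⧸ Ideal.span {f ^ n}, π 1 = 1 := by
  rcases Nat.eq_zero_or_pos n with rfl | hn
  · refine ⟨0, ?_⟩
    have : Subsingleton (R ⧸ Ideal.span {f ^ 0}) := by
      rw [Ideal.Quotient.subsingleton_iff, pow_zero, Ideal.span_singleton_one]
    exact Subsingleton.elim _ _
  let I : Ideal R' := Ideal.map (algebraMap R R') (Ideal.span {f ^ n})
  let q : R ⧸ Ideal.span {f ^ n} →ₗ[R] R' ⧸ I :=
    (Ideal.quotientMapₐ I (Algebra.ofId R R') Ideal.le_comap_map).toLinearMap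
  have hb : Function.Bijective q := hq n hn
  refine ⟨(LinearEquiv.ofBijective q hb).symm.toLinearMap.comp (Ideal.Quotient.mkₐ R I).toLinearMap, ?_⟩
  apply hb.injective
  show (LinearEquiv.ofBijective q hb) ((LinearEquiv.ofBijective q hb).symm _) = _
  rw [LinearEquiv.apply_symm_apply]
  simp [q]

theorem mk_injective_of_killed {n : ℕ} (hn : ∀ m : M, f ^ n • m = 0) :
    Function.Injective (fun m : M => (1 : R') ⊗ₜ[R] m) := by
  obtain ⟨π, hπ⟩ := exists_projection hq n
  have hle : Ideal.span {f ^ n} ≤ LinearMap.ker (LinearMap.lsmul R M) := by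
    rw [Ideal.span, Submodule.span_le, Set.singleton_subset_iff]
    exact LinearMap.ext hn
  let ρ : R ⧸ Ideal.span {f ^ n} →ₗ[R] M →ₗ[R] M := Submodule.liftQ _ (LinearMap.lsmul R M) hle
  let g : R' ⊗[R] M →ₗ[R] M := TensorProduct.lift (ρ.comp π)
  apply Function.LeftInverse.injective (g := g)
  intro m
  show ρ (π 1) m = m
  rw [hπ]
  show (Submodule.liftQ _ (LinearMap.lsmul R M) hle (Submodule.Quotient.mk 1)) m = m
  rw [Submodule.liftQ_apply]
  simp

/-- `M / f^n M → (R' ⊗ M) / f^n` is injective. -/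
theorem exists_eq_smul_of_tmul (n : ℕ) {m : M} {x : R' ⊗[R] M}
    (h : (1 : R') ⊗ₜ[R] m = f ^ n • x) : ∃ g : M, m = f ^ n • g := by
  let P : Submodule R M := LinearMap.range (LinearMap.lsmul R M (f ^ n))
  have hk : ∀ q : M ⧸ P, f ^ n • q = 0 := by
    intro q
    obtain ⟨q, rfl⟩ := P.mkQ_surjective q
    rw [← map_smul, Submodule.mkQ_apply, Submodule.Quotient.mk_eq_zero]
    exact ⟨q, rfl⟩
  have h2 : (1 : R') ⊗ₜ[R] P.mkQ m = (1 : R') ⊗ₜ[R] (0 : M ⧸ P) := by
    have h3 := congrArg (P.mkQ.lTensor R') h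
    rw [LinearMap.lTensor_tmul, map_smul] at h3
    rw [h3, tmul_zero]
    clear h
    generalize hz : P.mkQ.lTensor R' x = z
    clear hz h3
    induction z with
    | zero => simp
    | tmul r' k => rw [← tmul_smul, hk, tmul_zero]
    | add a b ha hb => rw [smul_add, ha, hb, add_zero]
  have h3 := mk_injective_of_killed hq hk h2
  rw [Submodule.mkQ_apply, Submodule.Quotient.mk_eq_zero] at h3
  obtain ⟨g, hg⟩ := h3
  exact ⟨g, hg.symm⟩

theorem eq_zero_of_tmul_eq_zero (hM : ∀ m : M, IsTors f m) {m : M}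
    (h : (1 : R') ⊗ₜ[R] m = 0) : m = 0 := by
  classical
  have h' : m ⊗ₜ[R] (1 : R') = 0 := by
    apply (TensorProduct.comm R M R').injective
    simpa using h
  obtain ⟨Q, hle, ⟨s, rfl⟩, h0⟩ := TensorProduct.eq_zero_of_fg_of_subtype_eq_zero
    (N := R') (Submodule.fg_span_singleton m)
    (t := (⟨m, Submodule.mem_span_singleton_self m⟩ : Submodule.span R {m}) ⊗ₜ[R] (1 : R'))
    (by simpa using h')
  choose k hk using hM
  have hkill : ∀ q : Submodule.span R (s : Set M), f ^ (s.sup k) • q = 0 := by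
    rintro ⟨q, hq'⟩
    apply Subtype.ext
    show f ^ (s.sup k) • q = 0
    induction hq' using Submodule.span_induction with
    | mem x hx =>
      obtain ⟨j, hj⟩ := Nat.exists_eq_add_of_le (Finset.le_sup (f := k) hx)
      rw [hj, pow_add, mul_comm, mul_smul, hk, smul_zero]
    | zero => simp
    | add a b _ _ ha hb => rw [smul_add, ha, hb, add_zero]
    | smul r a _ ha => rw [smul_comm, ha, smul_zero]
  have h4 : (1 : R') ⊗ₜ[R] (⟨m, hle (Submodule.mem_span_singleton_self m)⟩ :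
      Submodule.span R (s : Set M)) = 0 := by
    apply (TensorProduct.comm R R' _).injective
    rw [map_zero, ← h0]
    rfl
  have h5 := mk_injective_of_killed hq hkill (a₁ := ⟨m, hle (Submodule.mem_span_singleton_self m)⟩)
    (a₂ := 0) (by simpa using h4)
  exact congrArg Subtype.val h5

theorem mk_bijective_of_tors (hM : ∀ m : M, IsTors f m) :
    Function.Bijective (fun m : M => (1 : R') ⊗ₜ[R] m) := by
  constructor
  · intro a b hab
    have := eq_zero_of_tmul_eq_zero hq hM (m := a - b) (by simpa [tmul_sub, sub_eq_zero] using hab)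
    rwa [sub_eq_zero] at this
  · intro x
    induction x with
    | zero => exact ⟨0, by simp⟩
    | tmul r' m =>
      obtain ⟨n, hn⟩ := hM m
      obtain ⟨r, x, rfl⟩ := exists_quot_lift hq n r'
      refine ⟨r • m, ?_⟩
      rw [add_tmul, smul_tmul (f ^ n), hn, tmul_zero, add_zero, Algebra.algebraMap_eq_smul_one,
        smul_tmul]
    | add x y hx hy =>
      obtain ⟨a, rfl⟩ := hx
      obtain ⟨b, rfl⟩ := hy
      exact ⟨a + b, tmul_add _ _ _⟩

/-- A submodule which is everything after inverting `f` and after base change to `R'` is everything. -/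
theorem eq_top_of_local {P : Submodule R M} (h1 : ∀ m, ∃ n : ℕ, f ^ n • m ∈ P)
    (h2 : ∀ m : M, (1 : R') ⊗ₜ[R] m ∈ LinearMap.range (P.subtype.lTensor R')) : P = ⊤ := by
  rw [eq_top_iff]
  intro m _
  have ht : ∀ q : M ⧸ P, IsTors f q := by
    intro q
    obtain ⟨q, rfl⟩ := P.mkQ_surjective q
    obtain ⟨n, hn⟩ := h1 q
    refine ⟨n, ?_⟩
    rwa [← map_smul, Submodule.mkQ_apply, Submodule.Quotient.mk_eq_zero]
  rw [← Submodule.Quotient.mk_eq_zero P]
  apply eq_zero_of_tmul_eq_zero hq ht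
  obtain ⟨w, hw⟩ := h2 m
  have := congrArg (P.mkQ.lTensor R') hw
  rw [LinearMap.lTensor_tmul, ← LinearMap.comp_apply, ← LinearMap.lTensor_comp] at this
  have h0 : P.mkQ ∘ₗ P.subtype = 0 := by ext x; simp
  rw [h0, LinearMap.lTensor_zero, LinearMap.zero_apply] at this
  exact this.symm

end quot

/-- `f`-power torsion of `R' ⊗ M` comes from `f`-power torsion of `M`. -/
def TorsSurj (R R' : Type u) [CommRing R] [CommRing R'] [Algebra R R'] (f : R) (M : Type u)
    [AddCommGroup M] [Module R M] : Prop :=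
  ∀ x : R' ⊗[R] M, IsTors f x → ∃ m : M, IsTors f m ∧ (1 : R') ⊗ₜ[R] m = x

/-- No non-zero `f`-power torsion element of `M` dies in `R' ⊗ M`. -/
def TorsInj (R R' : Type u) [CommRing R] [CommRing R'] [Algebra R R'] (f : R) (M : Type u)
    [AddCommGroup M] [Module R M] : Prop :=
  ∀ m : M, IsTors f m → (1 : R') ⊗ₜ[R] m = 0 → m = 0

theorem tensorOfLoc_mk (m : M) :
    EtGlue.tensorOfLoc R R' f M (LocalizedModule.mkLinearMap (Submonoid.powers f) M m) =
      EtGlue.locOfTensor R R' f M ((1 : R') ⊗ₜ[R] m) :=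
  IsLocalizedModule.map_apply _ _ _ _ _

theorem glue_inj_iff :
    Function.Injective (fun m : M => ((1 : R') ⊗ₜ[R] m,
      LocalizedModule.mkLinearMap (Submonoid.powers f) M m)) ↔ TorsInj R R' f M := by
  constructor
  · intro h m ht h0
    apply h
    simp [h0, loc_eq_zero_iff.2 ht]
  · intro h a b hab
    obtain ⟨h1, h2⟩ := Prod.mk.injEq _ _ _ _ ▸ hab
    rw [← sub_eq_zero]
    refine h _ (loc_eq_zero_iff.1 ?_) ?_
    · rw [map_sub, h2, sub_self]
    · rw [tmul_sub, h1, sub_self]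

theorem exists_glue (hq : EtGlue.QuotPowBijective R R' f) (hs : TorsSurj R R' f M)
    (x : R' ⊗[R] M) (y : LocalizedModule (Submonoid.powers f) M)
    (hxy : EtGlue.locOfTensor R R' f M x = EtGlue.tensorOfLoc R R' f M y) :
    ∃ m : M, (1 : R') ⊗ₜ[R] m = x ∧ LocalizedModule.mkLinearMap (Submonoid.powers f) M m = y := by
  obtain ⟨n, m, hy⟩ := exists_pow_smul_eq_loc y
  have h1 : IsTors f (f ^ n • x - (1 : R') ⊗ₜ[R] m) := by
    apply loc_eq_zero_iff.1
    rw [map_sub, map_smul]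
    show f ^ n • EtGlue.locOfTensor R R' f M x - _ = 0
    rw [hxy, ← map_smul, hy, tensorOfLoc_mk, sub_self]
  obtain ⟨N, hN⟩ := h1
  rw [smul_sub, sub_eq_zero, smul_smul, ← pow_add, ← tmul_smul] at hN
  obtain ⟨a, x', hx⟩ := exists_lift hq (N + n) x
  obtain ⟨e, he⟩ := exists_eq_smul_of_tmul hq (N + n) (m := f ^ N • m - f ^ (N + n) • a)
    (x := f ^ (N + n) • x') (by rw [tmul_sub, ← hN, hx, smul_add, tmul_smul]; abel)
  obtain ⟨t, ⟨k, hk⟩, ht'⟩ := hs (x - (1 : R') ⊗ₜ[R] (a + e)) ⟨N + n, by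
    rw [smul_sub, hN, ← tmul_smul, ← tmul_sub, smul_add, ← he]; simp⟩
  refine ⟨a + e + t, by rw [tmul_add, ht']; abel, ?_⟩
  apply pow_smul_loc_inj (k + (N + n))
  have e1 : f ^ (N + n) • (a + e + t) = f ^ N • m + f ^ (N + n) • t := by
    rw [smul_add, smul_add, ← he, add_sub_cancel]
  rw [← map_smul, pow_add, mul_smul, e1, smul_add, smul_comm (f ^ k) (f ^ (N + n)) t, hk,
    smul_zero, add_zero, pow_add f N n]
  simp only [mul_smul, map_smul, hy]

theorem exists_sub (hq : EtGlue.QuotPowBijective R R' f)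
    (z : LocalizedModule (Submonoid.powers f) (R' ⊗[R] M)) :
    ∃ (x : R' ⊗[R] M) (y : LocalizedModule (Submonoid.powers f) M),
      EtGlue.locOfTensor R R' f M x + EtGlue.tensorOfLoc R R' f M y = z := by
  obtain ⟨n, w, hw⟩ := exists_pow_smul_eq_loc z
  obtain ⟨m, x', rfl⟩ := exists_lift hq n w
  obtain ⟨y, hy⟩ : ∃ y : LocalizedModule (Submonoid.powers f) M,
      f ^ n • y = LocalizedModule.mkLinearMap (Submonoid.powers f) M m :=
    ⟨LocalizedModule.mk m ⟨f ^ n, n, rfl⟩, by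
      rw [LocalizedModule.smul'_mk, LocalizedModule.mkLinearMap_apply]
      exact LocalizedModule.mk_cancel (s := (⟨f ^ n, n, rfl⟩ : Submonoid.powers f)) m⟩
  refine ⟨x', y, pow_smul_loc_inj n ?_⟩
  rw [smul_add, ← map_smul, ← map_smul, hy, tensorOfLoc_mk, hw, map_add, add_comm]

theorem isGlueable_of (hq : EtGlue.QuotPowBijective R R' f) (hi : TorsInj R R' f M)
    (hs : TorsSurj R R' f M) : EtGlue.IsGlueable R R' f M :=
  ⟨glue_inj_iff.2 hi, exists_glue hq hs⟩

theorem torsInj_of_glueable (h : EtGlue.IsGlueable R R' f M) : TorsInj R R' f M :=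
  glue_inj_iff.1 h.1

theorem torsSurj_of_glueable (h : EtGlue.IsGlueable R R' f M) : TorsSurj R R' f M := by
  intro x hx
  obtain ⟨m, h1, h2⟩ := h.2 x 0 (by
    rw [map_zero]
    exact loc_eq_zero_iff.2 hx)
  exact ⟨m, loc_eq_zero_iff.1 h2, h1⟩

end Groth.EtaleAlgebra.Glue
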