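import Groth.Agent.EtaleAlgebra.GlueFlat
import Mathlib.Algebra.Module.FinitePresentation
import Mathlib.RingTheory.Flat.EquationalCriterion
import Mathlib.RingTheory.TensorProduct.MvPolynomial
import Mathlib.RingTheory.TensorProduct.Finite

universe u

open TensorProduct

namespace Groth.EtaleAlgebra.Glue

variable {R R' : Type u} [CommRing R] [CommRing R'] [Algebra R R'] {f : R}
variable {M : Type u} [AddCommGroup M] [Module R M]

theorem TorsInj.pi_fin (h : TorsInj R R' f M) (n : ℕ) : TorsInj R R' f (Fin n → M) := by
  intro m ⟨k, hk⟩ h0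
  funext i
  refine h _ ⟨k, congrFun hk i⟩ ?_
  rw [show m i = LinearMap.proj (R := R) (φ := fun _ : Fin n => M) i m from rfl,
    ← LinearMap.lTensor_tmul, h0, map_zero]

theorem finite_of_range_fg {C L G : Type u} [CommRing C] [Algebra R C] [AddCommGroup L] [Module R L]
    [AddCommGroup G] [Module R G] [Module.FinitePresentation C (C ⊗[R] M)]
    [Module.Finite R G] {i : L →ₗ[R] G} {π : G →ₗ[R] M} (hπ : Function.Surjective π)
    (hex : Function.Exact i π) (hinj : Function.Injective (i.lTensor C)) :
    Module.Finite C (C ⊗[R] L) := by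
  have hex' : Function.Exact (i.baseChange C) (π.baseChange C) := lTensor_exact C hex hπ
  have hfg : (LinearMap.ker (π.baseChange C)).FG :=
    Module.FinitePresentation.fg_ker _ (LinearMap.lTensor_surjective C hπ)
  rw [LinearMap.exact_iff.1 hex'] at hfg
  have := Module.Finite.iff_fg.2 hfg
  exact Module.Finite.equiv (LinearEquiv.ofInjective (i.baseChange C) hinj).symm

theorem finitePresentation_of_local (h : EtGlue.IsGlueingPair R R' f)
    [Module.FinitePresentation R' (R' ⊗[R] M)]
    [Module.FinitePresentation (Localization.Away f) (Localization.Away f ⊗[R] M)]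
    [Module.Flat R (Localization.Away f ⊗[R] M)] : Module.FinitePresentation R M := by
  have : Module.Finite R M := (finite_iff h.1).2 ⟨inferInstance, inferInstance⟩
  obtain ⟨n, π, hπ⟩ := Module.Finite.exists_fin' R M
  have key : ∀ (L : Type u) [AddCommGroup L] [Module R L] (i : L →ₗ[R] (Fin n → R)),
      Function.Injective i → Function.Exact i π → Module.Finite R L := by
    intro L _ _ i hi hex
    rw [finite_iff h.1]
    exact ⟨finite_of_range_fg hπ hex (baseChange_injective h hi hπ hex ((torsInj_self h).pi_fin n)),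
      finite_of_range_fg hπ hex (Module.Flat.lTensor_preserves_injective_linearMap i hi)⟩
  exact Module.finitePresentation_of_surjective π hπ
    (Module.Finite.iff_fg.1 (key (LinearMap.ker π) (LinearMap.ker π).subtype
      (Submodule.subtype_injective _) (LinearMap.exact_subtype_ker_map π)))

theorem finite_projective_iff (h : EtGlue.IsGlueingPair R R' f) :
    (Module.Finite R M ∧ Module.Projective R M) ↔
      (Module.Finite R' (R' ⊗[R] M) ∧ Module.Projective R' (R' ⊗[R] M)) ∧
      (Module.Finite (Localization.Away f) (Localization.Away f ⊗[R] M) ∧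
        Module.Projective (Localization.Away f) (Localization.Away f ⊗[R] M)) := by
  refine ⟨fun ⟨_, _⟩ => ⟨⟨inferInstance, inferInstance⟩, ⟨inferInstance, inferInstance⟩⟩,
    fun ⟨⟨h1, h2⟩, h3, h4⟩ => ?_⟩
  have := Module.finitePresentation_of_projective R' (R' ⊗[R] M)
  have := Module.finitePresentation_of_projective (Localization.Away f) (Localization.Away f ⊗[R] M)
  have : Module.Flat R (Localization.Away f ⊗[R] M) := Module.Flat.trans R (Localization.Away f) _
  have := finitePresentation_of_local (M := M) h
  have := flat_of_local (M := M) h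
  exact ⟨inferInstance, Module.Flat.projective_of_finitePresentation⟩

theorem exists_fg_ideal_range {C S B : Type u} [CommRing C] [Algebra R C] [CommRing S] [Algebra R S]
    [CommRing B] [Algebra R B] (π : S →ₐ[R] B) (hπ : Function.Surjective π)
    [Algebra.FinitePresentation C (C ⊗[R] S)] [Algebra.FinitePresentation C (C ⊗[R] B)] :
    ∃ J : Ideal S, J.FG ∧ J ≤ RingHom.ker π ∧
      LinearMap.range ((LinearMap.ker π.toLinearMap).subtype.lTensor C) ≤
        LinearMap.range ((J.restrictScalars R).subtype.lTensor C) := by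
  let π' : C ⊗[R] S →ₐ[C] C ⊗[R] B := Algebra.TensorProduct.map (AlgHom.id C C) π
  have hπ' : Function.Surjective π' := LinearMap.lTensor_surjective C hπ
  obtain ⟨s, hs⟩ := Algebra.FinitePresentation.ker_fG_of_surjective π' hπ'
  let K := LinearMap.ker π.toLinearMap
  have hex := lTensor_exact C (M := K) (LinearMap.exact_subtype_ker_map π.toLinearMap) hπ
  have hmem : ∀ z : s, ∃ w, K.subtype.lTensor C w = z := fun z => by
    have hz : (z : C ⊗[R] S) ∈ RingHom.ker π'.toRingHom := hs ▸ Ideal.subset_span z.2
    exact (hex z).1 hz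
  choose w hw using hmem
  obtain ⟨P, hPf, hP⟩ := TensorProduct.exists_finite_submodule_right_of_setFinite (Set.range w)
    (Set.finite_range w)
  obtain ⟨t, ht⟩ := Module.Finite.iff_fg.1 hPf
  classical
  let J : Ideal S := Ideal.span ((t.image (fun k : K => (k : S)) : Finset S) : Set S)
  refine ⟨J, ⟨_, rfl⟩, ?_, ?_⟩
  · rw [Ideal.span_le]
    intro x hx
    obtain ⟨k, -, rfl⟩ := Finset.mem_image.1 hx
    exact k.2
  · rw [← Ideal.map_includeRight_eq]
    rintro x ⟨v, rfl⟩
    have hx : K.subtype.lTensor C v ∈ RingHom.ker π'.toRingHom := by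
      have := (hex (K.subtype.lTensor C v)).2 ⟨v, rfl⟩
      exact this
    rw [← hs] at hx
    refine (Submodule.restrictScalars_mem R _ _).2 (Ideal.span_le.2 ?_ hx)
    intro z hz
    obtain ⟨u, hu⟩ := hP ⟨⟨z, hz⟩, rfl⟩
    rw [SetLike.mem_coe, show z = K.subtype.lTensor C (w ⟨z, hz⟩) from (hw ⟨z, hz⟩).symm, ← hu]
    clear hu
    induction u with
    | zero => simp
    | add a b ha hb => rw [map_add, map_add]; exact Ideal.add_mem _ ha hb
    | tmul c p =>
      have hp : ((p : K) : S) ∈ J := by
        have hle : P ≤ (J.restrictScalars R).comap K.subtype := by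
          rw [← ht, Submodule.span_le]
          exact fun k hk => Ideal.subset_span (Finset.mem_image_of_mem _ hk)
        exact hle p.2
      have := Ideal.mul_mem_left _ (c ⊗ₜ[R] (1 : S))
        (Ideal.mem_map_of_mem (Algebra.TensorProduct.includeRight (R := R) (A := C)) hp)
      simpa using this

theorem finitePresentation_algebra_of_local (h : EtGlue.IsGlueingPair R R' f) (B : Type u) [CommRing B]
    [Algebra R B] [Algebra.FinitePresentation R' (R' ⊗[R] B)]
    [Algebra.FinitePresentation (Localization.Away f) (Localization.Away f ⊗[R] B)]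
    [Module.Flat R (Localization.Away f ⊗[R] B)] : Algebra.FinitePresentation R B := by
  have : Algebra.FiniteType R B := (finiteType_iff h.1 B).2 ⟨inferInstance, inferInstance⟩
  obtain ⟨n, π, hπ⟩ := Algebra.FiniteType.iff_quotient_mvPolynomial''.1 this
  obtain ⟨J, hJ, hJle, hJr⟩ := exists_fg_ideal_range (C := R') π hπ
  obtain ⟨J', hJ', hJle', hJr'⟩ := exists_fg_ideal_range (C := Localization.Away f) π hπ
  suffices RingHom.ker π.toRingHom = J ⊔ J' from
    Algebra.FinitePresentation.of_surjective hπ (this ▸ Submodule.FG.sup hJ hJ')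
  refine le_antisymm ?_ (sup_le hJle hJle')
  let K := LinearMap.ker π.toLinearMap
  have hG : TorsInj R R' f (MvPolynomial (Fin n) R) :=
    let e := (MvPolynomial.basisMonomials (Fin n) R).repr
    TorsInj.of_injective (M := (Fin n →₀ ℕ) →₀ R) (by
      intro m ⟨k, hk⟩ h0
      ext i
      refine pair_inj h _ ⟨k, by simpa using DFunLike.congr_fun hk i⟩ ?_
      rw [← rid_one_tmul, ← Finsupp.lapply_apply (R := R) i m, ← LinearMap.lTensor_tmul, h0]
      simp) e.toLinearMap e.injective
  let P : Submodule R K := ((J ⊔ J').restrictScalars R).comap K.subtype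
  have hinj' : Function.Injective (K.subtype.lTensor (Localization.Away f)) :=
    Module.Flat.lTensor_preserves_injective_linearMap _ (Submodule.subtype_injective _)
  have hinj : Function.Injective (K.subtype.lTensor R') :=
    baseChange_injective (L := K) h (Submodule.subtype_injective _) hπ
      (LinearMap.exact_subtype_ker_map π.toLinearMap) hG
  have key : ∀ (C : Type u) [CommRing C] [Algebra R C] (J₀ : Ideal (MvPolynomial (Fin n) R))
      (_ : J₀ ≤ J ⊔ J') (_ : J₀ ≤ RingHom.ker π) (_ : Function.Injective (K.subtype.lTensor C)),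
      LinearMap.range (K.subtype.lTensor C) ≤ LinearMap.range ((J₀.restrictScalars R).subtype.lTensor C) →
      ∀ k : K, (1 : C) ⊗ₜ[R] k ∈ LinearMap.range (P.subtype.lTensor C) := by
    intro C _ _ J₀ hle hker hi hr k
    obtain ⟨v, hv⟩ := hr ⟨(1 : C) ⊗ₜ[R] k, rfl⟩
    let g : J₀.restrictScalars R →ₗ[R] P :=
      { toFun := fun x => ⟨⟨x, hker x.2⟩, hle x.2⟩
        map_add' := fun _ _ => rfl
        map_smul' := fun _ _ => rfl }
    refine ⟨g.lTensor C v, hi ?_⟩
    rw [← hv, ← LinearMap.comp_apply, ← LinearMap.comp_apply,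
      ← LinearMap.lTensor_comp, ← LinearMap.lTensor_comp]
    rfl
  have hP : P = ⊤ := eq_top_of_local h.1
    (fun k => exists_pow_smul_mem (key _ J' le_sup_right hJle' hinj' hJr' k))
    (key _ J le_sup_left hJle hinj hJr)
  intro x hx
  have : (⟨x, hx⟩ : K) ∈ P := hP ▸ Submodule.mem_top
  exact this

end Groth.EtaleAlgebra.Glue
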