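import Groth.Agent.Hensel1.CompletionBranches
import Groth.Agent.EtaleAlgebra.PuncturedClopen
import Mathlib.RingTheory.AdicCompletion.Completeness

/-!
# Punctured spectra of the completion and of the henselization
-/

set_option autoImplicit false

namespace Groth.EtaleAlgebra.Punctured

open IsLocalRing

universe u

variable {A S : Type u} [CommRing A] [IsLocalRing A] [IsNoetherianRing A] [CommRing S] [IsLocalRing S]
  [Algebra A S] [IsLocalHom (algebraMap A S)] [Hensel.IsHenselization A S]

/-- A henselization maps to the completion. -/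
theorem exists_toCompletion : ∃ ψ : S →+* AdicCompletion (maximalIdeal A) A,
    ψ.comp (algebraMap A S) = algebraMap A (AdicCompletion (maximalIdeal A) A) := by
  have : IsAdicComplete (maximalIdeal (AdicCompletion (maximalIdeal A) A))
      (AdicCompletion (maximalIdeal A) A) := by
    rw [AdicCompletion.maximalIdeal_eq_map]
    exact AdicCompletion.isAdicComplete_self _ (maximalIdeal A).fg_of_isNoetherianRing
  have := Groth.Calg6.Branch.henselianLocalRing_of_isAdicComplete (AdicCompletion (maximalIdeal A) A)
  have hloc : IsLocalHom (algebraMap A (AdicCompletion (maximalIdeal A) A)) :=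
    ((local_hom_TFAE (algebraMap A (AdicCompletion (maximalIdeal A) A))).out 0 2).mpr
      AdicCompletion.maximalIdeal_eq_map.ge
  exact ((inferInstance : Hensel.IsHenselization A S).universal _ _ hloc).exists

/-- The data needed to descend partitions from the completion. -/
theorem setting (ψ : S →+* AdicCompletion (maximalIdeal A) A)
    (hψ : ψ.comp (algebraMap A S) = algebraMap A (AdicCompletion (maximalIdeal A) A)) :
    IsNoetherianRing S ∧ HenselianLocalRing S ∧
      IsNoetherianRing (AdicCompletion (maximalIdeal A) A) ∧ ψ.FaithfullyFlat ∧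
      (maximalIdeal S).map ψ = maximalIdeal (AdicCompletion (maximalIdeal A) A) ∧
      ∀ (y : AdicCompletion (maximalIdeal A) A) (k : ℕ),
        ∃ s : S, y - ψ s ∈ maximalIdeal (AdicCompletion (maximalIdeal A) A) ^ k := by
  obtain ⟨M⟩ := Groth.Hensel1.hensModel_of_isHenselization (R := A) (S := S)
  have hfg := (maximalIdeal A).fg_of_isNoetherianRing
  refine ⟨M.isNoetherianRing_iff.mp inferInstance, (inferInstance : Hensel.IsHenselization A S).henselian,
    Calg1.isNoetherianRing_adicCompletion _ hfg,
    Groth.Hensel1.faithfullyFlat_henselization_completion ψ hψ, ?_, fun y k => ?_⟩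
  · rw [← M.map_maximalIdeal, Ideal.map_map, hψ, ← AdicCompletion.maximalIdeal_eq_map]
  · obtain ⟨a, ha⟩ := Submodule.mkQ_surjective _ (AdicCompletion.eval (maximalIdeal A) A k y)
    refine ⟨algebraMap A S a, ?_⟩
    have hker : y - AdicCompletion.of (maximalIdeal A) A a ∈
        (AdicCompletion.eval (maximalIdeal A) A k).ker := by
      rw [LinearMap.mem_ker, map_sub, AdicCompletion.eval_of, ha, sub_self]
    rw [← AdicCompletion.pow_smul_top_eq_ker_eval hfg] at hker
    have h2 : y - AdicCompletion.of (maximalIdeal A) A a ∈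
        (maximalIdeal A ^ k).map (algebraMap A (AdicCompletion (maximalIdeal A) A)) := by
      have := Ideal.smul_top_eq_map (R := A) (S := AdicCompletion (maximalIdeal A) A) (maximalIdeal A ^ k)
      exact (this ▸ hker :)
    rw [show ψ (algebraMap A S a) = algebraMap A (AdicCompletion (maximalIdeal A) A) a from
      RingHom.congr_fun hψ a, AdicCompletion.maximalIdeal_eq_map, ← Ideal.map_pow]
    exact h2

/-- Closed partitions of the punctured spectrum of the completion descend to the henselization. -/
theorem partition_completion (ψ : S →+* AdicCompletion (maximalIdeal A) A)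
    (hψ : ψ.comp (algebraMap A S) = algebraMap A (AdicCompletion (maximalIdeal A) A))
    (J₁ J₂ : Ideal (AdicCompletion (maximalIdeal A) A))
    (hcov : ∀ Q : Ideal (AdicCompletion (maximalIdeal A) A), Q.IsPrime → J₁ ≤ Q ∨ J₂ ≤ Q)
    (hdis : ∀ Q : Ideal (AdicCompletion (maximalIdeal A) A), Q.IsPrime → J₁ ≤ Q → J₂ ≤ Q →
      Q = maximalIdeal _) :
    ∃ I₁ I₂ : Ideal S,
      (∀ P : Ideal S, P.IsPrime → P ≠ maximalIdeal S →
        (I₁ ≤ P ∨ I₂ ≤ P) ∧ ¬ (I₁ ≤ P ∧ I₂ ≤ P)) ∧
      (∀ Q : Ideal (AdicCompletion (maximalIdeal A) A), Q.IsPrime → Q ≠ maximalIdeal _ →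
        (J₁ ≤ Q → I₁ ≤ Q.comap ψ) ∧ (J₂ ≤ Q → I₂ ≤ Q.comap ψ)) := by
  obtain ⟨hS, hh, hN, hff, hm, hd⟩ := setting ψ hψ
  let _ := ψ.toAlgebra
  have : Module.FaithfullyFlat S (AdicCompletion (maximalIdeal A) A) := hff
  exact partition hm hd J₁ J₂ hcov hdis

/-- A prime of the completion lies over the closed point only if it is the closed point. -/
theorem comap_eq_maximalIdeal_iff (ψ : S →+* AdicCompletion (maximalIdeal A) A)
    (hψ : ψ.comp (algebraMap A S) = algebraMap A (AdicCompletion (maximalIdeal A) A))
    {Q : Ideal (AdicCompletion (maximalIdeal A) A)} (hQ : Q.IsPrime) :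
    Q.comap ψ = maximalIdeal S ↔ Q = maximalIdeal _ := by
  obtain ⟨-, -, -, -, hm, -⟩ := setting ψ hψ
  constructor
  · intro h
    refine le_antisymm (le_maximalIdeal hQ.ne_top) ?_
    rw [← hm, ← h]; exact Ideal.map_comap_le
  · rintro rfl
    refine le_antisymm (le_maximalIdeal (Ideal.comap_isPrime ψ _).ne_top) ?_
    rw [← Ideal.map_le_iff_le_comap, hm]

end Groth.EtaleAlgebra.Punctured
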