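import Groth.Agent.S2736
import Groth.Agent.S2657
import Groth.Agent.EtaleAlgebra.PairNoeth
import Groth.Agent.EtaleAlgebra.PairLocal
import Groth.Agent.EtaleAlgebra.TameCompositum
import Groth.Agent.Ega4Algebra1.NagataReduced
import Groth.Agent.Ega4Algebra2.GeomReducedDomains
import Groth.Agent.Hensel1.Transfer
import Mathlib.RingTheory.TensorProduct.Pi

/-!
# Geometrically reduced formal fibres and henselization
-/

set_option autoImplicit false
set_option linter.style.haveILetI false
set_option linter.overlappingInstances false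
set_option linter.unusedSectionVars false
universe u

namespace Groth.EtaleAlgebra.HensNagata

open IsLocalRing Polynomial TensorProduct

/-- A Noetherian local ring is Nagata iff its formal fibres are geometrically reduced. -/
theorem isNagata_iff (R : Type u) [CommRing R] [IsNoetherianRing R] [IsLocalRing R] :
    CAlg.IsNagata R ↔ EGA4.HasGeomReducedFormalFibres R := by
  refine ⟨fun h => ?_, fun h => Groth.Agent.S2657.result R h⟩
  refine (Groth.Ega4Algebra1.isReduced_completion_jacobson_iff (A := R)).1 ?_
  intro C _ _ _ _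
  exact Groth.Ega4Algebra1.isReduced_completion_jacobson_of_isNagata R h C

theorem hasGeomReducedFormalFibres_of_domains (R : Type u) [CommRing R] [IsNoetherianRing R]
    [IsLocalRing R] (h : ∀ (B : Type u) [CommRing B] [IsDomain B] [Algebra R B] [Module.Finite R B],
      IsReduced (B ⊗[R] EGA4.Cpl R)) : EGA4.HasGeomReducedFormalFibres R := by
  refine (Groth.Ega4b.hasGeomReducedFormalFibres_iff R).2 ?_
  intro B _ _ _ _ Q _ _
  have := h B
  exact isReduced_localizationPreserves Q.primeCompl (Localization.AtPrime Q) inferInstance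

/-- In a product of separable extensions every element is killed by a separable polynomial. -/
theorem exists_separable_pi {k : Type u} [Field k] {n : ℕ} (K : Fin n → Type u) [∀ i, Field (K i)]
    [∀ i, Algebra k (K i)] (h : ∀ i, Algebra.IsSeparable k (K i)) (x : Π i, K i) :
    ∃ f : k[X], f.Separable ∧ aeval x f = 0 := by
  classical
  have hint : ∀ i, IsIntegral k (x i) := fun i => ((h i).isSeparable' (x i)).isIntegral
  refine ⟨∏ g ∈ Finset.univ.image (fun i => minpoly k (x i)), g, ?_, ?_⟩
  · refine separable_prod' (fun a ha b hb hab => ?_) fun a ha => ?_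
    · obtain ⟨i, -, rfl⟩ := Finset.mem_image.1 ha
      obtain ⟨j, -, rfl⟩ := Finset.mem_image.1 hb
      refine (minpoly.irreducible (hint i)).coprime_iff_not_dvd.2 fun hd => hab ?_
      exact eq_of_monic_of_associated (minpoly.monic (hint i)) (minpoly.monic (hint j))
        ((minpoly.irreducible (hint i)).associated_of_dvd (minpoly.irreducible (hint j)) hd)
    · obtain ⟨i, -, rfl⟩ := Finset.mem_image.1 ha
      exact (h i).isSeparable' (x i)
  · ext i
    rw [show aeval x _ i = aeval (x i) _ from
      (aeval_algHom_apply (Pi.evalAlgHom k K i) x _).symm, map_prod]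
    exact Finset.prod_eq_zero (Finset.mem_image_of_mem _ (Finset.mem_univ i)) (minpoly.aeval k _)

variable {R S : Type u} [CommRing R] [IsLocalRing R] [IsNoetherianRing R] [CommRing S] [IsLocalRing S]
  [Algebra R S] [IsLocalHom (algebraMap R S)] [Hensel.IsHenselization R S]

theorem exists_separable_fibre (p : Ideal R) [p.IsPrime] (s : S) :
    ∃ f : p.ResidueField[X], f.Separable ∧ aeval ((1 : p.ResidueField) ⊗ₜ[R] s) f = 0 := by
  obtain ⟨n, K, _, _, hsep, ⟨e⟩⟩ := Groth.Agent.S2736.result R S p
  obtain ⟨f, hf, hf0⟩ := exists_separable_pi K hsep (e ((1 : p.ResidueField) ⊗ₜ[R] s))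
  exact ⟨f, hf, e.injective (by rw [map_zero, ← aeval_algHom_apply, hf0])⟩

theorem isReduced_field_tensor (p : Ideal R) [p.IsPrime] (L : Type u) [Field L] [Algebra R L]
    [Algebra p.ResidueField L] [IsScalarTower R p.ResidueField L]
    [Algebra.IsAlgebraic p.ResidueField L] : IsReduced (L ⊗[R] S) := by
  classical
  obtain ⟨n, K, _, _, hsep, ⟨e⟩⟩ := Groth.Agent.S2736.result R S p
  have : ∀ i, IsReduced (L ⊗[p.ResidueField] K i) := fun i => by
    have := hsep i
    have := TameComp.geomReduced_of_isSeparable p.ResidueField (K i)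
    infer_instance
  have : IsReduced (L ⊗[p.ResidueField] (p.ResidueField ⊗[R] S)) :=
    isReduced_of_injective
      ((Algebra.TensorProduct.piRight p.ResidueField L L K).toRingEquiv.toRingHom.comp
        (Algebra.TensorProduct.congr (AlgEquiv.refl (R := p.ResidueField) (A₁ := L)) e).toRingEquiv.toRingHom)
      ((Algebra.TensorProduct.piRight p.ResidueField L L K).injective.comp
        (Algebra.TensorProduct.congr (AlgEquiv.refl (R := p.ResidueField) (A₁ := L)) e).injective)
  exact isReduced_of_injective
    (Algebra.TensorProduct.cancelBaseChange R p.ResidueField p.ResidueField L S).symm.toRingHom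
    (Algebra.TensorProduct.cancelBaseChange R p.ResidueField p.ResidueField L S).symm.injective

/-- Reducedness passes from `L ⊗_R C` to `L ⊗_S C`. -/
theorem isReduced_tensor_of_tensor (p : Ideal R) [p.IsPrime] (L C : Type u) [Field L] [CommRing C]
    [Algebra R L] [Algebra S L] [IsScalarTower R S L] [Algebra p.ResidueField L]
    [IsScalarTower R p.ResidueField L] [Algebra R C] [Algebra S C] [IsScalarTower R S C]
    [IsReduced (L ⊗[R] C)] : IsReduced (L ⊗[S] C) := by
  classical
  let X := L ⊗[R] C
  let a : S → X := fun s => (1 : L) ⊗ₜ[R] algebraMap S C s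
  let σ : S → X := fun s => algebraMap L X (algebraMap S L s)
  let I : Ideal X := Ideal.span (Set.range fun s => a s - σ s)
  -- purity
  have hpure : ∀ k ∈ I, ∃ e ∈ I, e * k = k := by
    intro k hk
    induction hk using Submodule.span_induction with
    | mem k hk =>
      obtain ⟨s, rfl⟩ := hk
      obtain ⟨f, hf, hf0⟩ := exists_separable_fibre (R := R) p s
      let jS : S →ₐ[R] X := (Algebra.TensorProduct.includeRight : C →ₐ[R] X).comp
        (IsScalarTower.toAlgHom R S C)
      let Φ : p.ResidueField ⊗[R] S →ₐ[p.ResidueField] X :=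
        Algebra.TensorProduct.lift (Algebra.ofId _ _) jS fun _ _ => Commute.all _ _
      let χ : p.ResidueField ⊗[R] S →ₐ[p.ResidueField] L :=
        Algebra.TensorProduct.lift (Algebra.ofId _ _) (IsScalarTower.toAlgHom R S L)
          fun _ _ => Commute.all _ _
      have hΦ : Φ ((1 : p.ResidueField) ⊗ₜ[R] s) = a s := by simp [Φ, jS, a]
      have hχ : χ ((1 : p.ResidueField) ⊗ₜ[R] s) = algebraMap S L s := by simp [χ]
      have ha : aeval (a s) f = 0 := by rw [← hΦ, aeval_algHom_apply, hf0, map_zero]
      have hσ : aeval (algebraMap S L s) f = 0 := by rw [← hχ, aeval_algHom_apply, hf0, map_zero]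
      set l := algebraMap S L s with hl
      let fL := f.map (algebraMap p.ResidueField L)
      obtain ⟨g, hg⟩ : (Polynomial.X - Polynomial.C l) ∣ fL := dvd_iff_isRoot.2 (by
        rw [IsRoot.def, eval_map, ← aeval_def]; exact hσ)
      have hgl : g.eval l ≠ 0 := by
        have h1 := Separable.aeval_derivative_ne_zero hf hσ
        rw [aeval_def, ← eval_map, ← derivative_map, show f.map (algebraMap p.ResidueField L) = _
          from hg, derivative_mul, derivative_sub, derivative_X, derivative_C, sub_zero, one_mul,
          eval_add, eval_mul, eval_sub, eval_X, eval_C, sub_self, zero_mul, add_zero] at h1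
        exact h1
      have hga : (a s - σ s) * aeval (a s) g = 0 := by
        have h1 : aeval (a s) fL = 0 := by rw [aeval_map_algebraMap]; exact ha
        rw [hg, map_mul, map_sub, aeval_X, aeval_C] at h1
        exact h1
      refine ⟨1 - algebraMap L X (g.eval l)⁻¹ * aeval (a s) g, ?_, ?_⟩
      · have h2 : aeval (a s) g - algebraMap L X (g.eval l) ∈ I := by
          rw [← aeval_algebraMap_apply_eq_algebraMap_eval, aeval_def, aeval_def, ← eval_map,
            ← eval_map]
          obtain ⟨w, hw⟩ := sub_dvd_eval_sub (a s) (σ s) (g.map (algebraMap L X))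
          rw [hw]
          exact I.mul_mem_right _ (Ideal.subset_span ⟨s, rfl⟩)
        have h3 := I.mul_mem_left (algebraMap L X (g.eval l)⁻¹) h2
        rw [mul_sub, ← map_mul, inv_mul_cancel₀ hgl, map_one] at h3
        simpa using I.neg_mem h3
      · linear_combination (-(algebraMap L X (g.eval l)⁻¹)) * hga
    | zero => exact ⟨0, I.zero_mem, mul_zero _⟩
    | add x y _ _ hx hy =>
      obtain ⟨e, he, hex⟩ := hx
      obtain ⟨d, hd, hdy⟩ := hy
      refine ⟨e + d - e * d, I.sub_mem (I.add_mem he hd) (I.mul_mem_left _ hd), ?_⟩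
      linear_combination (1 - d) * hex + (1 - e) * hdy
    | smul c x _ hx =>
      obtain ⟨e, he, hex⟩ := hx
      exact ⟨e, he, by rw [smul_eq_mul]; linear_combination c * hex⟩
  have hQ : IsReduced (X ⧸ I) := ⟨fun x hx => by
    obtain ⟨x, rfl⟩ := Ideal.Quotient.mk_surjective x
    obtain ⟨n, hn⟩ := hx
    rw [← map_pow, Ideal.Quotient.eq_zero_iff_mem] at hn
    obtain ⟨e, he, hex⟩ := hpure _ hn
    have h0 : ((1 - e) * x) ^ (n + 1) = 0 := by
      rw [mul_pow, pow_succ, pow_succ]
      linear_combination (-((1 - e) ^ n * x)) * hex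
    have h1 : (1 - e) * x = 0 := IsReduced.eq_zero _ ⟨_, h0⟩
    refine Ideal.Quotient.eq_zero_iff_mem.2 ?_
    rw [show x = e * x by linear_combination h1]
    exact I.mul_mem_right _ he⟩
  -- the quotient maps isomorphically
  let π : X →ₐ[R] L ⊗[S] C := Algebra.TensorProduct.lift
    ((Algebra.TensorProduct.includeLeft : L →ₐ[S] L ⊗[S] C).restrictScalars R)
    ((Algebra.TensorProduct.includeRight : C →ₐ[S] L ⊗[S] C).restrictScalars R)
    fun _ _ => Commute.all _ _
  let iL : L →ₐ[S] X ⧸ I :=
    { toRingHom := (Ideal.Quotient.mk I).comp (algebraMap L X), commutes' := fun _ => rfl }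
  let iC : C →ₐ[S] X ⧸ I :=
    { toRingHom := (Ideal.Quotient.mk I).comp
        (Algebra.TensorProduct.includeRight : C →ₐ[R] X).toRingHom
      commutes' := fun s => Ideal.Quotient.eq.2 (Ideal.subset_span ⟨s, rfl⟩) }
  let ψ : L ⊗[S] C →ₐ[S] X ⧸ I := Algebra.TensorProduct.lift iL iC fun _ _ => Commute.all _ _
  have hπt : ∀ (l : L) (c : C), π (l ⊗ₜ[R] c) = l ⊗ₜ[S] c := fun l c => by
    refine (Algebra.TensorProduct.lift_tmul _ _ _ l c).trans ?_
    show (l ⊗ₜ[S] (1 : C)) * ((1 : L) ⊗ₜ[S] c) = _
    rw [Algebra.TensorProduct.tmul_mul_tmul, one_mul, mul_one]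
  have hψπ : ∀ z : X, ψ (π z) = Ideal.Quotient.mk I z := by
    intro z
    induction z using TensorProduct.induction_on with
    | zero => exact (congrArg ψ (map_zero π)).trans ((map_zero ψ).trans (map_zero _).symm)
    | add x y hx hy =>
      exact (congrArg ψ (map_add π x y)).trans ((map_add ψ _ _).trans
        ((congrArg₂ (· + ·) hx hy).trans (map_add (Ideal.Quotient.mk I) x y).symm))
    | tmul l c =>
      rw [hπt]
      refine (Algebra.TensorProduct.lift_tmul _ _ _ l c).trans ?_
      show Ideal.Quotient.mk I (l ⊗ₜ[R] (1 : C)) * Ideal.Quotient.mk I ((1 : L) ⊗ₜ[R] c) = _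
      rw [← map_mul, Algebra.TensorProduct.tmul_mul_tmul, one_mul, mul_one]
  have hsurj : Function.Surjective π := fun z => by
    induction z using TensorProduct.induction_on with
    | zero => exact ⟨0, map_zero _⟩
    | add x y hx hy =>
      obtain ⟨x, rfl⟩ := hx
      obtain ⟨y, rfl⟩ := hy
      exact ⟨x + y, map_add _ _ _⟩
    | tmul l c => exact ⟨l ⊗ₜ[R] c, hπt l c⟩
  have hπI : ∀ z ∈ I, π z = 0 := fun z hz => by
    have hle : I ≤ RingHom.ker π.toRingHom := by
      rw [Ideal.span_le]
      rintro _ ⟨s, rfl⟩
      show π ((1 : L) ⊗ₜ[R] algebraMap S C s - algebraMap S L s ⊗ₜ[R] (1 : C)) = 0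
      rw [map_sub, hπt, hπt, sub_eq_zero, Algebra.algebraMap_eq_smul_one,
        Algebra.algebraMap_eq_smul_one]
      exact (TensorProduct.smul_tmul s (1 : L) (1 : C)).symm
    exact hle hz
  refine isReduced_of_injective ψ ((injective_iff_map_eq_zero ψ).2 fun z hz => ?_)
  obtain ⟨w, rfl⟩ := hsurj z
  rw [hψπ, Ideal.Quotient.eq_zero_iff_mem] at hz
  exact hπI w hz

/-- Geometrically reduced formal fibres pass to the henselization and back. -/
theorem hasGeomReducedFormalFibres_iff [IsNoetherianRing S] :
    EGA4.HasGeomReducedFormalFibres S ↔ EGA4.HasGeomReducedFormalFibres R := by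
  classical
  have hP := isPairHenselization_of_isHenselization (A := R) (B := S) inferInstance
  obtain ⟨M⟩ := Groth.Hensel1.hensModel_of_isHenselization (R := R) (S := S)
  have : Module.Flat R S := M.flat
  obtain ⟨e₀⟩ := exists_completion_algEquiv hP
  have hm := map_maximalIdeal_eq hP
  let C := EGA4.Cpl S
  let e : EGA4.Cpl R ≃ₐ[R] C := by
    refine e₀.trans ?_
    rw [hm]
  have : Module.Flat S C := AdicCompletion.flat_of_isNoetherian _
  constructor
  · intro hS
    refine hasGeomReducedFormalFibres_of_domains R ?_
    intro B _ _ _ _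
    let p := RingHom.ker (algebraMap R B)
    have : p.IsPrime := RingHom.ker_isPrime _
    let L := FractionRing B
    let _ : Algebra p.ResidueField L := (Ideal.ResidueField.lift p (algebraMap R L) (fun r hr => by
      show algebraMap R L r = 0
      rw [IsScalarTower.algebraMap_apply R B L, show algebraMap R B r = 0 from hr, map_zero])
      (fun r hr => by
        refine (IsUnit.mk0 _ fun h0 => hr ?_)
        rw [IsScalarTower.algebraMap_apply R B L,
          map_eq_zero_iff _ (IsFractionRing.injective B L)] at h0
        exact h0)).toAlgebra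
    have : IsScalarTower R p.ResidueField L :=
      IsScalarTower.of_algebraMap_eq fun r => (Ideal.ResidueField.lift_algebraMap ..).symm
    have : Algebra.IsAlgebraic p.ResidueField L := ⟨fun x => by
      obtain ⟨b, c, -, rfl⟩ := IsFractionRing.div_surjective (A := B) x
      rw [div_eq_mul_inv]
      exact ((((Algebra.IsIntegral.isIntegral (R := R) b).map (IsScalarTower.toAlgHom R B L)).tower_top).mul
        ((((Algebra.IsIntegral.isIntegral (R := R) c).map (IsScalarTower.toAlgHom R B L)).tower_top).inv)).isAlgebraic⟩
    have hLS : IsReduced (L ⊗[R] S) := isReduced_field_tensor p L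
    have : IsReduced (S ⊗[R] L) := isReduced_of_injective
      (Algebra.TensorProduct.comm R S L).toRingHom (Algebra.TensorProduct.comm R S L).injective
    have : IsReduced (S ⊗[R] B) := isReduced_of_injective
      (Algebra.TensorProduct.map (AlgHom.id R S) (IsScalarTower.toAlgHom R B L))
      (Module.Flat.lTensor_preserves_injective_linearMap _ (IsFractionRing.injective B L))
    have : IsReduced (C ⊗[S] (S ⊗[R] B)) :=
      Groth.Ega4Algebra1.isReduced_cpl_tensor_of_reduced S hS (S ⊗[R] B)
    have : IsReduced (C ⊗[R] B) := isReduced_of_injective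
      (Algebra.TensorProduct.cancelBaseChange R S S C B).symm.toRingHom
      (Algebra.TensorProduct.cancelBaseChange R S S C B).symm.injective
    exact isReduced_of_injective
      ((Algebra.TensorProduct.comm R B C).toRingHom.comp
        (Algebra.TensorProduct.congr (AlgEquiv.refl (R := R) (A₁ := B)) e).toRingHom)
      ((Algebra.TensorProduct.comm R B C).injective.comp
        (Algebra.TensorProduct.congr (AlgEquiv.refl (R := R) (A₁ := B)) e).injective)
  · intro hR
    refine hasGeomReducedFormalFibres_of_domains S ?_
    intro B _ _ _ _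
    let L := FractionRing B
    let _ : Algebra R L := ((algebraMap S L).comp (algebraMap R S)).toAlgebra
    have : IsScalarTower R S L := IsScalarTower.of_algebraMap_eq fun _ => rfl
    let p := RingHom.ker (algebraMap R L)
    have : p.IsPrime := RingHom.ker_isPrime _
    let _ : Algebra p.ResidueField L := (Ideal.ResidueField.lift p (algebraMap R L) le_rfl
      (fun r hr => IsUnit.mk0 _ hr)).toAlgebra
    have : IsScalarTower R p.ResidueField L :=
      IsScalarTower.of_algebraMap_eq fun r => (Ideal.ResidueField.lift_algebraMap ..).symm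
    have hSint : ∀ s : S, IsIntegral p.ResidueField (algebraMap S L s) := fun s => by
      obtain ⟨f, hf, hf0⟩ := exists_separable_fibre (R := R) p s
      let χ : p.ResidueField ⊗[R] S →ₐ[p.ResidueField] L :=
        Algebra.TensorProduct.lift (Algebra.ofId _ _) (IsScalarTower.toAlgHom R S L)
          fun _ _ => Commute.all _ _
      refine IsAlgebraic.isIntegral ⟨f, hf.ne_zero, ?_⟩
      rw [show algebraMap S L s = χ ((1 : p.ResidueField) ⊗ₜ[R] s) by simp [χ],
        aeval_algHom_apply, hf0, map_zero]
    have hBint : ∀ b : B, IsIntegral p.ResidueField (algebraMap B L b) := fun b => by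
      let F := integralClosure p.ResidueField L
      obtain ⟨g, hg, hg0⟩ := (Algebra.IsIntegral.isIntegral (R := S) b).map (IsScalarTower.toAlgHom S B L)
      let jF : S →+* F := RingHom.codRestrict (algebraMap S L) F.toSubring hSint
      refine isIntegral_trans (A := F) _ ⟨g.map jF, hg.map _, ?_⟩
      rw [eval₂_map]
      exact hg0
    have : Algebra.IsAlgebraic p.ResidueField L := ⟨fun x => by
      obtain ⟨b, c, -, rfl⟩ := IsFractionRing.div_surjective (A := B) x
      rw [div_eq_mul_inv]
      exact ((hBint b).mul (hBint c).inv).isAlgebraic⟩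
    have := hR p
    have : IsReduced (L ⊗[p.ResidueField] (p.ResidueField ⊗[R] EGA4.Cpl R)) := inferInstance
    have : IsReduced (L ⊗[R] EGA4.Cpl R) := isReduced_of_injective
      (Algebra.TensorProduct.cancelBaseChange R p.ResidueField p.ResidueField L (EGA4.Cpl R)).symm.toRingHom
      (Algebra.TensorProduct.cancelBaseChange R p.ResidueField p.ResidueField L (EGA4.Cpl R)).symm.injective
    have : IsReduced (L ⊗[R] C) := isReduced_of_injective
      (Algebra.TensorProduct.congr (AlgEquiv.refl (R := R) (A₁ := L)) e.symm).toRingHom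
      (Algebra.TensorProduct.congr (AlgEquiv.refl (R := R) (A₁ := L)) e.symm).injective
    have : IsReduced (L ⊗[S] C) := isReduced_tensor_of_tensor p L C
    exact isReduced_of_injective
      (Algebra.TensorProduct.map (IsScalarTower.toAlgHom S B L) (AlgHom.id S C))
      (Module.Flat.rTensor_preserves_injective_linearMap _ (IsFractionRing.injective B L))

end Groth.EtaleAlgebra.HensNagata
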