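import Mathlib.RingTheory.Henselian
import Mathlib.Algebra.Polynomial.Taylor
import Mathlib.Algebra.Polynomial.Identities
import Mathlib.Tactic.LinearCombination
import Mathlib.RingTheory.Ideal.Quotient.Basic

/-! Limits of henselian pairs. -/

open Polynomial

universe u v w

namespace Groth.EtaleAlgebra

/-- Roots with unit derivative congruent modulo an ideal in the Jacobson radical are equal. -/
theorem root_unique {R : Type u} [CommRing R] {I : Ideal R} (hI : I ≤ Ideal.jacobson ⊥) {f : R[X]}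
    {a b : R} (ha : f.eval a = 0) (hb : f.eval b = 0) (hab : b - a ∈ I)
    (hu : IsUnit (Ideal.Quotient.mk I (f.derivative.eval a))) : a = b := by
  obtain ⟨k, hk⟩ := f.binomExpansion a (b - a)
  rw [add_sub_cancel, ha, hb, zero_add] at hk
  obtain ⟨v, hv⟩ := isUnit_iff_exists_inv.1 hu
  obtain ⟨v, rfl⟩ := Ideal.Quotient.mk_surjective v
  rw [← map_mul, ← map_one (Ideal.Quotient.mk I), Ideal.Quotient.eq] at hv
  have hw : IsUnit (((f.derivative.eval a * v - 1) + k * (b - a) * v) * 1 + 1) :=
    Ideal.mem_jacobson_bot.1 (hI (I.add_mem hv (I.mul_mem_right _ (I.mul_mem_left _ hab)))) 1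
  refine (sub_eq_zero.1 (hw.mul_right_eq_zero.1 ?_)).symm
  linear_combination (-v) * hk

variable {A : Type u} [CommRing A] {J : Type v} {C : J → Type w} [∀ j, CommRing (C j)]
  (p : ∀ j, A →+* C j) {r : J → J → Type*} (t : ∀ i j, r i j → C i →+* C j)

/-- A limit of henselian pairs is a henselian pair. -/
theorem henselianRing_limit (hp : ∀ i j e, (t i j e).comp (p i) = p j)
    (hinj : ∀ a b, (∀ j, p j a = p j b) → a = b)
    (hsurj : ∀ x : ∀ j, C j, (∀ i j e, t i j e (x i) = x j) → ∃ a, ∀ j, p j a = x j)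
    (I : ∀ j, Ideal (C j)) (hI : ∀ i j e, (I i).map (t i j e) ≤ I j)
    (h : ∀ j, HenselianRing (C j) (I j)) :
    HenselianRing A (⨅ j, (I j).comap (p j)) := by
  have hmem : ∀ {x}, x ∈ (⨅ j, (I j).comap (p j)) ↔ ∀ j, p j x ∈ I j := by simp
  refine ⟨fun x hx => ?_, fun f hf a₀ h₁ h₂ => ?_⟩
  · rw [Ideal.mem_jacobson_bot]
    intro y
    have hu : ∀ j, IsUnit (p j (x * y + 1)) := fun j => by
      rw [map_add, map_mul, map_one]
      exact Ideal.mem_jacobson_bot.1 ((h j).jac (hmem.1 hx j)) _
    choose z hz using fun j => isUnit_iff_exists_inv.1 (hu j)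
    obtain ⟨b, hb⟩ := hsurj z fun i j e => by
      refine (hu j).mul_left_cancel ?_
      rw [hz j, ← hp i j e, RingHom.comp_apply, ← map_mul, hz i, map_one]
    exact isUnit_iff_exists_inv.2 ⟨b, hinj _ _ fun j => by rw [map_mul, hb, hz, map_one]⟩
  · obtain ⟨v, hv⟩ := isUnit_iff_exists_inv.1 h₂
    obtain ⟨v, rfl⟩ := Ideal.Quotient.mk_surjective v
    rw [← map_mul, ← map_one (Ideal.Quotient.mk _), Ideal.Quotient.eq, hmem] at hv
    have hd : ∀ j, IsUnit (Ideal.Quotient.mk (I j) ((f.map (p j)).derivative.eval (p j a₀))) := by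
      intro j
      refine isUnit_iff_exists_inv.2 ⟨Ideal.Quotient.mk _ (p j v), ?_⟩
      rw [← map_mul, ← map_one (Ideal.Quotient.mk (I j)), Ideal.Quotient.eq, derivative_map,
        eval_map_apply, ← map_mul, ← map_one (p j), ← map_sub]
      exact hv j
    choose x hx hx' using fun j => (h j).is_henselian _ (hf.map (p j)) (p j a₀)
      (by rw [eval_map_apply]; exact hmem.1 h₁ j) (hd j)
    obtain ⟨a, ha⟩ := hsurj x fun i j e => by
      have h1 : t i j e (x i) - p j a₀ ∈ I j := by
        rw [← hp i j e, RingHom.comp_apply, ← map_sub]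
        exact hI i j e (Ideal.mem_map_of_mem _ (hx' i))
      have h2 : (f.map (p j)).eval (t i j e (x i)) = 0 := by
        rw [← hp i j e, ← Polynomial.map_map, eval_map_apply, (hx i).eq_zero, map_zero]
      refine (root_unique (h j).jac (hx j) h2 ?_ ?_).symm
      · simpa using sub_mem h1 (hx' j)
      · have := hd j
        rwa [← eval_map_apply, Ideal.Quotient.eq.2 (hx' j), eval_map_apply]
    refine ⟨a, hinj _ _ fun j => ?_, hmem.2 fun j => ?_⟩
    · rw [map_zero, ← eval_map_apply, ha]; exact hx j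
    · rw [map_sub, ha]; exact hx' j

end Groth.EtaleAlgebra
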