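import Groth.Agent.HensPair.Colimit
import Groth.Agent.Hensel1.Pairs
import Mathlib.Algebra.Polynomial.Eval.Coeff
import Mathlib.RingTheory.Polynomial.Basic

namespace Groth.EtaleAlgebra

open Groth.HensPair Polynomial

universe u

variable {A : Type u} [CommRing A] {I : Ideal A}

/-- Finitely many equations in the colimit hold at a stage. -/
theorem hz_exists_stage {i : Idx I} (S : Finset (i.Obj × i.Obj))
    (hS : ∀ p ∈ S, of I i p.1 = of I i p.2) :
    ∃ (k : Idx I) (f : i.Obj →ₐ[A] k.Obj), ∀ p ∈ S, f p.1 = f p.2 := by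
  classical
  induction S using Finset.induction_on with
  | empty => exact ⟨i, AlgHom.id A _, by simp⟩
  | insert p S _ ih =>
    obtain ⟨k, f, hf⟩ := ih fun p hp => hS p (Finset.mem_insert_of_mem hp)
    obtain ⟨l, g, hg⟩ := of_eq_of (I := I) (x := f p.1) (y := f p.2) (by
      rw [← AlgHom.comp_apply, ← AlgHom.comp_apply, of_comp]
      exact hS p (Finset.mem_insert_self _ _))
    exact ⟨l, g.comp f, fun r hr => (Finset.mem_insert.1 hr).elim (fun h => h ▸ hg)
      fun h => congrArg g (hf r h)⟩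

/-- Finitely many polynomials over the colimit come from a common stage. -/
theorem hz_exists_poly {ι : Type*} [Finite ι] (p : ι → (Hz I)[X]) :
    ∃ (i : Idx I) (y : ι → i.Obj[X]), ∀ j, (y j).map (of I i).toRingHom = p j := by
  classical
  obtain ⟨i, y, hy⟩ := Groth.HensPair.exists_of_fintype
    (fun x : Σ j, (p j).support => (p x.1).coeff x.2.1)
  refine ⟨i, fun j => ∑ n : (p j).support, monomial n.1 (y ⟨j, n⟩), fun j => ?_⟩
  rw [Polynomial.map_sum]
  simp only [map_monomial, AlgHom.toRingHom_eq_coe, RingHom.coe_coe]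
  conv_rhs => rw [(p j).as_sum_support, ← Finset.sum_coe_sort]
  exact Finset.sum_congr rfl fun n _ => by rw [hy ⟨j, n⟩]

/-- Residues at a stage are detected in the colimit. -/
theorem hz_mk_stage {k : Idx I} {x : k.Obj} {c : A ⧸ I}
    (h : Ideal.Quotient.mk (I.map (algebraMap A (Hz I))) (of I k x) =
      Ideal.quotientMap (I.map (algebraMap A (Hz I))) (algebraMap A (Hz I)) Ideal.le_comap_map c) :
    Ideal.Quotient.mk (I.map (algebraMap A k.Obj)) x =
      Ideal.quotientMap (I.map (algebraMap A k.Obj)) (algebraMap A k.Obj) Ideal.le_comap_map c := by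
  obtain ⟨a, rfl⟩ := Ideal.Quotient.mk_surjective c
  obtain ⟨b, hb⟩ := k.isNbhd.surj x
  have hab : a - b ∈ I := by
    rw [← Ideal.Quotient.eq]
    refine (quotientMap_bijective I).1 ?_
    have h1 := algHom_map_le (of I k) hb
    rw [map_sub, AlgHom.commutes, ← Ideal.Quotient.eq] at h1
    rw [h1] at h
    exact h.symm
  rw [Ideal.quotientMap_mk, Ideal.Quotient.eq]
  have := Ideal.sub_mem _ hb (Ideal.mem_map_of_mem (algebraMap A k.Obj) hab)
  rwa [map_sub, sub_sub_sub_cancel_right] at this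

/-- A factorization with unit leading coefficient lifts to the henselization. -/
theorem hz_exists_factor_lift (f : A[X]) (hf : f.Monic)
    (g h : (A ⧸ I)[X]) (hgh : f.map (Ideal.Quotient.mk I) = g * h) (hlead : IsUnit g.leadingCoeff)
    (hcop : IsCoprime g h) :
    ∃ G H : (Hz I)[X], f.map (algebraMap A (Hz I)) = G * H ∧
      G.map (Ideal.Quotient.mk (I.map (algebraMap A (Hz I)))) =
        g.map (Ideal.quotientMap (I.map (algebraMap A (Hz I))) (algebraMap A (Hz I))
          Ideal.le_comap_map) ∧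
      H.map (Ideal.Quotient.mk (I.map (algebraMap A (Hz I)))) =
        h.map (Ideal.quotientMap (I.map (algebraMap A (Hz I))) (algebraMap A (Hz I))
          Ideal.le_comap_map) := by
  set R := Hz I
  set J := I.map (algebraMap A R)
  set q := Ideal.quotientMap J (algebraMap A R) Ideal.le_comap_map
  have : HenselianRing R J := Groth.HensPair.henselianRing I
  obtain ⟨v, hv⟩ := hlead
  set g₀ := C (↑v⁻¹ : A ⧸ I) * g with hg₀
  set h₀ := C (↑v : A ⧸ I) * h with hh₀
  have hg : g₀.Monic := monic_C_mul_of_mul_leadingCoeff_eq_one (by rw [← hv]; exact v.inv_mul)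
  have hprod : g₀ * h₀ = f.map (Ideal.Quotient.mk I) := by
    rw [hgh, hg₀, hh₀, mul_mul_mul_comm, ← C_mul, Units.inv_mul, C_1, one_mul]
  have hh : h₀.Monic := hg.of_mul_monic_left (hprod ▸ hf.map _)
  have hc : IsCoprime g₀ h₀ :=
    (isCoprime_mul_unit_left_left (isUnit_C.2 v⁻¹.isUnit) _ _).2
      ((isCoprime_mul_unit_left_right (isUnit_C.2 v.isUnit) _ _).2 hcop)
  have hcomp : q.comp (Ideal.Quotient.mk I) = (Ideal.Quotient.mk J).comp (algebraMap A R) :=
    RingHom.ext fun x => rfl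
  obtain ⟨G, H, -, -, hGH, hG, hH, -⟩ := Groth.Hensel1.exists_monic_factor_lift
    (I := J) (hf.map (algebraMap A R)) (hg.map q) (hh.map q)
    (hc.map (mapRingHom q))
    (by rw [Polynomial.map_map, ← hcomp, ← Polynomial.map_map, ← hprod, Polynomial.map_mul])
  obtain ⟨b, hb⟩ := Ideal.Quotient.mk_surjective (q (v : A ⧸ I))
  have hbu : IsUnit b := by
    obtain ⟨b', hb'⟩ := Ideal.Quotient.mk_surjective (q (↑v⁻¹ : A ⧸ I))
    have h1 : b * b' - 1 ∈ J := by
      rw [← Ideal.Quotient.eq, map_mul, hb, hb', ← map_mul, Units.mul_inv, map_one, map_one]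
    have h2 := Ideal.mem_jacobson_bot.mp (HenselianRing.jac h1) 1
    rw [mul_one, sub_add_cancel] at h2
    exact isUnit_of_mul_isUnit_left h2
  obtain ⟨w, rfl⟩ := hbu
  refine ⟨C (w : R) * G, C (↑w⁻¹ : R) * H, ?_, ?_, ?_⟩
  · rw [mul_mul_mul_comm, ← C_mul, Units.mul_inv, C_1, one_mul, hGH]
  · rw [Polynomial.map_mul, hG, map_C, hb, ← map_C (f := q), ← Polynomial.map_mul, hg₀,
      ← mul_assoc, ← C_mul, Units.mul_inv, C_1, one_mul]
  · have hw : Ideal.Quotient.mk J (↑w⁻¹ : R) = q (↑v⁻¹ : A ⧸ I) := by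
      have h1 : q (v : A ⧸ I) * Ideal.Quotient.mk J (↑w⁻¹ : R) = 1 := by
        rw [← hb, ← map_mul, Units.mul_inv, map_one]
      calc Ideal.Quotient.mk J (↑w⁻¹ : R)
          = q (↑v⁻¹ : A ⧸ I) * q (v : A ⧸ I) * Ideal.Quotient.mk J (↑w⁻¹ : R) := by
            rw [← map_mul, Units.inv_mul, map_one, one_mul]
        _ = q (↑v⁻¹ : A ⧸ I) := by rw [mul_assoc, h1, mul_one]
    rw [Polynomial.map_mul, hH, map_C, hw, ← map_C (f := q), ← Polynomial.map_mul, hh₀,
      ← mul_assoc, ← C_mul, Units.inv_mul, C_1, one_mul]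

end Groth.EtaleAlgebra
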