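import Mathlib.RingTheory.Invariant.Galois
import Mathlib.RingTheory.IsGaloisGroup.Defs
import Mathlib.RingTheory.Filtration
import Mathlib.FieldTheory.PrimitiveElement
import Mathlib.FieldTheory.Galois.Basic
import Mathlib.FieldTheory.Separable
import Mathlib.LinearAlgebra.Vandermonde
import Mathlib.LinearAlgebra.Matrix.NonsingularInverse
import Mathlib.LinearAlgebra.LinearIndependent.Lemmas
import Mathlib.Algebra.Polynomial.Identities
import Mathlib.RingTheory.LocalRing.ResidueField.Basic
import Mathlib.Tactic.LinearCombination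

set_option autoImplicit false

/-!
# Trivial inertia and unramifiedness

For a finite group `G` acting on a domain `S` with invariants a Noetherian local domain `R`:
inertia is trivial when `mS = n` with separable residue extension; conversely, if `S` is local and
inertia is trivial then `S` is generated by one element whose conjugates have distinct residues.
-/

universe u

open Polynomial

namespace Groth.EtaleAlgebra.InertiaTrivial

variable {R S G : Type u} [CommRing R] [CommRing S] [IsDomain S] [Algebra R S] [Group G]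
  [MulSemiringAction G S] [SMulCommClass G R S] [IsGaloisGroup G R S]

theorem exists_trace [Fintype G] (y : S) : ∃ r : R, algebraMap R S r = ∑ σ : G, σ • y := by
  refine Algebra.IsInvariant.isInvariant (G := G) _ fun τ => ?_
  rw [Finset.smul_sum]
  simp_rw [← mul_smul]
  exact Equiv.sum_comp (Equiv.mulLeft τ) (fun σ => σ • y)

theorem exists_trace_mem [Fintype G] {J : Ideal R} {x : S} (hx : x ∈ J.map (algebraMap R S)) :
    ∀ t : S, ∃ r ∈ J, algebraMap R S r = ∑ σ : G, σ • (t * x) := by
  induction hx using Submodule.span_induction with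
  | mem x hx =>
    obtain ⟨a, ha, rfl⟩ := hx
    intro t
    obtain ⟨r, hr⟩ := exists_trace (R := R) (G := G) t
    refine ⟨r * a, J.mul_mem_left r ha, ?_⟩
    rw [map_mul, hr, Finset.sum_mul]
    exact Finset.sum_congr rfl fun σ _ => by rw [smul_mul', smul_algebraMap]
  | zero => exact fun t => ⟨0, J.zero_mem, by simp⟩
  | add x y _ _ h₁ h₂ =>
    intro t
    obtain ⟨r₁, m₁, e₁⟩ := h₁ t
    obtain ⟨r₂, m₂, e₂⟩ := h₂ t
    exact ⟨r₁ + r₂, J.add_mem m₁ m₂, by simp [mul_add, smul_add, Finset.sum_add_distrib, e₁, e₂]⟩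
  | smul c x _ h =>
    intro t
    obtain ⟨r, m, e⟩ := h (t * c)
    exact ⟨r, m, by rw [e, smul_eq_mul, mul_assoc]⟩

theorem eq_zero_of_forall_mem_pow [Finite G] [IsDomain R] [IsNoetherianRing R] [IsLocalRing R]
    [FaithfulSMul G S] [FaithfulSMul R S] {x : S}
    (hx : ∀ k : ℕ, x ∈ (IsLocalRing.maximalIdeal R ^ k).map (algebraMap R S)) : x = 0 := by
  classical
  cases nonempty_fintype G
  have hsum : ∀ t : S, ∑ σ : G, σ • x * σ • t = 0 := by
    intro t
    obtain ⟨r, hr⟩ := exists_trace (R := R) (G := G) (t * x)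
    have hr0 : algebraMap R S r = 0 := by
      have : r ∈ ⨅ k : ℕ, IsLocalRing.maximalIdeal R ^ k := by
        refine Ideal.mem_iInf.2 fun k => ?_
        obtain ⟨r', hr', e⟩ := exists_trace_mem (G := G) (hx k) t
        exact FaithfulSMul.algebraMap_injective R S (e.trans hr.symm) ▸ hr'
      rw [Ideal.iInf_pow_eq_bot_of_isDomain _ (IsLocalRing.maximalIdeal.isMaximal R).ne_top] at this
      rw [Ideal.mem_bot.1 this, map_zero]
    rw [hr0] at hr
    rw [hr]
    exact Finset.sum_congr rfl fun σ _ => by rw [smul_mul', mul_comm]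
  let f : G → S →* S := fun σ => (MulSemiringAction.toRingHom G S σ).toMonoidHom
  have hf : Function.Injective f := fun σ τ h => FaithfulSMul.eq_of_smul_eq_smul (α := S) fun y =>
    DFunLike.congr_fun h y
  have hli : LinearIndependent S (fun σ : G => ((f σ : S →* S) : S → S)) :=
    (linearIndependent_monoidHom S S).comp f hf
  have := Fintype.linearIndependent_iff.1 hli (fun σ => σ • x) (funext fun t => by
    simpa [Finset.sum_apply, f] using hsum t) 1
  simpa using this

variable (n : Ideal S) [n.IsMaximal]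

/-- evaluation of a polynomial over `R` -/
theorem aeval_def' {p : R[X]} {x : S} : aeval x p = (p.map (algebraMap R S)).eval x := by
  rw [Polynomial.eval_map, Polynomial.aeval_def]

omit [IsDomain S] [n.IsMaximal] in
theorem aeval_mk (m : Ideal R) [n.LiesOver m] (θ : S) (p : R[X]) :
    aeval (Ideal.Quotient.mk n θ) (p.map (Ideal.Quotient.mk m)) = Ideal.Quotient.mk n (aeval θ p) := by
  rw [← Ideal.Quotient.algebraMap_eq m, Polynomial.aeval_map_algebraMap,
    ← Ideal.Quotient.algebraMap_eq n, Polynomial.aeval_algebraMap_apply]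

/-- Unramified at `n` implies trivial inertia. -/
theorem inertia_eq_bot_of_map_eq [Finite G] [IsDomain R] [IsNoetherianRing R] [IsLocalRing R]
    [FaithfulSMul G S] [FaithfulSMul R S] [n.LiesOver (IsLocalRing.maximalIdeal R)]
    (hmS : (IsLocalRing.maximalIdeal R).map (algebraMap R S) = n)
    [Module.Finite (R ⧸ IsLocalRing.maximalIdeal R) (S ⧸ n)]
    [Algebra.IsSeparable (R ⧸ IsLocalRing.maximalIdeal R) (S ⧸ n)] :
    n.toAddSubgroup.inertia G = ⊥ := by
  classical
  let _ := Ideal.Quotient.field (IsLocalRing.maximalIdeal R)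
  let _ := Ideal.Quotient.field n
  obtain ⟨α, hα⟩ := Field.exists_primitive_element (R ⧸ IsLocalRing.maximalIdeal R) (S ⧸ n)
  obtain ⟨θ, rfl⟩ := Ideal.Quotient.mk_surjective α
  have hadj : ∀ s : S, ∃ p : R[X], s - aeval θ p ∈ n := by
    intro s
    have hmem : Ideal.Quotient.mk n s ∈
        Algebra.adjoin (R ⧸ IsLocalRing.maximalIdeal R) {Ideal.Quotient.mk n θ} := by
      rw [← IntermediateField.adjoin_simple_toSubalgebra_of_isAlgebraic
        (Algebra.IsAlgebraic.isAlgebraic _), hα]
      trivial
    rw [Algebra.adjoin_singleton_eq_range_aeval] at hmem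
    obtain ⟨q, hq⟩ := hmem
    obtain ⟨p, rfl⟩ := Polynomial.map_surjective _ Ideal.Quotient.mk_surjective q
    refine ⟨p, Ideal.Quotient.eq.1 ?_⟩
    exact hq.symm.trans (aeval_mk n (IsLocalRing.maximalIdeal R) θ p)
  obtain ⟨g, hg⟩ := Polynomial.map_surjective (Ideal.Quotient.mk (IsLocalRing.maximalIdeal R))
    Ideal.Quotient.mk_surjective (minpoly (R ⧸ IsLocalRing.maximalIdeal R) (Ideal.Quotient.mk n θ))
  have hgθ : aeval θ g ∈ n := by
    rw [← Ideal.Quotient.eq_zero_iff_mem, ← aeval_mk n (IsLocalRing.maximalIdeal R), hg]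
    exact minpoly.aeval _ _
  have hg' : aeval θ (derivative g) ∉ n := by
    rw [← Ideal.Quotient.eq_zero_iff_mem, ← aeval_mk n (IsLocalRing.maximalIdeal R), ← derivative_map, hg]
    exact (Algebra.IsSeparable.isSeparable (R ⧸ IsLocalRing.maximalIdeal R)
      (Ideal.Quotient.mk n θ)).aeval_derivative_ne_zero (minpoly.aeval _ _)
  refine (Subgroup.eq_bot_iff_forall _).2 fun σ hσ => ?_
  have hσn : ∀ s : S, σ • s - s ∈ n := hσ
  have key : ∀ k : ℕ, ∀ s : S,
      σ • s - s ∈ (IsLocalRing.maximalIdeal R ^ k).map (algebraMap R S) := by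
    intro k
    induction k with
    | zero => intro s; simp [Ideal.map_top]
    | succ k ih =>
      have hstep : ∀ w ∈ n, σ • w - w ∈
          (IsLocalRing.maximalIdeal R ^ (k + 1)).map (algebraMap R S) := by
        rw [pow_succ', Ideal.map_mul, hmS]
        intro w hw
        have hw' : w ∈ (IsLocalRing.maximalIdeal R).map (algebraMap R S) := hmS.symm ▸ hw
        clear hw
        induction hw' using Submodule.span_induction with
        | mem x hx =>
          obtain ⟨a, -, rfl⟩ := hx
          simp [smul_algebraMap]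
        | zero => simp
        | add x y _ _ h₁ h₂ => rw [smul_add, add_sub_add_comm]; exact add_mem h₁ h₂
        | smul c x hx h =>
          have hxn : x ∈ n := hmS ▸ hx
          have hσx : σ • x ∈ n := by
            have := n.add_mem (hσn x) hxn
            simpa using this
          rw [smul_eq_mul, smul_mul', show σ • c * σ • x - c * x =
            σ • x * (σ • c - c) + c * (σ • x - x) by ring]
          exact add_mem (Ideal.mul_mem_mul hσx (ih c)) (Ideal.mul_mem_left _ _ h)
      have hp : ∀ p : R[X], σ • aeval θ p = aeval (σ • θ) p := fun p =>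
        (Polynomial.aeval_algHom_apply (MulSemiringAction.toAlgHom R S σ) θ p).symm
      have hx : σ • θ - θ ∈ (IsLocalRing.maximalIdeal R ^ (k + 1)).map (algebraMap R S) := by
        obtain ⟨c, hc⟩ := Polynomial.binomExpansion (g.map (algebraMap R S)) θ (σ • θ - θ)
        rw [add_sub_cancel, ← aeval_def', ← aeval_def', derivative_map, ← aeval_def', ← hp] at hc
        have hu : aeval θ (derivative g) + c * (σ • θ - θ) ∉ n := fun h => hg'
          (by simpa using n.sub_mem h (Ideal.mul_mem_left n c (hσn θ)))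
        obtain ⟨v, w, hw, hv⟩ := Ideal.IsMaximal.exists_inv ‹n.IsMaximal› hu
        have e : σ • θ - θ = v * (σ • aeval θ g - aeval θ g) + w * (σ • θ - θ) := by
          linear_combination (-(σ • θ - θ)) * hv + (-v) * hc
        rw [e]
        refine add_mem (Ideal.mul_mem_left _ _ (hstep _ hgθ)) ?_
        rw [pow_succ', Ideal.map_mul, hmS]
        exact Ideal.mul_mem_mul hw (ih θ)
      intro s
      obtain ⟨p, hps⟩ := hadj s
      have e : σ • s - s = (σ • (s - aeval θ p) - (s - aeval θ p)) +
          (aeval (σ • θ) p - aeval θ p) := by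
        rw [smul_sub, hp]; ring
      rw [e]
      refine add_mem (hstep _ hps) ?_
      obtain ⟨d, hd⟩ := Polynomial.sub_dvd_eval_sub (σ • θ) θ (p.map (algebraMap R S))
      rw [← aeval_def', ← aeval_def'] at hd
      rw [hd]
      exact Ideal.mul_mem_right _ _ hx
  exact FaithfulSMul.eq_of_smul_eq_smul (α := S) fun s => by
    rw [one_smul]
    exact sub_eq_zero.1 (eq_zero_of_forall_mem_pow (G := G) fun k => key k s)

section Conversely

variable [IsLocalRing S] [Finite G]

omit [IsDomain S] [Finite G] [n.IsMaximal] [SMulCommClass G R S] [IsGaloisGroup G R S] in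
theorem smul_mem_iff (σ : G) {x : S} :
    σ • x ∈ IsLocalRing.maximalIdeal S ↔ x ∈ IsLocalRing.maximalIdeal S := by
  rw [IsLocalRing.mem_maximalIdeal, IsLocalRing.mem_maximalIdeal, mem_nonunits_iff, mem_nonunits_iff]
  exact not_congr ⟨fun h => by simpa using h.map (MulSemiringAction.toRingHom G S σ⁻¹),
    fun h => h.map (MulSemiringAction.toRingHom G S σ)⟩

omit [n.IsMaximal] [SMulCommClass G R S] [IsGaloisGroup G R S] [IsDomain S] in
/-- An element whose conjugates have pairwise distinct residues. -/
theorem exists_conjugates_distinct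
    (h : (IsLocalRing.maximalIdeal S).toAddSubgroup.inertia G = ⊥) :
    ∃ θ : S, ∀ σ τ : G, σ • θ - τ • θ ∈ IsLocalRing.maximalIdeal S → σ = τ := by
  classical
  let mk := Ideal.Quotient.mk (IsLocalRing.maximalIdeal S)
  let φ : G → (S ⧸ IsLocalRing.maximalIdeal S) →+* (S ⧸ IsLocalRing.maximalIdeal S) := fun σ =>
    Ideal.quotientMap _ (MulSemiringAction.toRingHom G S σ) fun x hx => (smul_mem_iff σ).2 hx
  have hφ : ∀ σ x, φ σ (mk x) = mk (σ • x) := fun σ x => rfl
  let _ := Ideal.Quotient.field (IsLocalRing.maximalIdeal S)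
  let act : MulSemiringAction G (S ⧸ IsLocalRing.maximalIdeal S) :=
    { smul := fun σ x => φ σ x
      one_smul := fun x => by
        obtain ⟨x, rfl⟩ := Ideal.Quotient.mk_surjective x
        exact (hφ 1 x).trans (by rw [one_smul])
      mul_smul := fun σ τ x => by
        obtain ⟨x, rfl⟩ := Ideal.Quotient.mk_surjective x
        show φ (σ * τ) (mk x) = φ σ (φ τ (mk x))
        rw [hφ, hφ, hφ, mul_smul]
      smul_zero := fun σ => map_zero (φ σ)
      smul_add := fun σ => map_add (φ σ)
      smul_one := fun σ => map_one (φ σ)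
      smul_mul := fun σ => map_mul (φ σ) }
  obtain ⟨α, hα⟩ := Field.exists_primitive_element
    (FixedPoints.subfield G (S ⧸ IsLocalRing.maximalIdeal S)) (S ⧸ IsLocalRing.maximalIdeal S)
  obtain ⟨θ, rfl⟩ := Ideal.Quotient.mk_surjective α
  refine ⟨θ, fun σ τ hστ => ?_⟩
  have hρ : (τ⁻¹ * σ) • mk θ = mk θ := by
    have h2 : φ τ⁻¹ (mk (σ • θ)) = φ τ⁻¹ (mk (τ • θ)) := by rw [(Ideal.Quotient.eq).2 hστ]
    rw [hφ, hφ, inv_smul_smul, ← mul_smul] at h2
    exact (hφ _ _).trans h2
  have hall : ∀ y : S ⧸ IsLocalRing.maximalIdeal S, (τ⁻¹ * σ) • y = y := by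
    intro y
    have hy : y ∈ IntermediateField.adjoin
        (FixedPoints.subfield G (S ⧸ IsLocalRing.maximalIdeal S)) {mk θ} := by
      rw [show mk θ = Ideal.Quotient.mk _ θ from rfl, hα]; trivial
    induction hy using IntermediateField.adjoin_induction with
    | mem x hx => rw [Set.mem_singleton_iff.1 hx]; exact hρ
    | algebraMap x => exact x.2 _
    | add x y _ _ hx hy => rw [smul_add, hx, hy]
    | inv x _ hx => rw [smul_inv'', hx]
    | mul x y _ _ hx hy => rw [smul_mul', hx, hy]
  have hmem : τ⁻¹ * σ ∈ (IsLocalRing.maximalIdeal S).toAddSubgroup.inertia G := fun x =>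
    (Ideal.Quotient.eq).1 ((hφ _ x).symm.trans (hall (mk x)))
  rw [h, Subgroup.mem_bot] at hmem
  exact (inv_mul_eq_one.1 hmem).symm

/-- An element with pairwise distinct residues of conjugates generates. -/
theorem exists_coeffs {θ : S} {g : ℕ} (e : Fin g ≃ G)
    (hθ : ∀ σ τ : G, σ • θ - τ • θ ∈ IsLocalRing.maximalIdeal S → σ = τ) (s : S) :
    ∃ a : Fin g → R, ∀ σ : G, σ • s = ∑ j : Fin g, algebraMap R S (a j) * (σ • θ) ^ (j : ℕ) := by
  classical
  let V : Matrix (Fin g) (Fin g) S := Matrix.vandermonde fun i => e i • θ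
  have hdet : IsUnit V.det := by
    rw [Matrix.det_vandermonde]
    refine IsLocalRing.notMem_maximalIdeal.1 fun hmem => ?_
    obtain ⟨i, -, hi⟩ := Ideal.IsPrime.prod_mem_iff.1 hmem
    obtain ⟨j, hj, hij⟩ := Ideal.IsPrime.prod_mem_iff.1 hi
    exact (Finset.mem_Ioi.1 hj).ne' (e.injective (hθ _ _ hij))
  have hV : Function.Injective V.mulVec :=
    Matrix.mulVec_injective_of_isUnit ((Matrix.isUnit_iff_isUnit_det V).2 hdet)
  let b : Fin g → S := fun i => e i • s
  let a : Fin g → S := V⁻¹.mulVec b
  have ha : V.mulVec a = b := by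
    rw [Matrix.mulVec_mulVec, Matrix.mul_nonsing_inv V hdet, Matrix.one_mulVec]
  have key : ∀ τ : G, (fun j => τ • a j) = a := by
    intro τ
    refine hV (funext fun i => ?_)
    have h1 := congrArg (τ • ·) (congrFun ha (e.symm (τ⁻¹ * e i)))
    simp only [Matrix.mulVec, dotProduct, V, b, Matrix.vandermonde_apply, Equiv.apply_symm_apply,
      Finset.smul_sum, smul_mul', smul_pow', ← mul_smul, mul_inv_cancel_left] at h1
    rw [ha]
    simpa [Matrix.mulVec, dotProduct, V, b, Matrix.vandermonde_apply] using h1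
  have hr : ∀ j, ∃ r : R, algebraMap R S r = a j := fun j =>
    Algebra.IsInvariant.isInvariant (G := G) (a j) fun τ => congrFun (key τ) j
  choose r hr using hr
  refine ⟨r, fun σ => ?_⟩
  have h1 := congrFun ha (e.symm σ)
  simp only [Matrix.mulVec, dotProduct, V, b, Matrix.vandermonde_apply, Equiv.apply_symm_apply] at h1
  rw [← h1]
  exact Finset.sum_congr rfl fun j _ => by rw [hr, mul_comm]

variable [IsLocalRing R] [(IsLocalRing.maximalIdeal S).LiesOver (IsLocalRing.maximalIdeal R)]

/-- Trivial inertia implies unramified. -/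
theorem unramified_of_inertia_eq_bot
    (h : (IsLocalRing.maximalIdeal S).toAddSubgroup.inertia G = ⊥) :
    (IsLocalRing.maximalIdeal R).map (algebraMap R S) = IsLocalRing.maximalIdeal S ∧
      Module.Finite (R ⧸ IsLocalRing.maximalIdeal R) (S ⧸ IsLocalRing.maximalIdeal S) ∧
      Algebra.IsSeparable (R ⧸ IsLocalRing.maximalIdeal R) (S ⧸ IsLocalRing.maximalIdeal S) := by
  classical
  cases nonempty_fintype G
  let mk := Ideal.Quotient.mk (IsLocalRing.maximalIdeal S)
  let _ := Ideal.Quotient.field (IsLocalRing.maximalIdeal R)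
  let _ := Ideal.Quotient.field (IsLocalRing.maximalIdeal S)
  obtain ⟨θ, hθ⟩ := exists_conjugates_distinct h
  let e : Fin (Fintype.card G) ≃ G := (Fintype.equivFin G).symm
  have hinj : Function.Injective fun σ : G => mk (σ • θ) := fun σ τ hστ =>
    hθ σ τ (Ideal.Quotient.eq.1 hστ)
  have hmS : (IsLocalRing.maximalIdeal R).map (algebraMap R S) = IsLocalRing.maximalIdeal S := by
    refine le_antisymm (Ideal.map_le_iff_le_comap.2
      (Ideal.LiesOver.over (P := IsLocalRing.maximalIdeal S) (p := IsLocalRing.maximalIdeal R)).le)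
      fun s hs => ?_
    obtain ⟨a, ha⟩ := exists_coeffs (R := R) e hθ s
    have h0 : ∀ i, ∑ j, mk (algebraMap R S (a j)) * mk (e i • θ) ^ (j : ℕ) = 0 := fun i => by
      simp only [← map_pow, ← map_mul, ← map_sum, ← ha]
      exact Ideal.Quotient.eq_zero_iff_mem.2 ((smul_mem_iff _).2 hs)
    have hz : (fun j => mk (algebraMap R S (a j))) = 0 := by
      refine Matrix.eq_zero_of_forall_index_sum_mul_pow_eq_zero (f := fun i => mk (e i • θ))
        (hinj.comp e.injective) h0
    have hs' : s = ∑ j, algebraMap R S (a j) * θ ^ (j : ℕ) := by simpa using ha 1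
    rw [hs']
    refine Ideal.sum_mem _ fun j _ => Ideal.mul_mem_right _ _ (Ideal.mem_map_of_mem _ ?_)
    rw [Ideal.mem_of_liesOver (IsLocalRing.maximalIdeal S)]
    exact Ideal.Quotient.eq_zero_iff_mem.1 (congrFun hz j)
  have hsep : IsSeparable (R ⧸ IsLocalRing.maximalIdeal R) (mk θ) := by
    obtain ⟨f, hf⟩ := Algebra.IsInvariant.charpoly_mem_lifts R S G θ
    have hprod : (f.map (Ideal.Quotient.mk (IsLocalRing.maximalIdeal R))).map
        (algebraMap (R ⧸ IsLocalRing.maximalIdeal R) (S ⧸ IsLocalRing.maximalIdeal S)) =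
        ∏ σ : G, (X - C (mk (σ • θ))) := by
      rw [Polynomial.map_map, show (algebraMap (R ⧸ IsLocalRing.maximalIdeal R)
          (S ⧸ IsLocalRing.maximalIdeal S)).comp (Ideal.Quotient.mk _) =
          mk.comp (algebraMap R S) from RingHom.ext fun _ => rfl, ← Polynomial.map_map,
        show f.map (algebraMap R S) = MulSemiringAction.charpoly G θ from hf,
        MulSemiringAction.charpoly_eq, Polynomial.map_prod]
      simp [mk]
    refine Polynomial.Separable.of_dvd ((Polynomial.separable_map _).1
      (hprod ▸ Polynomial.separable_prod_X_sub_C_iff.2 hinj)) (minpoly.dvd _ _ ?_)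
    rw [Polynomial.aeval_def, ← Polynomial.eval_map, hprod, Polynomial.eval_prod]
    exact Finset.prod_eq_zero (Finset.mem_univ (1 : G)) (by simp)
  have htop : IntermediateField.adjoin (R ⧸ IsLocalRing.maximalIdeal R) {mk θ} = ⊤ := by
    refine eq_top_iff.2 fun y _ => ?_
    obtain ⟨s, rfl⟩ := Ideal.Quotient.mk_surjective y
    obtain ⟨a, ha⟩ := exists_coeffs (R := R) e hθ s
    rw [show s = ∑ j, algebraMap R S (a j) * θ ^ (j : ℕ) by simpa using ha 1, map_sum]
    refine sum_mem fun j _ => ?_
    rw [map_mul, map_pow]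
    exact mul_mem (IntermediateField.algebraMap_mem _ (Ideal.Quotient.mk _ (a j)))
      (pow_mem (IntermediateField.mem_adjoin_simple_self _ _) _)
  refine ⟨hmS, ?_, ?_⟩
  · have h1 := IntermediateField.adjoin.finiteDimensional hsep.isIntegral
    rw [htop] at h1
    exact Module.Finite.equiv IntermediateField.topEquiv.toLinearEquiv
  · have h1 := (IntermediateField.isSeparable_adjoin_simple_iff_isSeparable
      (R ⧸ IsLocalRing.maximalIdeal R) (S ⧸ IsLocalRing.maximalIdeal S)).2 hsep
    rw [htop] at h1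
    exact Algebra.IsSeparable.of_algHom _ _ IntermediateField.topEquiv.symm.toAlgHom

end Conversely

end Groth.EtaleAlgebra.InertiaTrivial
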