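import Groth.Agent.EtaleAlgebra.Monogenic
import Groth.Agent.EtaleAlgebra.DeformPInsep
import Mathlib.RingTheory.Polynomial.Eisenstein.Basic
import Mathlib.RingTheory.AdjoinRoot
import Mathlib.RingTheory.Polynomial.GaussLemma
import Mathlib.FieldTheory.KummerPolynomial

/-!
# Eliminating a wild ramification step of degree `p`

If `ϖ ^ p = u * π` and `u` cannot be approximated to infinite order by `∑ bᵢ ^ p π ^ i`, then a
root `x` of `X ^ p - π ^ (m + 1) X - π` eliminates the ramification.
-/

set_option autoImplicit false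
set_option linter.style.haveILetI false
set_option linter.overlappingInstances false
set_option linter.unusedSectionVars false
universe u

namespace Groth.EtaleAlgebra.InsepStep

open IsLocalRing EtRam Polynomial TensorProduct

section eis

variable {R : Type u} [CommRing R]

/-- The Eisenstein polynomial `X ^ p - π c X - π`. -/
noncomputable def eis (p : ℕ) (π c : R) : R[X] := X ^ p - (C (π * c) * X + C π)

theorem eis_map {S : Type u} [CommRing S] (φ : R →+* S) (p : ℕ) (π c : R) :
    (eis p π c).map φ = eis p (φ π) (φ c) := by simp [eis]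

theorem eis_degree_lt [Nontrivial R] {p : ℕ} (hp : 1 < p) (π c : R) :
    (C (π * c) * X + C π).degree < (p : WithBot ℕ) :=
  Polynomial.degree_linear_le.trans_lt (WithBot.coe_lt_coe.2 hp)

theorem eis_monic [Nontrivial R] {p : ℕ} (hp : 1 < p) (π c : R) : (eis p π c).Monic :=
  monic_X_pow_sub (eis_degree_lt hp π c)

theorem eis_natDegree [Nontrivial R] {p : ℕ} (hp : 1 < p) (π c : R) :
    (eis p π c).natDegree = p := by
  refine natDegree_eq_of_degree_eq_some ?_
  rw [eis, degree_sub_eq_left_of_degree_lt (by rw [degree_X_pow]; exact eis_degree_lt hp π c),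
    degree_X_pow]

theorem eis_aeval {S : Type u} [CommRing S] [Algebra R S] {p : ℕ} {π c : R} {x : S}
    (h : aeval x (eis p π c) = 0) :
    x ^ p = algebraMap R S π * (algebraMap R S c * x + 1) := by
  simp only [eis, map_sub, map_add, map_mul, map_pow, aeval_X, aeval_C, sub_eq_zero] at h
  rw [h]; ring

theorem eis_separable {K : Type u} [Field K] {p : ℕ} [CharP K p] {π c : K} (h : π * c ≠ 0) :
    (eis p π c).Separable := by
  refine (separable_def' _).2 ⟨0, -C (π * c)⁻¹, ?_⟩
  rw [zero_mul, zero_add]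
  simp only [eis, derivative_sub, derivative_X_pow, CharP.cast_eq_zero, map_zero, zero_mul,
    derivative_add, derivative_mul, derivative_C, derivative_X, mul_one, zero_add, add_zero,
    zero_sub, neg_mul, mul_neg, neg_neg, ← C_mul, inv_mul_cancel₀ h, C_1]

theorem eis_irreducible [IsDomain R] [IsDiscreteValuationRing R] (K : Type u) [Field K]
    [Algebra R K] [IsFractionRing R K] {p : ℕ} (hp : 1 < p) {π : R} (hπ : Irreducible π) (c : R) :
    Irreducible ((eis p π c).map (algebraMap R K)) := by
  have hm := eis_monic hp π c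
  have hd := eis_natDegree hp π c
  refine hm.irreducible_iff_irreducible_map_fraction_map.1 ?_
  have hP : Ideal.span {π} = maximalIdeal R := hπ.maximalIdeal_eq.symm
  refine IsEisensteinAt.irreducible (𝓟 := Ideal.span {π}) ⟨?_, fun {n} hn => ?_, ?_⟩
    (hP ▸ (maximalIdeal.isMaximal R).isPrime) hm.isPrimitive (by omega)
  · rw [hm.leadingCoeff, Ideal.mem_span_singleton]
    exact fun h => hπ.not_isUnit (isUnit_of_dvd_one h)
  · rw [hd] at hn
    rw [eis, coeff_sub, coeff_X_pow, if_neg (by omega), zero_sub, coeff_add, Ideal.mem_span_singleton,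
      dvd_neg]
    refine dvd_add ?_ ?_
    · rw [coeff_C_mul_X]
      split_ifs
      · exact dvd_mul_right _ _
      · exact dvd_zero _
    · rw [coeff_C]
      split_ifs
      · exact dvd_rfl
      · exact dvd_zero _
  · rw [eis, coeff_sub, coeff_X_pow, if_neg (by omega), zero_sub, coeff_add, coeff_C_mul_X,
      if_neg (by omega), coeff_C_zero, zero_add, Ideal.span_singleton_pow, Ideal.mem_span_singleton,
      dvd_neg]
    rintro ⟨d, hd⟩
    refine hπ.not_isUnit (IsUnit.of_mul_eq_one (b := d) ?_)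
    have : π * (π * d) = π * 1 := by rw [mul_one, ← mul_assoc, ← sq]; exact hd.symm
    exact mul_left_cancel₀ hπ.ne_zero this

end eis

/-- `E ⊗ K[X]/(f)` is a field if `f` stays irreducible over `E`. -/
theorem isField_tensor {K E : Type u} [Field K] [Field E] [Algebra K E] {f : K[X]} (hm : f.Monic)
    (hirr : Irreducible (f.map (algebraMap K E))) : IsField (E ⊗[K] AdjoinRoot f) := by
  have : Fact (Irreducible (f.map (algebraMap K E))) := ⟨hirr⟩
  let fE := f.map (algebraMap K E)
  have hr : aeval (AdjoinRoot.root fE) f = 0 := by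
    rw [← aeval_map_algebraMap E, AdjoinRoot.aeval_eq, AdjoinRoot.mk_self]
  let ψ : E ⊗[K] AdjoinRoot f →ₐ[E] AdjoinRoot fE :=
    Algebra.TensorProduct.lift (Algebra.ofId E _)
      (AdjoinRoot.liftAlgHom f (Algebra.ofId K _) (AdjoinRoot.root fE) hr)
      (fun _ _ => Commute.all _ _)
  have hsurj : Function.Surjective ψ := by
    rw [← AlgHom.range_eq_top, eq_top_iff, ← AdjoinRoot.adjoinRoot_eq_top (f := fE),
      Algebra.adjoin_le_iff, Set.singleton_subset_iff]
    refine ⟨1 ⊗ₜ AdjoinRoot.root f, (Algebra.TensorProduct.lift_tmul _ _ _ _ _).trans ?_⟩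
    rw [map_one, one_mul, AdjoinRoot.liftAlgHom_root]
  have : Module.Finite K (AdjoinRoot f) := (AdjoinRoot.powerBasis' hm).finite
  have hmE : fE.Monic := hm.map _
  have : Module.Finite E (AdjoinRoot fE) := (AdjoinRoot.powerBasis' hmE).finite
  have hdim : Module.finrank E (E ⊗[K] AdjoinRoot f) = Module.finrank E (AdjoinRoot fE) := by
    rw [Module.finrank_baseChange, (AdjoinRoot.powerBasis' hm).finrank,
      (AdjoinRoot.powerBasis' hmE).finrank, AdjoinRoot.powerBasis'_dim,
      AdjoinRoot.powerBasis'_dim, natDegree_map]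
  have hinj : Function.Injective ψ.toLinearMap :=
    (LinearMap.injective_iff_surjective_of_finrank_eq_finrank hdim).2 hsurj
  exact MulEquiv.isField (Field.toIsField (AdjoinRoot fE))
    (RingEquiv.ofBijective ψ.toRingHom ⟨hinj, hsurj⟩).toMulEquiv

/-- A subfield containing the base field and the root is everything. -/
theorem subfield_eq_top_of_adjoinRoot {K : Type u} [Field K] {f : K[X]} [Fact (Irreducible f)]
    (S : Subfield (AdjoinRoot f)) (hK : ∀ k : K, algebraMap K (AdjoinRoot f) k ∈ S)
    (hr : AdjoinRoot.root f ∈ S) : S = ⊤ := by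
  refine eq_top_iff.2 fun y _ => ?_
  have hy : y ∈ Algebra.adjoin K ({AdjoinRoot.root f} : Set (AdjoinRoot f)) := by
    rw [AdjoinRoot.adjoinRoot_eq_top]; exact Algebra.mem_top
  induction hy using Algebra.adjoin_induction with
  | mem z hz => rw [Set.mem_singleton_iff.1 hz]; exact hr
  | algebraMap k => exact hK k
  | add _ _ _ _ h1 h2 => exact add_mem (h1 trivial) (h2 trivial)
  | mul _ _ _ _ h1 h2 => exact mul_mem (h1 trivial) (h2 trivial)

/-- In an extension of prime degree an element outside the base generates. -/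
theorem subfield_eq_top_of_prime {L M : Type u} [Field L] [Field M] [Algebra L M] {p : ℕ}
    (hp : p.Prime) (hdeg : Module.finrank L M = p) (S : Subfield M)
    (hL : ∀ l : L, algebraMap L M l ∈ S) {c : M} (hcS : c ∈ S)
    (hc : c ∉ Set.range (algebraMap L M)) : S = ⊤ := by
  have : FiniteDimensional L M := Module.finite_of_finrank_pos (hdeg ▸ hp.pos)
  let I : IntermediateField L M := { S with algebraMap_mem' := hL }
  have hI : IntermediateField.adjoin L {c} ≤ I :=
    IntermediateField.adjoin_le_iff.2 (Set.singleton_subset_iff.2 hcS)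
  have htop : IntermediateField.adjoin L {c} = ⊤ := by
    have hdvd : Module.finrank L (IntermediateField.adjoin L {c}) ∣ p := by
      rw [← hdeg]
      exact ⟨_, (Module.finrank_mul_finrank L (IntermediateField.adjoin L {c}) M).symm⟩
    rcases (Nat.dvd_prime hp).1 hdvd with h | h
    · rw [IntermediateField.finrank_adjoin_simple_eq_one_iff, IntermediateField.mem_bot] at h
      exact absurd h hc
    · exact IntermediateField.eq_of_le_of_finrank_le le_top
        (by rw [h, IntermediateField.finrank_top', hdeg])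
  exact eq_top_iff.2 fun y _ => hI (htop ▸ IntermediateField.mem_top)

section orders

variable {B F : Type u} [CommRing B] [IsDomain B] [IsDiscreteValuationRing B] [Field F]
  [Algebra B F]

/-- The residue map into a quotient of an algebra in which the uniformizer dies. -/
noncomputable def residueHom {R : Type u} [CommRing R] [Algebra B R] (I : Ideal R) {π : B}
    (hπ : Irreducible π) (h : algebraMap B R π ∈ I) : ResidueField B →+* R ⧸ I :=
  Ideal.Quotient.lift (maximalIdeal B) ((Ideal.Quotient.mk I).comp (algebraMap B R)) fun b hb => by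
    rw [hπ.maximalIdeal_eq, Ideal.mem_span_singleton] at hb
    obtain ⟨c, rfl⟩ := hb
    rw [RingHom.comp_apply, map_mul]
    exact Ideal.Quotient.eq_zero_iff_mem.2 (I.mul_mem_right _ h)

theorem residueHom_residue {R : Type u} [CommRing R] [Algebra B R] (I : Ideal R) {π : B}
    (hπ : Irreducible π) (h : algebraMap B R π ∈ I) (b : B) :
    residueHom I hπ h (residue B b) = Ideal.Quotient.mk I (algebraMap B R b) := rfl

/-- Surjectivity onto a quotient of `B[S]` can be checked on generators. -/
theorem surjective_of_gens {S : Set F} (I : Ideal (Algebra.adjoin B S)) {k : Type u} [CommRing k]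
    (φ : k →+* (Algebra.adjoin B S) ⧸ I)
    (hb : ∀ b : B, Ideal.Quotient.mk I (algebraMap B _ b) ∈ φ.range)
    (hs : ∀ (s : F) (hs : s ∈ S), Ideal.Quotient.mk I ⟨s, Algebra.subset_adjoin hs⟩ ∈ φ.range) :
    Function.Surjective φ := by
  intro q
  obtain ⟨⟨a, ha⟩, rfl⟩ := Ideal.Quotient.mk_surjective q
  show Ideal.Quotient.mk I ⟨a, ha⟩ ∈ φ.range
  induction ha using Algebra.adjoin_induction with
  | mem s hs' => exact hs s hs'
  | algebraMap b => exact hb b
  | add a b ha hb h1 h2 =>
    show Ideal.Quotient.mk I (⟨a, ha⟩ + ⟨b, hb⟩) ∈ φ.range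
    rw [map_add]; exact add_mem h1 h2
  | mul a b ha hb h1 h2 =>
    show Ideal.Quotient.mk I (⟨a, ha⟩ * ⟨b, hb⟩) ∈ φ.range
    rw [map_mul]; exact mul_mem h1 h2

theorem finite_adjoin {S : Set F} (hf : S.Finite) (hS : ∀ s ∈ S, IsIntegral B s) :
    Module.Finite B (Algebra.adjoin B S) :=
  ⟨(Submodule.fg_top (Algebra.adjoin B S).toSubmodule).2 (fg_adjoin_of_finite hf hS)⟩

variable {p m : ℕ} {π : B} {x : F}

theorem isIntegral_root (hp : 1 < p)
    (hx : x ^ p = algebraMap B F π * (algebraMap B F (π ^ m) * x + 1)) : IsIntegral B x := by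
  refine ⟨eis p π (π ^ m), eis_monic hp _ _, ?_⟩
  rw [← aeval_def]
  simp only [eis, map_sub, map_add, map_mul, map_pow, aeval_X, aeval_C]
  rw [hx, map_pow]; ring

/-- Basic facts on an order containing a root of the Eisenstein polynomial. -/
theorem root_data {S : Set F} (hp : 1 < p) (hxS : x ∈ S)
    (hx : x ^ p = algebraMap B F π * (algebraMap B F (π ^ m) * x + 1)) :
    let x' : Algebra.adjoin B S := ⟨x, Algebra.subset_adjoin hxS⟩
    algebraMap B (Algebra.adjoin B S) π ∣ x' ^ p ∧
      algebraMap B (Algebra.adjoin B S) π ∈ Ideal.span {x'} ∧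
      x' ^ p = algebraMap B (Algebra.adjoin B S) π *
        (algebraMap B (Algebra.adjoin B S) (π ^ m) * x' + 1) := by
  intro x'
  have h : x' ^ p = algebraMap B (Algebra.adjoin B S) π *
      (algebraMap B (Algebra.adjoin B S) (π ^ m) * x' + 1) := Subtype.ext (by
        have hx' := hx; rw [map_pow] at hx'; push_cast; exact hx')
  refine ⟨⟨_, h⟩, ?_, h⟩
  obtain ⟨q, rfl⟩ : ∃ q, p = q + 1 := ⟨p - 1, by omega⟩
  refine Ideal.mem_span_singleton'.2
    ⟨x' ^ q - algebraMap B _ π * algebraMap B _ (π ^ m), ?_⟩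
  linear_combination h

/-- The order generated by the root is the only valuation ring dominating `B`. -/
theorem root_order (hinj : Function.Injective (algebraMap B F)) (hp : 1 < p) (hπ : Irreducible π)
    (hx : x ^ p = algebraMap B F π * (algebraMap B F (π ^ m) * x + 1))
    (hgen : Subfield.closure (Set.range (algebraMap B F) ∪ {x}) = ⊤) :
    (∃ W : ValuationSubring F, Dominates B (algebraMap B F) W) ∧
      ∀ W : ValuationSubring F, Dominates B (algebraMap B F) W →
        W.toSubring = (Algebra.adjoin B {x}).toSubring ∧ x ∈ W ∧ W.valuation x < 1 ∧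
          (∀ w, W.valuation w < 1 → ∃ c ∈ W, w = x * c) ∧
          ∀ w ∈ W, ∃ b : B, W.valuation (w - algebraMap B F b) < 1 := by
  have hint := isIntegral_root hp hx
  have := finite_adjoin (S := ({x} : Set F)) (Set.finite_singleton x) (by simpa using hint)
  have : Algebra.IsIntegral B (Algebra.adjoin B ({x} : Set F)) := Algebra.IsIntegral.of_finite B _
  obtain ⟨hdvd, hmem, -⟩ := root_data (S := ({x} : Set F)) hp rfl hx
  let x' : Algebra.adjoin B ({x} : Set F) := ⟨x, Algebra.subset_adjoin rfl⟩
  have hsurj : Function.Surjective (residueHom (Ideal.span {x'}) hπ hmem) := by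
    refine surjective_of_gens _ _ (fun b => ⟨residue B b, rfl⟩) fun s hs => ⟨0, ?_⟩
    rw [map_zero, eq_comm, Ideal.Quotient.eq_zero_iff_mem]
    obtain rfl := Set.mem_singleton_iff.1 hs
    exact Ideal.mem_span_singleton_self x'
  have hmax : (Ideal.span {x'}).IsMaximal :=
    Monog.isMaximal_of_surjective _ (Monog.span_ne_top hinj hπ hdvd) _ hsurj
  have hgen' : Subfield.closure ((Algebra.adjoin B ({x} : Set F) : Set F)) = ⊤ := by
    refine eq_top_iff.2 (hgen ▸ Subfield.closure_mono ?_)
    rintro y (⟨b, rfl⟩ | rfl)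
    · exact Subalgebra.algebraMap_mem _ b
    · exact x'.2
  refine ⟨Monog.exists_dominates hinj hπ hdvd hmax hgen', fun W hW => ?_⟩
  obtain ⟨hWR, hxW, hvx, hdiv⟩ := Monog.valuationSubring_eq hinj hπ hdvd hmax hgen' W hW
  have hRW : ∀ c : Algebra.adjoin B ({x} : Set F), (c : F) ∈ W := fun c =>
    hWR.ge (c.2 : (c : F) ∈ (Algebra.adjoin B ({x} : Set F)).toSubring)
  refine ⟨hWR, hxW, hvx, fun w hw => ?_, fun w hw => ?_⟩
  · obtain ⟨c, hc⟩ := hdiv w hw
    exact ⟨c, hRW c, hc⟩
  · obtain ⟨r, hr⟩ := hsurj (Ideal.Quotient.mk _ ⟨w, hWR.le hw⟩)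
    obtain ⟨b, rfl⟩ := residue_surjective r
    refine ⟨b, ?_⟩
    rw [residueHom_residue, Ideal.Quotient.eq, Ideal.mem_span_singleton'] at hr
    obtain ⟨d, hd⟩ := hr
    have hd' : w - algebraMap B F b = -((d : F) * x) := by
      have h := congrArg Subtype.val hd
      push_cast at h
      rw [h, neg_sub]
    rw [hd', Valuation.map_neg, map_mul]
    exact lt_of_le_of_lt (mul_le_of_le_one_left' ((W.valuation_le_one_iff _).2 (hRW d))) hvx

/-- The root eliminates the ramification of `ϖ ^ p = u * π`. -/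
theorem wild_order [Fact p.Prime] [CharP F p] (hinj : Function.Injective (algebraMap B F))
    (hπ : Irreducible π) (hx : x ^ p = algebraMap B F π * (algebraMap B F (π ^ m) * x + 1))
    {ϖ : F} {u v : B} (hϖ : ϖ ^ p = algebraMap B F u * algebraMap B F π) (f : ℕ → B)
    (huv : u = ∑ i ∈ Finset.range p, f i ^ p * π ^ i + π ^ m * v)
    (hv : ∀ r : ResidueField B, r ^ p ≠ residue B v)
    (hgen : Subfield.closure (Set.range (algebraMap B F) ∪ {x, ϖ}) = ⊤)
    (W : ValuationSubring F) (hW : Dominates B (algebraMap B F) W) :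
    x ∈ W ∧ W.valuation x < 1 ∧ ∀ w, W.valuation w < 1 → ∃ c ∈ W, w = x * c := by
  have hp : 1 < p := (Fact.out : p.Prime).one_lt
  have hint := isIntegral_root hp hx
  -- inside `R₁ = B[x]`
  let R₁ := Algebra.adjoin B ({x} : Set F)
  have := finite_adjoin (S := ({x} : Set F)) (Set.finite_singleton x) (by simpa using hint)
  have : Algebra.IsIntegral B R₁ := Algebra.IsIntegral.of_finite B _
  obtain ⟨hdvd₁, hmem₁, hx₁⟩ := root_data (S := ({x} : Set F)) hp rfl hx
  let x₁ : R₁ := ⟨x, Algebra.subset_adjoin rfl⟩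
  have hsurj₁ : Function.Surjective (residueHom (Ideal.span {x₁}) hπ hmem₁) := by
    refine surjective_of_gens _ _ (fun b => ⟨residue B b, rfl⟩) fun s hs => ⟨0, ?_⟩
    rw [map_zero, eq_comm, Ideal.Quotient.eq_zero_iff_mem]
    obtain rfl := Set.mem_singleton_iff.1 hs
    exact Ideal.mem_span_singleton_self x₁
  have hmax₁ : (Ideal.span {x₁}).IsMaximal :=
    Monog.isMaximal_of_surjective _ (Monog.span_ne_top hinj hπ hdvd₁) _ hsurj₁
  let ι := algebraMap B R₁
  let e : R₁ := ι (π ^ m) * x₁ + 1
  have hem : ι (π ^ m) * x₁ ∈ Ideal.span {x₁} :=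
    Ideal.mul_mem_left _ _ (Ideal.mem_span_singleton_self x₁)
  have he : IsUnit e := Monog.isUnit_of_notMem hπ hdvd₁ hmax₁ fun h => by
    refine hmax₁.ne_top (Ideal.eq_top_of_isUnit_mem _ ?_ isUnit_one)
    have := sub_mem h hem
    rwa [add_sub_cancel_left] at this
  obtain ⟨e', he'⟩ := he.exists_left_inv
  have : CharP R₁ p := (CharP.charP_iff_prime_eq_zero (Fact.out : p.Prime)).2
    (Subtype.ext (by push_cast; exact CharP.cast_eq_zero F p))
  let w₁ : R₁ := ∑ i ∈ Finset.range p, ι (f i) * x₁ ^ i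
  let g : R₁ := ∑ i ∈ Finset.range p, ι (f i ^ p * π ^ i) * ∑ j ∈ Finset.range i, e ^ j
  have hw₁ : w₁ ^ p = ι (∑ i ∈ Finset.range p, f i ^ p * π ^ i) + (e - 1) * g := by
    simp only [w₁, g, sum_pow_char, map_sum, Finset.mul_sum, ← Finset.sum_add_distrib]
    refine Finset.sum_congr rfl fun i _ => ?_
    have hgs : (e - 1) * ∑ j ∈ Finset.range i, e ^ j = e ^ i - 1 := mul_geom_sum e i
    rw [← mul_sum_helper e (ι (f i ^ p * π ^ i)) i, hgs, mul_pow, ← pow_mul, mul_comm i p, pow_mul,
      hx₁, mul_pow]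
    simp only [e, ι, x₁, map_mul, map_pow]
    ring
  let r : R₁ := (ι v + x₁ * (-g - w₁ ^ p)) * e' ^ (m + 1)
  -- the new generator
  have hx0 : x ≠ 0 := by
    intro h0
    have h1 : algebraMap B F π = 0 := by
      rw [h0, zero_pow (Fact.out : p.Prime).ne_zero, mul_zero, zero_add, mul_one] at hx
      exact hx.symm
    exact hπ.ne_zero (hinj (h1.trans (map_zero _).symm))
  let z : F := (ϖ / x - (w₁ : F)) / x ^ m
  have hz : z ^ p = (r : F) := by
    have hπF : algebraMap B F π ≠ 0 := (map_ne_zero_iff _ hinj).2 hπ.ne_zero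
    have heF : (e' : F) * (e : F) = 1 := by exact_mod_cast congrArg Subtype.val he'
    have heF0 : (e : F) ≠ 0 := right_ne_zero_of_mul_eq_one heF
    have hee : (e' : F) = (e : F)⁻¹ := eq_inv_of_mul_eq_one_left heF
    have hw₁F := congrArg Subtype.val hw₁
    have heval : (e : F) = algebraMap B F π ^ m * x + 1 := by simp [e, ι, x₁]
    have hxp : x ^ p = algebraMap B F π * (e : F) := by rw [hx, heval, map_pow]
    have huF : algebraMap B F u = algebraMap B F (∑ i ∈ Finset.range p, f i ^ p * π ^ i) +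
        algebraMap B F π ^ m * algebraMap B F v := by rw [huv, map_add, map_mul, map_pow]
    show ((ϖ / x - (w₁ : F)) / x ^ m) ^ p = _
    rw [div_pow, sub_pow_char, div_pow, ← pow_mul, mul_comm m p, pow_mul, hϖ, hxp]
    simp only [r, ι, x₁]
    push_cast
    rw [hee]
    simp only [MulMemClass.coe_mul, AddMemClass.coe_add, AddSubgroupClass.coe_sub,
      SubmonoidClass.coe_pow, Subalgebra.coe_algebraMap, OneMemClass.coe_one, ι] at hw₁F
    rw [huF, mul_pow, inv_pow]
    field_simp
    rw [hw₁F, heval]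
    ring
  have hzint : IsIntegral B z := by
    refine IsIntegral.of_pow (Fact.out : p.Prime).pos ?_
    rw [hz]
    exact (Algebra.IsIntegral.isIntegral (R := B) r).map R₁.val
  -- the order `R₂ = B[x, z]`
  let R₂ := Algebra.adjoin B ({x, z} : Set F)
  have := finite_adjoin (S := ({x, z} : Set F)) ((Set.finite_singleton z).insert x)
    (fun s hs => by
      rcases hs with hs | hs
      · exact hs ▸ hint
      · exact (Set.mem_singleton_iff.1 hs) ▸ hzint)
  have : Algebra.IsIntegral B R₂ := Algebra.IsIntegral.of_finite B _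
  obtain ⟨hdvd, hmem, -⟩ := root_data (S := ({x, z} : Set F)) hp (Or.inl rfl) hx
  let x₂ : R₂ := ⟨x, Algebra.subset_adjoin (Or.inl rfl)⟩
  let z₂ : R₂ := ⟨z, Algebra.subset_adjoin (Or.inr rfl)⟩
  let j : R₁ →ₐ[B] R₂ := Subalgebra.inclusion
    (Algebra.adjoin_mono (Set.singleton_subset_iff.2 (Or.inl rfl)))
  let q := Ideal.Quotient.mk (Ideal.span {x₂})
  have hqx : q x₂ = 0 := Ideal.Quotient.eq_zero_iff_mem.2 (Ideal.mem_span_singleton_self x₂)
  have hqe : q (j e') = 1 := by
    have h1 := congrArg (q ∘ j) he'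
    have hjx : j x₁ = x₂ := Subtype.ext rfl
    simp only [Function.comp_apply, map_mul, map_one, e, ι, map_add, hjx, hqx, mul_zero,
      zero_add, mul_one] at h1
    exact h1
  have hqz : q z₂ ^ p = q (algebraMap B R₂ v) := by
    have hzr : z₂ ^ p = j r := Subtype.ext (by push_cast; exact hz)
    have hjx : j x₁ = x₂ := Subtype.ext rfl
    rw [← map_pow, hzr]
    simp only [r, ι, map_mul, map_add, map_pow, hjx, hqx, hqe, zero_mul, add_zero, one_pow,
      mul_one, AlgHom.commutes]
  let h : (ResidueField B)[X] := X ^ p - C (residue B v)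
  have : Fact (Irreducible h) := ⟨X_pow_sub_C_irreducible_of_prime Fact.out hv⟩
  let φ : AdjoinRoot h →+* R₂ ⧸ Ideal.span {x₂} :=
    AdjoinRoot.lift (residueHom _ hπ hmem) (q z₂) (by
      rw [eval₂_sub, eval₂_X_pow, eval₂_C, residueHom_residue, hqz, sub_self])
  have hsurj : Function.Surjective φ := by
    refine surjective_of_gens _ _ (fun b => ⟨AdjoinRoot.of h (residue B b), by
      rw [AdjoinRoot.lift_of, residueHom_residue]⟩) fun s hs => ?_
    rcases hs with hs' | hs'
    · subst hs'
      exact ⟨0, by rw [map_zero]; exact hqx.symm⟩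
    · obtain rfl := Set.mem_singleton_iff.1 hs'
      exact ⟨AdjoinRoot.root h, AdjoinRoot.lift_root _⟩
  have hmax : (Ideal.span {x₂}).IsMaximal :=
    Monog.isMaximal_of_surjective _ (Monog.span_ne_top hinj hπ hdvd) φ hsurj
  have hgen' : Subfield.closure (R₂ : Set F) = ⊤ := by
    refine eq_top_iff.2 (hgen ▸ Subfield.closure_mono ?_)
    rintro y (⟨b, rfl⟩ | hy | hy)
    · exact Subalgebra.algebraMap_mem _ b
    · exact hy ▸ x₂.2
    · rw [Set.mem_singleton_iff.1 hy]
      have hϖR : ϖ = x * (z * x ^ m + (w₁ : F)) := by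
        simp only [z]
        field_simp
        ring
      rw [hϖR]
      exact mul_mem x₂.2 (add_mem (mul_mem z₂.2 (pow_mem x₂.2 m)) (j w₁).2)
  obtain ⟨hWR, hxW, hvx, hdiv⟩ := Monog.valuationSubring_eq hinj hπ hdvd hmax hgen' W hW
  refine ⟨hxW, hvx, fun w hw => ?_⟩
  obtain ⟨c, hc⟩ := hdiv w hw
  exact ⟨c, hWR.ge (c.2 : (c : F) ∈ R₂.toSubring), hc⟩
where
  mul_sum_helper {R : Type u} [CommRing R] (e a : R) (i : ℕ) :
      a * ((e - 1) * ∑ j ∈ Finset.range i, e ^ j) = ∑ j ∈ Finset.range i, (e - 1) * (a * e ^ j) := by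
    rw [Finset.mul_sum, Finset.mul_sum]
    exact Finset.sum_congr rfl fun j _ => mul_left_comm _ _ _

/-- An element generating the maximal ideal upstairs gives weak unramifiedness. -/
theorem weaklyUnramified_of {K₁ : Type u} [Field K₁] (W : ValuationSubring F) (f : K₁ →+* F)
    (x₀ : K₁) (hx : W.valuation (f x₀) < 1)
    (hdiv : ∀ w, W.valuation w < 1 → ∃ c ∈ W, w = f x₀ * c) :
    letI : Algebra (W.comap f) W := (inclOfComap W f).toAlgebra
    IsWeaklyUnramified (W.comap f) W := by
  let _ : Algebra (W.comap f) W := (inclOfComap W f).toAlgebra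
  show (maximalIdeal (W.comap f)).map (algebraMap (W.comap f) W) = maximalIdeal W
  have : IsLocalHom (algebraMap (W.comap f) W) := isLocalHom_inclOfComap W f
  refine le_antisymm
    (((IsLocalRing.local_hom_TFAE (algebraMap (W.comap f) W)).out 0 2 rfl rfl).1 inferInstance) ?_
  intro w hw
  obtain ⟨c, hc, hwc⟩ := hdiv (w : F) ((W.valuation_lt_one_iff w).1 hw)
  let x' : W.comap f := ⟨x₀, (W.valuation_le_one_iff _).1 hx.le⟩
  have hw' : w = algebraMap (W.comap f) W x' * ⟨c, hc⟩ := Subtype.ext hwc
  rw [hw']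
  refine Ideal.mul_mem_right _ _ (Ideal.mem_map_of_mem _ ((mem_maximalIdeal _).2 fun hu => ?_))
  exact absurd ((W.valuation_eq_one_iff _).1 (hu.map (algebraMap (W.comap f) W))) hx.ne

end orders

end Groth.EtaleAlgebra.InsepStep
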