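import Mathlib.FieldTheory.KummerExtension
import Mathlib.RingTheory.DedekindDomain.Factorization
import Mathlib.RingTheory.ClassGroup.Basic

/-!
# Kummer extensions: degree of `K(α)` and torsion-freeness of fractional ideals
-/

open Polynomial IntermediateField

open scoped nonZeroDivisors

namespace Groth.EtaleAlgebra.KummerClassGroup

variable {K L : Type*} [Field K] [Field L] [Algebra K L]

/-- If `α ^ n ∈ K` and `K` contains the `n`-th roots of unity then `α ^ d ∈ K` with
`d = deg_K α`, and `d ∣ n`. -/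
theorem exists_pow_natDegree_eq {n : ℕ} [NeZero n] {ζ : K} (hζ : IsPrimitiveRoot ζ n) {α : L} {f : K}
    (hf : f ≠ 0) (hα : α ^ n = algebraMap K L f) :
    (minpoly K α).natDegree ∣ n ∧ ∃ g : K, α ^ (minpoly K α).natDegree = algebraMap K L g := by
  classical
  have hα0 : α ≠ 0 := by
    rintro rfl
    rw [zero_pow (NeZero.ne n), eq_comm, map_eq_zero] at hα
    exact hf hα
  have hint : IsIntegral K α := ⟨X ^ n - C f, monic_X_pow_sub_C f (NeZero.ne n), by simp [hα]⟩
  have hζL : IsPrimitiveRoot (algebraMap K L ζ) n := hζ.map_of_injective (algebraMap K L).injective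
  set m := (minpoly K α).map (algebraMap K L) with hm
  have hdvd : m ∣ X ^ n - C (algebraMap K L f) := by
    have := Polynomial.map_dvd (algebraMap K L) (minpoly.dvd K α (p := X ^ n - C f) (by simp [hα]))
    simpa using this
  have hne : (X : L[X]) ^ n - C (algebraMap K L f) ≠ 0 := X_pow_sub_C_ne_zero (NeZero.pos n) _
  have hs : m.Splits := (X_pow_sub_C_splits_of_isPrimitiveRoot hζL hα).of_dvd hne hdvd
  have hroot : ∀ r ∈ m.roots, ∃ c : K, c ≠ 0 ∧ r = algebraMap K L c * α := by
    intro r hr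
    have hr' : (r / α) ^ n = 1 := by
      have h1 : r ^ n = algebraMap K L f := by
        have := (mem_roots'.1 hr).2.dvd hdvd
        simpa [sub_eq_zero] using this
      rw [div_pow, h1, ← hα, div_self (pow_ne_zero _ hα0)]
    obtain ⟨i, -, hi⟩ := hζL.eq_pow_of_pow_eq_one hr'
    exact ⟨ζ ^ i, pow_ne_zero _ (hζ.ne_zero (NeZero.ne n)), by rw [map_pow, hi, div_mul_cancel₀ r hα0]⟩
  have hprod : ∀ s : Multiset L, (∀ r ∈ s, ∃ c : K, c ≠ 0 ∧ r = algebraMap K L c * α) →
      ∃ c : K, c ≠ 0 ∧ s.prod = algebraMap K L c * α ^ Multiset.card s := by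
    intro s
    induction s using Multiset.induction with
    | empty => exact fun _ => ⟨1, one_ne_zero, by simp⟩
    | cons r s ih =>
      intro h
      obtain ⟨c, hc, rfl⟩ := h r (Multiset.mem_cons_self _ _)
      obtain ⟨e, he, hse⟩ := ih fun x hx => h x (Multiset.mem_cons_of_mem hx)
      exact ⟨c * e, mul_ne_zero hc he, by
        rw [Multiset.prod_cons, hse, Multiset.card_cons, map_mul, pow_succ]; ring⟩
  obtain ⟨c, hc, hpc⟩ := hprod _ hroot
  set d := (minpoly K α).natDegree with hd
  have hcard : Multiset.card m.roots = d := by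
    rw [← hs.natDegree_eq_card_roots, hm, natDegree_map]
  have h0 : m.coeff 0 = (-1) ^ d * m.roots.prod := by
    rw [hs.coeff_zero_eq_prod_roots_of_monic ((minpoly.monic hint).map _), hm, natDegree_map]
  rw [hpc, hcard, hm, coeff_map] at h0
  let F : IntermediateField K L := ⊥
  have hd' : α ^ d ∈ F := by
    have : α ^ d = algebraMap K L ((minpoly K α).coeff 0 * (-1) ^ d / c) := by
      rw [map_div₀, map_mul, h0, eq_div_iff (by simpa using hc), map_pow, map_neg, map_one]
      rw [mul_right_comm _ _ ((-1 : L) ^ d), ← mul_pow]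
      simp [mul_comm]
    rw [this]; exact F.algebraMap_mem _
  have hn' : α ^ n ∈ F := hα ▸ F.algebraMap_mem _
  refine ⟨?_, (IntermediateField.mem_bot.1 hd').imp fun _ h => h.symm⟩
  have he : α ^ (Nat.gcd d n) ∈ F := by
    rw [← zpow_natCast, Nat.gcd_eq_gcd_ab, zpow_add₀ hα0, zpow_mul, zpow_mul, zpow_natCast,
      zpow_natCast]
    exact mul_mem (zpow_mem hd' _) (zpow_mem hn' _)
  obtain ⟨e, he'⟩ := IntermediateField.mem_bot.1 he
  have hpos : 0 < Nat.gcd d n := Nat.gcd_pos_of_pos_right _ (NeZero.pos n)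
  have hle : d ≤ Nat.gcd d n := by
    have := natDegree_le_of_dvd (minpoly.dvd K α (p := X ^ (Nat.gcd d n) - C e) (by simp [he']))
      (X_pow_sub_C_ne_zero hpos e)
    rwa [natDegree_X_pow_sub_C] at this
  have : Nat.gcd d n = d :=
    le_antisymm (Nat.le_of_dvd (minpoly.natDegree_pos hint) (Nat.gcd_dvd_left _ _)) hle
  exact this ▸ Nat.gcd_dvd_right _ _

variable {A : Type*} [CommRing A] [IsDedekindDomain A] [Algebra A K] [IsFractionRing A K]

theorem pow_left_inj_fractionalIdeal {x y : FractionalIdeal A⁰ K} (hx : x ≠ 0) (hy : y ≠ 0) {k : ℕ}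
    (hk : k ≠ 0) (h : x ^ k = y ^ k) : x = y := by
  rw [← FractionalIdeal.finprod_heightOneSpectrum_factorization' (K := K) hx,
    ← FractionalIdeal.finprod_heightOneSpectrum_factorization' (K := K) hy]
  refine finprod_congr fun v => ?_
  have := congrArg (FractionalIdeal.count K v) h
  rw [FractionalIdeal.count_pow, FractionalIdeal.count_pow] at this
  rw [mul_left_cancel₀ (by exact_mod_cast hk) this]

theorem isGalois_isCyclic_finrank {n : ℕ} (hn : n ≠ 0) {ζ : K} (hζ : IsPrimitiveRoot ζ n) {f : K}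
    (hf : f ≠ 0) (I : (FractionalIdeal A⁰ K)ˣ)
    (hI : FractionalIdeal.spanSingleton A⁰ f = (I : FractionalIdeal A⁰ K) ^ n)
    (hord : orderOf (ClassGroup.mk K I) = n)
    (α : L) (hα : α ^ n = algebraMap K L f) (hgen : IntermediateField.adjoin K {α} = ⊤) :
    IsGalois K L ∧ IsCyclic (L ≃ₐ[K] L) ∧ Module.finrank K L = n := by
  have : NeZero n := ⟨hn⟩
  obtain ⟨⟨k, hk⟩, g, hg⟩ := exists_pow_natDegree_eq hζ hf hα
  have hint : IsIntegral K α := ⟨X ^ n - C f, monic_X_pow_sub_C f hn, by simp [hα]⟩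
  have : FiniteDimensional K L := by
    have h := IntermediateField.adjoin.finiteDimensional hint
    rw [hgen] at h
    exact Module.Finite.equiv (IntermediateField.topEquiv (F := K) (E := L)).toLinearEquiv
  have hfr : Module.finrank K L = (minpoly K α).natDegree := by
    rw [← IntermediateField.adjoin.finrank hint, hgen, IntermediateField.finrank_top']
  set d := (minpoly K α).natDegree
  have hfg : f = g ^ k := (algebraMap K L).injective (by rw [map_pow, ← hg, ← hα, ← pow_mul, ← hk])
  have hk0 : k ≠ 0 := by rintro rfl; exact hn (by simpa using hk)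
  have hd0 : d ≠ 0 := (minpoly.natDegree_pos hint).ne'
  have hg0 : g ≠ 0 := by rintro rfl; exact hf (by rw [hfg, zero_pow hk0])
  have hId : FractionalIdeal.spanSingleton A⁰ g = ((I ^ d : (FractionalIdeal A⁰ K)ˣ) : FractionalIdeal A⁰ K) := by
    refine pow_left_inj_fractionalIdeal (FractionalIdeal.spanSingleton_ne_zero_iff.2 hg0) (Units.ne_zero _) hk0 ?_
    rw [FractionalIdeal.spanSingleton_pow, ← hfg, hI, Units.val_pow_eq_pow_val, ← pow_mul, ← hk]
  have hdn : d = n := by
    refine Nat.dvd_antisymm ⟨k, hk⟩ (hord ▸ orderOf_dvd_of_pow_eq_one ?_)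
    rw [← map_pow, ClassGroup.mk_eq_one_iff, ← hId]
    exact ⟨g, FractionalIdeal.coe_spanSingleton A⁰ g⟩
  rw [hdn] at hfr
  have hK : (primitiveRoots (Module.finrank K L) K).Nonempty :=
    ⟨ζ, (mem_primitiveRoots (hfr ▸ Nat.pos_of_ne_zero hn)).2 (hfr ▸ hζ)⟩
  have hirr : Irreducible (X ^ Module.finrank K L - C f) :=
    irreducible_X_pow_sub_C_of_root_adjoin_eq_top (hfr ▸ hα) hgen
  have := isSplittingField_X_pow_sub_C_of_root_adjoin_eq_top hK (hfr ▸ hα : α ^ Module.finrank K L = algebraMap K L f) hgen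
  have : NeZero (Module.finrank K L) := ⟨hfr ▸ hn⟩
  exact ⟨isGalois_of_isSplittingField_X_pow_sub_C hK hirr L,
    isCyclic_of_isSplittingField_X_pow_sub_C hK hirr L, hfr⟩

end Groth.EtaleAlgebra.KummerClassGroup
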