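import Mathlib

/-!
# The number of minimal primes bounds the length of the quotient by a parameter
-/

universe u v

namespace Groth.EtaleAlgebra

variable {R : Type u} [CommRing R]

theorem length_quotient_add {N : Type v} [AddCommGroup N] [Module R N] {A B : Submodule R N}
    (h : A ≤ B) :
    Module.length R (N ⧸ A) =
      Module.length R (B ⧸ A.comap B.subtype) + Module.length R (N ⧸ B) := by
  refine Module.length_eq_add_of_exact (Submodule.mapQ (A.comap B.subtype) A B.subtype le_rfl)
    (Submodule.factor h) ?_ (Submodule.factor_surjective h) ?_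
  · rw [← LinearMap.ker_eq_bot, Submodule.mapQ, Submodule.ker_liftQ_eq_bot]
    rw [LinearMap.ker_comp, Submodule.ker_mkQ]
  · rw [LinearMap.exact_iff, Submodule.range_mapQ, Submodule.range_subtype]
    exact Submodule.ker_mapQ _ _ _ _ |>.trans (by simp)

/-- The index of `xM` in `M` equals that of `xN` in `N` when `N / M` has finite length. -/
theorem length_quotient_smul_eq {N : Type v} [AddCommGroup N] [Module R N] (x : R)
    (hx : Function.Injective fun n : N => x • n) (M : Submodule R N)
    (hfin : Module.length R (N ⧸ M) ≠ ⊤) :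
    Module.length R (M ⧸ LinearMap.range (LinearMap.lsmul R M x)) =
      Module.length R (N ⧸ LinearMap.range (LinearMap.lsmul R N x)) := by
  let μ := LinearMap.lsmul R N x
  have hA : M.map μ ≤ M := by
    rintro _ ⟨m, hm, rfl⟩
    exact M.smul_mem x hm
  have hA' : M.map μ ≤ LinearMap.range μ := LinearMap.map_le_range
  have h1 := length_quotient_add hA
  have h2 := length_quotient_add hA'
  have e : (N ⧸ M) ≃ₗ[R] (LinearMap.range μ ⧸ (M.map μ).comap (LinearMap.range μ).subtype) := by
    refine Submodule.Quotient.equiv _ _ (LinearEquiv.ofInjective μ hx) ?_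
    ext ⟨z, hz⟩
    simp only [Submodule.mem_map, Submodule.mem_comap, Submodule.coe_subtype, Subtype.ext_iff]
    rfl
  have h3 : LinearMap.range (LinearMap.lsmul R M x) = (M.map μ).comap M.subtype := by
    ext m
    simp only [LinearMap.mem_range, Submodule.mem_comap, Submodule.mem_map, Submodule.coe_subtype]
    refine ⟨fun ⟨y, hy⟩ => ⟨y, y.2, by rw [← hy]; rfl⟩, fun ⟨y, hy, hy'⟩ => ⟨⟨y, hy⟩, Subtype.ext hy'⟩⟩
  rw [← e.length_eq, h1, add_comm, ← h3] at h2
  exact (WithTop.add_left_cancel hfin h2)

theorem card_minimalPrimes_le_length_of_reduced [IsNoetherianRing R] [IsLocalRing R] [IsReduced R]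
    (hdim : ringKrullDim R = 1) (x : R) (hx : x ∈ IsLocalRing.maximalIdeal R)
    (hmin : ∀ p ∈ minimalPrimes R, x ∉ p) :
    (Set.ncard (minimalPrimes R) : ℕ∞) ≤ Module.length R (R ⧸ Ideal.span {x}) := by
  classical
  have hfinset := minimalPrimes.finite_of_isNoetherianRing R
  have := hfinset.fintype
  let ι := LinearMap.pi fun p : minimalPrimes R => (p.1 : Submodule R R).mkQ
  have hι : Function.Injective ι := by
    refine (injective_iff_map_eq_zero _).2 fun a ha => ?_
    have : a ∈ sInf (minimalPrimes R) := Submodule.mem_sInf.2 fun p hp =>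
      (Submodule.Quotient.mk_eq_zero p).1 (congrFun ha ⟨p, hp⟩)
    replace this : a ∈ sInf ((⊥ : Ideal R).minimalPrimes) := this
    rw [Ideal.sInf_minimalPrimes] at this
    have h0 : a ∈ nilradical R := this
    rwa [nilradical_eq_zero] at h0
  have hinj : Function.Injective fun v : (∀ p : minimalPrimes R, R ⧸ p.1) => x • v := by
    intro v w h
    funext p
    obtain ⟨a, ha⟩ := Ideal.Quotient.mk_surjective (v p - w p)
    have h0 : x • (v p - w p) = 0 := by rw [smul_sub, sub_eq_zero]; exact congrFun h p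
    rw [← ha] at h0
    have h1 : x * a ∈ p.1 := Ideal.Quotient.eq_zero_iff_mem.1 h0
    have h2 := ((p.2.1.1).mem_or_mem h1).resolve_left (hmin p.1 p.2)
    rw [← sub_eq_zero, ← ha]
    exact Ideal.Quotient.eq_zero_iff_mem.2 h2
  let C := (∀ p : minimalPrimes R, R ⧸ p.1) ⧸ LinearMap.range ι
  have hJ : ∀ p ∈ minimalPrimes R, ¬ Module.annihilator R C ≤ p := by
    intro p hp hle
    have hnle : ¬ (hfinset.toFinset.erase p).inf id ≤ p := by
      rw [hp.1.1.inf_le']
      rintro ⟨q, hq, hqp⟩
      rw [Finset.mem_erase, Set.Finite.mem_toFinset] at hq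
      exact hq.1 (le_antisymm hqp (hp.2 ⟨hq.2.1.1, bot_le⟩ hqp))
    obtain ⟨s, hs, hsp⟩ := SetLike.not_le_iff_exists.1 hnle
    refine hsp (hle (Module.mem_annihilator.2 fun c => ?_))
    obtain ⟨v, rfl⟩ := Submodule.mkQ_surjective _ c
    obtain ⟨a, ha⟩ := Ideal.Quotient.mk_surjective (v ⟨p, hp⟩)
    refine (Submodule.Quotient.mk_eq_zero _).2 ⟨s * a, funext fun q => ?_⟩
    by_cases hqp : q = ⟨p, hp⟩
    · subst hqp
      show Ideal.Quotient.mk p (s * a) = s • v ⟨p, hp⟩
      rw [← ha]
      rfl
    · have hsq : s ∈ q.1 := (Submodule.mem_finsetInf.1 hs) q.1 (by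
        rw [Finset.mem_erase, Set.Finite.mem_toFinset]
        exact ⟨fun h => hqp (Subtype.ext h), q.2⟩)
      obtain ⟨b, hb⟩ := Ideal.Quotient.mk_surjective (v q)
      show Ideal.Quotient.mk q.1 (s * a) = s • v q
      rw [← hb]
      exact Ideal.Quotient.eq.2 (q.1.sub_mem (q.1.mul_mem_right _ hsq) (q.1.mul_mem_right _ hsq))
  have hart : IsArtinianRing (R ⧸ Module.annihilator R C) := by
    rw [isArtinianRing_iff_krullDimLE_zero, Ring.krullDimLE_zero_iff]
    intro Q hQ
    let Q' := Q.comap (Ideal.Quotient.mk (Module.annihilator R C))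
    have hQ' : Module.annihilator R C ≤ Q' := fun a ha => by
      show Ideal.Quotient.mk _ a ∈ Q
      rw [Ideal.Quotient.eq_zero_iff_mem.2 ha]
      exact Q.zero_mem
    have hp' : Q'.IsPrime := Ideal.comap_isPrime _ _
    have hmax : Q'.IsMaximal := by
      have : Ring.KrullDimLE 1 R := Ring.krullDimLE_iff.2 hdim.le
      exact (Ring.krullDimLE_one_iff.1 this Q' hp').resolve_left fun hQmin => hJ Q' hQmin hQ'
    rw [← Ideal.map_comap_of_surjective _ Ideal.Quotient.mk_surjective Q]
    refine (Ideal.map_eq_top_or_isMaximal_of_surjective _ Ideal.Quotient.mk_surjective hmax).resolve_left ?_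
    rw [Ideal.map_comap_of_surjective _ Ideal.Quotient.mk_surjective Q]
    exact hQ.ne_top
  have hfin : Module.length R C ≠ ⊤ := by
    let _ := Module.IsTorsionBySet.module (M := C)
      (fun c r => Module.mem_annihilator.1 r.2 c : Module.IsTorsionBySet R C (Module.annihilator R C))
    have : IsScalarTower R (R ⧸ Module.annihilator R C) C :=
      Module.IsTorsionBySet.isScalarTower
        (fun c r => Module.mem_annihilator.1 r.2 c : Module.IsTorsionBySet R C (Module.annihilator R C))
    have : Module.Finite (R ⧸ Module.annihilator R C) C := Module.Finite.of_restrictScalars_finite R _ _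
    rw [Module.length_eq_of_surjective (R := R ⧸ Module.annihilator R C) (S := R) (M := C)
      Ideal.Quotient.mk_surjective]
    exact Module.length_ne_top
  have key := length_quotient_smul_eq x hinj (LinearMap.range ι) hfin
  let e : (R ⧸ Ideal.span {x}) ≃ₗ[R] (LinearMap.range ι ⧸ LinearMap.range (LinearMap.lsmul R _ x)) :=
    Submodule.Quotient.equiv _ _ (LinearEquiv.ofInjective ι hι) (by
      ext z
      simp only [Submodule.mem_map, LinearMap.mem_range, Ideal.mem_span_singleton']
      constructor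
      · rintro ⟨_, ⟨a, rfl⟩, rfl⟩
        exact ⟨LinearEquiv.ofInjective ι hι a, by simp [mul_comm a x, ← smul_eq_mul]⟩
      · rintro ⟨y, rfl⟩
        obtain ⟨a, rfl⟩ := (LinearEquiv.ofInjective ι hι).surjective y
        exact ⟨a * x, ⟨a, rfl⟩, by simp [mul_comm a x, ← smul_eq_mul]⟩)
  rw [e.length_eq, key]
  let π : (∀ p : minimalPrimes R, R ⧸ p.1) →ₗ[R] ∀ p : minimalPrimes R, IsLocalRing.ResidueField R :=
    LinearMap.pi fun p => (Submodule.liftQ p.1 (Algebra.linearMap R (IsLocalRing.ResidueField R))
      (fun a ha => Ideal.Quotient.eq_zero_iff_mem.2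
        (IsLocalRing.le_maximalIdeal (p.2.1.1).ne_top ha))).comp (LinearMap.proj p)
  have hπ : Function.Surjective π := fun w => by
    choose a ha using fun p => IsLocalRing.residue_surjective (w p)
    exact ⟨fun p => Ideal.Quotient.mk p.1 (a p), funext fun p => ha p⟩
  have hker : LinearMap.range (LinearMap.lsmul R _ x) ≤ LinearMap.ker π := by
    rintro _ ⟨v, rfl⟩
    rw [LinearMap.mem_ker, LinearMap.lsmul_apply, map_smul]
    funext p
    rw [Pi.smul_apply, Pi.zero_apply, Algebra.smul_def, IsLocalRing.ResidueField.algebraMap_eq,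
      (IsLocalRing.residue_eq_zero_iff x).2 hx, zero_mul]
  refine le_trans ?_ (Module.length_le_of_surjective (Submodule.liftQ _ π hker)
    fun w => let ⟨v, hv⟩ := hπ w; ⟨Submodule.Quotient.mk v, hv⟩)
  rw [Module.length_pi_of_fintype, ← Nat.card_coe_set_eq, Nat.card_eq_fintype_card,
    ← Finset.card_univ, ← Nat.smul_one_eq_cast, ← Finset.sum_const]
  exact Finset.sum_le_sum fun p _ => Order.one_le_iff_pos.2 Module.length_pos

theorem card_minimalPrimes_le_length [IsNoetherianRing R] [IsLocalRing R]
    (hdim : ringKrullDim R = 1) (x : R) (hx : x ∈ IsLocalRing.maximalIdeal R)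
    (hmin : ∀ p ∈ minimalPrimes R, x ∉ p) :
    (Set.ncard (minimalPrimes R) : ℕ∞) ≤ Module.length R (R ⧸ Ideal.span {x}) := by
  let N := nilradical R
  let q := Ideal.Quotient.mk N
  have hq : Function.Surjective q := Ideal.Quotient.mk_surjective
  have hN : N ≠ ⊤ := ne_top_of_le_ne_top (IsLocalRing.maximalIdeal.isMaximal R).ne_top
    (IsLocalRing.le_maximalIdeal (fun h => by simp [N, nilradical, Ideal.radical_eq_top] at h))
  have : Nontrivial (R ⧸ N) := Ideal.Quotient.nontrivial_iff.2 hN
  have : IsLocalRing (R ⧸ N) := IsLocalRing.of_surjective' q hq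
  have : IsReduced (R ⧸ N) := (Ideal.isRadical_iff_quotient_reduced N).1 (Ideal.radical_isRadical _)
  have himg : Ideal.comap q '' minimalPrimes (R ⧸ N) = minimalPrimes R := by
    have h := Ideal.minimalPrimes_eq_comap (I := N)
    rw [← h]
    exact Ideal.radical_minimalPrimes
  have hcard : Set.ncard (minimalPrimes R) = Set.ncard (minimalPrimes (R ⧸ N)) := by
    rw [← himg, Set.ncard_image_of_injective _ (Ideal.comap_injective_of_surjective q hq)]
  have hdim' : ringKrullDim (R ⧸ N) = 1 := by
    rw [ringKrullDim_quotient, ← hdim]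
    refine Order.krullDim_eq_of_orderIso (OrderIso.setCongr _ Set.univ ?_ |>.trans OrderIso.Set.univ)
    exact Set.eq_univ_of_forall fun P => (PrimeSpectrum.mem_zeroLocus _ _).2
      (nilradical_le_prime P.asIdeal)
  have h := card_minimalPrimes_le_length_of_reduced hdim' (q x)
    (by
      rw [IsLocalRing.mem_maximalIdeal, mem_nonunits_iff]
      intro hu
      obtain ⟨c, hc⟩ := hu.exists_right_inv
      obtain ⟨b, rfl⟩ := hq c
      rw [← map_mul, ← map_one q] at hc
      have h1 : x * b - 1 ∈ IsLocalRing.maximalIdeal R :=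
        nilradical_le_prime _ (Ideal.Quotient.eq.1 hc)
      have h2 := Ideal.sub_mem _ (Ideal.mul_mem_right b _ hx) h1
      rw [sub_sub_cancel] at h2
      exact (IsLocalRing.maximalIdeal.isMaximal R).ne_top ((Ideal.eq_top_iff_one _).2 h2))
    (fun p hp hxp => hmin _ (himg.le ⟨p, hp, rfl⟩) hxp)
  rw [hcard]
  refine h.trans ?_
  rw [← Module.length_eq_of_surjective (S := R) (R := R ⧸ N) (M := (R ⧸ N) ⧸ Ideal.span {q x}) hq]
  refine Module.length_le_of_surjective (Submodule.mapQ (Ideal.span {x} : Submodule R R)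
    ((Ideal.span {q x}).restrictScalars R) (Algebra.linearMap R (R ⧸ N)) fun a ha => ?_) ?_
  · obtain ⟨b, rfl⟩ := Ideal.mem_span_singleton'.1 ha
    exact Ideal.mem_span_singleton'.2 ⟨q b, (map_mul q b x).symm⟩
  · intro w
    obtain ⟨w, rfl⟩ := Submodule.Quotient.mk_surjective _ w
    obtain ⟨a, rfl⟩ := hq w
    exact ⟨Submodule.Quotient.mk a, rfl⟩

end Groth.EtaleAlgebra
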