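import Groth.Agent.FlatmorThree.SmoothLift
import Mathlib.RingTheory.Kaehler.Basic
import Mathlib.RingTheory.Extension.Cotangent.Basic
import Mathlib.RingTheory.LocalProperties.Projective

/-!
# Glueing local lifts against affine square zero thickenings
-/

set_option autoImplicit false
universe u

open CategoryTheory AlgebraicGeometry Limits TopologicalSpace TensorProduct

namespace Groth.EtaleAlgebra.LiftGlue

open Groth.FlatmorThree Groth.FlatmorThree.SmoothLift

section Retraction

variable {A : Type u} [CommRing A] {I : Ideal A} {C : Type u} [CommRing C] [Algebra A C] (T : Thick I C)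

/-- A section of the projection to the cokernel with values in the kernel of `π` gives a retraction. -/
theorem exists_retraction_of_section (hinj : Function.Injective (algebraMap A C))
    (σ : T.Coker →ₗ[A] C) (hσ : ∀ x, T.cls (σ x) = x) (hπ : ∀ x, T.π (σ x) = 0) :
    ∃ φ : C →ₐ[A] A, ∀ c, Ideal.Quotient.mk I (φ c) = T.π c := by
  let σ' : C →ₗ[A] C := σ ∘ₗ T.cls
  have hmem : ∀ c, ∃ a : A, algebraMap A C a = c - σ' c := fun c =>
    T.cls_eq_zero.mp (by rw [map_sub]; exact sub_eq_zero.mpr (hσ _).symm)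
  choose ret hret using hmem
  have hσalg : ∀ a, σ' (algebraMap A C a) = 0 := fun a => by
    show σ (T.cls (algebraMap A C a)) = 0
    rw [T.cls_algebraMap, map_zero]
  have hmul : ∀ c c', σ' (c * c') = c * σ' c' + c' * σ' c := by
    intro c c'
    obtain ⟨a, ha, -⟩ := T.exists_rep c
    obtain ⟨a', ha', -⟩ := T.exists_rep c'
    have e1 : T.π c = Ideal.Quotient.mk I a := by
      rwa [map_sub, T.π_algebraMap, sub_eq_zero] at ha
    have e2 : T.π c' = Ideal.Quotient.mk I a' := by
      rwa [map_sub, T.π_algebraMap, sub_eq_zero] at ha'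
    have f1 : c * σ' c' = algebraMap A C a * σ' c' := by
      rw [← sub_eq_zero, ← sub_mul]
      exact T.mul_eq_zero ha (hπ _)
    have f2 : c' * σ' c = algebraMap A C a' * σ' c := by
      rw [← sub_eq_zero, ← sub_mul]
      exact T.mul_eq_zero ha' (hπ _)
    rw [f1, f2, ← Algebra.smul_def, ← Algebra.smul_def]
    show σ (T.cls (c * c')) = _
    rw [T.cls_mul, e1, e2, ← Ideal.Quotient.algebraMap_eq, algebraMap_smul, algebraMap_smul, map_add,
      map_smul, map_smul]
    rfl
  have hone : σ' 1 = 0 := by rw [← map_one (algebraMap A C), hσalg]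
  refine ⟨{ toFun := ret, map_one' := hinj ?_, map_mul' := fun c c' => hinj ?_,
            map_zero' := hinj ?_, map_add' := fun c c' => hinj ?_,
            commutes' := fun a => hinj ?_ }, fun c => ?_⟩
  · rw [hret, hone, sub_zero, map_one]
  · rw [map_mul, hret, hret, hret, hmul]
    linear_combination -(T.mul_eq_zero (hπ (T.cls c)) (hπ (T.cls c')))
  · rw [hret, map_zero, map_zero, sub_zero]
  · rw [map_add, hret, hret, hret, map_add]
    abel
  · show algebraMap A C (ret (algebraMap A C a)) = algebraMap A C (algebraMap A A a)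
    rw [hret, hσalg, sub_zero, Algebra.algebraMap_self, RingHom.id_apply]
  · show Ideal.Quotient.mk I (ret c) = T.π c
    rw [← T.π_algebraMap, hret, map_sub]
    show T.π c - T.π (σ _) = _
    rw [hπ, sub_zero]

/-- Sections glue when the cokernel is finitely presented. -/
theorem exists_section_of_local [hfp : Module.FinitePresentation (A ⧸ I) T.Coker]
    (hloc : ∀ (P : Ideal A) [P.IsMaximal], ∃ φ : C →ₐ[A] Localization.AtPrime P,
      ∀ c, T.π c = 0 → φ c ∈ I.map (algebraMap A (Localization.AtPrime P))) :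
    ∃ σ : T.Coker →ₗ[A] C, (∀ x, T.cls (σ x) = x) ∧ ∀ x, T.π (σ x) = 0 := by
  let K : Submodule A C := LinearMap.ker T.π.toLinearMap
  have hK : Module.IsTorsionBySet A K I := by
    rintro ⟨x, hx⟩ ⟨i, hi⟩
    refine Subtype.ext ?_
    show i • x = 0
    rw [Algebra.smul_def]
    exact T.mul_eq_zero (by rw [T.π_algebraMap, Ideal.Quotient.eq_zero_iff_mem]; exact hi) hx
  let := hK.module
  have : IsScalarTower A (A ⧸ I) K := Module.IsTorsionBySet.isScalarTower hK
  have hA₀ : Function.Surjective (algebraMap A (A ⧸ I)) := Ideal.Quotient.mk_surjective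
  let qA : K →ₗ[A] T.Coker := T.cls ∘ₗ K.subtype
  let q : K →ₗ[A ⧸ I] T.Coker := qA.extendScalarsOfSurjective hA₀
  suffices h : ∃ g : T.Coker →ₗ[A ⧸ I] K, q.comp g = LinearMap.id by
    obtain ⟨g, hg⟩ := h
    exact ⟨K.subtype ∘ₗ g.restrictScalars A, fun x => DFunLike.congr_fun hg x, fun x => (g x).2⟩
  refine LinearMap.split_surjective_of_localization_maximal q fun m hm => ?_
  let P : Ideal A := m.comap (algebraMap A (A ⧸ I))
  have : P.IsMaximal := Ideal.comap_isMaximal_of_surjective _ hA₀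
  obtain ⟨φ, hφ⟩ := hloc P
  let S₀ := m.primeCompl
  let M := LocalizedModule S₀ K
  let AP := Localization.AtPrime P
  let mkK : K →ₗ[A ⧸ I] M := LocalizedModule.mkLinearMap S₀ K
  let IP : Submodule AP AP := Submodule.localized' AP P.primeCompl (Algebra.linearMap A AP) I
  let toIP : I →ₗ[A] IP := Submodule.toLocalized' AP P.primeCompl (Algebra.linearMap A AP) I
  -- `I` as a submodule of `K`
  let ιK : I →ₗ[A] K := LinearMap.codRestrict K ((Algebra.linearMap A C) ∘ₗ (Submodule.subtype I))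
    fun a => (T.π_algebraMap a.1).trans (Ideal.Quotient.eq_zero_iff_mem.mpr a.2)
  have hunits : ∀ x : P.primeCompl, IsUnit (algebraMap A (Module.End A M) x) := fun x => by
    rw [Module.End.isUnit_iff]
    have h := (Module.End.isUnit_iff _).mp
      (IsLocalizedModule.map_units mkK (⟨algebraMap A (A ⧸ I) x.1, x.2⟩ : S₀))
    convert h using 1
    funext z
    exact (algebraMap_smul (A ⧸ I) x.1 z).symm
  let J : IP →ₗ[A] M := IsLocalizedModule.lift P.primeCompl toIP ((mkK.restrictScalars A) ∘ₗ ιK) hunits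
  let φK : K →ₗ[A] IP :=
    { toFun := fun k => ⟨φ k.1, by
        obtain ⟨⟨a, s⟩, ha⟩ := (IsLocalization.mem_map_algebraMap_iff P.primeCompl AP).mp (hφ k.1 k.2)
        exact (Submodule.mem_localized' ..).mpr ⟨a.1, a.2, s, IsLocalizedModule.mk'_eq_iff.mpr
          (by rw [Algebra.linearMap_apply, ← ha, mul_comm, Submonoid.smul_def, Algebra.smul_def])⟩⟩
      map_add' := fun x y => Subtype.ext (map_add φ _ _)
      map_smul' := fun c x => Subtype.ext (map_smul φ c x.1) }
  let rA : K →ₗ[A] M := mkK.restrictScalars A - J ∘ₗ φK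
  have hrι : ∀ a : I, rA (ιK a) = 0 := fun a => by
    have h1 : φK (ιK a) = toIP a := Subtype.ext (φ.commutes a.1)
    show mkK (ιK a) - J (φK (ιK a)) = 0
    rw [h1, IsLocalizedModule.lift_apply]
    exact sub_self _
  let r : K →ₗ[A ⧸ I] M := rA.extendScalarsOfSurjective hA₀
  have hq : Function.Surjective q := fun x => by
    obtain ⟨c, rfl⟩ := T.cls_surjective x
    obtain ⟨a, ha, hmk⟩ := T.exists_rep c
    exact ⟨⟨_, ha⟩, hmk⟩
  have hker : LinearMap.ker q ≤ LinearMap.ker r := by
    intro k hk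
    obtain ⟨a, ha⟩ := T.cls_eq_zero.mp (show T.cls k.1 = 0 from hk)
    have hπk : T.π k.1 = 0 := k.2
    rw [← ha, T.π_algebraMap, Ideal.Quotient.eq_zero_iff_mem] at hπk
    have : k = ιK ⟨a, hπk⟩ := Subtype.ext ha.symm
    rw [LinearMap.mem_ker, this]
    exact hrι _
  let σ₀ : T.Coker →ₗ[A ⧸ I] M :=
    (LinearMap.ker q).liftQ r hker ∘ₗ (q.quotKerEquivOfSurjective hq).symm.toLinearMap
  have hσ₀ : ∀ k, σ₀ (q k) = r k := fun k => by
    show (LinearMap.ker q).liftQ r hker ((q.quotKerEquivOfSurjective hq).symm (q k)) = r k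
    rw [LinearEquiv.symm_apply_eq (q.quotKerEquivOfSurjective hq) |>.mpr
      (show q k = q.quotKerEquivOfSurjective hq (Submodule.Quotient.mk k) from rfl)]
    rfl
  let mkP : T.Coker →ₗ[A ⧸ I] LocalizedModule S₀ T.Coker := LocalizedModule.mkLinearMap S₀ T.Coker
  let g₀ := IsLocalizedModule.lift S₀ mkP σ₀ (IsLocalizedModule.map_units mkK)
  refine ⟨g₀.extendScalarsOfIsLocalization S₀ (Localization S₀), ?_⟩
  have hJ : (LocalizedModule.map S₀ q).restrictScalars A ∘ₗ J = 0 := by
    refine IsLocalizedModule.ext P.primeCompl toIP (fun x => ?_) ?_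
    · rw [Module.End.isUnit_iff]
      have h := (Module.End.isUnit_iff _).mp
        (IsLocalizedModule.map_units mkP (⟨algebraMap A (A ⧸ I) x.1, x.2⟩ : S₀))
      convert h using 1
      funext z
      exact (algebraMap_smul (A ⧸ I) x.1 z).symm
    · refine LinearMap.ext fun a => ?_
      show (LocalizedModule.map S₀ q) (J (toIP a)) = 0
      rw [IsLocalizedModule.lift_apply]
      show (LocalizedModule.map S₀ q) (mkK (ιK a)) = 0
      rw [LocalizedModule.mkLinearMap_apply, LocalizedModule.map_mk]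
      show LocalizedModule.mk (T.cls (algebraMap A C a.1)) _ = 0
      rw [T.cls_algebraMap, LocalizedModule.zero_mk]
  refine LinearMap.restrictScalars_injective (A ⧸ I) (IsLocalizedModule.ext S₀ mkP
    (IsLocalizedModule.map_units mkP) (LinearMap.ext fun x => ?_))
  obtain ⟨k, rfl⟩ := hq x
  show (LocalizedModule.map S₀ q) (g₀ (mkP (q k))) = mkP (q k)
  rw [IsLocalizedModule.lift_apply, hσ₀]
  show (LocalizedModule.map S₀ q) (mkK k - J (φK k)) = _
  rw [map_sub, show (LocalizedModule.map S₀ q) (J (φK k)) = 0 from DFunLike.congr_fun hJ (φK k), sub_zero,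
    LocalizedModule.mkLinearMap_apply, LocalizedModule.map_mk]
  rfl

end Retraction

variable {X Y : Scheme.{u}} {f : X ⟶ Y} {A : Type u} [CommRing A] {I : Ideal A}
  {a : Spec (CommRingCat.of (A ⧸ I)) ⟶ X} {b : Spec (CommRingCat.of A) ⟶ Y}
  {w : sp (Ideal.Quotient.mk I) ≫ b = a ≫ f} (d : Data f a b w)
  {U : X.Opens} {V : Y.Opens} (hU : IsAffineOpen U) (hV : IsAffineOpen V) (e : U ≤ f ⁻¹ᵁ V)

variable {B : Type u} [CommRing B]

/-- An additive map satisfying the product rule relative to a ring map, killing the base. -/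
structure IsDer {R S : Type u} [CommRing R] [CommRing S] {L : Type u} [AddCommGroup L] [Module B L]
    (φ : R →+* S) (ρ : S →+* B) (δ : S → L) : Prop where
  add : ∀ x y, δ (x + y) = δ x + δ y
  mul : ∀ x y, δ (x * y) = ρ x • δ y + ρ y • δ x
  base : ∀ r, δ (φ r) = 0

/-- The ring map into a trivial extension attached to a derivation. -/
def derHom {R S : Type u} [CommRing R] [CommRing S] {L : Type u} [AddCommGroup L] [Module B L]
    [Module Bᵐᵒᵖ L] [IsCentralScalar B L] {φ : R →+* S} {ρ : S →+* B} {δ : S → L}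
    (hδ : IsDer φ ρ δ) : S →+* TrivSqZeroExt B L where
  toFun x := TrivSqZeroExt.inl (ρ x) + TrivSqZeroExt.inr (δ x)
  map_one' := TrivSqZeroExt.ext (by simp) (by
    have h := hδ.base 1
    rw [map_one] at h
    simp [h])
  map_mul' x y := TrivSqZeroExt.ext (by simp) (by simp [hδ.mul, op_smul_eq_smul])
  map_zero' := TrivSqZeroExt.ext (by simp) (by
    have h := hδ.base 0
    rw [map_zero] at h
    simp [h])
  map_add' x y := TrivSqZeroExt.ext (by simp) (by simp [hδ.add])

variable [Algebra (A ⧸ I) B] {L : Type u} [AddCommGroup L] [Module (A ⧸ I) L] [Module B L]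
  [IsScalarTower (A ⧸ I) B L] [Module Bᵐᵒᵖ L] [IsCentralScalar B L]

/-- Linear maps out of the cokernel are determined by the morphisms to `X` they define. -/
theorem linear_ext {k k' : d.T.Coker →ₗ[A ⧸ I] L}
    (h : d.toX (d.T.toTriv (B := B) k) = d.toX (d.T.toTriv (B := B) k')) : k = k' := by
  have := d.ext_toX (RingHom.ext fun x => by
    rw [RingHom.comp_apply, RingHom.comp_apply, d.T.toTriv_algebraMap, d.T.toTriv_algebraMap]) h
  refine LinearMap.ext fun x => ?_
  obtain ⟨c, rfl⟩ := d.T.cls_surjective x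
  simpa using congrArg TrivSqZeroExt.snd (DFunLike.congr_fun this c)

theorem toX_natural {L' : Type u} [AddCommGroup L'] [Module (A ⧸ I) L'] [Module B L']
    [IsScalarTower (A ⧸ I) B L'] [Module Bᵐᵒᵖ L'] [IsCentralScalar B L']
    (u : L →ₗ[B] L') (k : d.T.Coker →ₗ[A ⧸ I] L) :
    d.toX (d.T.toTriv (B := B) ((u.restrictScalars (A ⧸ I)) ∘ₗ k)) =
      sp (TrivSqZeroExt.map u).toRingHom ≫ d.toX (d.T.toTriv (B := B) k) := by
  rw [show d.T.toTriv (B := B) ((u.restrictScalars (A ⧸ I)) ∘ₗ k) =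
    (TrivSqZeroExt.map u).toRingHom.comp (d.T.toTriv (B := B) k) from
    RingHom.ext fun c => TrivSqZeroExt.ext (by simp) (by simp)]
  simp only [Data.toX, sp_comp, Category.assoc]

include hV in
/-- A derivation gives a linear map out of the cokernel. -/
theorem exists_linear_of_der {ρS : Γ(X, U) →+* B}
    (hρS : sp ρS ≫ hU.fromSpec = sp (algebraMap (A ⧸ I) B) ≫ a) {δ : Γ(X, U) → L}
    (hδ : IsDer (f.appLE V U e).hom ρS δ) :
    ∃ k : d.T.Coker →ₗ[A ⧸ I] L, d.toX (d.T.toTriv (B := B) k) = sp (derHom hδ) ≫ hU.fromSpec := by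
  let φ := (f.appLE V U e).hom
  have hUV : sp φ ≫ hV.fromSpec = hU.fromSpec ≫ f := by
    rw [sp, CommRingCat.ofHom_hom]
    exact hV.SpecMap_appLE_fromSpec f hU e
  let p : TrivSqZeroExt B L →+* B := (TrivSqZeroExt.fstHom B B L).toRingHom
  have hp : p.comp (derHom hδ) = ρS := RingHom.ext fun x => by simp [p, derHom]
  have hψR : (derHom hδ).comp φ = (TrivSqZeroExt.inlHom B L).comp (ρS.comp φ) :=
    RingHom.ext fun r => TrivSqZeroExt.ext (by simp [derHom]) (by simp [derHom, φ, hδ.base r])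
  let σ : A →+* TrivSqZeroExt B L :=
    (TrivSqZeroExt.inlHom B L).comp ((algebraMap (A ⧸ I) B).comp (Ideal.Quotient.mk I))
  let l := sp (derHom hδ) ≫ hU.fromSpec
  have hl : l ≫ f = sp σ ≫ b := by
    simp only [l, σ, Category.assoc, ← hUV]
    rw [← Category.assoc, ← sp_comp, hψR, sp_comp, sp_comp, Category.assoc, Category.assoc, hUV,
      reassoc_of% hρS, ← w, sp_comp, sp_comp]
    simp only [Category.assoc]
  let qL : Spec (CommRingCat.of (TrivSqZeroExt B L)) ⟶ pullback f b := pullback.lift l (sp σ) hl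
  have hq : sp p ≫ qL =
      sp (algebraMap (A ⧸ I) B) ≫ pullback.lift a (sp (Ideal.Quotient.mk I)) w.symm := by
    refine pullback.hom_ext ?_ ?_
    · rw [Category.assoc, pullback.lift_fst, Category.assoc, pullback.lift_fst, ← hρS, ← hp, sp_comp,
        Category.assoc]
    · rw [Category.assoc, pullback.lift_snd, Category.assoc, pullback.lift_snd, ← sp_comp, ← sp_comp]
      congr 1
  obtain ⟨χ, hχ⟩ := d.factor _ B p (fun y => ⟨TrivSqZeroExt.inl y, by simp [p]⟩)
    (TrivSqZeroExt.kerIdeal_sq B L) (algebraMap (A ⧸ I) B) qL hq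
  have hχA : χ.comp (algebraMap A d.C) = σ := sp_injective (by
    rw [sp_comp, ← d.z_snd, ← Category.assoc, hχ, pullback.lift_snd])
  have hpχ : p.comp χ = (algebraMap (A ⧸ I) B).comp d.T.π.toRingHom := sp_injective (by
    rw [← cancel_mono d.z, sp_comp, sp_comp, Category.assoc, hχ, hq, Category.assoc, d.π_z])
  obtain ⟨k, hk⟩ := d.T.exists_linear χ (fun c => DFunLike.congr_fun hpχ c) (fun x => by
    rw [← RingHom.comp_apply, hχA]; simp [σ])
  refine ⟨k, ?_⟩
  rw [hk]
  show sp χ ≫ d.z ≫ pullback.fst f b = l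
  rw [reassoc_of% hχ, pullback.lift_fst]

include hV in
/-- A linear map out of the cokernel gives a derivation. -/
theorem exists_der_of_linear {ρS : Γ(X, U) →+* B}
    (hρS : sp ρS ≫ hU.fromSpec = sp (algebraMap (A ⧸ I) B) ≫ a) (k : d.T.Coker →ₗ[A ⧸ I] L) :
    ∃ (δ : Γ(X, U) → L) (hδ : IsDer (f.appLE V U e).hom ρS δ),
      d.toX (d.T.toTriv (B := B) k) = sp (derHom hδ) ≫ hU.fromSpec := by
  let φ := (f.appLE V U e).hom
  have hUV : sp φ ≫ hV.fromSpec = hU.fromSpec ≫ f := by
    rw [sp, CommRingCat.ofHom_hom]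
    exact hV.SpecMap_appLE_fromSpec f hU e
  let p : TrivSqZeroExt B L →+* B := (TrivSqZeroExt.fstHom B B L).toRingHom
  have hpk : sp p ≫ d.toX (d.T.toTriv (B := B) k) = sp (algebraMap (A ⧸ I) B) ≫ a :=
    d.sp_comp_toX (RingHom.ext fun c => d.T.fst_toTriv k c)
  have hr : Set.range (d.toX (d.T.toTriv (B := B) k)).base ⊆ (U : Set X) :=
    range_subset p (fun y => ⟨TrivSqZeroExt.inl y, by simp [p]⟩) (TrivSqZeroExt.kerIdeal_sq B L) _ (by
      rw [hpk, ← hρS]
      rintro _ ⟨x, rfl⟩
      rw [← hU.range_fromSpec]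
      exact ⟨(sp ρS) x, rfl⟩)
  obtain ⟨χ, hχ⟩ := exists_sp (R := Γ(X, U))
    (IsOpenImmersion.lift hU.fromSpec (d.toX (d.T.toTriv (B := B) k)) (by rwa [hU.range_fromSpec]))
  have hχ' : sp χ ≫ hU.fromSpec = d.toX (d.T.toTriv (B := B) k) := by
    rw [hχ, IsOpenImmersion.lift_fac]
  have hfst : ∀ x, TrivSqZeroExt.fst (χ x) = ρS x := DFunLike.congr_fun (show p.comp χ = ρS from
    sp_injective (by rw [← cancel_mono hU.fromSpec, sp_comp, Category.assoc, hχ', hpk, hρS]))
  have hχf : sp χ ≫ hU.fromSpec ≫ f = d.toX (d.T.toTriv (B := B) k) ≫ f := by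
    rw [← Category.assoc, hχ']
  have hχR : χ.comp φ = (TrivSqZeroExt.inlHom B L).comp (ρS.comp φ) := sp_injective (by
    rw [← cancel_mono hV.fromSpec, sp_comp, sp_comp, sp_comp, Category.assoc, Category.assoc,
      Category.assoc, hUV, hχf, reassoc_of% hρS, d.toX_comp_f, ← w,
      show (d.T.toTriv (B := B) k).comp (algebraMap A d.C) =
        ((TrivSqZeroExt.inlHom B L).comp (algebraMap (A ⧸ I) B)).comp (Ideal.Quotient.mk I) from
        RingHom.ext fun x => d.T.toTriv_algebraMap k x, sp_comp, sp_comp]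
    simp only [Category.assoc])
  refine ⟨fun x => TrivSqZeroExt.snd (χ x), ⟨fun x y => by simp, fun x y => by
    rw [map_mul, TrivSqZeroExt.snd_mul, hfst, hfst, op_smul_eq_smul], fun r => by
    rw [← RingHom.comp_apply, hχR]; simp⟩, ?_⟩
  rw [← hχ']
  congr 2
  exact RingHom.ext fun x => TrivSqZeroExt.ext (by simp [derHom, hfst]) (by simp [derHom])

omit [Algebra (A ⧸ I) B] [Module (A ⧸ I) L] [IsScalarTower (A ⧸ I) B L] in
theorem derHom_injective {R S : Type u} [CommRing R] [CommRing S] {φ : R →+* S} {ρ : S →+* B}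
    {δ δ' : S → L} {h : IsDer φ ρ δ} {h' : IsDer φ ρ δ'} (he : derHom h = derHom h') : δ = δ' :=
  funext fun x => by
    simpa [derHom] using congrArg TrivSqZeroExt.snd (DFunLike.congr_fun he x)

omit [Module Bᵐᵒᵖ L] [IsCentralScalar B L] in
include hV in
/-- A module with a universal derivation is isomorphic to the cokernel, localised. -/
theorem exists_equiv {g : A} [IsLocalization (Submonoid.powers (Ideal.Quotient.mk I g)) B]
    {ρS : Γ(X, U) →+* B} (hρS : sp ρS ≫ hU.fromSpec = sp (algebraMap (A ⧸ I) B) ≫ a)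
    (mkP : d.T.Coker →ₗ[A ⧸ I] L) [IsLocalizedModule (Submonoid.powers (Ideal.Quotient.mk I g)) mkP]
    {N : Type u} [AddCommGroup N] [Module B N] {δ : Γ(X, U) → N}
    (hδ : IsDer (f.appLE V U e).hom ρS δ) (hgen : Submodule.span B (Set.range δ) = ⊤)
    (huniv : ∀ δ' : Γ(X, U) → L, IsDer (f.appLE V U e).hom ρS δ' →
      ∃ Φ : N →ₗ[B] L, ∀ x, Φ (δ x) = δ' x) :
    Nonempty (N ≃ₗ[B] L) := by
  let A₀ := A ⧸ I
  let S₀ : Submonoid A₀ := Submonoid.powers (Ideal.Quotient.mk I g)
  let : Module Bᵐᵒᵖ L := Module.compHom L ((RingHom.id B).fromOpposite mul_comm)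
  have : IsCentralScalar B L := ⟨fun _ _ => rfl⟩
  let : Module Bᵐᵒᵖ N := Module.compHom N ((RingHom.id B).fromOpposite mul_comm)
  have : IsCentralScalar B N := ⟨fun _ _ => rfl⟩
  let : Module A₀ N := Module.compHom N (algebraMap A₀ B)
  have : IsScalarTower A₀ B N := .of_algebraMap_smul fun _ _ => rfl
  obtain ⟨h, hh⟩ := exists_linear_of_der d hU hV e hρS hδ
  obtain ⟨δ', hδ', hk⟩ := exists_der_of_linear d hU hV e hρS mkP
  obtain ⟨Φ, hΦ⟩ := huniv δ' hδ'
  have hunits : ∀ (M : Type u) [AddCommGroup M] [Module A₀ M] [Module B M] [IsScalarTower A₀ B M]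
      (x : S₀), IsUnit (algebraMap A₀ (Module.End A₀ M) x) := fun M _ _ _ _ x => by
    rw [← AlgHom.commutes (Algebra.lsmul A₀ A₀ M : B →ₐ[A₀] Module.End A₀ M) x.1]
    exact (IsLocalization.map_units B x).map _
  let h' : L →ₗ[B] N :=
    (IsLocalizedModule.lift S₀ mkP h (hunits N)).extendScalarsOfIsLocalization S₀ B
  have hh' : (h'.restrictScalars A₀) ∘ₗ mkP = h :=
    LinearMap.ext fun x => IsLocalizedModule.lift_apply S₀ mkP h (hunits N) x
  have hΦψ : (TrivSqZeroExt.map Φ).toRingHom.comp (derHom hδ) = derHom hδ' :=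
    RingHom.ext fun x => TrivSqZeroExt.ext (by simp [derHom]) (by simp [derHom, hΦ])
  have h1 : (TrivSqZeroExt.map h').toRingHom.comp (derHom hδ') = derHom hδ := sp_injective (by
    rw [← cancel_mono hU.fromSpec, sp_comp, Category.assoc, ← hk, ← toX_natural d h' mkP, hh', hh])
  have hleft : h'.comp Φ = LinearMap.id := by
    refine LinearMap.ext_on hgen ?_
    rintro _ ⟨x, rfl⟩
    have := congrArg TrivSqZeroExt.snd (DFunLike.congr_fun h1 x)
    simpa [derHom, hΦ] using this
  have hright : Φ.comp h' = LinearMap.id := by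
    refine LinearMap.restrictScalars_injective A₀ (IsLocalizedModule.ext S₀ mkP (hunits L) ?_)
    have : (Φ.restrictScalars A₀) ∘ₗ h = mkP := linear_ext d (by
      rw [toX_natural d Φ h, hh, hk, ← Category.assoc, ← sp_comp, hΦψ])
    refine LinearMap.ext fun x => ?_
    show Φ (h' (mkP x)) = mkP x
    rw [show h' (mkP x) = h x from DFunLike.congr_fun hh' x]
    exact DFunLike.congr_fun this x
  exact ⟨LinearEquiv.ofLinearMap Φ h' hright hleft⟩

include hU hV in
/-- Locally, the cokernel of `A → C` is finitely presented. -/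
theorem finitePresentation_localizedModule (hfp : (f.appLE V U e).hom.FinitePresentation) {g : A}
    (hg : d.Adapted g U) :
    Module.FinitePresentation (Localization (Submonoid.powers (Ideal.Quotient.mk I g)))
      (LocalizedModule (Submonoid.powers (Ideal.Quotient.mk I g)) d.T.Coker) := by
  let S₀ : Submonoid (A ⧸ I) := Submonoid.powers (Ideal.Quotient.mk I g)
  let B₀ := Localization S₀
  let M := LocalizedModule S₀ d.T.Coker
  let φ := (f.appLE V U e).hom
  let : Algebra Γ(Y, V) Γ(X, U) := φ.toAlgebra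
  have : Algebra.FinitePresentation Γ(Y, V) Γ(X, U) := hfp
  obtain ⟨ρS, hρS⟩ := exists_sp (R := Γ(X, U))
    (IsOpenImmersion.lift hU.fromSpec (sp (algebraMap (A ⧸ I) B₀) ≫ a) (by
      rw [hU.range_fromSpec]
      exact hg.range _ (IsLocalization.map_units B₀ ⟨_, Submonoid.mem_powers _⟩)))
  have hρS' : sp ρS ≫ hU.fromSpec = sp (algebraMap (A ⧸ I) B₀) ≫ a := by
    rw [hρS, IsOpenImmersion.lift_fac]
  let : Algebra Γ(X, U) B₀ := ρS.toAlgebra
  let δ : Γ(X, U) → B₀ ⊗[Γ(X, U)] Ω[Γ(X, U)⁄Γ(Y, V)] :=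
    fun x => (1 : B₀) ⊗ₜ KaehlerDifferential.D Γ(Y, V) Γ(X, U) x
  have hsmul : ∀ (x : Γ(X, U)) (t : B₀ ⊗[Γ(X, U)] Ω[Γ(X, U)⁄Γ(Y, V)]), ρS x • t = x • t :=
    fun x t => algebraMap_smul B₀ x t
  have hδ : IsDer φ ρS δ := by
    refine ⟨fun x y => by simp [δ, TensorProduct.tmul_add], fun x y => ?_, fun r => ?_⟩
    · simp only [δ, Derivation.leibniz, TensorProduct.tmul_add, TensorProduct.tmul_smul, hsmul]
    · have h0 : KaehlerDifferential.D Γ(Y, V) Γ(X, U) (φ r) = 0 := Derivation.map_algebraMap _ r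
      simp [δ, h0]
  have hgen : Submodule.span B₀ (Set.range δ) = ⊤ := by
    refine Submodule.eq_top_iff'.mpr fun t => ?_
    induction t using TensorProduct.induction_on with
    | zero => exact Submodule.zero_mem _
    | add x y hx hy => exact Submodule.add_mem _ hx hy
    | tmul β ω =>
      rw [show β ⊗ₜ[Γ(X, U)] ω = β • ((1 : B₀) ⊗ₜ[Γ(X, U)] ω) by
        rw [TensorProduct.smul_tmul', smul_eq_mul, mul_one]]
      refine Submodule.smul_mem _ _ ?_
      have hω : ω ∈ Submodule.span Γ(X, U) (Set.range (KaehlerDifferential.D Γ(Y, V) Γ(X, U))) :=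
        (KaehlerDifferential.span_range_derivation Γ(Y, V) Γ(X, U)).ge trivial
      induction hω using Submodule.span_induction with
      | mem z hz => obtain ⟨x, rfl⟩ := hz; exact Submodule.subset_span ⟨x, rfl⟩
      | zero => simp
      | add z z' _ _ hz hz' => rw [TensorProduct.tmul_add]; exact Submodule.add_mem _ hz hz'
      | smul r z _ hz => rw [TensorProduct.tmul_smul, ← hsmul]; exact Submodule.smul_mem _ _ hz
  obtain ⟨equiv⟩ := exists_equiv (L := M) (g := g) d hU hV e hρS' (LocalizedModule.mkLinearMap S₀ d.T.Coker) hδ hgen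
    fun δ' hδ' => by
      let : Module Γ(X, U) M := Module.compHom M ρS
      have : IsScalarTower Γ(X, U) B₀ M := .of_algebraMap_smul fun _ _ => rfl
      let : Module Γ(Y, V) M := Module.compHom M (ρS.comp φ)
      have : IsScalarTower Γ(Y, V) Γ(X, U) M := .of_algebraMap_smul fun _ _ => rfl
      let DM : Derivation Γ(Y, V) Γ(X, U) M := Derivation.mk'
        { toFun := δ'
          map_add' := hδ'.add
          map_smul' := fun r x => by
            rw [Algebra.smul_def, RingHom.algebraMap_toAlgebra, hδ'.mul, hδ'.base, smul_zero,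
              add_zero, RingHom.id_apply]
            rfl }
        fun x y => by
          show δ' (x * y) = _
          rw [hδ'.mul]
          rfl
      refine ⟨DM.liftKaehlerDifferential.liftBaseChange B₀, fun x => ?_⟩
      simp only [δ, LinearMap.liftBaseChange_tmul, one_smul, Derivation.liftKaehlerDifferential_comp_D]
      rfl
  exact Module.FinitePresentation.of_equiv equiv

/-- Lifts glue: if lifts exist Zariski locally on an affine square zero thickening against a morphism
locally of finite presentation, a lift exists. -/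
theorem exists_lift_of_local {X Y : Scheme.{u}} (f : X ⟶ Y) [LocallyOfFinitePresentation f]
    {A : Type u} [CommRing A] {I : Ideal A} (hI : I ^ 2 = ⊥)
    (a : Spec (CommRingCat.of (A ⧸ I)) ⟶ X) (b : Spec (CommRingCat.of A) ⟶ Y)
    (w : sp (Ideal.Quotient.mk I) ≫ b = a ≫ f)
    (hloc : ∀ (P : Ideal A) [P.IsMaximal], ∃ g ∉ P, ∃ l : Spec (CommRingCat.of (Localization.Away g)) ⟶ X,
      l ≫ f = sp (algebraMap A (Localization.Away g)) ≫ b ∧
      ∀ (B : Type u) [CommRing B] (p : Localization.Away g →+* B) (ρ : A ⧸ I →+* B),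
        p.comp (algebraMap A _) = ρ.comp (Ideal.Quotient.mk I) → sp p ≫ l = sp ρ ≫ a) :
    ∃ l : Spec (CommRingCat.of A) ⟶ X, sp (Ideal.Quotient.mk I) ≫ l = a ∧ l ≫ f = b := by
  obtain ⟨d⟩ := nonempty_data f a b w
  -- retractions on the distinguished opens
  have hφ : ∀ (P : Ideal A) [P.IsMaximal], ∃ g ∉ P, ∃ φ : d.C →ₐ[A] Localization.Away g,
      ∀ c, d.T.π c = 0 → φ c ∈ I.map (algebraMap A (Localization.Away g)) := by
    intro P _
    obtain ⟨g, hgP, l, hl, hl₀⟩ := hloc P
    let D := Localization.Away g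
    let ID : Ideal D := I.map (algebraMap A D)
    have hID : ID ^ 2 = ⊥ := by rw [← Ideal.map_pow, hI, Ideal.map_bot]
    let p := Ideal.Quotient.mk ID
    let ρ : A ⧸ I →+* D ⧸ ID := Ideal.Quotient.lift I (p.comp (algebraMap A D)) fun y hy =>
      Ideal.Quotient.eq_zero_iff_mem.mpr (Ideal.mem_map_of_mem _ hy)
    have hρ : p.comp (algebraMap A D) = ρ.comp (Ideal.Quotient.mk I) :=
      (Ideal.Quotient.lift_comp_mk _ _ _).symm
    let q : Spec (CommRingCat.of D) ⟶ pullback f b := pullback.lift l (sp (algebraMap A D)) hl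
    have hq : sp p ≫ q = sp ρ ≫ pullback.lift a (sp (Ideal.Quotient.mk I)) w.symm := by
      refine pullback.hom_ext ?_ ?_
      · rw [Category.assoc, pullback.lift_fst, Category.assoc, pullback.lift_fst, hl₀ _ p ρ hρ]
      · rw [Category.assoc, pullback.lift_snd, Category.assoc, pullback.lift_snd, ← sp_comp, ← sp_comp,
          hρ]
    obtain ⟨χ, hχ⟩ := d.factor D _ p Ideal.Quotient.mk_surjective (by rw [Ideal.mk_ker]; exact hID) ρ q hq
    have hχA : χ.comp (algebraMap A d.C) = algebraMap A D := sp_injective (by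
      rw [sp_comp, ← d.z_snd, ← Category.assoc, hχ, pullback.lift_snd])
    have hpχ : p.comp χ = ρ.comp d.T.π.toRingHom := sp_injective (by
      rw [← cancel_mono d.z, sp_comp, sp_comp, Category.assoc, hχ, hq, Category.assoc, d.π_z])
    refine ⟨g, hgP, { χ with commutes' := DFunLike.congr_fun hχA }, fun c hc => ?_⟩
    refine Ideal.Quotient.eq_zero_iff_mem.mp ((DFunLike.congr_fun hpχ c).trans ?_)
    show ρ (d.T.π c) = 0
    rw [hc, map_zero]
  have hinj : Function.Injective (algebraMap A d.C) := by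
    rw [injective_iff_map_eq_zero]
    intro x hx
    by_contra hne
    let Ann : Ideal A := Submodule.annihilator (Ideal.span {x})
    have hA : Ann ≠ ⊤ := fun h => hne (by
      have h1 : (1 : A) ∈ Ann := h ▸ Submodule.mem_top
      simpa using Submodule.mem_annihilator.mp h1 x (Ideal.mem_span_singleton_self x))
    obtain ⟨m, hm, hle⟩ := Ideal.exists_le_maximal _ hA
    obtain ⟨g, hgm, φ, -⟩ := hφ m
    have h0 : algebraMap A (Localization.Away g) x = 0 := by rw [← φ.commutes, hx, map_zero]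
    rw [IsLocalization.map_eq_zero_iff (Submonoid.powers g)] at h0
    obtain ⟨⟨_, n, rfl⟩, hn⟩ := h0
    refine hgm (hm.isPrime.mem_of_pow_mem n (hle (Submodule.mem_annihilator.mpr fun y hy => ?_)))
    obtain ⟨c, rfl⟩ := Ideal.mem_span_singleton.mp hy
    rw [smul_eq_mul, ← mul_assoc]
    simpa using congrArg (· * c) hn
  have hcover : ∀ x : Spec (CommRingCat.of (A ⧸ I)), ∃ (g : A) (U : X.Opens) (V : Y.Opens)
      (_ : IsAffineOpen U) (_ : IsAffineOpen V) (_ : U ≤ f ⁻¹ᵁ V),
      Ideal.Quotient.mk I g ∉ x.asIdeal ∧ d.Adapted g U := by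
    intro x
    obtain ⟨V, hV, hfx, -⟩ := TopologicalSpace.Opens.isBasis_iff_nbhd.mp Y.isBasis_affineOpens
      (Opens.mem_top (f (a x)))
    obtain ⟨U, hU, hx, e⟩ := TopologicalSpace.Opens.isBasis_iff_nbhd.mp X.isBasis_affineOpens
      (show a x ∈ f ⁻¹ᵁ V from hfx)
    obtain ⟨_, ⟨g, rfl⟩, hgx, hgU⟩ :=
      PrimeSpectrum.isTopologicalBasis_basic_opens.exists_subset_of_mem_open
        (u := SetLike.coe (a ⁻¹ᵁ U)) hx (a ⁻¹ᵁ U).isOpen
    obtain ⟨g, rfl⟩ := Ideal.Quotient.mk_surjective g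
    exact ⟨g, U, V, hU, hV, e, hgx, fun y hy => hgU hy⟩
  choose g U V hU hV e hgx hg using hcover
  have hspan : Ideal.span (Set.range fun x => Ideal.Quotient.mk I (g x)) = ⊤ := by
    by_contra hne
    obtain ⟨m, hm, hle⟩ := Ideal.exists_le_maximal _ hne
    exact hgx ⟨m, hm.isPrime⟩ (hle (Ideal.subset_span ⟨⟨m, hm.isPrime⟩, rfl⟩))
  have : Module.FinitePresentation (A ⧸ I) d.T.Coker :=
    Module.FinitePresentation.of_localizationSpan _ hspan (by
      rintro ⟨_, x, rfl⟩
      exact finitePresentation_localizedModule d (hU x) (hV x) (e x)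
        (f.finitePresentation_appLE (hV x) (hU x) (e x)) (hg x))
  obtain ⟨σ, hσ, hσπ⟩ := exists_section_of_local d.T fun P _ => by
    obtain ⟨g, hgP, φ, hφ'⟩ := hφ P
    let ν : Localization.Away g →ₐ[A] Localization.AtPrime P :=
      { IsLocalization.Away.lift g (g := algebraMap A (Localization.AtPrime P))
          (IsLocalization.map_units (M := P.primeCompl) _ ⟨g, hgP⟩) with
        commutes' := fun r => IsLocalization.Away.lift_eq g _ r }
    refine ⟨ν.comp φ, fun c hc => ?_⟩
    have h := Ideal.mem_map_of_mem ν.toRingHom (hφ' c hc)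
    rw [Ideal.map_map, AlgHom.toRingHom_eq_coe, ν.comp_algebraMap] at h
    exact h
  obtain ⟨φ, hφA⟩ := exists_retraction_of_section d.T hinj σ hσ hσπ
  refine ⟨d.toX φ.toRingHom, ?_, ?_⟩
  · rw [d.sp_comp_toX (ρ := RingHom.id (A ⧸ I))
      (RingHom.ext fun c => by simpa using hφA c)]
    exact (congrArg (· ≫ a) (Spec.map_id _)).trans (Category.id_comp a)
  · rw [d.toX_comp_f, show φ.toRingHom.comp (algebraMap A d.C) = RingHom.id A from
      RingHom.ext φ.commutes]
    exact (congrArg (· ≫ b) (Spec.map_id _)).trans (Category.id_comp b)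

end Groth.EtaleAlgebra.LiftGlue
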