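import Mathlib.Algebra.Category.ModuleCat.FilteredColimits
import Mathlib.Algebra.Category.ModuleCat.ChangeOfRings
import Mathlib.Algebra.Category.ModuleCat.Abelian
import Mathlib.Algebra.Module.LocalizedModule.Exact
import Mathlib.CategoryTheory.Linear.LinearFunctor
import Mathlib.CategoryTheory.Limits.ConcreteCategory.Basic
import Mathlib.RingTheory.LocalProperties.Exactness
import Mathlib.Algebra.Homology.ShortComplex.ExactFunctor
import Mathlib.Algebra.Category.ModuleCat.Localization
import Mathlib.Algebra.Category.ModuleCat.Monoidal.Basic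

/-!
# Linear functors commuting with filtered colimits commute with localisation
-/

set_option autoImplicit false
universe u

namespace Groth.EtaleAlgebra.LinFunctorLoc

open CategoryTheory CategoryTheory.Limits

/-- The objects of the category indexing a localisation: the elements of the submonoid. -/
structure Den {A : Type u} [CommRing A] (S : Submonoid A) : Type u where
  /-- the element -/
  val : S

variable {A : Type u} [CommRing A] {S : Submonoid A}

instance : SmallCategory (Den S) where
  Hom a b := {t : S // a.val * t = b.val}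
  id a := ⟨1, mul_one _⟩
  comp f g := ⟨f.1 * g.1, by rw [← mul_assoc, f.2, g.2]⟩
  id_comp f := Subtype.ext (one_mul _)
  comp_id f := Subtype.ext (mul_one _)
  assoc f g h := Subtype.ext (mul_assoc _ _ _)

theorem comp_val {a b c : Den S} (f : a ⟶ b) (g : b ⟶ c) : (f ≫ g).1 = f.1 * g.1 := rfl

instance : IsFiltered (Den S) where
  nonempty := ⟨⟨1⟩⟩
  cocone_objs a b :=
    ⟨⟨a.val * b.val⟩, ⟨b.val, rfl⟩, ⟨a.val, mul_comm _ _⟩, trivial⟩
  cocone_maps {a b} f g := by
    refine ⟨⟨b.val * a.val⟩, ⟨a.val, rfl⟩, Subtype.ext ?_⟩
    rw [comp_val, comp_val]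
    show f.1 * a.val = g.1 * a.val
    rw [mul_comm f.1, mul_comm g.1, f.2, g.2]

/-- Multiplication maps on a module indexed by denominators. -/
noncomputable def diagram (S : Submonoid A) (M : ModuleCat.{u} A) :
    Den S ⥤ ModuleCat.{u} A where
  obj _ := M
  map f := ((f.1 : S) : A) • 𝟙 M
  map_id a := one_smul A _
  map_comp {a b c} f g := by
    ext m
    show ((f.1 * g.1 : S) : A) • m = (g.1 : A) • ((f.1 : A) • m)
    rw [Submonoid.coe_mul, mul_comm, mul_smul]

theorem diagram_map_apply {M : ModuleCat.{u} A} {a b : Den S} (f : a ⟶ b) (m : M) :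
    (diagram S M).map f m = ((f.1 : S) : A) • m := rfl

/-- `m ↦ m / s`. -/
noncomputable def incl (M : ModuleCat.{u} A) (s : S) : M ⟶ ModuleCat.of A (LocalizedModule S M) :=
  ModuleCat.ofHom
    { toFun := fun m => LocalizedModule.mk m s
      map_add' := fun m n => by
        rw [LocalizedModule.mk_add_mk]
        refine LocalizedModule.mk_eq.2 ⟨1, ?_⟩
        simp only [one_smul, smul_add, Submonoid.smul_def, Submonoid.coe_mul, mul_smul]
      map_smul' := fun c m => by
        rw [RingHom.id_apply, LocalizedModule.smul'_mk] }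

/-- The localisation as a cocone. -/
noncomputable def cocone (S : Submonoid A) (M : ModuleCat.{u} A) : Cocone (diagram S M) where
  pt := ModuleCat.of A (LocalizedModule S M)
  ι :=
    { app := fun a => incl M a.val
      naturality := fun a b f => by
        ext m
        show LocalizedModule.mk (((f.1 : S) : A) • m) b.val = LocalizedModule.mk m a.val
        refine LocalizedModule.mk_eq.2 ⟨1, ?_⟩
        obtain ⟨t, ht⟩ := f
        simp only [one_smul, Submonoid.smul_def, ← ht, Submonoid.coe_mul, mul_smul] }

/-- The localisation is the colimit of multiplication maps. -/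
noncomputable def isColimitCocone (S : Submonoid A) (M : ModuleCat.{u} A) :
    IsColimit (cocone S M) := by
  refine IsColimit.ofExistsUnique fun c => ?_
  have hnat : ∀ (s t : S) (m : M), c.ι.app ⟨s * t⟩ ((t : A) • m) = c.ι.app ⟨s⟩ m := fun s t m =>
    DFunLike.congr_fun (congrArg ModuleCat.Hom.hom (c.w (⟨t, rfl⟩ : (⟨s⟩ : Den S) ⟶ ⟨s * t⟩))) m
  have hwd : ∀ p q : M × S, p ≈ q → c.ι.app ⟨p.2⟩ p.1 = c.ι.app ⟨q.2⟩ q.1 := by
    rintro ⟨m, s⟩ ⟨m', s'⟩ ⟨v, hv⟩
    simp only [Submonoid.smul_def] at hv
    have h1 := hnat s (v * s') m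
    have h2 := hnat s' (v * s) m'
    rw [show s * (v * s') = v * s * s' by ac_rfl, Submonoid.coe_mul, mul_smul, hv] at h1
    rw [show s' * (v * s) = v * s * s' by ac_rfl, Submonoid.coe_mul, mul_smul] at h2
    exact h1.symm.trans h2
  let d : LocalizedModule S M → c.pt := fun x =>
    LocalizedModule.liftOn x (fun p => c.ι.app ⟨p.2⟩ p.1) hwd
  have hd : ∀ (m : M) (s : S), d (LocalizedModule.mk m s) = c.ι.app ⟨s⟩ m := fun m s =>
    LocalizedModule.liftOn_mk hwd m s
  let dl : LocalizedModule S M →ₗ[A] c.pt :=
    { toFun := d
      map_add' := fun x y => by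
        induction x using LocalizedModule.induction_on with
        | h m s =>
          induction y using LocalizedModule.induction_on with
          | h n t =>
            rw [LocalizedModule.mk_add_mk, hd, hd, hd]
            refine (map_add (c.ι.app (⟨s * t⟩ : Den S)).hom _ _).trans ?_
            congr 1
            · exact hnat s t m
            · rw [mul_comm s t]; exact hnat t s n
      map_smul' := fun a x => by
        induction x using LocalizedModule.induction_on with
        | h m s =>
          rw [LocalizedModule.smul'_mk, hd, hd, RingHom.id_apply]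
          exact map_smul (c.ι.app ⟨s⟩).hom a m }
  refine ⟨ModuleCat.ofHom dl, fun a => by ext m; exact hd m a.val, fun g hg => ?_⟩
  ext x
  induction x using LocalizedModule.induction_on with
  | h m s => exact (DFunLike.congr_fun (congrArg ModuleCat.Hom.hom (hg ⟨s⟩)) m).trans (hd m s).symm

/-- A linear functor preserving filtered colimits commutes with localisation. -/
theorem isLocalizedModule_map (T : ModuleCat.{u} A ⥤ ModuleCat.{u} A) [T.Additive] [T.Linear A]
    (hT : ∀ (J : Type u) [SmallCategory J] [IsFiltered J], PreservesColimitsOfShape J T)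
    (S : Submonoid A) (M : ModuleCat.{u} A) :
    IsLocalizedModule S (T.map (ModuleCat.ofHom (LocalizedModule.mkLinearMap S M) :
      M ⟶ ModuleCat.of A (LocalizedModule S M))).hom := by
  have := hT (Den S)
  have hc : IsColimit (T.mapCocone (cocone S M)) := isColimitOfPreserves T (isColimitCocone S M)
  let ι : ∀ s : S, T.obj M ⟶ T.obj (ModuleCat.of A (LocalizedModule S M)) := fun s =>
    T.map (incl M s)
  have h1 : ι 1 = T.map (ModuleCat.ofHom (LocalizedModule.mkLinearMap S M)) := congrArg T.map (by ext m; rfl)
  have hs : ∀ s : S, ((s : S) : A) • ι s = ι 1 := fun s => by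
    show (s : A) • T.map _ = T.map _
    rw [← T.map_smul]
    congr 1
    ext m
    show (s : A) • LocalizedModule.mk m s = LocalizedModule.mk m (1 : S)
    rw [LocalizedModule.smul'_mk, ← Submonoid.smul_def, LocalizedModule.mk_cancel]
  refine ⟨fun s => ?_, fun y => ?_, fun {x₁ x₂} h => ?_⟩
  · rw [Module.End.isUnit_iff]
    let L := ModuleCat.of A (LocalizedModule S M)
    have hb : Function.Bijective ((s : A) • 𝟙 L : L ⟶ L).hom :=
      (Module.End.isUnit_iff _).1 (IsLocalizedModule.map_units (LocalizedModule.mkLinearMap S M) s)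
    have : IsIso ((s : A) • 𝟙 L : L ⟶ L) :=
      (ConcreteCategory.isIso_iff_bijective _).2 hb
    have hb' := (ConcreteCategory.isIso_iff_bijective (T.map ((s : A) • 𝟙 L : L ⟶ L))).1 inferInstance
    rw [T.map_smul, T.map_id] at hb'
    exact hb'
  · obtain ⟨⟨s⟩, x, hx⟩ := Concrete.isColimit_exists_rep _ hc y
    refine ⟨(x, s), ?_⟩
    rw [← hx, ← h1, ← hs s]
    rfl
  · rw [← h1] at h
    obtain ⟨k, f, g, hfg⟩ := Concrete.isColimit_exists_of_rep_eq
      (diagram S M ⋙ T) (i := (⟨1⟩ : Den S)) (j := ⟨1⟩) hc x₁ x₂ h
    refine ⟨f.1, ?_⟩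
    have hfg' : g.1 = f.1 := by
      have e1 : f.1 = k.val := (one_mul _).symm.trans f.2
      have e2 : g.1 = k.val := (one_mul _).symm.trans g.2
      rw [e1, e2]
    have key : ∀ (e : (⟨1⟩ : Den S) ⟶ k) (x : T.obj M),
        (diagram S M ⋙ T).map e x = ((e.1 : S) : A) • x := fun e x => by
      show T.map (((e.1 : S) : A) • 𝟙 M) x = _
      rw [T.map_smul, T.map_id]
      rfl
    rw [key, key, hfg'] at hfg
    exact hfg

/-- The comparison with the restriction of scalars. -/
noncomputable def restrIso (m : Ideal A) [m.IsPrime] (X : ModuleCat.{u} A) :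
    ModuleCat.of A (LocalizedModule m.primeCompl X) ≅
      (ModuleCat.restrictScalars (algebraMap A (Localization.AtPrime m))).obj
        (ModuleCat.of (Localization.AtPrime m) (LocalizedModule m.primeCompl X)) :=
  { hom := ModuleCat.ofHom (Y := (ModuleCat.restrictScalars (algebraMap A (Localization.AtPrime m))).obj
        (ModuleCat.of (Localization.AtPrime m) (LocalizedModule m.primeCompl X)))
      { toFun := fun x => x
        map_add' := fun _ _ => rfl
        map_smul' := fun a x => (algebraMap_smul (Localization.AtPrime m) a x).symm }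
    inv := ModuleCat.ofHom (X := (ModuleCat.restrictScalars (algebraMap A (Localization.AtPrime m))).obj
        (ModuleCat.of (Localization.AtPrime m) (LocalizedModule m.primeCompl X)))
      { toFun := fun x => x
        map_add' := fun _ _ => rfl
        map_smul' := fun a x => algebraMap_smul (Localization.AtPrime m) a
          (show LocalizedModule m.primeCompl X from x) }
    hom_inv_id := rfl
    inv_hom_id := rfl }

/-- The localisation map, into the restriction of scalars. -/
noncomputable def toRestr (m : Ideal A) [m.IsPrime] (X : ModuleCat.{u} A) :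
    X ⟶ (ModuleCat.restrictScalars (algebraMap A (Localization.AtPrime m))).obj
      (ModuleCat.of (Localization.AtPrime m) (LocalizedModule m.primeCompl X)) :=
  ModuleCat.ofHom (LocalizedModule.mkLinearMap m.primeCompl X) ≫ (restrIso m X).hom

theorem isLocalizedModule_toRestr (T : ModuleCat.{u} A ⥤ ModuleCat.{u} A) [T.Additive] [T.Linear A]
    (hT : ∀ (J : Type u) [SmallCategory J] [IsFiltered J], PreservesColimitsOfShape J T)
    (m : Ideal A) [m.IsPrime] (X : ModuleCat.{u} A) :
    IsLocalizedModule m.primeCompl (T.map (toRestr m X)).hom := by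
  have := isLocalizedModule_map T hT m.primeCompl X
  rw [toRestr, T.map_comp, ModuleCat.hom_comp]
  exact IsLocalizedModule.of_linearEquiv m.primeCompl _ (T.mapIso (restrIso m X)).toLinearEquiv

/-- The localised short complex. -/
noncomputable def locComplex (m : Ideal A) [m.IsPrime] (S : ShortComplex (ModuleCat.{u} A)) :
    ShortComplex (ModuleCat.{u} (Localization.AtPrime m)) :=
  ShortComplex.mk
    (ModuleCat.ofHom (LocalizedModule.map m.primeCompl S.f.hom) :
      ModuleCat.of (Localization.AtPrime m) (LocalizedModule m.primeCompl S.X₁) ⟶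
        ModuleCat.of (Localization.AtPrime m) (LocalizedModule m.primeCompl S.X₂))
    (ModuleCat.ofHom (LocalizedModule.map m.primeCompl S.g.hom) :
      ModuleCat.of (Localization.AtPrime m) (LocalizedModule m.primeCompl S.X₂) ⟶
        ModuleCat.of (Localization.AtPrime m) (LocalizedModule m.primeCompl S.X₃))
    (by
      ext x
      induction x using LocalizedModule.induction_on with
      | h x s =>
        show LocalizedModule.map m.primeCompl S.g.hom (LocalizedModule.map m.primeCompl S.f.hom
          (LocalizedModule.mk x s)) = 0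
        rw [LocalizedModule.map_mk, LocalizedModule.map_mk, show S.g.hom (S.f.hom x) = 0 from
          DFunLike.congr_fun (congrArg ModuleCat.Hom.hom S.zero) x, LocalizedModule.zero_mk])

theorem locComplex_shortExact (m : Ideal A) [m.IsPrime] {S : ShortComplex (ModuleCat.{u} A)}
    (hS : S.ShortExact) : (locComplex m S).ShortExact := by
  have h1 : Function.Injective S.f.hom := (ModuleCat.mono_iff_injective _).1 hS.mono_f
  have h3 : Function.Surjective S.g.hom := (ModuleCat.epi_iff_surjective _).1 hS.epi_g
  have : Mono (locComplex m S).f := (ModuleCat.mono_iff_injective _).2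
    (LocalizedModule.map_injective m.primeCompl S.f.hom h1)
  have : Epi (locComplex m S).g := (ModuleCat.epi_iff_surjective _).2
    (LocalizedModule.map_surjective m.primeCompl S.g.hom h3)
  refine ⟨?_⟩
  rw [ShortComplex.ShortExact.moduleCat_exact_iff_function_exact]
  exact LocalizedModule.map_exact m.primeCompl S.f.hom S.g.hom
    ((ShortComplex.ShortExact.moduleCat_exact_iff_function_exact S).1 hS.exact)

theorem toRestr_naturality (m : Ideal A) [m.IsPrime] {X Y : ModuleCat.{u} A} (f : X ⟶ Y) :
    f ≫ toRestr m Y = toRestr m X ≫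
      (ModuleCat.restrictScalars (algebraMap A (Localization.AtPrime m))).map
        (ModuleCat.ofHom (LocalizedModule.map m.primeCompl f.hom) :
          ModuleCat.of (Localization.AtPrime m) (LocalizedModule m.primeCompl X) ⟶
            ModuleCat.of (Localization.AtPrime m) (LocalizedModule m.primeCompl Y)) := by
  ext x
  exact (LocalizedModule.map_mk m.primeCompl f.hom x 1).symm

variable (T : ModuleCat.{u} A ⥤ ModuleCat.{u} A) [T.Additive] [T.Linear A]
    (hT : ∀ (J : Type u) [SmallCategory J] [IsFiltered J], PreservesColimitsOfShape J T)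

include hT in
theorem map_localized (m : Ideal A) [m.IsPrime] {X Y : ModuleCat.{u} A} (f : X ⟶ Y) :
    haveI := isLocalizedModule_toRestr T hT m X
    haveI := isLocalizedModule_toRestr T hT m Y
    IsLocalizedModule.map m.primeCompl (T.map (toRestr m X)).hom (T.map (toRestr m Y)).hom
        (T.map f).hom =
      (T.map ((ModuleCat.restrictScalars (algebraMap A (Localization.AtPrime m))).map
        (ModuleCat.ofHom (LocalizedModule.map m.primeCompl f.hom) :
          ModuleCat.of (Localization.AtPrime m) (LocalizedModule m.primeCompl X) ⟶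
            ModuleCat.of (Localization.AtPrime m) (LocalizedModule m.primeCompl Y)))).hom := by
  have := isLocalizedModule_toRestr T hT m X
  have := isLocalizedModule_toRestr T hT m Y
  refine IsLocalizedModule.linearMap_ext m.primeCompl (T.map (toRestr m X)).hom
    (T.map (toRestr m Y)).hom ?_
  rw [IsLocalizedModule.map_comp, ← ModuleCat.hom_comp, ← T.map_comp, toRestr_naturality,
    T.map_comp, ModuleCat.hom_comp]

include hT in
theorem preservesFiniteLimits_of_forall_maximal
    (h : ∀ (m : Ideal A) [m.IsMaximal],
      PreservesFiniteLimits (ModuleCat.restrictScalars (algebraMap A (Localization.AtPrime m)) ⋙ T)) :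
    PreservesFiniteLimits T := by
  rw [Functor.preservesFiniteLimits_iff_forall_exact_map_and_mono]
  intro S hS
  have key : ∀ (m : Ideal A) [m.IsMaximal],
      ((locComplex m S).map
        (ModuleCat.restrictScalars (algebraMap A (Localization.AtPrime m)) ⋙ T)).Exact ∧
      Mono ((ModuleCat.restrictScalars (algebraMap A (Localization.AtPrime m)) ⋙ T).map
        (locComplex m S).f) := fun m _ =>
    (Functor.preservesFiniteLimits_iff_forall_exact_map_and_mono _).1 (h m) _
      (locComplex_shortExact m hS)
  have h1 : ∀ (J : Ideal A) [J.IsMaximal],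
      IsLocalizedModule.AtPrime J (T.map (toRestr J S.X₁)).hom :=
    fun J _ => isLocalizedModule_toRestr T hT J S.X₁
  have h2 : ∀ (J : Ideal A) [J.IsMaximal],
      IsLocalizedModule.AtPrime J (T.map (toRestr J S.X₂)).hom :=
    fun J _ => isLocalizedModule_toRestr T hT J S.X₂
  have h3 : ∀ (J : Ideal A) [J.IsMaximal],
      IsLocalizedModule.AtPrime J (T.map (toRestr J S.X₃)).hom :=
    fun J _ => isLocalizedModule_toRestr T hT J S.X₃
  refine ⟨?_, ?_⟩
  · rw [ShortComplex.ShortExact.moduleCat_exact_iff_function_exact]
    refine @exact_of_isLocalized_maximal A _ _ _ _ _ _ _ _ _ _ _ _ _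
      (fun J _ => (T.map (toRestr J S.X₁)).hom) h1 _ _ _
      (fun J _ => (T.map (toRestr J S.X₂)).hom) h2 _ _ _
      (fun J _ => (T.map (toRestr J S.X₃)).hom) h3
      (T.map S.f).hom (T.map S.g).hom fun J _ => ?_
    rw [map_localized T hT, map_localized T hT]
    exact (ShortComplex.ShortExact.moduleCat_exact_iff_function_exact _).1 (key J).1
  · refine (ModuleCat.mono_iff_injective _).2 (@injective_of_isLocalized_maximal A _ _ _ _ _ _ _ _ _ _
      (fun J _ => (T.map (toRestr J S.X₁)).hom) h1 _ _ _
      (fun J _ => (T.map (toRestr J S.X₂)).hom) h2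
      (T.map S.f).hom fun J _ => ?_)
    rw [map_localized T hT]
    exact (ModuleCat.mono_iff_injective _).1 (key J).2

include hT in
theorem preservesFiniteColimits_of_forall_maximal
    (h : ∀ (m : Ideal A) [m.IsMaximal],
      PreservesFiniteColimits
        (ModuleCat.restrictScalars (algebraMap A (Localization.AtPrime m)) ⋙ T)) :
    PreservesFiniteColimits T := by
  rw [Functor.preservesFiniteColimits_iff_forall_exact_map_and_epi]
  intro S hS
  have key : ∀ (m : Ideal A) [m.IsMaximal],
      ((locComplex m S).map
        (ModuleCat.restrictScalars (algebraMap A (Localization.AtPrime m)) ⋙ T)).Exact ∧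
      Epi ((ModuleCat.restrictScalars (algebraMap A (Localization.AtPrime m)) ⋙ T).map
        (locComplex m S).g) := fun m _ =>
    (Functor.preservesFiniteColimits_iff_forall_exact_map_and_epi _).1 (h m) _
      (locComplex_shortExact m hS)
  have h1 : ∀ (J : Ideal A) [J.IsMaximal],
      IsLocalizedModule.AtPrime J (T.map (toRestr J S.X₁)).hom :=
    fun J _ => isLocalizedModule_toRestr T hT J S.X₁
  have h2 : ∀ (J : Ideal A) [J.IsMaximal],
      IsLocalizedModule.AtPrime J (T.map (toRestr J S.X₂)).hom :=
    fun J _ => isLocalizedModule_toRestr T hT J S.X₂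
  have h3 : ∀ (J : Ideal A) [J.IsMaximal],
      IsLocalizedModule.AtPrime J (T.map (toRestr J S.X₃)).hom :=
    fun J _ => isLocalizedModule_toRestr T hT J S.X₃
  refine ⟨?_, ?_⟩
  · rw [ShortComplex.ShortExact.moduleCat_exact_iff_function_exact]
    refine @exact_of_isLocalized_maximal A _ _ _ _ _ _ _ _ _ _ _ _ _
      (fun J _ => (T.map (toRestr J S.X₁)).hom) h1 _ _ _
      (fun J _ => (T.map (toRestr J S.X₂)).hom) h2 _ _ _
      (fun J _ => (T.map (toRestr J S.X₃)).hom) h3
      (T.map S.f).hom (T.map S.g).hom fun J _ => ?_
    rw [map_localized T hT, map_localized T hT]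
    exact (ShortComplex.ShortExact.moduleCat_exact_iff_function_exact _).1 (key J).1
  · refine (ModuleCat.epi_iff_surjective _).2 (@surjective_of_isLocalized_maximal A _ _ _ _ _ _ _ _ _ _
      (fun J _ => (T.map (toRestr J S.X₂)).hom) h2 _ _ _
      (fun J _ => (T.map (toRestr J S.X₃)).hom) h3
      (T.map S.g).hom fun J _ => ?_)
    rw [map_localized T hT]
    exact (ModuleCat.epi_iff_surjective _).1 (key J).2

end Groth.EtaleAlgebra.LinFunctorLoc
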