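import Groth.Agent.S1977
import Groth.Agent.EtaleAlgebra.WeaklyEtaleField
import Mathlib.Dynamics.Newton

set_option autoImplicit false

/-!
# The largest weakly etale subalgebra over a field consists of the roots of separable polynomials
-/

universe u

open Polynomial

namespace Groth.EtaleAlgebra

variable {K : Type u} [Field K] {A : Type u} [CommRing A] [Algebra K A]

theorem mem_maxWeaklyEtale {x : A} : x ∈ EtAlgD.maxWeaklyEtale K A ↔ IsSepElem K x := by
  constructor
  · intro hx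
    have : Algebra.WeaklyEtale K ↥(EtAlgD.maxWeaklyEtale K A) := Groth.Agent.S1977.result K A
    exact (isSepElem_of_weaklyEtale (⟨x, hx⟩ : ↥(EtAlgD.maxWeaklyEtale K A))).map
      (EtAlgD.maxWeaklyEtale K A).val
  · intro hx
    refine (le_sSup (α := Subalgebra K A) (show Algebra.adjoin K {x} ∈
      {S : Subalgebra K A | Algebra.WeaklyEtale K S} from ?_)) (Algebra.self_mem_adjoin_singleton K x)
    refine weaklyEtale_of_isSepElem _
      (Algebra.adjoin_adjoin_coe_preimage (R := K) (s := ({x} : Set A))) fun y hy => ?_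
    refine IsSepElem.of_map (Algebra.adjoin K {x}).val Subtype.val_injective ?_
    rw [show (Algebra.adjoin K {x}).val y = x from hy]
    exact hx

theorem regular_maxWeaklyEtale (x : ↥(EtAlgD.maxWeaklyEtale K A)) : ∃ y, x = x * y * x := by
  have : Algebra.WeaklyEtale K ↥(EtAlgD.maxWeaklyEtale K A) := Groth.Agent.S1977.result K A
  exact regular_of_weaklyEtale (fun a : K => ⟨a⁻¹, by
    rcases eq_or_ne a 0 with h | h <;> simp [h]⟩) _ x

theorem map_maxWeaklyEtale_subalgebra (A' : Subalgebra K A) :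
    (EtAlgD.maxWeaklyEtale K A').map A'.val = EtAlgD.maxWeaklyEtale K A ⊓ A' := by
  ext x
  simp only [Subalgebra.mem_map, Algebra.mem_inf, mem_maxWeaklyEtale]
  constructor
  · rintro ⟨y, hy, rfl⟩
    exact ⟨hy.map A'.val, y.2⟩
  · rintro ⟨hx, hx'⟩
    exact ⟨⟨x, hx'⟩, IsSepElem.of_map A'.val Subtype.val_injective hx, rfl⟩

theorem eq_zero_of_isNilpotent_of_mem {x : A} (hx : x ∈ EtAlgD.maxWeaklyEtale K A)
    (hn : IsNilpotent x) : x = 0 := by
  have := isReduced_of_regular (regular_maxWeaklyEtale (K := K) (A := A))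
  have h : IsNilpotent (⟨x, hx⟩ : ↥(EtAlgD.maxWeaklyEtale K A)) := by
    obtain ⟨n, hn⟩ := hn
    exact ⟨n, Subtype.ext (by simpa using hn)⟩
  exact congrArg Subtype.val h.eq_zero

theorem bijOn_maxWeaklyEtale_nilradical :
    Set.BijOn (Ideal.Quotient.mkₐ K (nilradical A)) (EtAlgD.maxWeaklyEtale K A)
      (EtAlgD.maxWeaklyEtale K (A ⧸ nilradical A)) := by
  refine ⟨fun x hx => mem_maxWeaklyEtale.2 ((mem_maxWeaklyEtale.1 hx).map _), ?_, ?_⟩
  · intro x hx y hy h
    refine sub_eq_zero.1 (eq_zero_of_isNilpotent_of_mem (sub_mem hx hy) ?_)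
    exact mem_nilradical.1 (Ideal.Quotient.eq.1 h)
  · intro y hy
    obtain ⟨f, hf, hfy⟩ := mem_maxWeaklyEtale.1 hy
    obtain ⟨x, rfl⟩ := Ideal.Quotient.mkₐ_surjective K (nilradical A) y
    have hn : IsNilpotent (aeval x f) := by
      rw [aeval_algHom_apply] at hfy
      exact mem_nilradical.1 (Ideal.Quotient.eq_zero_iff_mem.1 hfy)
    have hu : IsUnit (aeval x (derivative f)) := by
      obtain ⟨a, b, hab⟩ := hf
      have h1 := congrArg (aeval x) hab
      rw [map_add, map_mul, map_mul, map_one] at h1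
      refine isUnit_of_mul_isUnit_right (x := aeval x b) ?_
      rw [show aeval x b * aeval x (derivative f) = 1 - aeval x a * aeval x f by
        linear_combination h1]
      exact IsNilpotent.isUnit_one_sub (Commute.isNilpotent_mul_left (Commute.all _ _) hn)
    obtain ⟨r, ⟨hr, hr0⟩, -⟩ := existsUnique_nilpotent_sub_and_aeval_eq_zero hn hu
    exact ⟨r, mem_maxWeaklyEtale.2 ⟨f, hf, hr0⟩, (Ideal.Quotient.eq.2 (mem_nilradical.2 hr)).symm⟩

theorem isField_maxWeaklyEtale (h : ∀ e : A, IsIdempotentElem e → e = 0 ∨ e = 1) [Nontrivial A] :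
    IsField ↥(EtAlgD.maxWeaklyEtale K A) ∧
      Algebra.IsSeparable K ↥(EtAlgD.maxWeaklyEtale K A) := by
  refine ⟨⟨⟨0, 1, zero_ne_one⟩, mul_comm, fun {a} ha => ?_⟩, ⟨fun x => ?_⟩⟩
  · obtain ⟨b, hb⟩ := regular_maxWeaklyEtale a
    have hid : IsIdempotentElem (a * b) := by
      rw [IsIdempotentElem, ← mul_assoc, ← hb]
    rcases h (a * b : ↥(EtAlgD.maxWeaklyEtale K A)).1
        (congrArg Subtype.val hid) with h0 | h1
    · exact absurd (by rw [hb, show a * b = 0 from Subtype.ext h0, zero_mul]) ha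
    · exact ⟨b, Subtype.ext h1⟩
  · obtain ⟨f, hf, hfx⟩ := mem_maxWeaklyEtale.1 x.2
    refine hf.of_dvd (minpoly.dvd K x (Subtype.val_injective ?_))
    exact (Polynomial.aeval_algHom_apply (EtAlgD.maxWeaklyEtale K A).val x f).symm.trans hfx

end Groth.EtaleAlgebra
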