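import Groth.Agent.EtaleAlgebra.Milnor

universe u

open TensorProduct

namespace Groth.EtaleAlgebra.Milnor

set_option linter.unusedSectionVars false

variable {B' B A' A : Type u} [CommRing B'] [CommRing B] [CommRing A'] [CommRing A]
  [Algebra B' B] [Algebra B' A'] [Algebra B A] [Algebra A' A] [Algebra B' A]
  [IsScalarTower B' B A] [IsScalarTower B' A' A]

variable {N M' : Type u} [AddCommGroup N] [Module B N] [Module B' N] [IsScalarTower B' B N]
  [AddCommGroup M'] [Module A' M'] [Module B' M'] [IsScalarTower B' A' M']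

variable {φ : A ⊗[B] N ≃ₗ[A] A ⊗[A'] M'}

theorem mem_glue {x : N × M'} :
    x ∈ EtMil.glue B' φ ↔ φ ((1 : A) ⊗ₜ[B] x.1) = (1 : A) ⊗ₜ[A'] x.2 := Iff.rfl

/-- The kernel of `A' → A` lifts to the kernel of `B' → B`. -/
def KerLift (B' B A' A : Type u) [CommRing B'] [CommRing B] [CommRing A'] [CommRing A]
    [Algebra B' B] [Algebra B' A'] [Algebra A' A] : Prop :=
  ∀ a : A', algebraMap A' A a = 0 → ∃ j, algebraMap B' B j = 0 ∧ algebraMap B' A' j = a

theorem exists_glue_fst (hC : Function.Surjective (algebraMap A' A)) (n : N) :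
    ∃ x : EtMil.glue B' φ, (x : N × M').1 = n := by
  obtain ⟨m, hm⟩ := TensorProduct.mk_surjective A' M' A hC (φ ((1 : A) ⊗ₜ[B] n))
  exact ⟨⟨(n, m), mem_glue.2 hm.symm⟩, rfl⟩

theorem glueSnd_spans (hC : Function.Surjective (algebraMap A' A)) :
    Submodule.span A' (Set.range fun x : EtMil.glue B' φ => (x : N × M').2) = ⊤ := by
  rw [eq_top_iff]
  rintro m -
  have h : ∀ t : A ⊗[B] N, ∃ m₀ ∈ Submodule.span A' (Set.range fun x : EtMil.glue B' φ => (x : N × M').2),
      φ t = (1 : A) ⊗ₜ[A'] m₀ := by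
    intro t
    induction t with
    | zero => exact ⟨0, zero_mem _, by simp⟩
    | tmul a n =>
      obtain ⟨a', rfl⟩ := hC a
      obtain ⟨x, rfl⟩ := exists_glue_fst (B' := B') (φ := φ) hC n
      refine ⟨a' • (x : N × M').2, Submodule.smul_mem _ _ (Submodule.subset_span ⟨x, rfl⟩), ?_⟩
      rw [tmul_smul, ← mem_glue.1 x.2, ← algebraMap_smul A a', ← map_smul, smul_tmul', smul_eq_mul,
        mul_one]
    | add s t hs ht =>
      obtain ⟨a, ha, hsa⟩ := hs
      obtain ⟨b, hb, htb⟩ := ht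
      exact ⟨a + b, add_mem ha hb, by rw [map_add, hsa, htb, tmul_add]⟩
  obtain ⟨m₀, hm₀, he⟩ := h (φ.symm ((1 : A) ⊗ₜ[A'] m))
  rw [LinearEquiv.apply_symm_apply] at he
  have h0 : (1 : A) ⊗ₜ[A'] (m - m₀) = 0 := by rw [tmul_sub, he, sub_self]
  have hmem : m - m₀ ∈ Submodule.span A' (Set.range fun x : EtMil.glue B' φ => (x : N × M').2) :=
    Submodule.subset_span ⟨⟨(0, m - m₀), mem_glue.2 (by simp [h0])⟩, rfl⟩
  simpa using add_mem hmem hm₀

theorem zero_snd_mem (hk : KerLift B' B A' A) (P : Submodule B' (EtMil.glue B' φ))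
    (hP : Submodule.span A' ((fun x : EtMil.glue B' φ => (x : N × M').2) '' P) = ⊤) {m : M'}
    (hm : m ∈ RingHom.ker (algebraMap A' A) • (⊤ : Submodule A' M')) :
    ∃ x ∈ RingHom.ker (algebraMap B' B) • P, (x : N × M').1 = 0 ∧ (x : N × M').2 = m := by
  refine Submodule.smul_induction_on hm (fun i hi m' _ => ?_) ?_
  · have hm' : m' ∈ Submodule.span A' ((fun x : EtMil.glue B' φ => (x : N × M').2) '' P) := hP ▸ trivial
    induction hm' using Submodule.span_induction generalizing i with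
    | mem y hy =>
      obtain ⟨p, hp, rfl⟩ := hy
      obtain ⟨j, hj1, hj2⟩ := hk i hi
      refine ⟨j • p, Submodule.smul_mem_smul hj1 hp, ?_, ?_⟩
      · show j • (p : N × M').1 = 0
        rw [← algebraMap_smul B j, hj1, zero_smul]
      · show j • (p : N × M').2 = i • (p : N × M').2
        rw [← algebraMap_smul A' j, hj2]
    | zero => exact ⟨0, zero_mem _, rfl, (smul_zero _).symm⟩
    | add y z _ _ ihy ihz =>
      obtain ⟨x₁, h₁, f₁, s₁⟩ := ihy i hi trivial
      obtain ⟨x₂, h₂, f₂, s₂⟩ := ihz i hi trivial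
      exact ⟨x₁ + x₂, add_mem h₁ h₂, by simp [f₁, f₂], by simp [s₁, s₂, smul_add]⟩
    | smul r y _ ih =>
      obtain ⟨x, h, f, s⟩ := ih (i * r) (Ideal.mul_mem_right _ _ hi) trivial
      exact ⟨x, h, f, by rw [s, smul_smul]⟩
  · rintro a b ⟨x₁, h₁, f₁, s₁⟩ ⟨x₂, h₂, f₂, s₂⟩
    exact ⟨x₁ + x₂, add_mem h₁ h₂, by simp [f₁, f₂], by simp [s₁, s₂]⟩

theorem mem_ker_smul_top_of_fst (hC : Function.Surjective (algebraMap A' A)) {x : EtMil.glue B' φ}
    (hx : (x : N × M').1 = 0) :
    (x : N × M').2 ∈ RingHom.ker (algebraMap A' A) • (⊤ : Submodule A' M') := by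
  apply mem_smul_top_of_tmul hC
  rw [← mem_glue.1 x.2, hx, tmul_zero, map_zero]

theorem glueFst_bijective (hs : Function.Surjective (algebraMap B' B))
    (hC : Function.Surjective (algebraMap A' A)) (hk : KerLift B' B A' A) :
    Function.Bijective (LinearMap.liftBaseChange B (EtMil.glueFst B' φ)) := by
  constructor
  · rw [injective_iff_map_eq_zero]
    intro z hz
    obtain ⟨x, rfl⟩ := TensorProduct.mk_surjective B' _ B hs z
    rw [TensorProduct.mk_apply, LinearMap.liftBaseChange_tmul, one_smul] at hz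
    obtain ⟨y, hy, hy1, hy2⟩ := zero_snd_mem hk ⊤ (by simpa using glueSnd_spans (B' := B') (φ := φ) hC)
      (mem_ker_smul_top_of_fst hC hz)
    have hxy : x = y := Subtype.ext (Prod.ext (hz.trans hy1.symm) hy2.symm)
    rw [TensorProduct.mk_apply, hxy]
    refine Submodule.smul_induction_on hy (fun j hj m _ => ?_)
      (fun a b ha hb => by rw [tmul_add, ha, hb, add_zero])
    rw [← smul_tmul, Algebra.smul_def, RingHom.mem_ker.1 hj, zero_mul, zero_tmul]
  · intro n
    obtain ⟨x, rfl⟩ := exists_glue_fst (B' := B') (φ := φ) hC n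
    exact ⟨(1 : B) ⊗ₜ[B'] x, by simp [EtMil.glueFst]⟩

theorem glueSnd_surjective (hC : Function.Surjective (algebraMap A' A)) :
    Function.Surjective (LinearMap.liftBaseChange A' (EtMil.glueSnd B' φ)) := by
  rw [← LinearMap.range_eq_top, eq_top_iff, ← glueSnd_spans (B' := B') (φ := φ) hC, Submodule.span_le]
  rintro _ ⟨x, rfl⟩
  exact ⟨(1 : A') ⊗ₜ[B'] x, by simp [EtMil.glueSnd]⟩

theorem comp_glueSnd (e₁ : B ⊗[B'] EtMil.glue B' φ ≃ₗ[B] N)
    (he₁ : ∀ x, e₁ ((1 : B) ⊗ₜ[B'] x) = (x : N × M').1) (z : A' ⊗[B'] EtMil.glue B' φ) :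
    φ (AlgebraTensorModule.congr (LinearEquiv.refl A A) e₁
      ((AlgebraTensorModule.cancelBaseChange B' B A A (EtMil.glue B' φ)).symm
        ((IsScalarTower.toAlgHom B' A' A).toLinearMap.rTensor (EtMil.glue B' φ) z))) =
      (1 : A) ⊗ₜ[A'] LinearMap.liftBaseChange A' (EtMil.glueSnd B' φ) z := by
  induction z with
  | zero => simp
  | tmul a' x =>
    have : (algebraMap A' A a') ⊗ₜ[B] (x : N × M').1 = algebraMap A' A a' • ((1 : A) ⊗ₜ[B] (x : N × M').1) := by
      rw [smul_tmul', smul_eq_mul, mul_one]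
    simp only [LinearMap.rTensor_tmul, AlgebraTensorModule.cancelBaseChange_symm_tmul,
      AlgebraTensorModule.congr_tmul, LinearEquiv.refl_apply, he₁, LinearMap.liftBaseChange_tmul,
      tmul_smul]
    rw [show (IsScalarTower.toAlgHom B' A' A).toLinearMap a' = algebraMap A' A a' from rfl, this,
      map_smul, mem_glue.1 x.2, algebraMap_smul]
    rfl
  | add a b ha hb => simp only [map_add, tmul_add, ha, hb]

theorem glueSnd_bijective (hsq : EtMil.IsFibreSquare B' B A' A) :
    Function.Bijective (LinearMap.liftBaseChange A' (EtMil.glueSnd B' φ)) := by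
  refine ⟨?_, glueSnd_surjective hsq.1⟩
  have hb := glueFst_bijective (φ := φ) (surjective_left hsq) hsq.1 (fun _ => exists_ker_lift hsq)
  rw [injective_iff_map_eq_zero]
  intro z hz
  let e₁ := LinearEquiv.ofBijective (LinearMap.liftBaseChange B (EtMil.glueFst B' φ)) hb
  have h0 := comp_glueSnd e₁ (fun x => by simp [e₁, EtMil.glueFst]) z
  rw [hz, tmul_zero, LinearEquiv.map_eq_zero_iff, LinearEquiv.map_eq_zero_iff,
    LinearEquiv.map_eq_zero_iff] at h0
  obtain ⟨l, hl1, hl2⟩ := exists_glue_tensor hsq 0 z (by rw [map_zero, h0])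
  have h1 : (l : N × M').1 = 0 := by
    simpa [EtMil.glueFst] using congrArg (LinearMap.liftBaseChange B (EtMil.glueFst B' φ)) hl1
  have h2 : (l : N × M').2 = 0 := by
    have := congrArg (LinearMap.liftBaseChange A' (EtMil.glueSnd B' φ)) hl2
    rw [hz] at this
    simpa [EtMil.glueSnd] using this
  rw [← hl2, show l = 0 from Subtype.ext (Prod.ext h1 h2), tmul_zero]

theorem glue_finite (hs : Function.Surjective (algebraMap B' B))
    (hC : Function.Surjective (algebraMap A' A)) (hk : KerLift B' B A' A)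
    [Module.Finite B N] [Module.Finite A' M'] : Module.Finite B' (EtMil.glue B' φ) := by
  classical
  have : Module.Finite B' B := Module.Finite.of_surjective (Algebra.linearMap B' B) hs
  have : Module.Finite B' N := Module.Finite.trans B N
  obtain ⟨sN, hsN⟩ := Module.Finite.fg_top (R := B') (M := N)
  choose lift hlift using fun n : N => exists_glue_fst (B' := B') (φ := φ) hC n
  obtain ⟨t, ht, htspan⟩ := (Submodule.fg_span_iff_fg_span_finset_subset _).1
    ((glueSnd_spans (B' := B') (φ := φ) hC).symm ▸ Module.Finite.fg_top)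
  choose pre hpre using fun m : (t : Finset M') => ht m.2
  let G : Finset (EtMil.glue B' φ) := sN.image lift ∪ t.attach.image pre
  refine ⟨⟨G, eq_top_iff.2 fun x _ => ?_⟩⟩
  let P := Submodule.span B' (G : Set (EtMil.glue B' φ))
  have hP : Submodule.span A' ((fun x : EtMil.glue B' φ => (x : N × M').2) '' P) = ⊤ := by
    rw [eq_top_iff, ← glueSnd_spans (B' := B') (φ := φ) hC, htspan]
    refine Submodule.span_mono fun m hm => ⟨pre ⟨m, hm⟩, Submodule.subset_span ?_, hpre ⟨m, hm⟩⟩
    exact Finset.mem_union_right _ (Finset.mem_image_of_mem _ (Finset.mem_attach _ _))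
  obtain ⟨p, hp, hpx⟩ : ∃ p ∈ P, (p : N × M').1 = (x : N × M').1 := by
    have hle : ⊤ ≤ P.map (EtMil.glueFst B' φ) := by
      rw [← hsN, Submodule.span_le]
      intro n hn
      exact ⟨lift n, Submodule.subset_span (Finset.mem_union_left _ (Finset.mem_image_of_mem _ hn)), hlift n⟩
    obtain ⟨p, hp, hpx⟩ := hle (x := (x : N × M').1) trivial
    exact ⟨p, hp, hpx⟩
  obtain ⟨y, hy, hy1, hy2⟩ := zero_snd_mem hk P hP
    (mem_ker_smul_top_of_fst hC (x := x - p) (by simp [hpx]))
  have hxy : x - p = y := Subtype.ext (Prod.ext (by simp [hy1, hpx]) hy2.symm)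
  rw [← sub_add_cancel x p, hxy]
  exact P.add_mem (Submodule.smul_le_right hy) hp

end Groth.EtaleAlgebra.Milnor
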