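import Groth.Agent.EtaleAlgebra.MilnorGlue
import Groth.Agent.EtaleAlgebra.GlueMaps
import Mathlib.Algebra.Module.FinitePresentation

/-!
# Gluing modules in a relative Milnor square
-/

universe u

open TensorProduct

namespace Groth.EtaleAlgebra.MilnorRelative

section kerLift

variable {B' B A' A : Type u} [CommRing B'] [CommRing B] [CommRing A'] [CommRing A]
  [Algebra B' B] [Algebra B' A'] [Algebra B A] [Algebra A' A] [Algebra B' A]
  [IsScalarTower B' B A] [IsScalarTower B' A' A]

variable {L' : Type u} [AddCommGroup L'] [Module B' L']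

theorem exists_glue_tensor (hs : Function.Surjective (algebraMap B' B))
    (hC : Function.Surjective (algebraMap A' A)) (hk : Milnor.KerLift B' B A' A)
    (x : B ⊗[B'] L') (y : A' ⊗[B'] L')
    (hxy : (IsScalarTower.toAlgHom B' B A).toLinearMap.rTensor L' x =
      (IsScalarTower.toAlgHom B' A' A).toLinearMap.rTensor L' y) :
    ∃ l : L', (1 : B) ⊗ₜ[B'] l = x ∧ (1 : A') ⊗ₜ[B'] l = y := by
  obtain ⟨l, rfl⟩ := TensorProduct.mk_surjective B' L' B hs x
  let g := (IsScalarTower.toAlgHom B' A' A).toLinearMap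
  obtain ⟨w, hw⟩ := (rTensor_exact (M := LinearMap.ker g) L' (LinearMap.exact_subtype_ker_map g) hC
    (y - (1 : A') ⊗ₜ[B'] l)).1 (by
      rw [map_sub, ← hxy]
      simp [g])
  suffices h : ∀ w, ∃ l₀ : L', (1 : B) ⊗ₜ[B'] l₀ = 0 ∧
      (1 : A') ⊗ₜ[B'] l₀ = (LinearMap.ker g).subtype.rTensor L' w by
    obtain ⟨l₀, h1, h2⟩ := h w
    exact ⟨l + l₀, by rw [tmul_add, h1, add_zero]; rfl, by rw [tmul_add, h2, hw]; abel⟩
  intro w
  induction w with
  | zero => exact ⟨0, by simp, by simp⟩
  | tmul r m =>
    obtain ⟨j, hj1, hj2⟩ := hk r r.2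
    refine ⟨j • m, ?_, ?_⟩
    · rw [← smul_tmul, Algebra.smul_def, hj1, zero_mul, zero_tmul]
    · rw [← smul_tmul, Algebra.smul_def, hj2, mul_one, LinearMap.rTensor_tmul]
      rfl
  | add a b ha hb =>
    obtain ⟨x1, h1, h2⟩ := ha
    obtain ⟨x2, h3, h4⟩ := hb
    exact ⟨x1 + x2, by rw [tmul_add, h1, h3, add_zero], by rw [tmul_add, map_add, h2, h4]⟩

variable {N M' : Type u} [AddCommGroup N] [Module B N] [Module B' N] [IsScalarTower B' B N]
  [AddCommGroup M'] [Module A' M'] [Module B' M'] [IsScalarTower B' A' M']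

variable {φ : A ⊗[B] N ≃ₗ[A] A ⊗[A'] M'}

theorem glueSnd_bijective (hs : Function.Surjective (algebraMap B' B))
    (hC : Function.Surjective (algebraMap A' A)) (hk : Milnor.KerLift B' B A' A) :
    Function.Bijective (LinearMap.liftBaseChange A' (EtMil.glueSnd B' φ)) := by
  refine ⟨?_, Milnor.glueSnd_surjective hC⟩
  have hb := Milnor.glueFst_bijective (φ := φ) hs hC hk
  rw [injective_iff_map_eq_zero]
  intro z hz
  let e₁ := LinearEquiv.ofBijective (LinearMap.liftBaseChange B (EtMil.glueFst B' φ)) hb
  have h0 := Milnor.comp_glueSnd e₁ (fun x => by simp [e₁, EtMil.glueFst]) z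
  rw [hz, tmul_zero, LinearEquiv.map_eq_zero_iff, LinearEquiv.map_eq_zero_iff,
    LinearEquiv.map_eq_zero_iff] at h0
  obtain ⟨l, hl1, hl2⟩ := exists_glue_tensor hs hC hk 0 z (by rw [map_zero, h0])
  have h1 : (l : N × M').1 = 0 := by
    simpa [EtMil.glueFst] using congrArg (LinearMap.liftBaseChange B (EtMil.glueFst B' φ)) hl1
  have h2 : (l : N × M').2 = 0 := by
    have := congrArg (LinearMap.liftBaseChange A' (EtMil.glueSnd B' φ)) hl2
    rw [hz] at this
    simpa [EtMil.glueSnd] using this
  rw [← hl2, show l = 0 from Subtype.ext (Prod.ext h1 h2), tmul_zero]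

end kerLift

section relative

variable {B' B A' A : Type u} [CommRing B'] [CommRing B] [CommRing A'] [CommRing A]
  [Algebra B' B] [Algebra B' A'] [Algebra B A] [Algebra A' A] [Algebra B' A]
  [IsScalarTower B' B A] [IsScalarTower B' A' A]
variable {D' D C' C : Type u} [CommRing D'] [CommRing D] [CommRing C'] [CommRing C]
  [Algebra B' D'] [Algebra B D] [Algebra A' C'] [Algebra A C]
  [Algebra D' D] [Algebra B' D] [IsScalarTower B' B D] [IsScalarTower B' D' D]
  [Algebra.IsPushout B' B D' D]
  [Algebra D' C'] [Algebra B' C'] [IsScalarTower B' A' C'] [IsScalarTower B' D' C']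
  [Algebra.IsPushout B' A' D' C']
  [Algebra D' C] [Algebra B' C] [IsScalarTower B' A C] [IsScalarTower B' D' C]
  [Algebra C' C] [IsScalarTower D' C' C] [Algebra A' C] [IsScalarTower A' A C]
  [IsScalarTower A' C' C]

/-- The kernel of `C' → C` lifts to the kernel of `D' → D`. -/
theorem square_conditions [Algebra.IsPushout B' A D' C] (hsq : EtMil.IsFibreSquare B' B A' A) :
    Function.Surjective (algebraMap D' D) ∧ Function.Surjective (algebraMap C' C) ∧
      Milnor.KerLift D' D C' C := by
  let eD := Algebra.IsPushout.equiv B' B D' D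
  let eC' := Algebra.IsPushout.equiv B' A' D' C'
  let eC := Algebra.IsPushout.equiv B' A D' C
  let g := (IsScalarTower.toAlgHom B' A' A).toLinearMap
  have hg : ∀ z, algebraMap C' C (eC' z) = eC (g.rTensor D' z) := by
    intro z
    induction z with
    | zero => simp
    | tmul a d =>
      simp only [eC', eC, g, LinearMap.rTensor_tmul, Algebra.IsPushout.equiv_tmul, map_mul,
        ← IsScalarTower.algebraMap_apply]
      show _ = algebraMap A C (algebraMap A' A a) * _
      rw [← IsScalarTower.algebraMap_apply]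
    | add x y hx hy => simp only [map_add, hx, hy]
  refine ⟨fun d => ?_, fun c => ?_, fun c hc => ?_⟩
  · obtain ⟨z, rfl⟩ := eD.surjective d
    induction z with
    | zero => exact ⟨0, by simp⟩
    | tmul b d =>
      obtain ⟨b', rfl⟩ := Milnor.surjective_left hsq b
      exact ⟨algebraMap B' D' b' * d, by
        simp [eD, Algebra.IsPushout.equiv_tmul, ← IsScalarTower.algebraMap_apply]⟩
    | add x y hx hy =>
      obtain ⟨a, ha⟩ := hx
      obtain ⟨b, hb⟩ := hy
      exact ⟨a + b, by rw [map_add, map_add, ha, hb]⟩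
  · obtain ⟨z, rfl⟩ := eC.surjective c
    obtain ⟨w, rfl⟩ := LinearMap.rTensor_surjective D' (g := g) hsq.1 z
    exact ⟨eC' w, hg w⟩
  · obtain ⟨z, rfl⟩ := eC'.surjective c
    rw [hg, EmbeddingLike.map_eq_zero_iff] at hc
    obtain ⟨w, rfl⟩ := (rTensor_exact (M := LinearMap.ker g) D' (LinearMap.exact_subtype_ker_map g)
      hsq.1 z).1 hc
    clear hc
    induction w with
    | zero => exact ⟨0, by simp, by simp⟩
    | tmul r d =>
      obtain ⟨j, hj1, hj2⟩ := Milnor.exists_ker_lift hsq (a' := (r : A')) r.2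
      refine ⟨algebraMap B' D' j * d, ?_, ?_⟩
      · rw [map_mul, ← IsScalarTower.algebraMap_apply, IsScalarTower.algebraMap_apply B' B D, hj1,
          map_zero, zero_mul]
      · simp only [eC', LinearMap.rTensor_tmul, Submodule.subtype_apply,
          Algebra.IsPushout.equiv_tmul, map_mul, ← IsScalarTower.algebraMap_apply]
        rw [← hj2, ← IsScalarTower.algebraMap_apply]
    | add x y hx hy =>
      obtain ⟨a, ha1, ha2⟩ := hx
      obtain ⟨b, hb1, hb2⟩ := hy
      exact ⟨a + b, by rw [map_add, ha1, hb1, add_zero], by rw [map_add, ha2, hb2, map_add, map_add]⟩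

variable {X : Type u} [AddCommGroup X] [Module D' X] [Module B' X] [IsScalarTower B' D' X]

theorem subsingleton_of_baseChange (hsq : EtMil.IsFibreSquare B' B A' A)
    [Subsingleton (D ⊗[D'] X)] [Subsingleton (C' ⊗[D'] X)] : Subsingleton X := by
  have : Subsingleton (B ⊗[B'] X) :=
    (Algebra.IsPushout.cancelBaseChange B' B D' D X).symm.toEquiv.subsingleton
  have : Subsingleton (A' ⊗[B'] X) :=
    (Algebra.IsPushout.cancelBaseChange B' A' D' C' X).symm.toEquiv.subsingleton
  exact Milnor.subsingleton_of_baseChange hsq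

theorem finite_of_baseChange (hsq : EtMil.IsFibreSquare B' B A' A)
    [Module.Finite D (D ⊗[D'] X)] [Module.Finite C' (C' ⊗[D'] X)] : Module.Finite D' X := by
  obtain ⟨P, hP, hPs⟩ := Glue.exists_fg_surj (R := D') (M := X) D
  obtain ⟨Q, hQ, hQs⟩ := Glue.exists_fg_surj (R := D') (M := X) C'
  let T : Submodule D' X := P ⊔ Q
  have key : ∀ (E : Type u) [CommRing E] [Algebra D' E],
      (∀ l : X, (1 : E) ⊗ₜ[D'] l ∈ LinearMap.range (T.subtype.lTensor E)) →
      Subsingleton (E ⊗[D'] (X ⧸ T)) := by
    intro E _ _ h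
    refine subsingleton_of_forall_eq 0 fun z => ?_
    induction z with
    | zero => rfl
    | add a b ha hb => rw [ha, hb, add_zero]
    | tmul e m =>
      obtain ⟨l, rfl⟩ := T.mkQ_surjective m
      obtain ⟨w, hw⟩ := h l
      have h1 : T.mkQ.lTensor E ((1 : E) ⊗ₜ[D'] l) = 0 := by
        rw [← hw, ← LinearMap.comp_apply, ← LinearMap.lTensor_comp,
          show T.mkQ ∘ₗ T.subtype = 0 by ext x; simp]
        simp
      rw [LinearMap.lTensor_tmul] at h1
      calc e ⊗ₜ[D'] T.mkQ l = e • ((1 : E) ⊗ₜ[D'] T.mkQ l) := by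
            rw [TensorProduct.smul_tmul', smul_eq_mul, mul_one]
        _ = 0 := by rw [h1, smul_zero]
  have := key D fun l => Glue.mem_range_lTensor_mono (le_sup_left (b := Q)) (hPs l)
  have := key C' fun l => Glue.mem_range_lTensor_mono (le_sup_right (a := P)) (hQs l)
  have := subsingleton_of_baseChange (D' := D') (D := D) (C' := C') (X := X ⧸ T) hsq
  have h : T = ⊤ := Submodule.Quotient.subsingleton_iff.1 this
  exact ⟨h ▸ hP.sup hQ⟩

theorem finitePresentation_of_baseChange (hsq : EtMil.IsFibreSquare B' B A' A) [Module.Flat B' X]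
    [Module.FinitePresentation D (D ⊗[D'] X)] [Module.FinitePresentation C' (C' ⊗[D'] X)] :
    Module.FinitePresentation D' X := by
  have := finite_of_baseChange (D' := D') (D := D) (C' := C') (X := X) hsq
  obtain ⟨n, π, hπ⟩ := Module.Finite.exists_fin' D' X
  let K := LinearMap.ker π
  have hC : ∀ (R E : Type u) [CommRing R] [CommRing E] [Algebra B' R] [Algebra R E] [Algebra D' E]
      [Algebra B' E] [IsScalarTower B' R E] [IsScalarTower B' D' E] [Algebra.IsPushout B' R D' E]
      [Module.FinitePresentation E (E ⊗[D'] X)], Module.Finite E (E ⊗[D'] K) := by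
    intro R E _ _ _ _ _ _ _ _ _ _
    have hinj₀ : Function.Injective ((K.subtype.restrictScalars B').lTensor R) := by
      rw [LinearMap.lTensor_inj_iff_rTensor_inj]
      exact rTensor_injective_of_exact (P := X) (π := π.restrictScalars B')
        (Submodule.subtype_injective K) hπ (LinearMap.exact_subtype_ker_map π) R
    have hinj : Function.Injective (K.subtype.baseChange E) := by
      let eK := Algebra.IsPushout.cancelBaseChange B' R D' E K
      let eF := Algebra.IsPushout.cancelBaseChange B' R D' E (Fin n → D')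
      have hc : ∀ t, K.subtype.baseChange E (eK.symm t) =
          eF.symm ((K.subtype.restrictScalars B').lTensor R t) := by
        intro t
        induction t with
        | zero => simp
        | tmul r k => simp [eK, eF]
        | add a b ha hb => simp only [map_add, ha, hb]
      intro a b hab
      obtain ⟨a, rfl⟩ := eK.symm.surjective a
      obtain ⟨b, rfl⟩ := eK.symm.surjective b
      rw [hc, hc] at hab
      rw [hinj₀ (eF.symm.injective hab)]
    have hex' : Function.Exact (K.subtype.baseChange E) (π.baseChange E) :=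
      lTensor_exact E (LinearMap.exact_subtype_ker_map π) hπ
    have hfg : (LinearMap.ker (π.baseChange E)).FG :=
      Module.FinitePresentation.fg_ker _ (LinearMap.lTensor_surjective E hπ)
    rw [LinearMap.exact_iff.1 hex'] at hfg
    have := Module.Finite.iff_fg.2 hfg
    exact Module.Finite.equiv (LinearEquiv.ofInjective (K.subtype.baseChange E) hinj).symm
  have := hC B D
  have := hC A' C'
  exact Module.finitePresentation_of_surjective π hπ
    (Module.Finite.iff_fg.1 (finite_of_baseChange (D' := D') (D := D) (C' := C') (X := K) hsq))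

variable [Algebra D C] [IsScalarTower D' D C]

theorem glue_finitePresentation [Algebra.IsPushout B' A D' C] (hsq : EtMil.IsFibreSquare B' B A' A)
    {N M' : Type u} [AddCommGroup N] [Module D N] [Module D' N] [IsScalarTower D' D N]
    [AddCommGroup M'] [Module C' M'] [Module D' M'] [IsScalarTower D' C' M']
    [Module B' N] [IsScalarTower B' D' N] [Module B' M'] [IsScalarTower B' D' M']
    [Module B N] [IsScalarTower B D N] [Module A' M'] [IsScalarTower A' C' M']
    [Module.FinitePresentation D N] [Module.Flat B N] [Module.FinitePresentation C' M'] [Module.Flat A' M']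
    (φ : C ⊗[D] N ≃ₗ[C] C ⊗[C'] M') : Module.FinitePresentation D' (EtMil.glue D' φ) := by
  obtain ⟨hs, hC, hk⟩ := square_conditions (D' := D') (D := D) (C' := C') (C := C) hsq
  let e₁ : D ⊗[D'] EtMil.glue D' φ ≃ₗ[D] N :=
    LinearEquiv.ofBijective _ (Milnor.glueFst_bijective (φ := φ) hs hC hk)
  let e₂ : C' ⊗[D'] EtMil.glue D' φ ≃ₗ[C'] M' :=
    LinearEquiv.ofBijective _ (glueSnd_bijective (φ := φ) hs hC hk)
  have : Module.FinitePresentation D (D ⊗[D'] EtMil.glue D' φ) :=
    .of_equiv e₁.symm
  have : Module.FinitePresentation C' (C' ⊗[D'] EtMil.glue D' φ) :=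
    .of_equiv e₂.symm
  have : Module.Flat B (B ⊗[B'] EtMil.glue D' φ) :=
    .of_linearEquiv ((Algebra.IsPushout.cancelBaseChange B' B D' D (EtMil.glue D' φ)).symm ≪≫ₗ
      e₁.restrictScalars B)
  have : Module.Flat A' (A' ⊗[B'] EtMil.glue D' φ) :=
    .of_linearEquiv ((Algebra.IsPushout.cancelBaseChange B' A' D' C' (EtMil.glue D' φ)).symm ≪≫ₗ
      e₂.restrictScalars A')
  have := Milnor.flat_of_baseChange hsq (L' := EtMil.glue D' φ)
  exact finitePresentation_of_baseChange (D' := D') (D := D) (C' := C') hsq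

end relative

end Groth.EtaleAlgebra.MilnorRelative
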