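import Mathlib
import Groth.Agent.SGA7.TorSeq

/-! Natural connecting map `Tor₁(S.X₃, X) ↪ S.X₁ ⊗ X`. -/

universe u

open CategoryTheory MonoidalCategory Limits

namespace Groth.Agent.EtaleAlgebra.TorConnecting

open Groth.SGA7.TorSeq

variable {R : Type u} [CommRing R] {S : ShortComplex (ModuleCat.{u} R)}

instance (M : ModuleCat.{u} R) :
    PreservesFiniteColimits ((tensoringLeft (ModuleCat.{u} R)).obj M) :=
  inferInstanceAs (PreservesFiniteColimits (tensorLeft M))

/-- `H₀(M ⊗ P) → M ⊗ X`. -/
noncomputable def augm (M : ModuleCat.{u} R) {X : ModuleCat.{u} R} (P : ProjectiveResolution X) :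
    (tc M P).homology 0 ⟶ M ⊗ X :=
  (ChainComplex.isoHomologyι₀ _).hom ≫ P.fromLeftDerivedZero' ((tensoringLeft (ModuleCat.{u} R)).obj M)

instance isIso_augm (M : ModuleCat.{u} R) {X : ModuleCat.{u} R} (P : ProjectiveResolution X) : IsIso (augm M P) := by
  unfold augm; infer_instance

theorem augm_naturality (M : ModuleCat.{u} R) {X Y : ModuleCat.{u} R} (f : X ⟶ Y)
    (P : ProjectiveResolution X) (Q : ProjectiveResolution Y) (φ : P.complex ⟶ Q.complex)
    (comm : φ.f 0 ≫ Q.π.f 0 = P.π.f 0 ≫ f) :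
    HomologicalComplex.homologyMap
        ((((tensoringLeft (ModuleCat.{u} R)).obj M).mapHomologicalComplex _).map φ) 0 ≫ augm M Q =
      augm M P ≫ M ◁ f := by
  simp only [augm, Category.assoc]
  erw [HomologicalComplex.homologyι_naturality_assoc,
    ProjectiveResolution.fromLeftDerivedZero'_naturality f P Q φ comm]
  rfl

theorem augm_whisker {M N : ModuleCat.{u} R} (g : M ⟶ N) {X : ModuleCat.{u} R}
    (P : ProjectiveResolution X) :
    HomologicalComplex.homologyMap
        ((NatTrans.mapHomologicalComplex ((tensoringLeft (ModuleCat.{u} R)).map g) _).app P.complex) 0 ≫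
          augm N P = augm M P ≫ g ▷ X := by
  simp only [augm, Category.assoc]
  erw [HomologicalComplex.homologyι_naturality_assoc]
  congr 1
  rw [← cancel_epi (HomologicalComplex.pOpcycles _ _)]
  simp only [HomologicalComplex.p_opcyclesMap_assoc,
    ProjectiveResolution.pOpcycles_comp_fromLeftDerivedZero',
    ProjectiveResolution.pOpcycles_comp_fromLeftDerivedZero'_assoc]
  exact (whisker_exchange g (P.π.f 0)).symm

variable (hS : S.ShortExact)

/-- The connecting map at a fixed resolution. -/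
noncomputable def delP {X : ModuleCat.{u} R} (P : ProjectiveResolution X) :
    (tc S.X₃ P).homology 1 ⟶ S.X₁ ⊗ X :=
  (shortExact_tsc hS P).δ 1 0 (by simp) ≫ augm S.X₁ P

theorem delP_naturality {X Y : ModuleCat.{u} R} (f : X ⟶ Y)
    (P : ProjectiveResolution X) (Q : ProjectiveResolution Y) (φ : P.complex ⟶ Q.complex)
    (comm : φ.f 0 ≫ Q.π.f 0 = P.π.f 0 ≫ f) :
    HomologicalComplex.homologyMap
        ((((tensoringLeft (ModuleCat.{u} R)).obj S.X₃).mapHomologicalComplex _).map φ) 1 ≫ delP hS Q =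
      delP hS P ≫ S.X₁ ◁ f := by
  let Φ : tsc S P ⟶ tsc S Q :=
    { τ₁ := (((tensoringLeft (ModuleCat.{u} R)).obj S.X₁).mapHomologicalComplex _).map φ
      τ₂ := (((tensoringLeft (ModuleCat.{u} R)).obj S.X₂).mapHomologicalComplex _).map φ
      τ₃ := (((tensoringLeft (ModuleCat.{u} R)).obj S.X₃).mapHomologicalComplex _).map φ
      comm₁₂ := by
        ext k : 1
        exact whisker_exchange S.f (φ.f k)
      comm₂₃ := by
        ext k : 1
        exact whisker_exchange S.g (φ.f k) }
  have h2 := HomologicalComplex.HomologySequence.δ_naturality Φ (shortExact_tsc hS P)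
    (shortExact_tsc hS Q) 1 0 (by simp)
  have h3 := augm_naturality S.X₁ f P Q φ comm
  simp only [delP, Category.assoc]
  exact (Category.assoc _ _ _).symm.trans ((congrArg (· ≫ augm S.X₁ Q) h2.symm).trans
    ((Category.assoc _ _ _).trans (congrArg _ h3)))

theorem delP_comp {X : ModuleCat.{u} R} (P : ProjectiveResolution X) :
    delP hS P ≫ S.f ▷ X = 0 := by
  have h : (shortExact_tsc hS P).δ 1 0 (by simp) ≫ HomologicalComplex.homologyMap (tsc S P).f 0 = 0 :=
    (shortExact_tsc hS P).δ_comp 1 0 (by simp)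
  exact (Category.assoc _ _ _).trans ((congrArg _ (augm_whisker S.f P).symm).trans
    ((Category.assoc _ _ _).symm.trans ((congrArg (· ≫ augm S.X₂ P) h).trans zero_comp)))

theorem delP_exact {X : ModuleCat.{u} R} (P : ProjectiveResolution X) :
    (ShortComplex.mk (delP hS P) (S.f ▷ X) (delP_comp hS P)).Exact := by
  refine ShortComplex.exact_of_iso ?_ ((shortExact_tsc hS P).homology_exact₁ 1 0 (by simp))
  exact ShortComplex.isoMk (Iso.refl _) (@asIso _ _ _ _ (augm S.X₁ P) (isIso_augm _ P))
    (@asIso _ _ _ _ (augm S.X₂ P) (isIso_augm _ P))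
    ((Category.id_comp _)) (augm_whisker S.f P).symm

theorem mono_delP [Module.Flat R S.X₂] {X : ModuleCat.{u} R} (P : ProjectiveResolution X) :
    Mono (delP hS P) := by
  have h := (shortExact_tsc hS P).homology_exact₃ 1 0 (by simp)
  have hz : IsZero ((tc S.X₂ P).homology 1) :=
    (isZero_tor_iff S.X₂ X P 1).mp (isZero_tor_of_flat S.X₂ X 1 one_pos)
  exact @mono_comp _ _ _ _ _ _ (h.mono_g (hz.eq_of_src _ _)) _
    (@IsIso.mono_of_iso _ _ _ _ _ (isIso_augm _ P))

/-- The connecting map on `Tor₁`. -/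
noncomputable def del (X : ModuleCat.{u} R) :
    ((Tor (ModuleCat.{u} R) 1).obj S.X₃).obj X →ₗ[R] TensorProduct R S.X₁ X :=
  (delP hS (projectiveResolution X)).hom ∘ₗ
    ((projectiveResolution X).isoLeftDerivedObj ((tensoringLeft (ModuleCat.{u} R)).obj S.X₃) 1).hom.hom

theorem del_injective [Module.Flat R S.X₂] (X : ModuleCat.{u} R) :
    Function.Injective (del hS X) :=
  ((ModuleCat.mono_iff_injective _).mp (mono_delP hS (projectiveResolution X))).comp
    ((projectiveResolution X).isoLeftDerivedObj _ 1).toLinearEquiv.injective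

theorem mem_range_del_iff (X : ModuleCat.{u} R) (w : TensorProduct R S.X₁ X) :
    w ∈ LinearMap.range (del hS X) ↔ S.f.hom.rTensor X w = 0 := by
  have h := ((ShortComplex.ShortExact.moduleCat_exact_iff_function_exact _).1
    (delP_exact hS (projectiveResolution X))) w
  refine Iff.trans ?_ h.symm
  constructor
  · rintro ⟨z, rfl⟩; exact ⟨_, rfl⟩
  · rintro ⟨z, rfl⟩
    obtain ⟨z, rfl⟩ :=
      ((projectiveResolution X).isoLeftDerivedObj _ 1).toLinearEquiv.surjective z
    exact ⟨z, rfl⟩

theorem del_apply_naturality {X Y : ModuleCat.{u} R} (f : X ⟶ Y)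
    (z : ((Tor (ModuleCat.{u} R) 1).obj S.X₃).obj X) :
    del hS Y ((((Tor (ModuleCat.{u} R) 1).obj S.X₃).map f).hom z) =
      f.hom.lTensor S.X₁ (del hS X z) := by
  let P := projectiveResolution X
  let Q := projectiveResolution Y
  let φ := ProjectiveResolution.lift f P Q
  have comm : φ.f 0 ≫ Q.π.f 0 = P.π.f 0 ≫ f := ProjectiveResolution.lift_commutes_zero f P Q
  have h1 := congrArg (fun ψ => ψ.hom z) (ProjectiveResolution.isoLeftDerivedObj_hom_naturality f P Q φ comm
    ((tensoringLeft (ModuleCat.{u} R)).obj S.X₃) 1)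
  have h2 := congrArg (fun ψ => ψ.hom ((P.isoLeftDerivedObj ((tensoringLeft (ModuleCat.{u} R)).obj S.X₃) 1).hom.hom z))
    (delP_naturality hS f P Q φ comm)
  exact (congrArg (delP hS Q).hom h1).trans h2

end Groth.Agent.EtaleAlgebra.TorConnecting
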