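import Mathlib
import Groth.Agent.EtaleAlgebra.Milnor
import Groth.Agent.EtaleAlgebra.TorConnecting

/-! `Tor₁` criterion for injectivity of the glueing unit. -/

universe u

open CategoryTheory Limits MonoidalCategory

namespace Groth.Agent.EtaleAlgebra.MilnorTor

open scoped TensorProduct

section elementwise

variable {B' B A' A : Type u} [CommRing B'] [CommRing B] [CommRing A'] [CommRing A]
  [Algebra B' B] [Algebra B' A'] [Algebra B A] [Algebra A' A] [Algebra B' A]
  [IsScalarTower B' B A] [IsScalarTower B' A' A]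

local notation "β" => AlgHom.toLinearMap (IsScalarTower.toAlgHom B' B A)
local notation "α" => AlgHom.toLinearMap (IsScalarTower.toAlgHom B' A' A)

theorem glue (hsq : EtMil.IsFibreSquare B' B A' A) (M : Type u) [AddCommGroup M] [Module B' M]
    (x : M ⊗[B'] B) (y : M ⊗[B'] A') (hxy : (β).lTensor M x = (α).lTensor M y) :
    ∃ m : M, m ⊗ₜ[B'] (1 : B) = x ∧ m ⊗ₜ[B'] (1 : A') = y := by
  have hc : ∀ {U : Type u} [AddCommGroup U] [Module B' U] (g : U →ₗ[B'] A) (z : M ⊗[B'] U),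
      g.rTensor M (TensorProduct.comm B' M U z) = TensorProduct.comm B' M A (g.lTensor M z) := by
    intro U _ _ g z
    induction z with
    | zero => simp
    | tmul a b => simp
    | add a b ha hb => simp only [map_add, ha, hb]
  obtain ⟨m, h1, h2⟩ := Groth.EtaleAlgebra.Milnor.exists_glue_tensor hsq
    (TensorProduct.comm B' M B x) (TensorProduct.comm B' M A' y)
    (by rw [hc, hc]; exact congrArg _ hxy)
  exact ⟨m, (TensorProduct.comm B' M B).injective (by simpa using h1),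
    (TensorProduct.comm B' M A').injective (by simpa using h2)⟩

variable {K F L' : Type u} [AddCommGroup K] [AddCommGroup F] [AddCommGroup L']
  [Module B' K] [Module B' F] [Module B' L'] (ι : K →ₗ[B'] F) (p : F →ₗ[B'] L')
  (hex : Function.Exact ι p) (hp : Function.Surjective p)

theorem nat {U : Type u} [AddCommGroup U] [Module B' U] (g : U →ₗ[B'] A) (z : K ⊗[B'] U) :
    ι.rTensor A (g.lTensor K z) = g.lTensor F (ι.rTensor U z) := by
  rw [← LinearMap.comp_apply, ← LinearMap.comp_apply, LinearMap.rTensor_comp_lTensor,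
    LinearMap.lTensor_comp_rTensor]

include hex hp

theorem mem_range_iff (X : Type u) [AddCommGroup X] [Module B' X] (c : X) (x : F) :
    (∃ u, ι.rTensor X u = x ⊗ₜ[B'] c) ↔ c ⊗ₜ[B'] p x = 0 :=
  ((rTensor_exact X hex hp) (x ⊗ₜ[B'] c)).symm.trans (by
    rw [LinearMap.rTensor_tmul, ← (TensorProduct.comm B' L' X).map_eq_zero_iff]
    simp)

variable (hsq : EtMil.IsFibreSquare B' B A' A)
include hsq

/-- Kernel-level form of the criterion. -/
theorem injective_iff (hF : ∀ x : F, x ⊗ₜ[B'] (1 : B) = 0 → x ⊗ₜ[B'] (1 : A') = 0 → x = 0) :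
    (∀ l : L', ((1 : B) ⊗ₜ[B'] l : B ⊗[B'] L') = 0 → ((1 : A') ⊗ₜ[B'] l : A' ⊗[B'] L') = 0 → l = 0) ↔
      ∀ w : K ⊗[B'] A, ι.rTensor A w = 0 → ∃ (u : K ⊗[B'] B) (v : K ⊗[B'] A'),
        ι.rTensor B u = 0 ∧ ι.rTensor A' v = 0 ∧ (β).lTensor K u + (α).lTensor K v = w := by
  constructor
  · intro hinj w hw
    obtain ⟨v, rfl⟩ := LinearMap.lTensor_surjective K (g := α) hsq.1 w
    rw [nat] at hw
    obtain ⟨x, hxB, hxA⟩ := glue hsq F 0 (ι.rTensor A' v) (by rw [map_zero, hw])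
    have hl : p x = 0 := hinj _
      ((mem_range_iff ι p hex hp B 1 x).mp ⟨0, by rw [map_zero, hxB]⟩)
      ((mem_range_iff ι p hex hp A' 1 x).mp ⟨v, hxA.symm⟩)
    obtain ⟨k, rfl⟩ := (hex x).mp hl
    refine ⟨k ⊗ₜ[B'] (1 : B), v - k ⊗ₜ[B'] (1 : A'), by simpa using hxB, ?_, ?_⟩
    · rw [map_sub, LinearMap.rTensor_tmul, ← hxA, sub_self]
    · rw [map_sub, LinearMap.lTensor_tmul, LinearMap.lTensor_tmul]
      simp only [AlgHom.toLinearMap_apply, map_one]
      abel
  · intro hsurj l hlB hlA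
    obtain ⟨x, rfl⟩ := hp l
    obtain ⟨u, hu⟩ := (mem_range_iff ι p hex hp B 1 x).mpr hlB
    obtain ⟨v, hv⟩ := (mem_range_iff ι p hex hp A' 1 x).mpr hlA
    obtain ⟨u₀, v₀, hu₀, hv₀, hz⟩ := hsurj ((β).lTensor K u - (α).lTensor K v) (by
      rw [map_sub, nat, nat, hu, hv, LinearMap.lTensor_tmul, LinearMap.lTensor_tmul]
      simp only [AlgHom.toLinearMap_apply, map_one, sub_self])
    obtain ⟨k, hkB, hkA⟩ := glue hsq K (u - u₀) (v + v₀) (by
      rw [map_sub, map_add, sub_eq_iff_eq_add, add_assoc, add_comm ((α).lTensor K v₀), hz]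
      abel)
    have h1 : (x - ι k) ⊗ₜ[B'] (1 : B) = 0 := by
      rw [TensorProduct.sub_tmul, ← hu, ← LinearMap.rTensor_tmul B ι (1 : B) k, hkB, map_sub, hu₀,
        sub_zero, sub_self]
    have h2 : (x - ι k) ⊗ₜ[B'] (1 : A') = 0 := by
      rw [TensorProduct.sub_tmul, ← hv, ← LinearMap.rTensor_tmul A' ι (1 : A') k, hkA, map_add, hv₀,
        add_zero, sub_self]
    rw [sub_eq_zero.mp (hF _ h1 h2)]
    exact hex.apply_apply_eq_zero k

omit hex hp in
theorem finsupp_eq_zero {I : Type u} (x : I →₀ B') (h1 : x ⊗ₜ[B'] (1 : B) = 0)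
    (h2 : x ⊗ₜ[B'] (1 : A') = 0) : x = 0 := by
  refine Finsupp.ext fun i => ?_
  have hc : ∀ (C : Type u) [CommRing C] [Algebra B' C], x ⊗ₜ[B'] (1 : C) = 0 →
      algebraMap B' C (x i) = 0 := fun C _ _ h => by
    have := congrArg (fun t => TensorProduct.lid B' C ((Finsupp.lapply i).rTensor C t)) h
    simpa [Algebra.algebraMap_eq_smul_one] using this
  exact Groth.EtaleAlgebra.Milnor.ext hsq (by rw [hc B h1]; simp) (by rw [hc A' h2]; simp)

end elementwise

theorem epi_biprod_desc_iff {R : Type u} [CommRing R] {X Y Z : ModuleCat.{u} R} (f : X ⟶ Z) (g : Y ⟶ Z) :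
    Epi (biprod.desc f g) ↔ ∀ z : Z, ∃ x y, f.hom x + g.hom y = z := by
  rw [ModuleCat.epi_iff_surjective]
  constructor
  · intro h z
    obtain ⟨q, rfl⟩ := h z
    refine ⟨(biprod.fst : X ⊞ Y ⟶ X).hom q, (biprod.snd : X ⊞ Y ⟶ Y).hom q, ?_⟩
    rw [← ModuleCat.comp_apply, ← ModuleCat.comp_apply, ← LinearMap.add_apply, ← ModuleCat.hom_add,
      ← biprod.desc_eq]
  · intro h z
    obtain ⟨x, y, rfl⟩ := h z
    exact ⟨(biprod.inl : X ⟶ X ⊞ Y).hom x + (biprod.inr : Y ⟶ X ⊞ Y).hom y, by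
      rw [map_add, ← ModuleCat.comp_apply, ← ModuleCat.comp_apply, biprod.inl_desc, biprod.inr_desc]⟩

variable {R : Type u} [CommRing R] {S : ShortComplex (ModuleCat.{u} R)}

/-- Translate `Epi` on `Tor₁` to kernels of `S.f ⊗ -`. -/
theorem epi_tor_iff (hS : S.ShortExact) [Module.Flat R S.X₂] {X Y Z : ModuleCat.{u} R}
    (f : X ⟶ Z) (g : Y ⟶ Z) :
    Epi (biprod.desc (((Tor (ModuleCat.{u} R) 1).obj S.X₃).map f)
      (((Tor (ModuleCat.{u} R) 1).obj S.X₃).map g)) ↔
    ∀ w : S.X₁ ⊗[R] Z, S.f.hom.rTensor Z w = 0 → ∃ (u : S.X₁ ⊗[R] X) (v : S.X₁ ⊗[R] Y),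
      S.f.hom.rTensor X u = 0 ∧ S.f.hom.rTensor Y v = 0 ∧
        f.hom.lTensor S.X₁ u + g.hom.lTensor S.X₁ v = w := by
  rw [epi_biprod_desc_iff]
  constructor
  · intro h w hw
    obtain ⟨z, rfl⟩ := (TorConnecting.mem_range_del_iff hS Z w).mpr hw
    obtain ⟨x, y, rfl⟩ := h z
    refine ⟨_, _, (TorConnecting.mem_range_del_iff hS X _).mp ⟨x, rfl⟩,
      (TorConnecting.mem_range_del_iff hS Y _).mp ⟨y, rfl⟩, ?_⟩
    rw [map_add, ← TorConnecting.del_apply_naturality, ← TorConnecting.del_apply_naturality]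
  · intro h z
    obtain ⟨u, v, hu, hv, huv⟩ := h _ ((TorConnecting.mem_range_del_iff hS Z _).mp ⟨z, rfl⟩)
    obtain ⟨x, rfl⟩ := (TorConnecting.mem_range_del_iff hS X _).mpr hu
    obtain ⟨y, rfl⟩ := (TorConnecting.mem_range_del_iff hS Y _).mpr hv
    refine ⟨x, y, TorConnecting.del_injective hS Z ?_⟩
    rw [map_add, TorConnecting.del_apply_naturality, TorConnecting.del_apply_naturality, huv]

theorem shortExact_presentation {R : Type u} [CommRing R] {K F L : Type u} [AddCommGroup K]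
    [AddCommGroup F] [AddCommGroup L] [Module R K] [Module R F] [Module R L] (ι : K →ₗ[R] F)
    (p : F →ₗ[R] L) (hι : Function.Injective ι) (hex : Function.Exact ι p) (hp : Function.Surjective p) :
    (ShortComplex.mk (ModuleCat.ofHom ι) (ModuleCat.ofHom p)
      (ModuleCat.hom_ext (LinearMap.ext fun x => hex.apply_apply_eq_zero x))).ShortExact where
  exact := (ShortComplex.ShortExact.moduleCat_exact_iff_function_exact _).2 hex
  mono_f := (ModuleCat.mono_iff_injective _).2 hι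
  epi_g := (ModuleCat.epi_iff_surjective _).2 hp

end Groth.Agent.EtaleAlgebra.MilnorTor
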