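import Groth.Agent.EtaleAlgebra.EtRamBasic
import Mathlib.RingTheory.DiscreteValuationRing.Basic
import Mathlib.RingTheory.IntegralClosure.IsIntegralClosure.Basic
import Mathlib.RingTheory.UniqueFactorizationDomain.Basic

/-!
# Orders over a DVR with principal maximal ideal

If `R ⊆ F` is a finite order over the DVR `B` and `x ∈ R` generates a maximal ideal with `x ^ p`
divisible by the uniformizer, then `R` is the unique valuation ring of `F` dominating `B`.
-/

set_option autoImplicit false
universe u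

namespace Groth.EtaleAlgebra.Monog

open IsLocalRing EtRam

/-- An ideal whose quotient is a nonzero homomorphic image of a field is maximal. -/
theorem isMaximal_of_surjective {R k : Type*} [CommRing R] [Field k] (I : Ideal R) (hI : I ≠ ⊤)
    (φ : k →+* R ⧸ I) (hφ : Function.Surjective φ) : I.IsMaximal := by
  have : Nontrivial (R ⧸ I) := Ideal.Quotient.nontrivial_iff.2 hI
  exact Ideal.Quotient.maximal_of_isField I
    (MulEquiv.isField (Field.toIsField k)
      (RingEquiv.ofBijective φ ⟨φ.injective, hφ⟩).toMulEquiv.symm)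

variable {B F : Type u} [CommRing B] [IsDomain B] [IsDiscreteValuationRing B] [Field F]
  [Algebra B F] {R : Subalgebra B F} [Algebra.IsIntegral B R] {x : R} {π : B} {p : ℕ}

/-- An element dividing into a power divisible by the uniformizer is not a unit. -/
theorem span_ne_top (hinj : Function.Injective (algebraMap B F)) (hπ : Irreducible π)
    (hxπ : algebraMap B R π ∣ x ^ p) : Ideal.span {x} ≠ ⊤ := by
  intro h
  have hu : IsUnit (algebraMap B R π) :=
    isUnit_of_dvd_unit hxπ ((Ideal.span_singleton_eq_top.1 h).pow p)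
  have hi : Function.Injective (algebraMap B R) := fun a b hab =>
    hinj (congrArg Subtype.val hab)
  have : FaithfulSMul B R := (faithfulSMul_iff_algebraMap_injective B R).2 hi
  exact hπ.not_isUnit ((isUnit_map_iff (algebraMap B R) π).1 hu)

/-- Elements outside the maximal ideal `(x)` are units. -/
theorem isUnit_of_notMem (hπ : Irreducible π) (hxπ : algebraMap B R π ∣ x ^ p)
    (hmax : (Ideal.span {x}).IsMaximal) {a : R} (ha : a ∉ Ideal.span {x}) : IsUnit a := by
  by_contra hu
  obtain ⟨Q, hQ, haQ⟩ := exists_max_ideal_of_mem_nonunits hu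
  have hQB : (Q.comap (algebraMap B R)).IsMaximal :=
    Ideal.isMaximal_comap_of_isIntegral_of_isMaximal Q
  have hπQ : algebraMap B R π ∈ Q := by
    have := eq_maximalIdeal hQB
    show π ∈ Q.comap (algebraMap B R)
    rw [this, hπ.maximalIdeal_eq]
    exact Ideal.mem_span_singleton_self π
  obtain ⟨r, hr⟩ := hxπ
  have hxQ : x ∈ Q := hQ.isPrime.mem_of_pow_mem p (hr ▸ Q.mul_mem_right r hπQ)
  have := hmax.eq_of_le hQ.ne_top ((Ideal.span_singleton_le_iff_mem _).2 hxQ)
  exact ha (this ▸ haQ)

variable [Module.Finite B R]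

/-- Every nonzero element is a unit times a power of `x`. -/
theorem exists_eq_pow_mul (hinj : Function.Injective (algebraMap B F)) (hπ : Irreducible π)
    (hxπ : algebraMap B R π ∣ x ^ p) (hmax : (Ideal.span {x}).IsMaximal) {a : R} (ha : a ≠ 0) :
    ∃ (k : ℕ) (b : R), IsUnit b ∧ a = x ^ k * b := by
  have : IsNoetherianRing R := IsNoetherianRing.of_finite B R
  obtain ⟨k, b, hb, he⟩ := WfDvdMonoid.max_power_factor' ha
    (fun hu => span_ne_top hinj hπ hxπ (Ideal.span_singleton_eq_top.2 hu))
  exact ⟨k, b, isUnit_of_notMem hπ hxπ hmax (fun h => hb (Ideal.mem_span_singleton.1 h)), he⟩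

/-- Every element of the field lies in the order, or its inverse does, with explicit shape. -/
theorem exists_pow_mul_unit (hinj : Function.Injective (algebraMap B F)) (hπ : Irreducible π)
    (hxπ : algebraMap B R π ∣ x ^ p) (hmax : (Ideal.span {x}).IsMaximal)
    (hgen : Subfield.closure (R : Set F) = ⊤) (g : F) :
    g ∈ R ∨ ∃ a : R, a ∈ Ideal.span {x} ∧ g * (a : F) = 1 := by
  obtain ⟨a, ha, b, hb, rfl⟩ := Subfield.mem_closure_iff.1 (hgen ▸ Subfield.mem_top g)
  have hcl : Subring.closure (R : Set F) ≤ R.toSubring := Subring.closure_le.2 fun w hw => hw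
  obtain ⟨a, rfl⟩ : ∃ a' : R, (a' : F) = a := ⟨⟨a, hcl ha⟩, rfl⟩
  obtain ⟨b, rfl⟩ : ∃ b' : R, (b' : F) = b := ⟨⟨b, hcl hb⟩, rfl⟩
  by_cases ha0 : a = 0
  · left; subst ha0; simp
  by_cases hb0 : b = 0
  · left; subst hb0; simp
  obtain ⟨i, u, hu, rfl⟩ := exists_eq_pow_mul hinj hπ hxπ hmax ha0
  obtain ⟨j, v, hv, rfl⟩ := exists_eq_pow_mul hinj hπ hxπ hmax hb0
  obtain ⟨u', hu'⟩ := hu.exists_left_inv
  obtain ⟨v', hv'⟩ := hv.exists_left_inv
  have hx0 : (x : F) ≠ 0 ∨ j = 0 := by
    by_cases hj : j = 0
    · exact Or.inr hj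
    · refine Or.inl fun h => hb0 ?_
      rw [show x = 0 from Subtype.ext h, zero_pow hj, zero_mul]
  have huF : ((u' : F)) * (u : F) = 1 := by exact_mod_cast congrArg Subtype.val hu'
  have hvF : ((v' : F)) * (v : F) = 1 := by exact_mod_cast congrArg Subtype.val hv'
  have hu0 : (u : F) ≠ 0 := right_ne_zero_of_mul_eq_one huF
  have hv0 : (v : F) ≠ 0 := right_ne_zero_of_mul_eq_one hvF
  by_cases hij : j ≤ i
  · left
    obtain ⟨k, rfl⟩ := Nat.exists_eq_add_of_le hij
    have : ((x ^ (j + k) * u : R) : F) / ((x ^ j * v : R) : F) = ((x ^ k * u * v' : R) : F) := by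
      push_cast
      rcases hx0 with hx0 | rfl
      · field_simp
        linear_combination (x : F) ^ (j + k) * (-1) * hvF
      · field_simp
        linear_combination (x : F) ^ k * (-1) * hvF
    rw [this]
    exact Subtype.coe_prop _
  · right
    obtain ⟨k, rfl⟩ := Nat.exists_eq_add_of_lt (not_le.1 hij)
    have hx0' : (x : F) ≠ 0 := hx0.resolve_right (by omega)
    refine ⟨x ^ (k + 1) * v * u', Ideal.mul_mem_right _ _ (Ideal.mul_mem_right _ _
      (Ideal.pow_mem_of_mem _ (Ideal.mem_span_singleton_self x) _ (Nat.succ_pos k))), ?_⟩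
    push_cast
    field_simp
    linear_combination (x : F) ^ (i + k + 1) * huF

/-- The order is the only valuation ring dominating `B`, with uniformizer `x`. -/
theorem valuationSubring_eq (hinj : Function.Injective (algebraMap B F)) (hπ : Irreducible π)
    (hxπ : algebraMap B R π ∣ x ^ p) (hmax : (Ideal.span {x}).IsMaximal)
    (hgen : Subfield.closure (R : Set F) = ⊤) (W : ValuationSubring F)
    (hW : Dominates B (algebraMap B F) W) :
    W.toSubring = R.toSubring ∧ (x : F) ∈ W ∧ W.valuation (x : F) < 1 ∧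
      ∀ w : F, W.valuation w < 1 → ∃ c : R, w = (x : F) * (c : F) := by
  have hRW : ∀ a : R, (a : F) ∈ W := fun a => by
    obtain ⟨q, hq, hqc⟩ := (Algebra.IsIntegral.isIntegral (R := B) a).map R.val
    let ι : B →+* W := (algebraMap B F).codRestrict W.toSubring hW.1
    have : IsIntegral W (a : F) := ⟨q.map ι, hq.map ι, by rw [Polynomial.eval₂_map]; exact hqc⟩
    obtain ⟨y, hy⟩ := IsIntegrallyClosed.isIntegral_iff.1 this
    exact hy ▸ y.2
  have hvx : W.valuation (x : F) < 1 := by
    obtain ⟨r, hr⟩ := hxπ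
    have h1 : W.valuation ((x : F) ^ p) < 1 := by
      rw [show (x : F) ^ p = algebraMap B F π * (r : F) from congrArg Subtype.val hr, map_mul]
      exact lt_of_le_of_lt (mul_le_of_le_one_right' ((W.valuation_le_one_iff _).2 (hRW r)))
        (hW.2 π (hπ.maximalIdeal_eq.ge (Ideal.mem_span_singleton_self π)))
    by_contra h
    rw [map_pow] at h1
    exact absurd h1 (not_lt.2 (one_le_pow₀ (not_lt.1 h)))
  have hWR : ∀ w ∈ W, w ∈ R := fun w hw => by
    refine (exists_pow_mul_unit hinj hπ hxπ hmax hgen w).resolve_right ?_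
    rintro ⟨a, ha, hwa⟩
    obtain ⟨c, rfl⟩ := Ideal.mem_span_singleton'.1 ha
    have h1 := congrArg W.valuation hwa
    push_cast at h1
    rw [map_mul, map_mul, map_one] at h1
    refine absurd h1 (ne_of_lt ?_)
    refine lt_of_le_of_lt (mul_le_of_le_one_left' ((W.valuation_le_one_iff _).2 hw)) ?_
    exact lt_of_le_of_lt (mul_le_of_le_one_left' ((W.valuation_le_one_iff _).2 (hRW c))) hvx
  refine ⟨le_antisymm (fun w hw => hWR w hw) (fun w hw => hRW ⟨w, hw⟩), hRW x, hvx, fun w hw => ?_⟩
  let w' : R := ⟨w, hWR w ((W.valuation_le_one_iff w).1 hw.le)⟩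
  have hw' : w' ∈ Ideal.span {x} := by
    by_contra h
    obtain ⟨v, hv⟩ := (isUnit_of_notMem hπ hxπ hmax h).exists_left_inv
    have h1 : (v : F) * w = 1 := congrArg Subtype.val hv
    have h2 := congrArg W.valuation h1
    rw [map_mul, map_one] at h2
    exact absurd h2 (ne_of_lt (lt_of_le_of_lt
      (mul_le_of_le_one_left' ((W.valuation_le_one_iff _).2 (hRW v))) hw))
  obtain ⟨c, hc⟩ := Ideal.mem_span_singleton'.1 hw'
  exact ⟨c, (congrArg Subtype.val hc).symm.trans (mul_comm _ _)⟩

/-- The order is a valuation ring dominating `B`. -/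
theorem exists_dominates (hinj : Function.Injective (algebraMap B F)) (hπ : Irreducible π)
    (hxπ : algebraMap B R π ∣ x ^ p) (hmax : (Ideal.span {x}).IsMaximal)
    (hgen : Subfield.closure (R : Set F) = ⊤) :
    ∃ W : ValuationSubring F, Dominates B (algebraMap B F) W := by
  let W : ValuationSubring F :=
    { R.toSubring with
      mem_or_inv_mem' := fun g => by
        rcases exists_pow_mul_unit hinj hπ hxπ hmax hgen g with h | ⟨a, -, ha⟩
        · exact Or.inl h
        · exact Or.inr (by rw [inv_eq_of_mul_eq_one_right ha]; exact a.2) }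
  refine ⟨W, fun b => R.algebraMap_mem b, fun b hb => ?_⟩
  by_contra h
  have h1 : W.valuation (algebraMap B F b) = 1 :=
    le_antisymm ((W.valuation_le_one_iff _).2 (R.algebraMap_mem b)) (not_lt.1 h)
  have hu : IsUnit (⟨algebraMap B F b, R.algebraMap_mem b⟩ : W) :=
    (W.valuation_eq_one_iff _).2 h1
  obtain ⟨v, hv⟩ := hu.exists_left_inv
  have hi : Function.Injective (algebraMap B R) := fun a c hac => hinj (congrArg Subtype.val hac)
  have : FaithfulSMul B R := (faithfulSMul_iff_algebraMap_injective B R).2 hi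
  refine (mem_maximalIdeal b).1 hb ((isUnit_map_iff (algebraMap B R) b).1 ?_)
  exact IsUnit.of_mul_eq_one_right _ (Subtype.ext (congrArg Subtype.val hv) :
    (⟨(v : F), v.2⟩ : R) * algebraMap B R b = 1)

end Groth.EtaleAlgebra.Monog
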