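import Groth.Agent.EtaleAlgebra.DeformPInsep
import Groth.Agent.EtaleAlgebra.ExtBaseChange
import Groth.Agent.EtaleAlgebra.TameCompositum
import Mathlib.FieldTheory.IsAlgClosed.Basic
import Mathlib.FieldTheory.Extension
import Mathlib.RingTheory.DedekindDomain.Ideal.Lemmas

/-!
# Conjugacy of places and transitivity of geometric reducedness
-/

set_option autoImplicit false
set_option linter.style.haveILetI false
set_option linter.overlappingInstances false
universe u

namespace Groth.EtaleAlgebra.PlaceConj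

open IsLocalRing EtRam Polynomial TensorProduct

set_option maxHeartbeats 1000000 in
/-- Every valuation subring over `B` of a finite extension is induced by an embedding into a
given algebraically closed field with a given valuation subring over `B`. -/
theorem exists_algHom_comap_eq (B L M Ω : Type u) [CommRing B] [IsDomain B]
    [IsDiscreteValuationRing B] [Field L] [Algebra B L] [IsFractionRing B L] [Field M] [Algebra L M]
    [FiniteDimensional L M] [Field Ω] [IsAlgClosed Ω] [Algebra L Ω] {𝒱 : ValuationSubring Ω}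
    (h𝒱 : Dominates B ((algebraMap L Ω).comp (algebraMap B L)) 𝒱) {W : ValuationSubring M}
    (hW : Dominates B ((algebraMap L M).comp (algebraMap B L)) W) :
    ∃ σ : M →ₐ[L] Ω, 𝒱.comap σ.toRingHom = W := by
  classical
  let _ : Algebra B M := ((algebraMap L M).comp (algebraMap B L)).toAlgebra
  have : IsScalarTower B L M := IsScalarTower.of_algebraMap_eq fun _ => rfl
  let C := integralClosure B M
  have : IsDedekindDomain C := Groth.EGA43Val.isDedekindDomain_integralClosure B L M
  have hiBC : Function.Injective (algebraMap B C) := fun a b h =>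
    IsFractionRing.injective B L ((algebraMap L M).injective (by
      rw [← IsScalarTower.algebraMap_apply B L M, ← IsScalarTower.algebraMap_apply B L M]
      exact congrArg Subtype.val h))
  -- the prime of a valuation ring over `B`
  let P : {V : ValuationSubring M // Dominates B ((algebraMap L M).comp (algebraMap B L)) V} →
      Ideal C := fun V => (maximalIdeal V.1).comap ((algebraMap C M).codRestrict V.1.toSubring
        (PDeform.exists_fraction B L M V.2).1)
  have hPmax : ∀ V, (P V).IsMaximal := fun V => by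
    have hP : (P V).IsPrime := Ideal.IsPrime.comap _
    refine hP.isMaximal fun h0 => ?_
    obtain ⟨π, hπ⟩ := IsDiscreteValuationRing.exists_irreducible B
    have hmem : algebraMap B C π ∈ P V := (V.1.valuation_lt_one_iff _).2
      (V.2.2 π (hπ.maximalIdeal_eq.ge (Ideal.mem_span_singleton_self π)))
    rw [h0, Ideal.mem_bot] at hmem
    exact hπ.ne_zero (hiBC (hmem.trans (map_zero _).symm))
  have hPinj : ∀ V V' : {V : ValuationSubring M //
      Dominates B ((algebraMap L M).comp (algebraMap B L)) V}, P V = P V' → V.1 ≤ V'.1 := by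
    intro V V' hVV' x hx
    obtain ⟨a, s, hs, hxs⟩ := (PDeform.exists_fraction B L M V.2).2 x hx
    have hn : s ∉ P V := fun hmem => absurd hs (ne_of_lt ((V.1.valuation_lt_one_iff _).1 hmem))
    rw [hVV'] at hn
    have hs' : V'.1.valuation (s : M) = 1 :=
      (V'.1.valuation_eq_one_iff ⟨(s : M), (PDeform.exists_fraction B L M V'.2).1 s⟩).1
        (not_not.1 fun hc => hn ((mem_maximalIdeal _).2 hc))
    have hs0 : (s : M) ≠ 0 := fun h0 => by rw [h0, map_zero] at hs'; exact zero_ne_one hs'
    rw [show x = (a : M) * (s : M)⁻¹ by rw [← hxs, mul_assoc, mul_inv_cancel₀ hs0, mul_one]]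
    refine V'.1.mul_mem _ _ ((PDeform.exists_fraction B L M V'.2).1 a) ?_
    rw [← ValuationSubring.valuation_le_one_iff, map_inv₀, hs', inv_one]
  have hpull : ∀ σ : M →ₐ[L] Ω,
      Dominates B ((algebraMap L M).comp (algebraMap B L)) (𝒱.comap σ.toRingHom) := fun σ => by
    refine dominates_comp_iff.1 ?_
    rw [← RingHom.comp_assoc, show σ.toRingHom.comp (algebraMap L M) = algebraMap L Ω from
      RingHom.ext σ.commutes]
    exact h𝒱
  by_contra hne
  push Not at hne
  let _ := Fintype.ofFinite (M →ₐ[L] Ω)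
  let J : Ideal C := ⨅ σ : M →ₐ[L] Ω, P ⟨_, hpull σ⟩
  have hco : J ⊔ P ⟨W, hW⟩ = ⊤ := by
    rw [show J = ⨅ σ ∈ (Finset.univ : Finset (M →ₐ[L] Ω)), P ⟨_, hpull σ⟩ by simp [J]]
    refine Ideal.iInf_sup_eq_top fun σ _ => ?_
    refine (hPmax _).coprime_of_ne (hPmax _) fun h => hne σ ?_
    exact le_antisymm (hPinj _ _ h) (hPinj _ _ h.symm)
  obtain ⟨j, hj, c, hc, hjc⟩ := Submodule.mem_sup.1
    ((Ideal.eq_top_iff_one _).1 hco)
  -- every conjugate of `c` is a unit
  have hunit : ∀ σ : M →ₐ[L] Ω, ¬ 𝒱.valuation (σ (c : M)) < 1 := by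
    intro σ hlt
    have hmemj := (Submodule.mem_iInf _).1 hj σ
    have hc' : c ∈ P ⟨_, hpull σ⟩ := by
      show (⟨(c : M), _⟩ : (𝒱.comap σ.toRingHom)) ∈ maximalIdeal _
      rw [ValuationSubring.valuation_lt_one_iff]
      by_contra h
      have hu : IsUnit (⟨(c : M), (PDeform.exists_fraction B L M (hpull σ)).1 c⟩ :
          (𝒱.comap σ.toRingHom)) :=
        (ValuationSubring.valuation_eq_one_iff _ _).2 (le_antisymm
          ((ValuationSubring.valuation_le_one_iff _ _).2 ((PDeform.exists_fraction B L M (hpull σ)).1 c))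
          (not_lt.1 h))
      exact absurd ((ValuationSubring.valuation_eq_one_iff _ _).1
        (hu.map (inclOfComap 𝒱 σ.toRingHom))) hlt.ne
    exact (hPmax _).ne_top ((Ideal.eq_top_iff_one _).2 (hjc ▸ Ideal.add_mem _ hmemj hc'))
  -- the constant coefficient of the minimal polynomial
  have hcint : IsIntegral B (c : M) := c.2
  let f := minpoly B (c : M)
  have hfL : minpoly L (c : M) = f.map (algebraMap B L) :=
    minpoly.isIntegrallyClosed_eq_field_fractions L M hcint
  have hcW : W.valuation (c : M) < 1 := (W.valuation_lt_one_iff _).1 hc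
  have hf0 : f.coeff 0 ∈ maximalIdeal B := by
    have h0 : (algebraMap B M) (f.coeff 0) = -((c : M) * aeval (c : M) f.divX) := by
      have h : aeval (c : M) f = 0 := minpoly.aeval B (c : M)
      conv_lhs at h => rw [← X_mul_divX_add f]
      simp only [map_add, map_mul, aeval_X, aeval_C] at h
      exact eq_neg_of_add_eq_zero_right h
    by_contra hu
    have hu' : IsUnit (f.coeff 0) := not_not.1 fun hn => hu ((mem_maximalIdeal _).2 hn)
    have h1 : W.valuation (algebraMap B M (f.coeff 0)) = 1 :=
      (W.valuation_eq_one_iff ⟨_, hW.1 _⟩).1 (hu'.map (RingHom.codRestrict _ W hW.1))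
    rw [h0, Valuation.map_neg, map_mul] at h1
    refine absurd h1 (ne_of_lt (lt_of_le_of_lt (mul_le_of_le_one_right' ?_) hcW))
    rw [ValuationSubring.valuation_le_one_iff, aeval_eq_sum_range]
    exact sum_mem fun i _ => by
      rw [Algebra.smul_def]
      exact mul_mem (hW.1 _) (pow_mem ((PDeform.exists_fraction B L M hW).1 c) i)
  let fΩ := (minpoly L (c : M)).map (algebraMap L Ω)
  have hsplit : fΩ.Splits := IsAlgClosed.splits fΩ
  have hmonic : fΩ.Monic := (minpoly.monic (Algebra.IsIntegral.isIntegral _)).map _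
  have hroot : ∀ r ∈ fΩ.roots, 𝒱.valuation r = 1 := by
    intro r hr
    have hr' : aeval r (minpoly L (c : M)) = 0 := by
      rw [aeval_def, ← eval_map]
      exact (mem_roots hmonic.ne_zero).1 hr
    obtain ⟨σ, rfl⟩ := IntermediateField.exists_algHom_of_splits_of_aeval
      (fun s : M => ⟨Algebra.IsIntegral.isIntegral s, IsAlgClosed.splits _⟩) hr'
    refine le_antisymm ((ValuationSubring.valuation_le_one_iff _ _).2 ?_) (not_lt.1 (hunit σ))
    exact (PDeform.exists_fraction B L M (hpull σ)).1 c
  have hprod : algebraMap L Ω (algebraMap B L (f.coeff 0)) =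
      (-1) ^ fΩ.natDegree * fΩ.roots.prod := by
    rw [← hsplit.coeff_zero_eq_prod_roots_of_monic hmonic]
    simp only [fΩ, hfL, coeff_map]
  have hlt := h𝒱.2 _ hf0
  rw [RingHom.comp_apply, hprod, map_mul, map_pow, Valuation.map_neg, map_one, one_pow, one_mul,
    map_multiset_prod, Multiset.prod_eq_one (fun x hx => by
      obtain ⟨r, hr, rfl⟩ := Multiset.mem_map.1 hx
      exact hroot r hr)] at hlt
  exact lt_irrefl _ hlt

/-- Geometric reducedness descends through separable algebraic extensions of the base. -/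
theorem isGeometricallyReduced_trans (k₀ k₁ k₂ : Type u) [Field k₀] [Field k₁] [Field k₂]
    [Algebra k₀ k₁] [Algebra k₁ k₂] [Algebra k₀ k₂] [IsScalarTower k₀ k₁ k₂]
    [Algebra.IsSeparable k₀ k₁] [Algebra.IsGeometricallyReduced k₁ k₂] :
    Algebra.IsGeometricallyReduced k₀ k₂ := by
  rw [Algebra.isGeometricallyReduced_field_iff]
  let C := AlgebraicClosure k₀
  have := TameComp.geomReduced_of_isSeparable k₀ k₁
  let R := k₁ ⊗[k₀] C
  have : IsReduced R := isReduced_of_injective (Algebra.TensorProduct.comm k₀ k₁ C).toRingHom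
    (Algebra.TensorProduct.comm k₀ k₁ C).injective
  have : Algebra.IsIntegral k₁ R := ⟨fun x => by
    induction x using TensorProduct.induction_on with
    | zero => exact isIntegral_zero
    | tmul a c =>
      rw [show a ⊗ₜ[k₀] c = algebraMap k₁ R a *
        (Algebra.TensorProduct.includeRight : C →ₐ[k₀] R) c by
          show _ = (algebraMap k₁ k₁ a ⊗ₜ[k₀] (1 : C)) * ((1 : k₁) ⊗ₜ[k₀] c)
          rw [Algebra.TensorProduct.tmul_mul_tmul, mul_one, one_mul]; rfl]
      exact isIntegral_algebraMap.mul
        (((Algebra.IsIntegral.isIntegral (R := k₀) c).map _).tower_top)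
    | add a b ha hb => exact ha.add hb⟩
  have hdim : ∀ Q : Ideal R, Q.IsPrime → Q.IsMaximal := fun Q hQ =>
    Ideal.isMaximal_of_isIntegral_of_isMaximal_comap (R := k₁) Q
      ((Ideal.eq_bot_or_top (Q.comap (algebraMap k₁ R))).resolve_right
        (Ideal.IsPrime.ne_top inferInstance) ▸ Ideal.bot_isMaximal)
  have hred : IsReduced (R ⊗[k₁] k₂) := by
    refine ⟨fun t ht => ?_⟩
    let Ann : Ideal R :=
      { carrier := {r | r • t = 0}
        add_mem' := fun {a b} ha hb => by
          show (a + b) • t = 0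
          rw [add_smul, show a • t = 0 from ha, show b • t = 0 from hb, add_zero]
        zero_mem' := zero_smul R t
        smul_mem' := fun a b hb => by
          show (a • b) • t = 0
          rw [smul_assoc, show b • t = 0 from hb, smul_zero] }
    suffices Ann = ⊤ by
      have h1 : (1 : R) ∈ Ann := this ▸ Submodule.mem_top
      have h2 : (1 : R) • t = 0 := h1
      rwa [one_smul] at h2
    by_contra hne
    obtain ⟨Q, hQ, hle⟩ := Ideal.exists_le_maximal Ann hne
    have : Q.IsPrime := hQ.isPrime
    let _ : Field (R ⧸ Q) := Ideal.Quotient.field Q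
    have : IsReduced ((R ⧸ Q) ⊗[k₁] k₂) := inferInstance
    have h0 : Algebra.TensorProduct.map (Ideal.Quotient.mkₐ k₁ Q) (AlgHom.id k₁ k₂) t = 0 :=
      IsReduced.eq_zero _ (ht.map _)
    have hker : t ∈ RingHom.ker
        (Algebra.TensorProduct.map (Ideal.Quotient.mkₐ k₁ Q) (AlgHom.id k₁ k₂)) := h0
    rw [Algebra.TensorProduct.rTensor_ker _ Ideal.Quotient.mk_surjective] at hker
    have key : ∀ y ∈ Q.map (Algebra.TensorProduct.includeLeft : R →ₐ[k₁] R ⊗[k₁] k₂),
        ∃ b ∉ Q, b • y = 0 := by
      intro y hy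
      induction hy using Submodule.span_induction with
      | mem y hy =>
        obtain ⟨q, hq, rfl⟩ := hy
        obtain ⟨b, hb, hbq⟩ := exists_notMem_mul_eq_zero hdim Q (x := q) hq
        refine ⟨b, hb, ?_⟩
        show b • (q ⊗ₜ[k₁] (1 : k₂)) = 0
        rw [TensorProduct.smul_tmul', smul_eq_mul, hbq, TensorProduct.zero_tmul]
      | zero => exact ⟨1, fun h => hQ.ne_top ((Ideal.eq_top_iff_one Q).2 h), smul_zero _⟩
      | add y z _ _ hy hz =>
        obtain ⟨b, hb, hby⟩ := hy
        obtain ⟨d, hd, hdz⟩ := hz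
        refine ⟨b * d, fun h => (hQ.isPrime.mem_or_mem h).elim hb hd, ?_⟩
        rw [smul_add, mul_smul, mul_smul, hdz, smul_zero, add_zero, smul_comm, hby, smul_zero]
      | smul a y _ hy =>
        obtain ⟨b, hb, hby⟩ := hy
        refine ⟨b, hb, ?_⟩
        rw [smul_comm, hby, smul_zero]
    have hker' : t ∈ Q.map (Algebra.TensorProduct.includeLeft : R →ₐ[k₁] R ⊗[k₁] k₂) := by
      rwa [show RingHom.ker (Ideal.Quotient.mkₐ k₁ Q) = Q from Ideal.Quotient.mkₐ_ker k₁ Q]
        at hker
    obtain ⟨b, hb, hbt⟩ := key t hker'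
    exact hb (hle hbt)
  let e₁ : k₂ ⊗[k₁] R ≃ₐ[k₂] k₂ ⊗[k₀] C :=
    Algebra.TensorProduct.cancelBaseChange k₀ k₁ k₂ k₂ C
  let e : R ⊗[k₁] k₂ ≃+* C ⊗[k₀] k₂ :=
    (Algebra.TensorProduct.comm k₁ R k₂).toRingEquiv.trans
      (e₁.toRingEquiv.trans (Algebra.TensorProduct.comm k₀ k₂ C).toRingEquiv)
  exact isReduced_of_injective e.symm.toRingHom e.symm.injective

end Groth.EtaleAlgebra.PlaceConj
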