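import Mathlib

/-!
# Primitive elements of étale algebras among small scalar combinations
-/

universe u

open TensorProduct Polynomial

namespace Groth.EtaleAlgebra

theorem formallyEtale_of_reduced_separable (K L : Type u) [Field K] [CommRing L] [Algebra K L]
    [Module.Finite K L] [IsReduced L] [Algebra.IsSeparable K L] : Algebra.FormallyEtale K L := by
  classical
  have : IsArtinianRing L := .of_finite K L
  let _ (m : MaximalSpectrum L) : Field (L ⧸ m.asIdeal) := Ideal.Quotient.field m.asIdeal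
  refine (Algebra.FormallyEtale.iff_exists_algEquiv_prod K L).2
    ⟨MaximalSpectrum L, inferInstance, fun m => L ⧸ m.asIdeal, inferInstance, inferInstance,
      (IsArtinianRing.equivPi L).restrictScalars K, fun m => ⟨fun x => ?_⟩⟩
  obtain ⟨y, rfl⟩ := Ideal.Quotient.mk_surjective x
  refine (Algebra.IsSeparable.isSeparable K y).of_dvd (minpoly.dvd _ _ ?_)
  rw [show Ideal.Quotient.mk m.asIdeal y = Ideal.Quotient.mkₐ K m.asIdeal y from rfl,
    aeval_algHom_apply, minpoly.aeval, map_zero]

theorem adjoin_eq_top_of_baseChange {K L Ω : Type u} [Field K] [CommRing L] [Algebra K L] [Field Ω]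
    [Algebra K Ω] (u : L)
    (h : Algebra.adjoin Ω ({(1 : Ω) ⊗ₜ[K] u} : Set (Ω ⊗[K] L)) = ⊤) :
    Algebra.adjoin K ({u} : Set L) = ⊤ := by
  refine Algebra.eq_top_iff.2 fun x => ?_
  by_contra hx
  obtain ⟨φ, hφx, hφ⟩ := (Algebra.adjoin K ({u} : Set L)).toSubmodule.exists_dual_map_eq_bot_of_notMem
    (x := x) hx inferInstance
  have hz : ∀ w ∈ Algebra.adjoin Ω ({(1 : Ω) ⊗ₜ[K] u} : Set (Ω ⊗[K] L)), φ.baseChange Ω w = 0 := by
    intro w hw
    obtain ⟨p, rfl⟩ := Algebra.adjoin_singleton_eq_range_aeval Ω ((1 : Ω) ⊗ₜ[K] u) ▸ hw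
    clear hw
    show φ.baseChange Ω (aeval ((1 : Ω) ⊗ₜ[K] u) p) = 0
    induction p using Polynomial.induction_on' with
    | add a b ha hb => rw [map_add, map_add, ha, hb, add_zero]
    | monomial k a =>
      have hu : φ (u ^ k) = 0 := by
        have : φ (u ^ k) ∈ (Algebra.adjoin K ({u} : Set L)).toSubmodule.map φ :=
          ⟨u ^ k, pow_mem (Algebra.self_mem_adjoin_singleton K u) k, rfl⟩
        rwa [hφ, Submodule.mem_bot] at this
      rw [aeval_monomial, ← Algebra.smul_def, map_smul, Algebra.TensorProduct.tmul_pow, one_pow,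
        Module.Dual.baseChange_apply_tmul, hu, zero_smul, smul_zero]
  have h1 := hz ((1 : Ω) ⊗ₜ[K] x) (h ▸ Algebra.mem_top)
  rw [Module.Dual.baseChange_apply_tmul, Algebra.smul_def, mul_one] at h1
  exact hφx ((map_eq_zero_iff _ (algebraMap K Ω).injective).1 h1)

theorem exists_adjoin_smul_add (K L : Type u) [Field K] [CommRing L] [Algebra K L] [Module.Finite K L]
    [IsReduced L] [Algebra.IsSeparable K L] (z t : L) (hgen : Algebra.adjoin K ({z, t} : Set L) = ⊤)
    (S : Finset K) (hS : Module.finrank K L * (Module.finrank K L - 1) < S.card) :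
    ∃ c ∈ S, Algebra.adjoin K ({c • z + t} : Set L) = ⊤ := by
  classical
  let Ω := AlgebraicClosure K
  have := formallyEtale_of_reduced_separable K L
  let e := Algebra.FormallyEtale.equivPiOfIsSepClosed Ω (Ω ⊗[K] L)
  have : IsArtinianRing (Ω ⊗[K] L) := .of_finite Ω _
  let P := PrimeSpectrum (Ω ⊗[K] L)
  let _ : Fintype P := Fintype.ofFinite P
  have hcard : Fintype.card P = Module.finrank K L := by
    rw [← Module.finrank_baseChange (R := Ω) (S := K) (M' := L), e.toLinearEquiv.finrank_eq,
      Module.finrank_fintype_fun_eq_card]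
  let ψ : P → (L →ₐ[K] Ω) := fun p =>
    ((Pi.evalAlgHom K (fun _ : P => Ω) p).comp (e.toAlgHom.restrictScalars K)).comp
      Algebra.TensorProduct.includeRight
  have hψ : ∀ p q, ψ p z = ψ q z → ψ p t = ψ q t → p = q := by
    intro p q hz ht
    have hL : ψ p = ψ q := by
      refine AlgHom.ext fun x => ?_
      have hx : x ∈ Algebra.adjoin K ({z, t} : Set L) := hgen ▸ Algebra.mem_top
      induction hx using Algebra.adjoin_induction with
      | mem y hy => rcases hy with rfl | rfl <;> assumption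
      | algebraMap r => rw [AlgHom.commutes, AlgHom.commutes]
      | add a b _ _ ha hb => rw [map_add, map_add, ha, hb]
      | mul a b _ _ ha hb => rw [map_mul, map_mul, ha, hb]
    have hB : (Pi.evalAlgHom Ω (fun _ : P => Ω) p).comp e.toAlgHom =
        (Pi.evalAlgHom Ω (fun _ : P => Ω) q).comp e.toAlgHom :=
      Algebra.TensorProduct.ext (Subsingleton.elim _ _) hL
    by_contra hne
    have h1 := AlgHom.congr_fun hB (e.symm (Pi.single p 1))
    simp [hne] at h1
  let bad : Finset K := S.filter fun c => ∃ p q : P, p ≠ q ∧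
    algebraMap K Ω c * (ψ p z - ψ q z) + (ψ p t - ψ q t) = 0
  have hbad : bad.card ≤ Module.finrank K L * (Module.finrank K L - 1) := by
    rw [← hcard, Nat.mul_sub_one, ← Finset.card_univ, ← Finset.offDiag_card]
    have hsub : bad ⊆ ((Finset.univ : Finset P).offDiag).biUnion fun pq => S.filter fun c =>
        algebraMap K Ω c * (ψ pq.1 z - ψ pq.2 z) + (ψ pq.1 t - ψ pq.2 t) = 0 := by
      intro c hc
      obtain ⟨hcS, p, q, hpq, hc⟩ := Finset.mem_filter.1 hc
      exact Finset.mem_biUnion.2 ⟨(p, q), by simp [hpq], Finset.mem_filter.2 ⟨hcS, hc⟩⟩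
    refine (Finset.card_le_card hsub).trans (Finset.card_biUnion_le_card_mul _ _ 1 ?_ |>.trans
      (mul_one _).le)
    rintro ⟨p, q⟩ hpq
    refine Finset.card_le_one.2 fun c hc c' hc' => ?_
    have h1 := (Finset.mem_filter.1 hc).2
    have h2 := (Finset.mem_filter.1 hc').2
    by_cases hzz : ψ p z - ψ q z = 0
    · rw [hzz, mul_zero, zero_add] at h1
      exact absurd (hψ p q (sub_eq_zero.1 hzz) (sub_eq_zero.1 h1)) (Finset.mem_offDiag.1 hpq).2.2
    · exact (algebraMap K Ω).injective (mul_right_cancel₀ hzz (by linear_combination h1 - h2))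
  obtain ⟨c, hcS, hc⟩ := Finset.exists_mem_notMem_of_card_lt_card (hbad.trans_lt hS)
  refine ⟨c, hcS, adjoin_eq_top_of_baseChange (Ω := Ω) _ ?_⟩
  refine Algebra.eq_top_iff.2 fun w => ?_
  let v : P → Ω := fun p => ψ p (c • z + t)
  have hv : Set.InjOn v (Finset.univ : Finset P) := by
    intro p _ q _ hpq
    by_contra hne
    refine hc (Finset.mem_filter.2 ⟨hcS, p, q, hne, ?_⟩)
    simp only [v, map_add, Algebra.smul_def, map_mul, AlgHom.commutes] at hpq
    linear_combination hpq
  rw [Algebra.adjoin_singleton_eq_range_aeval]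
  refine ⟨Lagrange.interpolate Finset.univ v (e w), e.injective (funext fun p => ?_)⟩
  have h1 : e (aeval ((1 : Ω) ⊗ₜ[K] (c • z + t)) (Lagrange.interpolate Finset.univ v (e w))) p =
      (Lagrange.interpolate Finset.univ v (e w)).eval (v p) := by
    show ((Pi.evalAlgHom Ω (fun _ : P => Ω) p).comp e.toAlgHom) (aeval _ _) = _
    rw [← aeval_algHom_apply, ← coe_aeval_eq_eval]
    rfl
  exact h1.trans (Lagrange.eval_interpolate_at_node _ hv (Finset.mem_univ p))

end Groth.EtaleAlgebra
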