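import Groth.Agent.EtaleAlgebra.MaxWeaklyEtale
import Groth.Agent.VarietyBC.TensorAlgClosed
import Mathlib.RingTheory.Spectrum.Prime.Chevalley
import Mathlib.LinearAlgebra.Lagrange
import Mathlib.RingTheory.Trace.Basic
import Mathlib.FieldTheory.IsSepClosed
import Mathlib.FieldTheory.Normal.Closure
import Mathlib.FieldTheory.IsAlgClosed.AlgebraicClosure
import Mathlib.LinearAlgebra.TensorProduct.RightExactness

set_option autoImplicit false

/-!
# The largest weakly etale subalgebra commutes with extensions of the base field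
-/

universe u

open TensorProduct Polynomial

namespace Groth.EtaleAlgebra

variable {K : Type u} [Field K] {A : Type u} [CommRing A] [Algebra K A]

theorem isSepElem_of_isIdempotentElem {x : A} (hx : IsIdempotentElem x) : IsSepElem K x := by
  refine ⟨X ^ 2 - X, ⟨C (-4), C 2 * X - 1, ?_⟩, by simp [sq, hx.eq]⟩
  rw [derivative_sub, derivative_X_pow, derivative_X]
  simp only [map_neg, map_ofNat, Nat.cast_ofNat]
  ring

/-- The subalgebra of `L ⊗ A` generated by the largest weakly etale subalgebra of `A`. -/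
abbrev maxSpan (K : Type u) [Field K] (L : Type u) [CommRing L] [Algebra K L] (A : Type u) [CommRing A]
    [Algebra K A] : Subalgebra L (L ⊗[K] A) :=
  Algebra.adjoin L ((Algebra.TensorProduct.includeRight : A →ₐ[K] L ⊗[K] A) ''
    (EtAlgD.maxWeaklyEtale K A : Set A))

variable {L : Type u} [Field L] [Algebra K L]

theorem one_tmul_mem_maxSpan {m : A} (hm : m ∈ EtAlgD.maxWeaklyEtale K A) :
    (1 : L) ⊗ₜ[K] m ∈ maxSpan K L A :=
  Algebra.subset_adjoin (Set.mem_image_of_mem _ hm)

theorem mem_maxSpan_iff (z : L ⊗[K] A) :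
    z ∈ maxSpan K L A ↔
      (Subalgebra.toSubmodule (EtAlgD.maxWeaklyEtale K A)).mkQ.lTensor L z = 0 := by
  let M := EtAlgD.maxWeaklyEtale K A
  have hexact : Function.Exact (M.val.toLinearMap.lTensor L) ((Subalgebra.toSubmodule M).mkQ.lTensor L) :=
    lTensor_exact L (LinearMap.exact_subtype_mkQ (Subalgebra.toSubmodule M)) (Submodule.mkQ_surjective _)
  constructor
  · intro hz
    refine (hexact z).2 ?_
    have hle : maxSpan K L A ≤ (Algebra.TensorProduct.map (AlgHom.id L L) M.val).range := by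
      refine Algebra.adjoin_le ?_
      rintro _ ⟨m, hm, rfl⟩
      exact ⟨1 ⊗ₜ ⟨m, hm⟩, rfl⟩
    obtain ⟨w, rfl⟩ := hle hz
    exact ⟨w, rfl⟩
  · intro hz
    obtain ⟨w, rfl⟩ := (hexact z).1 hz
    clear hz
    induction w using TensorProduct.induction_on with
    | zero => rw [map_zero]; exact zero_mem _
    | tmul c m =>
      have h : M.val.toLinearMap.lTensor L (c ⊗ₜ[K] m) = c • ((1 : L) ⊗ₜ[K] (m : A)) := by
        simp [smul_tmul']
      rw [h]
      exact Subalgebra.smul_mem _ (one_tmul_mem_maxSpan m.2) c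
    | add a b ha hb => rw [map_add]; exact add_mem ha hb

variable {L' : Type u} [Field L'] [Algebra K L']

theorem map_mem_maxSpan (i : L →ₐ[K] L') {z : L ⊗[K] A} (hz : z ∈ maxSpan K L A) :
    Algebra.TensorProduct.map i (AlgHom.id K A) z ∈ maxSpan K L' A := by
  rw [mem_maxSpan_iff] at hz ⊢
  have h : ((Subalgebra.toSubmodule (EtAlgD.maxWeaklyEtale K A)).mkQ.lTensor L').comp
      (i.toLinearMap.rTensor A) = (i.toLinearMap.rTensor _).comp
        ((Subalgebra.toSubmodule (EtAlgD.maxWeaklyEtale K A)).mkQ.lTensor L) := by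
    rw [LinearMap.lTensor_comp_rTensor, LinearMap.rTensor_comp_lTensor]
  have := LinearMap.congr_fun h z
  simp only [LinearMap.comp_apply] at this
  rw [hz, map_zero] at this
  exact this

theorem mem_maxSpan_of_map_mem (i : L →ₐ[K] L') {z : L ⊗[K] A}
    (hz : Algebra.TensorProduct.map i (AlgHom.id K A) z ∈ maxSpan K L' A) : z ∈ maxSpan K L A := by
  rw [mem_maxSpan_iff] at hz ⊢
  have h : ((Subalgebra.toSubmodule (EtAlgD.maxWeaklyEtale K A)).mkQ.lTensor L').comp
      (i.toLinearMap.rTensor A) = (i.toLinearMap.rTensor _).comp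
        ((Subalgebra.toSubmodule (EtAlgD.maxWeaklyEtale K A)).mkQ.lTensor L) := by
    rw [LinearMap.lTensor_comp_rTensor, LinearMap.rTensor_comp_lTensor]
  have := LinearMap.congr_fun h z
  simp only [LinearMap.comp_apply] at this
  refine Module.Flat.rTensor_preserves_injective_linearMap i.toLinearMap i.toRingHom.injective ?_
  rw [map_zero, ← this]
  exact hz

section AlgClosed

variable (k : Type u) [Field k] [IsAlgClosed k] (B : Type u) [CommRing B] [Algebra k B]
  (F : Type u) [Field F] [Algebra k F]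

set_option maxHeartbeats 1000000 in
/-- Over an algebraically closed field, idempotents do not appear after extending the field. -/
theorem exists_idempotent_of_isAlgClosed {e : B ⊗[k] F} (he : IsIdempotentElem e) :
    ∃ e₀ : B, IsIdempotentElem e₀ ∧ e = e₀ ⊗ₜ 1 := by
  classical
  let π := PrimeSpectrum.comap (algebraMap B (B ⊗[k] F))
  have key : ∀ p : PrimeSpectrum B, ∃ P : PrimeSpectrum (B ⊗[k] F), π P = p ∧
      ∀ Q : PrimeSpectrum (B ⊗[k] F), π Q = p → P.asIdeal ≤ Q.asIdeal := by
    intro p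
    let φ : B ⊗[k] F →ₐ[k] (B ⧸ p.asIdeal) ⊗[k] F :=
      Algebra.TensorProduct.map (Ideal.Quotient.mkₐ k p.asIdeal) (AlgHom.id k F)
    have : IsDomain ((B ⧸ p.asIdeal) ⊗[k] F) := Groth.VarietyBC.isDomain_tensor
    refine ⟨⟨RingHom.ker φ, RingHom.ker_isPrime _⟩, ?_, fun Q hQ => ?_⟩
    · refine PrimeSpectrum.ext (Ideal.ext fun b => ?_)
      have hφb : φ (b ⊗ₜ[k] (1 : F)) = (Ideal.Quotient.mk p.asIdeal b) ⊗ₜ[k] (1 : F) := by
        simp only [φ, Algebra.TensorProduct.map_tmul, AlgHom.coe_id, id_eq]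
        rfl
      have hinj : Function.Injective (Algebra.TensorProduct.includeLeft :
          (B ⧸ p.asIdeal) →ₐ[k] (B ⧸ p.asIdeal) ⊗[k] F) :=
        Algebra.TensorProduct.includeLeft_injective (algebraMap k F).injective
      show φ (b ⊗ₜ[k] (1 : F)) = 0 ↔ _
      rw [hφb, ← Algebra.TensorProduct.includeLeft_apply (R := k) (S := k),
        map_eq_zero_iff _ hinj, Ideal.Quotient.eq_zero_iff_mem]
    · intro y hy
      have hy' := (Algebra.TensorProduct.rTensor_ker (C := F) (Ideal.Quotient.mkₐ k p.asIdeal)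
        (Ideal.Quotient.mkₐ_surjective k p.asIdeal)).le hy
      refine (Ideal.map_le_iff_le_comap.2 fun b hb => ?_) hy'
      have hb' : b ∈ p.asIdeal := Ideal.Quotient.eq_zero_iff_mem.1 hb
      rw [← hQ] at hb'
      exact hb'
  choose P hP hPle using key
  have hsat : ∀ Q, e ∈ Q.asIdeal ↔ e ∈ (P (π Q)).asIdeal := by
    intro Q
    refine ⟨fun h => ?_, fun h => hPle _ Q rfl h⟩
    have h0 : e * (1 - e) ∈ (P (π Q)).asIdeal := by rw [mul_sub, mul_one, he.eq, sub_self]; exact zero_mem _
    refine ((P (π Q)).2.mem_or_mem h0).resolve_right fun h1 => Q.2.one_notMem ?_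
    simpa using Q.asIdeal.add_mem h (hPle _ Q rfl h1)
  let U : Set (PrimeSpectrum B) := π '' PrimeSpectrum.basicOpen e
  have hopen : IsOpenMap π := PrimeSpectrum.isOpenMap_comap_algebraMap_tensorProduct_of_field
  have hUc : Uᶜ = π '' (PrimeSpectrum.basicOpen (1 - e)) := by
    ext p
    constructor
    · intro hp
      refine ⟨P p, ?_, hP p⟩
      intro h
      refine hp ⟨P p, fun h' => (P p).2.one_notMem ?_, hP p⟩
      simpa using (P p).asIdeal.add_mem h h'
    · rintro ⟨Q, hQ, rfl⟩ ⟨Q', hQ', hpi⟩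
      refine hQ' ((hsat Q').2 ?_)
      rw [hpi, ← hsat]
      have h0 : e * (1 - e) ∈ Q.asIdeal := by rw [mul_sub, mul_one, he.eq, sub_self]; exact zero_mem _
      exact (Q.2.mem_or_mem h0).resolve_right hQ
  have hU : IsClopen U := ⟨⟨hUc ▸ hopen _ (PrimeSpectrum.basicOpen (1 - e)).2⟩,
    hopen _ (PrimeSpectrum.basicOpen e).2⟩
  obtain ⟨e₀, he₀, hUe⟩ := PrimeSpectrum.exists_idempotent_basicOpen_eq_of_isClopen hU
  refine ⟨e₀, he₀, PrimeSpectrum.basicOpen_injOn_isIdempotentElem he
    (he₀.map (algebraMap B (B ⊗[k] F))) ?_⟩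
  refine TopologicalSpace.Opens.ext (Set.ext fun Q => ?_)
  show e ∉ Q.asIdeal ↔ Q ∈ π ⁻¹' ↑(PrimeSpectrum.basicOpen e₀)
  rw [← hUe]
  refine ⟨fun h => ⟨Q, h, rfl⟩, ?_⟩
  rintro ⟨Q', hQ', hpi⟩ h
  exact hQ' ((hsat Q').2 (hpi ▸ (hsat Q).1 h))

end AlgClosed

theorem mem_maxSpan_of_isIdempotentElem_galois [FiniteDimensional K L] [IsGalois K L]
    {e : L ⊗[K] A} (he : IsIdempotentElem e) : e ∈ maxSpan K L A := by
  classical
  let Φ : L ⊗[K] A →ₗ[K] A :=
    (TensorProduct.lid K A).toLinearMap.comp ((Algebra.trace K L).rTensor A)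
  have hΦ : ∀ y : L ⊗[K] A, (1 : L) ⊗ₜ[K] Φ y =
      ∑ σ : L ≃ₐ[K] L, Algebra.TensorProduct.map σ.toAlgHom (AlgHom.id K A) y := by
    intro y
    induction y using TensorProduct.induction_on with
    | zero => simp
    | tmul c a =>
      simp only [Φ, LinearMap.comp_apply, LinearMap.rTensor_tmul, LinearEquiv.coe_coe,
        TensorProduct.lid_tmul, Algebra.TensorProduct.map_tmul, AlgHom.coe_id, id_eq]
      rw [tmul_smul, smul_tmul', Algebra.smul_def, mul_one, trace_eq_sum_automorphisms,
        TensorProduct.sum_tmul]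
      rfl
    | add a b ha hb => simp only [map_add, tmul_add, ha, hb, Finset.sum_add_distrib]
  have hsep : ∀ x : L, Φ ((x ⊗ₜ[K] (1 : A)) * e) ∈ EtAlgD.maxWeaklyEtale K A := by
    intro x
    rw [mem_maxWeaklyEtale]
    refine IsSepElem.of_map (Algebra.TensorProduct.includeRight : A →ₐ[K] L ⊗[K] A)
      (Algebra.TensorProduct.includeRight_injective (algebraMap K L).injective) ?_
    rw [Algebra.TensorProduct.includeRight_apply, hΦ, ← mem_maxWeaklyEtale]
    refine sum_mem fun σ _ => ?_
    rw [map_mul, Algebra.TensorProduct.map_tmul]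
    refine mul_mem (mem_maxWeaklyEtale.2 ?_) (mem_maxWeaklyEtale.2
      (isSepElem_of_isIdempotentElem (he.map _)))
    have h : IsSepElem K (σ x) :=
      ⟨minpoly K (σ x), Algebra.IsSeparable.isSeparable K (σ x), minpoly.aeval _ _⟩
    simpa using h.map (Algebra.TensorProduct.includeLeft : L →ₐ[K] L ⊗[K] A)
  let b := Module.Free.chooseBasis K L
  let d := (Algebra.traceForm K L).dualBasis (traceForm_nondegenerate K L) b
  have hexp : ∀ y : L ⊗[K] A, y = ∑ i, d i ⊗ₜ[K] Φ ((b i ⊗ₜ[K] (1 : A)) * y) := by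
    intro y
    induction y using TensorProduct.induction_on with
    | zero => simp
    | tmul c a =>
      simp only [Algebra.TensorProduct.tmul_mul_tmul, one_mul, Φ, LinearMap.comp_apply,
        LinearMap.rTensor_tmul, LinearEquiv.coe_coe, TensorProduct.lid_tmul]
      simp_rw [← smul_tmul]
      rw [← TensorProduct.sum_tmul]
      congr 1
      conv_lhs => rw [← d.sum_repr c]
      refine Finset.sum_congr rfl fun i _ => ?_
      rw [show d.repr c i = Algebra.trace K L (b i * c) by
        rw [LinearMap.BilinForm.dualBasis_repr_apply, Algebra.traceForm_apply, mul_comm]]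
    | add y z hy hz =>
      simp only [mul_add, map_add, tmul_add, Finset.sum_add_distrib]
      rw [← hy, ← hz]
  rw [hexp e]
  refine sum_mem fun i _ => ?_
  rw [show d i ⊗ₜ[K] Φ ((b i ⊗ₜ[K] (1 : A)) * e) = d i • ((1 : L) ⊗ₜ[K] Φ ((b i ⊗ₜ[K] (1 : A)) * e)) by
    simp [smul_tmul']]
  exact Subalgebra.smul_mem _ (one_tmul_mem_maxSpan (hsep (b i))) _

theorem mem_maxSpan_of_isIdempotentElem_algClosure
    {e : AlgebraicClosure K ⊗[K] A} (he : IsIdempotentElem e) :
    e ∈ maxSpan K (AlgebraicClosure K) A := by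
  rcases subsingleton_or_nontrivial (AlgebraicClosure K ⊗[K] A) with hs | hn
  · rw [Subsingleton.elim e 0]; exact zero_mem _
  let S : IntermediateField K (AlgebraicClosure K) := separableClosure K (AlgebraicClosure K)
  let q := ringExpChar K
  have : ExpChar S q := expChar_of_injective_algebraMap (algebraMap K S).injective q
  have : ExpChar (AlgebraicClosure K ⊗[K] A) q :=
    expChar_of_injective_algebraMap (algebraMap K (AlgebraicClosure K ⊗[K] A)).injective q
  let j := Algebra.TensorProduct.map S.val (AlgHom.id K A)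
  have hpow : ∀ y : AlgebraicClosure K ⊗[K] A, ∃ n : ℕ, ∀ m, n ≤ m → y ^ q ^ m ∈ j.range := by
    intro y
    induction y using TensorProduct.induction_on with
    | zero =>
      exact ⟨0, fun m _ => by rw [zero_pow (pow_ne_zero _ (expChar_pos K q).ne')]; exact zero_mem _⟩
    | tmul c a =>
      obtain ⟨n, hn⟩ := IsPurelyInseparable.pow_mem S q c
      refine ⟨n, fun m hm => ?_⟩
      obtain ⟨s, hs⟩ := hn
      obtain ⟨k, rfl⟩ := Nat.exists_eq_add_of_le hm
      refine ⟨(s ^ q ^ k) ⊗ₜ (a ^ q ^ (n + k)), ?_⟩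
      simp only [j, AlgHom.toRingHom_eq_coe, RingHom.coe_coe, Algebra.TensorProduct.map_tmul,
        AlgHom.coe_id, id_eq, map_pow, Algebra.TensorProduct.tmul_pow]
      rw [show S.val s = c ^ q ^ n from hs, ← pow_mul, ← pow_add]
    | add y z hy hz =>
      obtain ⟨n, hn⟩ := hy
      obtain ⟨m, hm⟩ := hz
      refine ⟨max n m, fun l hl => ?_⟩
      rw [add_pow_expChar_pow]
      exact add_mem (hn l (le_of_max_le_left hl)) (hm l (le_of_max_le_right hl))
  obtain ⟨n, hn⟩ := hpow e
  have hmem := hn n le_rfl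
  obtain ⟨k, hk⟩ : ∃ k, q ^ n = k + 1 :=
    Nat.exists_eq_add_of_le' (Nat.one_le_iff_ne_zero.2 (pow_ne_zero _ (expChar_pos K q).ne'))
  rw [hk, he.pow_succ_eq] at hmem
  obtain ⟨e', he'⟩ := hmem
  -- a finite Galois field of definition
  obtain ⟨E, hfin, hgal, w, hw⟩ : ∃ (E : IntermediateField K S) (_ : FiniteDimensional K E)
      (_ : IsGalois K E) (w : E ⊗[K] A), Algebra.TensorProduct.map E.val (AlgHom.id K A) w = e' := by
    obtain ⟨F, hF, w, hw⟩ : ∃ (F : IntermediateField K S) (_ : FiniteDimensional K F) (w : F ⊗[K] A),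
        Algebra.TensorProduct.map F.val (AlgHom.id K A) w = e' := by
      clear he'
      induction e' using TensorProduct.induction_on with
      | zero => exact ⟨⊥, inferInstance, 0, map_zero _⟩
      | tmul c a =>
        exact ⟨IntermediateField.adjoin K {c},
          IntermediateField.adjoin.finiteDimensional (Algebra.IsIntegral.isIntegral c),
          ⟨c, IntermediateField.mem_adjoin_simple_self K c⟩ ⊗ₜ a, by simp⟩
      | add y z hy hz =>
        obtain ⟨F, _, w, rfl⟩ := hy
        obtain ⟨F', _, w', rfl⟩ := hz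
        refine ⟨F ⊔ F', inferInstance,
          Algebra.TensorProduct.map (IntermediateField.inclusion (le_sup_left : F ≤ F ⊔ F')) (AlgHom.id K A) w +
          Algebra.TensorProduct.map (IntermediateField.inclusion (le_sup_right : F' ≤ F ⊔ F')) (AlgHom.id K A) w', ?_⟩
        rw [map_add, ← AlgHom.comp_apply, ← AlgHom.comp_apply, ← Algebra.TensorProduct.map_comp,
          ← Algebra.TensorProduct.map_comp]
        rfl
    refine ⟨IntermediateField.normalClosure K F S, inferInstance, ⟨⟩,
      Algebra.TensorProduct.map (IntermediateField.inclusion F.le_normalClosure) (AlgHom.id K A) w, ?_⟩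
    rw [← AlgHom.comp_apply, ← Algebra.TensorProduct.map_comp]
    exact hw
  have hcomp : Algebra.TensorProduct.map (S.val.comp E.val) (AlgHom.id K A) w = e := by
    rw [show Algebra.TensorProduct.map (S.val.comp E.val) (AlgHom.id K A) =
      j.comp (Algebra.TensorProduct.map E.val (AlgHom.id K A)) from by
        rw [← Algebra.TensorProduct.map_comp]; rfl, AlgHom.comp_apply, hw]
    exact he'
  have hinj : Function.Injective (Algebra.TensorProduct.map (S.val.comp E.val) (AlgHom.id K A)) :=
    Module.Flat.rTensor_preserves_injective_linearMap (S.val.comp E.val).toLinearMap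
      (S.val.comp E.val).toRingHom.injective
  have hwi : IsIdempotentElem w := hinj (by rw [map_mul, hcomp, he.eq])
  exact hcomp ▸ map_mem_maxSpan (S.val.comp E.val) (mem_maxSpan_of_isIdempotentElem_galois hwi)

theorem mem_maxSpan_of_isIdempotentElem [IsAlgClosed L] {e : L ⊗[K] A} (he : IsIdempotentElem e) :
    e ∈ maxSpan K L A := by
  let i : AlgebraicClosure K →ₐ[K] L := IsAlgClosed.lift
  algebraize [i.toRingHom]
  have : IsScalarTower K (AlgebraicClosure K) L := .of_algebraMap_eq fun x => (i.commutes x).symm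
  let ψ := Algebra.TensorProduct.cancelBaseChange K (AlgebraicClosure K) L L A
  obtain ⟨e₀, he₀, he₀'⟩ := exists_idempotent_of_isAlgClosed (AlgebraicClosure K)
    (AlgebraicClosure K ⊗[K] A) L (e := Algebra.TensorProduct.comm _ _ _ (ψ.symm e))
    ((he.map ψ.symm).map _)
  have h1 : ψ.symm e = 1 ⊗ₜ e₀ := by
    apply (Algebra.TensorProduct.comm (AlgebraicClosure K) L (AlgebraicClosure K ⊗[K] A)).injective
    rw [he₀', Algebra.TensorProduct.comm_tmul]
  have hmap : ∀ y, ψ (1 ⊗ₜ[AlgebraicClosure K] y) = Algebra.TensorProduct.map i (AlgHom.id K A) y := by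
    intro y
    induction y using TensorProduct.induction_on with
    | zero => simp
    | tmul c a =>
      simp only [ψ, Algebra.TensorProduct.cancelBaseChange_tmul, Algebra.TensorProduct.map_tmul,
        AlgHom.coe_id, id_eq, Algebra.smul_def, mul_one]
      rfl
    | add y z hy hz => rw [tmul_add, map_add, map_add, hy, hz]
  rw [show e = Algebra.TensorProduct.map i (AlgHom.id K A) e₀ by
    rw [← hmap, ← h1, AlgEquiv.apply_symm_apply]]
  exact map_mem_maxSpan i (mem_maxSpan_of_isIdempotentElem_algClosure he₀)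

theorem mem_maxSpan_of_isSepElem_algClosed [IsAlgClosed L] {z : L ⊗[K] A} (hz : IsSepElem L z) :
    z ∈ maxSpan K L A := by
  classical
  obtain ⟨f, hf, hfz⟩ := hz
  let s := f.roots.toFinset
  have hdvd : ∀ P : L[X], (∀ a ∈ s, P.eval a = 0) → aeval z P = 0 := by
    intro P hP
    have h1 : (∏ a ∈ s, (X - C a)) ∣ P :=
      Finset.prod_dvd_of_coprime
        (fun a _ b _ hab => isCoprime_X_sub_C_of_isUnit_sub (sub_ne_zero.2 hab).isUnit)
        fun a ha => Polynomial.dvd_iff_isRoot.2 (hP a ha)
    have h2 : f = C f.leadingCoeff * ∏ a ∈ s, (X - C a) := by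
      conv_lhs => rw [(IsAlgClosed.splits f).eq_prod_roots]
      congr 1
      rw [Finset.prod_eq_multiset_prod, Multiset.toFinset_val, (nodup_roots hf).dedup]
    have h3 : f ∣ P := by
      rw [h2]
      exact (IsUnit.mul_left_dvd (isUnit_C.2 (leadingCoeff_ne_zero.2 hf.ne_zero).isUnit)).2 h1
    obtain ⟨Q, rfl⟩ := h3
    rw [map_mul, hfz, zero_mul]
  have he : ∀ a ∈ s, IsIdempotentElem (aeval z (Lagrange.basis s id a)) := by
    intro a ha
    rw [IsIdempotentElem, ← map_mul, ← sub_eq_zero, ← map_sub]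
    refine hdvd _ fun b hb => ?_
    rcases eq_or_ne a b with rfl | hne
    · rw [eval_sub, eval_mul, show eval a (Lagrange.basis s id a) = 1 from
        Lagrange.eval_basis_self (v := id) Function.injective_id.injOn ha]
      simp
    · rw [eval_sub, eval_mul, show eval b (Lagrange.basis s id a) = 0 from
        Lagrange.eval_basis_of_ne (v := id) hne hb]
      simp
  have hsum : z = ∑ a ∈ s, a • aeval z (Lagrange.basis s id a) := by
    have h := hdvd (X - ∑ a ∈ s, C a * Lagrange.basis s id a) fun b hb => by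
      rw [eval_sub, eval_X, eval_finsetSum, sub_eq_zero, Finset.sum_eq_single b]
      · rw [eval_mul, eval_C, show eval b (Lagrange.basis s id b) = 1 from
          Lagrange.eval_basis_self (v := id) Function.injective_id.injOn hb, mul_one]
      · intro a _ hne
        rw [eval_mul, show eval b (Lagrange.basis s id a) = 0 from
          Lagrange.eval_basis_of_ne (v := id) hne hb, mul_zero]
      · exact fun h => absurd hb h
    rw [map_sub, aeval_X, sub_eq_zero, map_sum] at h
    refine h.trans (Finset.sum_congr rfl fun a _ => ?_)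
    rw [map_mul, aeval_C, Algebra.smul_def]
  rw [hsum]
  exact sum_mem fun a ha =>
    Subalgebra.smul_mem _ (mem_maxSpan_of_isIdempotentElem (he a ha)) a

theorem maxWeaklyEtale_baseChange :
    EtAlgD.maxWeaklyEtale L (L ⊗[K] A) = maxSpan K L A := by
  refine le_antisymm (fun z hz => ?_) (Algebra.adjoin_le ?_)
  · let i : L →ₐ[K] AlgebraicClosure L := IsScalarTower.toAlgHom K L _
    refine mem_maxSpan_of_map_mem i (mem_maxSpan_of_isSepElem_algClosed ?_)
    obtain ⟨f, hf, hfz⟩ := mem_maxWeaklyEtale.1 hz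
    refine ⟨f.map (algebraMap L (AlgebraicClosure L)), hf.map, ?_⟩
    let j : L ⊗[K] A →ₐ[L] AlgebraicClosure L ⊗[K] A :=
      Algebra.TensorProduct.map (Algebra.ofId L (AlgebraicClosure L)) (AlgHom.id K A)
    rw [aeval_map_algebraMap, show Algebra.TensorProduct.map i (AlgHom.id K A) z = j z from rfl,
      aeval_algHom_apply, hfz, map_zero]
  · rintro _ ⟨m, hm, rfl⟩
    obtain ⟨f, hf, hfm⟩ := mem_maxWeaklyEtale.1 hm
    refine mem_maxWeaklyEtale.2 ⟨f.map (algebraMap K L), hf.map, ?_⟩
    rw [aeval_map_algebraMap, aeval_algHom_apply, hfm, map_zero]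

end Groth.EtaleAlgebra
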