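import Groth.Agent.EtaleAlgebra.SmoothTower
import Mathlib.RingTheory.Kaehler.Basic
import Mathlib.RingTheory.Finiteness.Basic

/-!
# Smoothness in a tower tested on the fibre of the differentials
-/

namespace Groth.EtaleAlgebra

open KaehlerDifferential TensorProduct

universe u

theorem isSmoothAt_iff_injective_lTensor (A B C : Type u) [CommRing A] [CommRing B] [CommRing C]
    [Algebra A B] [Algebra B C] [Algebra A C] [IsScalarTower A B C]
    [Algebra.FinitePresentation A B] [Algebra.FinitePresentation A C] (q : Ideal C) [q.IsPrime]
    (hC : Algebra.IsSmoothAt A q) :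
    Algebra.IsSmoothAt B q ↔
      Function.Injective ((KaehlerDifferential.mapBaseChange A B C).lTensor q.ResidueField) := by
  let T := Localization.AtPrime q
  have : Algebra.FormallySmooth A T := hC
  have : Algebra.EssFiniteType A T :=
    have : Algebra.EssFiniteType C T := .of_isLocalization _ q.primeCompl
    .comp A C T
  have : Module.Free T Ω[T⁄A] := Module.free_of_flat_of_isLocalRing
  have : Algebra.FormallyEtale C T := Algebra.FormallyEtale.of_isLocalization q.primeCompl
  have key : Algebra.IsSmoothAt B q ↔
      Function.Injective ((mapBaseChange A B T).lTensor q.ResidueField) :=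
    (formallySmooth_iff_split A B T).trans
      (IsLocalRing.split_injective_iff_lTensor_residueField_injective _)
  rw [key]
  let k := q.ResidueField
  let eM : k ⊗[C] (C ⊗[B] Ω[B⁄A]) ≃ₗ[k] k ⊗[T] (T ⊗[B] Ω[B⁄A]) :=
    (AlgebraTensorModule.cancelBaseChange B C k k Ω[B⁄A]).trans
      (AlgebraTensorModule.cancelBaseChange B T k k Ω[B⁄A]).symm
  let eN : k ⊗[C] Ω[C⁄A] ≃ₗ[k] k ⊗[T] Ω[T⁄A] :=
    (AlgebraTensorModule.cancelBaseChange C T k k Ω[C⁄A]).symm.trans
      (AlgebraTensorModule.congr (LinearEquiv.refl k k)
        (tensorKaehlerEquivOfFormallyEtale A C T))
  have hsq : ∀ x, eN ((mapBaseChange A B C).lTensor k x) = (mapBaseChange A B T).lTensor k (eM x) := by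
    intro x
    induction x with
    | zero => simp
    | add a b ha hb => simp only [map_add, ha, hb]
    | tmul a y =>
      induction y with
      | zero => simp
      | add a' b ha hb => simp only [tmul_add, map_add, ha, hb]
      | tmul c ω =>
        have hω : KaehlerDifferential.map A A C T (KaehlerDifferential.map A A B C ω) =
            KaehlerDifferential.map A A B T ω := by
          have : ω ∈ Submodule.span B (Set.range (D A B)) := by
            rw [span_range_derivation]; trivial
          induction this using Submodule.span_induction with
          | mem z hz =>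
            obtain ⟨b, rfl⟩ := hz
            rw [map_D, map_D, map_D, ← IsScalarTower.algebraMap_apply]
          | zero => simp
          | add _ _ _ _ ha hb => rw [map_add, map_add, map_add, ha, hb]
          | smul r z _ ha =>
            rw [(KaehlerDifferential.map A A B C).map_smul, (KaehlerDifferential.map A A B T).map_smul,
              ← algebraMap_smul C r (KaehlerDifferential.map A A B C z),
              (KaehlerDifferential.map A A C T).map_smul, ha, algebraMap_smul]
        have hc : KaehlerDifferential.map A A C T (c • KaehlerDifferential.map A A B C ω) =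
            c • KaehlerDifferential.map A A B T ω := by
          rw [map_smul, hω]
        simp only [LinearMap.lTensor_tmul, mapBaseChange_tmul, eN, eM, LinearEquiv.trans_apply,
          AlgebraTensorModule.cancelBaseChange_symm_tmul, AlgebraTensorModule.cancelBaseChange_tmul,
          AlgebraTensorModule.congr_tmul, LinearEquiv.refl_apply,
          tensorKaehlerEquivOfFormallyEtale_apply, one_smul, hc]
        exact (smul_tmul c a (KaehlerDifferential.map A A B T ω)).symm
  constructor
  · intro h x y hxy
    apply eM.injective
    apply h
    rw [← hsq, ← hsq, hxy]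
  · intro h x y hxy
    obtain ⟨x, rfl⟩ := eM.surjective x
    obtain ⟨y, rfl⟩ := eM.surjective y
    rw [← hsq, ← hsq] at hxy
    rw [h (eN.injective hxy)]

end Groth.EtaleAlgebra
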