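import Groth.Agent.EtaleAlgebra.UnrDescent
import Groth.Agent.S1983

set_option autoImplicit false
set_option linter.style.haveILetI false
set_option linter.overlappingInstances false
set_option linter.unusedSectionVars false
universe u

namespace Groth.EtaleAlgebra.SolDescentUnr

open IsLocalRing EtRam Polynomial Groth.EtaleAlgebra

/-- A subalgebra containing algebraic generators is everything. -/
theorem eq_top_of_gens {F Ω : Type u} [Field F] [Field Ω] [Algebra F Ω] {R : Set Ω}
    (hR : ∀ r ∈ R, IsAlgebraic F r) (T : IntermediateField F Ω)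
    (hT : T = IntermediateField.adjoin F R) (S : Subalgebra F T)
    (h : ∀ r ∈ R, ∀ hr : r ∈ T, (⟨r, hr⟩ : T) ∈ S) : S = ⊤ := by
  refine eq_top_iff.2 fun x _ => ?_
  have hx : (x : Ω) ∈ Algebra.adjoin F R := by
    rw [← IntermediateField.adjoin_toSubalgebra_of_isAlgebraic hR, ← hT]
    exact x.2
  have hle : Algebra.adjoin F R ≤ S.map T.val := Algebra.adjoin_le fun r hr =>
    have hrT : r ∈ T := hT ▸ IntermediateField.subset_adjoin F R hr
    ⟨⟨r, hrT⟩, h r hr hrT, rfl⟩
  obtain ⟨y, hy, hyx⟩ := hle hx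
  rwa [show x = y from Subtype.ext hyx.symm]

set_option maxHeartbeats 1000000 in
/-- A solution over fields of residually separable roots descends. -/
theorem descend (A B K L K' L' Ω : Type u) [CommRing A] [IsDomain A] [IsDiscreteValuationRing A]
    [CommRing B] [IsDomain B] [IsDiscreteValuationRing B] [Field K] [Field L] [Field K'] [Field L']
    [Field Ω] [IsAlgClosed Ω] [Algebra A K] [IsFractionRing A K] [Algebra B L] [IsFractionRing B L]
    [Algebra K L] [Algebra K Ω] [Algebra L Ω] [IsScalarTower K L Ω]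
    [Algebra K K'] [Algebra K' Ω] [IsScalarTower K K' Ω] [Algebra.IsSeparable K K']
    [Algebra L L'] [Algebra L' Ω] [IsScalarTower L L' Ω] [Algebra K' L'] [IsScalarTower K' L' Ω]
    (𝒱 : ValuationSubring Ω)
    (h𝒱 : Dominates B ((algebraMap L Ω).comp (algebraMap B L)) 𝒱)
    (hA : Dominates A ((algebraMap K Ω).comp (algebraMap A K)) 𝒱)
    [IsDiscreteValuationRing (𝒱.comap (algebraMap K' Ω))]
    [IsDiscreteValuationRing (𝒱.comap (algebraMap L' Ω))]
    (hgenK : ∀ x : K', algebraMap K' Ω x ∈ Subfield.closure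
      (Set.range (algebraMap K Ω) ∪ UnrUnion.liftRoots A Ω ((algebraMap K Ω).comp (algebraMap A K))))
    (K₁ : Type u) [Field K₁] [Algebra K' K₁] [FiniteDimensional K' K₁]
    (hsol : IsSolution (𝒱.comap (algebraMap L' Ω)) K' L' K₁) :
    ∃ (N : Type u) (_ : Field N) (_ : Algebra K N), FiniteDimensional K N ∧ IsSolution B K L N ∧
      (Algebra.IsSeparable K' K₁ → Algebra.IsSeparable K N) := by
  classical
  let j : K₁ →ₐ[K'] Ω := IsAlgClosed.lift
  let b := Module.finBasis K' K₁
  have hint : ∀ i, IsIntegral K (j (b i)) := fun i =>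
    isIntegral_trans (A := K') _ ((Algebra.IsIntegral.isIntegral (R := K') (b i)).map j)
  let P := ∏ i, minpoly K (j (b i))
  let R := P.rootSet Ω
  let N := IntermediateField.adjoin K R
  have hsplit : (P.map (algebraMap K Ω)).Splits := IsAlgClosed.splits _
  have hNS : P.IsSplittingField K N := IntermediateField.adjoin_rootSet_isSplittingField hsplit
  have hNfin : FiniteDimensional K N := IsSplittingField.finiteDimensional N P
  have hNnor : Normal K N := Normal.of_isSplittingField P
  have hP0 : P ≠ 0 := Finset.prod_ne_zero_iff.2 fun i _ => minpoly.ne_zero (hint i)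
  have hbR : ∀ i, j (b i) ∈ R := fun i => by
    refine (mem_rootSet_of_ne hP0).2 ?_
    rw [map_prod]
    exact Finset.prod_eq_zero (Finset.mem_univ i) (minpoly.aeval K _)
  refine ⟨N, inferInstance, inferInstance, hNfin, ?_, ?_⟩
  swap
  · intro hsep
    refine (IntermediateField.isSeparable_adjoin_iff_isSeparable K Ω).2 fun r hr => ?_
    have hr' := (mem_rootSet_of_ne hP0).1 hr
    rw [map_prod, Finset.prod_eq_zero_iff] at hr'
    obtain ⟨i, -, hi⟩ := hr'
    have hi' : IsSeparable K (j (b i)) := IsSeparable.of_algebra_isSeparable_of_isSeparable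
      (E := K') _ ((isSeparable_map_iff (f := j) j.toRingHom.injective).2
        (Algebra.IsSeparable.isSeparable _ _))
    exact Separable.of_dvd hi' (minpoly.dvd _ _ hi)
  intro M _ _ _ _ _ _ hadj W hW
  have hMfin : FiniteDimensional L M := by
    have := UnrDescent.finite_of_adjoin K L N M hadj
    exact this
  obtain ⟨σ, rfl⟩ := PlaceConj.exists_algHom_comap_eq B L M Ω h𝒱 hW
  let f := algebraMap N M
  let τ : N →ₐ[K] Ω := (σ.restrictScalars K).comp (IsScalarTower.toAlgHom K N M)
  have hτN : ∀ n, τ n ∈ N := fun n => (AlgHom.fieldRange_of_normal τ).le ⟨n, rfl⟩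
  -- the fields generated by the roots
  have hRfin : R.Finite := rootSet_finite P Ω
  have hRK : ∀ r ∈ R, IsIntegral K r := fun r hr =>
    (isAlgebraic_of_mem_rootSet hr).isIntegral
  have hRK' : ∀ r ∈ R, IsIntegral K' r := fun r hr => (hRK r hr).tower_top
  let K₂ := IntermediateField.adjoin K' R
  have : Finite R := hRfin
  have hK₂fin : FiniteDimensional K' K₂ := IntermediateField.finiteDimensional_adjoin hRK'
  have hNK₂ : ∀ x ∈ N, x ∈ K₂ := fun x hx =>
    (IntermediateField.adjoin_le_iff (T := K₂.restrictScalars K)).2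
      (IntermediateField.subset_adjoin K' R) hx
  have hjK₂ : ∀ x, j x ∈ K₂ := fun x => by
    rw [← b.sum_repr x, map_sum]
    exact sum_mem fun i _ => by
      rw [map_smul]
      exact K₂.smul_mem (IntermediateField.subset_adjoin K' R (hbR i))
  let M₁ := IntermediateField.adjoin L' (Set.range j)
  let M'' := IntermediateField.adjoin L' R
  have hK₂M'' : ∀ x ∈ K₂, x ∈ M'' := fun x hx =>
    (IntermediateField.adjoin_le_iff (T := M''.restrictScalars K')).2
      (IntermediateField.subset_adjoin L' R) hx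
  have hM₁M'' : ∀ x ∈ M₁, x ∈ M'' := fun x hx =>
    (IntermediateField.adjoin_le_iff (T := M'')).2
      (by rintro _ ⟨y, rfl⟩; exact hK₂M'' _ (hjK₂ y)) hx
  have hjalg : ∀ r ∈ Set.range j, IsAlgebraic L' r := by
    rintro _ ⟨y, rfl⟩
    exact ((Algebra.IsIntegral.isIntegral (R := K') y).map j).tower_top.isAlgebraic
  -- the structure maps
  let _ : Algebra K₁ M₁ := (RingHom.codRestrict j.toRingHom M₁.toSubfield
    fun x => IntermediateField.subset_adjoin _ _ ⟨x, rfl⟩).toAlgebra
  let _ : Algebra K₁ K₂ := (RingHom.codRestrict j.toRingHom K₂.toSubfield hjK₂).toAlgebra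
  let _ : Algebra K₂ M'' :=
    (RingHom.codRestrict (algebraMap K₂ Ω) M''.toSubfield fun x => hK₂M'' _ x.2).toAlgebra
  let _ : Algebra M₁ M'' :=
    (RingHom.codRestrict (algebraMap M₁ Ω) M''.toSubfield fun x => hM₁M'' _ x.2).toAlgebra
  let _ : Algebra K₁ M'' := ((algebraMap M₁ M'').comp (algebraMap K₁ M₁)).toAlgebra
  have : IsScalarTower K' L' M₁ := IsScalarTower.of_algebraMap_eq fun x =>
    Subtype.ext (IsScalarTower.algebraMap_apply K' L' Ω x)
  have : IsScalarTower K' K₁ M₁ := IsScalarTower.of_algebraMap_eq fun x =>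
    Subtype.ext (j.commutes x).symm
  have : IsScalarTower K₁ M₁ M'' := IsScalarTower.of_algebraMap_eq fun _ => rfl
  have : IsScalarTower K₁ K₂ M'' := IsScalarTower.of_algebraMap_eq fun _ => Subtype.ext rfl
  have : IsScalarTower K' K₁ K₂ := IsScalarTower.of_algebraMap_eq fun x =>
    Subtype.ext (j.commutes x).symm
  have : FiniteDimensional K₁ K₂ := Module.Finite.of_restrictScalars_finite K' K₁ K₂
  have hadj₁ : Algebra.adjoin L' (Set.range (algebraMap K₁ M₁)) = ⊤ :=
    eq_top_of_gens hjalg M₁ rfl _ (by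
      rintro _ ⟨y, rfl⟩ hr
      exact Algebra.subset_adjoin ⟨y, rfl⟩)
  -- the local extension over the unions
  let B' := 𝒱.comap (algebraMap L' Ω)
  let A' := 𝒱.comap (algebraMap K' Ω)
  let W₁ := 𝒱.comap (algebraMap M₁ Ω)
  have hW₁ : Dominates B' ((algebraMap L' M₁).comp (algebraMap B' L')) W₁ :=
    dominates_comp_iff.1 dominates_comap
  obtain ⟨hwu₁, hgr₁⟩ := hsol M₁ hadj₁ W₁ hW₁
  let V₁ := W₁.comap (algebraMap K₁ M₁)
  have hV₁ : Dominates A' ((algebraMap K' K₁).comp (algebraMap A' K')) V₁ := by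
    refine dominates_comp_iff.1 (dominates_comp_iff.1 ?_)
    rw [show (algebraMap M₁ Ω).comp ((algebraMap K₁ M₁).comp
      ((algebraMap K' K₁).comp (algebraMap A' K'))) = (algebraMap K' Ω).comp A'.subtype from
        RingHom.ext fun a => j.commutes _]
    exact dominates_comap
  have : IsDiscreteValuationRing V₁ := isDiscreteValuationRing_of_dominates A' K' K₁ hV₁
  have : FiniteDimensional L' M₁ := UnrDescent.finite_of_adjoin K' L' K₁ M₁ hadj₁
  have : IsDiscreteValuationRing W₁ := isDiscreteValuationRing_of_dominates B' L' M₁ hW₁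
  let _ : Algebra V₁ W₁ := (inclOfComap W₁ (algebraMap K₁ M₁)).toAlgebra
  have : IsLocalHom (algebraMap V₁ W₁) := isLocalHom_inclOfComap _ _
  let _ : Algebra V₁ M₁ := ((algebraMap K₁ M₁).comp (algebraMap V₁ K₁)).toAlgebra
  have : IsScalarTower V₁ K₁ M₁ := IsScalarTower.of_algebraMap_eq fun _ => rfl
  have : IsScalarTower V₁ W₁ M₁ := IsScalarTower.of_algebraMap_eq fun _ => rfl
  have hadj₂ : Algebra.adjoin M₁ (Set.range (algebraMap K₂ M'')) = ⊤ := by
    have : IsScalarTower L' M₁ M'' := IsScalarTower.of_algebraMap_eq fun _ => Subtype.ext rfl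
    apply Subalgebra.restrictScalars_injective L'
    rw [Subalgebra.restrictScalars_top]
    refine eq_top_of_gens (fun r hr => ((hRK' r hr).tower_top).isAlgebraic) M'' rfl _ fun r hr hrM => ?_
    exact Algebra.subset_adjoin ⟨⟨r, IntermediateField.subset_adjoin K' R hr⟩, rfl⟩
  let W'' := 𝒱.comap (algebraMap M'' Ω)
  have hW'' : Dominates W₁ ((algebraMap M₁ M'').comp (algebraMap W₁ M₁)) W'' := by
    refine dominates_comp_iff.1 ?_
    rw [← RingHom.comp_assoc]
    exact dominates_comap
  have hinj₁ : Function.Injective (algebraMap V₁ W₁) := fun a c hac =>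
    Subtype.ext ((algebraMap K₁ M₁).injective (congrArg Subtype.val hac))
  have : Algebra.IsGeometricallyReduced (ResidueField V₁) (ResidueField W₁) := by
    convert hgr₁ using 1
    exact Algebra.algebra_ext _ _ fun x => by
      obtain ⟨x, rfl⟩ := residue_surjective x
      rfl
  obtain ⟨hwu₂, hgr₂⟩ :=
    Groth.Agent.S1983.result V₁ W₁ K₁ M₁ hinj₁ hwu₁ K₂ M'' hadj₂ W'' hW''
  -- descend
  have hσM : ∀ y, σ y ∈ M'' := fun y => by
    have hy : y ∈ Algebra.adjoin L (Set.range f) := hadj ▸ Algebra.mem_top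
    induction hy using Algebra.adjoin_induction with
    | mem z hz =>
      obtain ⟨n, rfl⟩ := hz
      exact hK₂M'' _ (hNK₂ _ (hτN n))
    | algebraMap l =>
      rw [σ.commutes]
      rw [IsScalarTower.algebraMap_apply L L' Ω]
      exact M''.algebraMap_mem _
    | add _ _ _ _ h1 h2 => rw [map_add]; exact add_mem h1 h2
    | mul _ _ _ _ h1 h2 => rw [map_mul]; exact mul_mem h1 h2
  let a₀ : A →+* N := (algebraMap K N).comp (algebraMap A K)
  have hτa : ((σ.toRingHom.comp f).comp a₀) = (algebraMap K Ω).comp (algebraMap A K) :=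
    RingHom.ext fun a => τ.commutes _
  let _ : Algebra A N := a₀.toAlgebra
  have : IsScalarTower A K N := IsScalarTower.of_algebraMap_eq fun _ => rfl
  have : IsDiscreteValuationRing (𝒱.comap (σ.toRingHom.comp f)) :=
    isDiscreteValuationRing_of_dominates A K N (dominates_comp_iff.1 (by
      show Dominates A ((σ.toRingHom.comp f).comp a₀) 𝒱
      rw [hτa]; exact hA))
  refine UnrDescent.transfer 𝒱 a₀ f σ.toRingHom
    (RingHom.codRestrict τ.toRingHom K₂.toSubfield fun n => hNK₂ _ (hτN n))
    (algebraMap K₂ M'') (algebraMap M'' Ω)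
    (RingHom.codRestrict σ.toRingHom M''.toSubfield hσM) (fun _ => rfl) (fun _ => rfl)
    (hτa ▸ hA) (fun x => ?_) hwu₂ hgr₂
  rw [hτa]
  set T := Subfield.closure (Set.range (σ.toRingHom.comp f) ∪
    UnrUnion.liftRoots A Ω ((algebraMap K Ω).comp (algebraMap A K))) with hT
  have hK : Set.range (algebraMap K Ω) ⊆ T := by
    rintro _ ⟨k, rfl⟩
    exact Subfield.subset_closure (Or.inl ⟨algebraMap K N k, τ.commutes k⟩)
  have hK' : Set.range (algebraMap K' Ω) ⊆ T := by
    rintro _ ⟨k, rfl⟩
    exact (Subfield.closure_le (t := T)).2 (Set.union_subset hK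
      (Set.subset_union_right.trans Subfield.subset_closure)) (hgenK k)
  refine (Subfield.closure_le (t := T)).2 (Set.union_subset hK' fun r hr => ?_) x.2
  obtain ⟨n, hn⟩ : ∃ n, τ n = r :=
    (AlgHom.fieldRange_of_normal τ).ge (IntermediateField.subset_adjoin K R hr)
  exact Subfield.subset_closure (Or.inl ⟨n, hn⟩)

end Groth.EtaleAlgebra.SolDescentUnr
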