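import Groth.Agent.EtaleAlgebra.CommonExtension
import Mathlib.RingTheory.Nilpotent.GeometricallyReduced
import Mathlib.FieldTheory.IntermediateField.Adjoin.Algebra

/-!
# Descending solutions along a larger extension of DVRs
-/

namespace Groth.EtaleAlgebra

open IsLocalRing EtRam

universe u

variable {K₁ M M' : Type u} [Field K₁] [Field M] [Field M']

theorem inclOfComap_weaklyUnramified_descend (W' : ValuationSubring M') (f : M →+* M')
    (φ : K₁ →+* M)
    (h : letI := (inclOfComap W' (f.comp φ)).toAlgebra
      IsWeaklyUnramified (W'.comap (f.comp φ)) W') :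
    letI := (inclOfComap (W'.comap f) φ).toAlgebra
    IsWeaklyUnramified ((W'.comap f).comap φ) (W'.comap f) := by
  let := (inclOfComap (W'.comap f) φ).toAlgebra
  let := (inclOfComap W' f).toAlgebra
  let : Algebra ((W'.comap f).comap φ) W' := (inclOfComap W' (f.comp φ)).toAlgebra
  have : IsScalarTower ((W'.comap f).comap φ) (W'.comap f) W' :=
    IsScalarTower.of_algebraMap_eq fun x => rfl
  have : IsLocalHom (algebraMap ((W'.comap f).comap φ) (W'.comap f)) :=
    isLocalHom_inclOfComap (W'.comap f) φ
  have : IsLocalHom (algebraMap (W'.comap f) W') := isLocalHom_inclOfComap W' f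
  exact weaklyUnramified_of_tower _ (W'.comap f) W'
    (fun a b hab => Subtype.ext (f.injective (congrArg Subtype.val hab))) h

theorem inclOfComap_geomReduced_descend (W' : ValuationSubring M') (f : M →+* M')
    (φ : K₁ →+* M)
    (h : letI := (ResidueField.map (inclOfComap W' (f.comp φ))).toAlgebra
      Algebra.IsGeometricallyReduced (ResidueField (W'.comap (f.comp φ))) (ResidueField W')) :
    letI := (ResidueField.map (inclOfComap (W'.comap f) φ)).toAlgebra
    Algebra.IsGeometricallyReduced (ResidueField ((W'.comap f).comap φ))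
      (ResidueField (W'.comap f)) := by
  let := (ResidueField.map (inclOfComap (W'.comap f) φ)).toAlgebra
  let : Algebra (ResidueField ((W'.comap f).comap φ)) (ResidueField W') :=
    (ResidueField.map (inclOfComap W' (f.comp φ))).toAlgebra
  let g : ResidueField (W'.comap f) →ₐ[ResidueField ((W'.comap f).comap φ)] ResidueField W' :=
    { ResidueField.map (inclOfComap W' f) with
      commutes' := fun x => by
        obtain ⟨a, rfl⟩ := residue_surjective x
        rfl }
  have : Algebra.IsGeometricallyReduced (ResidueField ((W'.comap f).comap φ)) (ResidueField W') := h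
  exact Algebra.IsGeometricallyReduced.of_injective g (RingHom.injective _)

/-- Every local extension for `B ⊆ L` lifts to one for `C ⊆ M₀`. -/
theorem exists_localExt_lift {B C K L M₀ K₁ : Type u} [CommRing B] [IsDomain B]
    [IsDiscreteValuationRing B] [CommRing C] [IsDomain C] [IsDiscreteValuationRing C]
    [Algebra B C] [IsLocalHom (algebraMap B C)] [Field K] [Field L] [Field M₀] [Field K₁]
    [Algebra K L] [Algebra K M₀] [Algebra L M₀] [IsScalarTower K L M₀] [Algebra K K₁]
    [FiniteDimensional K K₁] [Algebra B L] [IsFractionRing B L] [Algebra C M₀]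
    [IsFractionRing C M₀] [Algebra B M₀] [IsScalarTower B C M₀] [IsScalarTower B L M₀]
    (M : Type u) [Field M] [Algebra K M] [Algebra L M] [Algebra K₁ M] [IsScalarTower K L M]
    [IsScalarTower K K₁ M] (hgen : Algebra.adjoin L (Set.range (algebraMap K₁ M)) = ⊤)
    (W : ValuationSubring M) (hW : Dominates B ((algebraMap L M).comp (algebraMap B L)) W) :
    ∃ (N : Type u) (_ : Field N) (_ : Algebra K N) (_ : Algebra M₀ N) (_ : Algebra K₁ N)
      (_ : IsScalarTower K M₀ N) (_ : IsScalarTower K K₁ N),
      Algebra.adjoin M₀ (Set.range (algebraMap K₁ N)) = ⊤ ∧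
      ∃ (W' : ValuationSubring N) (f : M →+* N),
        Dominates C ((algebraMap M₀ N).comp (algebraMap C M₀)) W' ∧
        W'.comap f = W ∧ f.comp (algebraMap K₁ M) = algebraMap K₁ N := by
  obtain ⟨M', _, f, g, hfg, W', hW', hC⟩ := exists_common_extension (M₀ := M₀) hW C
  let := g.toAlgebra
  let := (g.comp (algebraMap K M₀)).toAlgebra
  let := (f.comp (algebraMap K₁ M)).toAlgebra
  have : IsScalarTower K M₀ M' := IsScalarTower.of_algebraMap_eq' rfl
  have : IsScalarTower K K₁ M' := IsScalarTower.of_algebraMap_eq fun x => by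
    show g (algebraMap K M₀ x) = f (algebraMap K₁ M (algebraMap K K₁ x))
    rw [← IsScalarTower.algebraMap_apply, IsScalarTower.algebraMap_apply K L M₀,
      IsScalarTower.algebraMap_apply K L M]
    exact (DFunLike.congr_fun hfg _).symm
  have halg : ∀ x ∈ Set.range (algebraMap K₁ M'), IsAlgebraic M₀ x := by
    rintro _ ⟨y, rfl⟩
    exact (((Algebra.IsIntegral.isIntegral (R := K) y).map
      (IsScalarTower.toAlgHom K K₁ M')).tower_top).isAlgebraic
  let N := IntermediateField.adjoin M₀ (Set.range (algebraMap K₁ M'))
  have hN : N.toSubalgebra = Algebra.adjoin M₀ (Set.range (algebraMap K₁ M')) :=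
    IntermediateField.adjoin_toSubalgebra_of_isAlgebraic halg
  let i₁ : K₁ →+* N := (algebraMap K₁ M').codRestrict N fun x =>
    IntermediateField.subset_adjoin _ _ ⟨x, rfl⟩
  let := i₁.toAlgebra
  have : IsScalarTower K K₁ N := IsScalarTower.of_algebraMap_eq fun x => Subtype.ext
    (IsScalarTower.algebraMap_apply K K₁ M' x)
  have hfN : ∀ x : M, f x ∈ N := by
    intro x
    have hx : x ∈ Algebra.adjoin L (Set.range (algebraMap K₁ M)) := hgen ▸ Algebra.mem_top
    induction hx using Algebra.adjoin_induction with
    | mem x hx =>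
      obtain ⟨y, rfl⟩ := hx
      exact IntermediateField.subset_adjoin _ _ ⟨y, rfl⟩
    | algebraMap l =>
      rw [show f (algebraMap L M l) = g (algebraMap L M₀ l) from DFunLike.congr_fun hfg l]
      exact N.algebraMap_mem _
    | add a b _ _ ha hb => rw [map_add]; exact add_mem ha hb
    | mul a b _ _ ha hb => rw [map_mul]; exact mul_mem ha hb
  refine ⟨N, inferInstance, inferInstance, inferInstance, inferInstance, inferInstance,
    inferInstance, ?_, W'.comap N.val.toRingHom, f.codRestrict N hfN, ?_, ?_, rfl⟩
  · apply Subalgebra.map_injective (f := N.val) N.val.injective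
    rw [Algebra.map_top, AlgHom.map_adjoin, IntermediateField.range_val, hN, ← Set.range_comp]
    rfl
  · exact ⟨fun c => hC.1 c, fun c hc =>
      valuation_lt_one_iff_mem_nonunits.2 (mem_nonunits_comap.2
        (valuation_lt_one_iff_mem_nonunits.1 (hC.2 c hc)))⟩
  · rw [← hW']
    rfl

end Groth.EtaleAlgebra
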