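import Groth.Agent.EtaleAlgebra.StageIff
import Groth.Agent.Limits.Descend
import Groth.Agent.Limits.OpenPullback
import Mathlib.AlgebraicGeometry.Restrict

/-!
# A property holds near a point of the limit iff it does near the image at some stage
-/

universe u

open CategoryTheory Limits AlgebraicGeometry TopologicalSpace

namespace Groth.EtaleAlgebra

variable {I : Type u} [SmallCategory I] [IsCofiltered I] {D : I ⥤ Scheme.{u}}
  [∀ (i j : I) (m : i ⟶ j), IsAffineHom (D.map m)] {c : Cone D}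
  {i₀ : I} {X₀ Y₀ X Y : Scheme.{u}} {f₀ : X₀ ⟶ Y₀} {g₀ : Y₀ ⟶ D.obj i₀} {f : X ⟶ Y}
  {g : Y ⟶ c.pt} {qY : Y ⟶ Y₀} {qX : X ⟶ X₀}

set_option backward.isDefEq.respectTransparency false in
set_option backward.defeqAttrib.useBackward true in
/-- A compact open neighbourhood at some stage inside a given neighbourhood. -/
theorem exists_stage_nhd (hc : IsLimit c) (hY : IsPullback qY g g₀ (c.π.app i₀))
    (hX : IsPullback qX f f₀ qY) (x : X) (U : X.Opens) (hx : x ∈ U) :
    ∃ (j : I) (φ : j ⟶ i₀) (rY : Y ⟶ pullback (D.map φ) g₀)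
      (rX : X ⟶ pullback f₀ (pullback.snd (D.map φ) g₀))
      (V : (pullback f₀ (pullback.snd (D.map φ) g₀) : Scheme.{u}).Opens),
      IsPullback rY g (pullback.fst (D.map φ) g₀) (c.π.app j) ∧
      IsPullback rX f (pullback.snd f₀ (pullback.snd (D.map φ) g₀)) rY ∧
      rX ≫ pullback.fst f₀ _ = qX ∧
      IsCompact (V : Set (pullback f₀ (pullback.snd (D.map φ) g₀) : Scheme.{u})) ∧
      rX.base x ∈ V ∧ rX ⁻¹ᵁ V ≤ U := by
  let a := f₀ ≫ g₀
  have hXs : IsPullback (f ≫ g) qX (c.π.app i₀) a := (hX.paste_vert hY).flip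
  let e := hXs.isoPullback
  let D' := Groth.Limits.pullbackDiagram D i₀ a
  let c' := Groth.Limits.pullbackCone D i₀ a c
  obtain ⟨W, hW, hxW, hWU⟩ := exists_isAffineOpen_mem_and_subset (X := c'.pt)
    (U := e.inv ⁻¹ᵁ U) (x := e.hom.base x) (by
      show (e.inv.base (e.hom.base x)) ∈ U
      rw [← Scheme.Hom.comp_apply, e.hom_inv_id]
      exact hx)
  obtain ⟨k, -, V, hV, hVW⟩ := Groth.Limits.exists_isCompact_preimage_eq D' c'
    (Groth.Limits.isLimitPullbackCone D i₀ a hc) (Over.mk (𝟙 i₀)) W hW.isCompact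
  let pY := pullback.snd (D.map k.hom) g₀
  let Xk : Scheme.{u} := pullback f₀ pY
  have hpY : IsPullback pY (pullback.fst (D.map k.hom) g₀) g₀ (D.map k.hom) :=
    (IsPullback.of_hasPullback _ _).flip
  obtain ⟨rY, rX, hrY, hrX, hrXq, hrXg⟩ := exists_isPullback_stage hY hX k.hom hpY
    (IsPullback.of_hasPullback f₀ pY)
  have hXk : IsPullback (pullback.snd f₀ pY ≫ pullback.fst (D.map k.hom) g₀) (pullback.fst f₀ pY)
      (D.map k.hom) a := ((IsPullback.of_hasPullback f₀ pY).paste_vert hpY).flip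
  have hcomp : rX ≫ hXk.isoPullback.hom = e.hom ≫ c'.π.app k := by
    refine pullback.hom_ext ?_ ?_
    · rw [Category.assoc, hXk.isoPullback_hom_fst, Category.assoc,
        show c'.π.app k ≫ pullback.fst (D.map k.hom) a = pullback.fst (c.π.app i₀) a ≫ c.π.app k.left
          from pullback.lift_fst _ _ _, hXs.isoPullback_hom_fst_assoc, Category.assoc]
      exact hrXg
    · rw [Category.assoc, hXk.isoPullback_hom_snd, Category.assoc,
        show c'.π.app k ≫ pullback.snd (D.map k.hom) a = pullback.snd (c.π.app i₀) a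
          from pullback.lift_snd _ _ _, hXs.isoPullback_hom_snd]
      exact hrXq
  have hmem : ∀ y : X, rX.base y ∈ hXk.isoPullback.hom ⁻¹ᵁ V ↔ e.hom.base y ∈ W := fun y => by
    show (hXk.isoPullback.hom.base (rX.base y)) ∈ V ↔ _
    rw [← Scheme.Hom.comp_apply, hcomp, Scheme.Hom.comp_apply]
    exact Set.ext_iff.1 hVW (e.hom.base y)
  refine ⟨k.left, k.hom, rY, rX, hXk.isoPullback.hom ⁻¹ᵁ V, hrY, hrX, hrXq,
    hXk.isoPullback.hom.homeomorph.isCompact_preimage.2 hV, (hmem x).2 hxW, fun y hy => ?_⟩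
  have h : (e.inv.base (e.hom.base y)) ∈ U := hWU ((hmem y).1 hy)
  rwa [← Scheme.Hom.comp_apply, e.hom_inv_id] at h

theorem prop_near_iff_exists_stage (P : MorphismProperty Scheme.{u})
    {Q : ∀ {R S : Type u} [CommRing R] [CommRing S], (R →+* S) → Prop} [HasRingHomProperty P Q]
    [P.IsStableUnderComposition] [P.IsStableUnderBaseChange]
    (hQ : Groth.Limits.RingDescends.{u} Q) (hopen : @IsOpenImmersion ≤ P) (hc : IsLimit c)
    [LocallyOfFinitePresentation g₀] [LocallyOfFinitePresentation (f₀ ≫ g₀)]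
    (hY : IsPullback qY g g₀ (c.π.app i₀)) (hX : IsPullback qX f f₀ qY) (x : X) :
    (∃ U : X.Opens, x ∈ U ∧ P (U.ι ≫ f)) ↔
      ∃ (j : I) (φ : j ⟶ i₀) (Xj Yj : Scheme.{u}) (fj : Xj ⟶ Yj) (gj : Yj ⟶ D.obj j) (pY : Yj ⟶ Y₀)
        (pX : Xj ⟶ X₀) (rX : X ⟶ Xj), IsPullback pY gj g₀ (D.map φ) ∧ IsPullback pX fj f₀ pY ∧
          rX ≫ pX = qX ∧ rX ≫ fj ≫ gj = f ≫ g ≫ c.π.app j ∧
          ∃ V : Xj.Opens, rX.base x ∈ V ∧ P (V.ι ≫ fj) := by
  constructor
  · rintro ⟨U, hxU, hPU⟩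
    obtain ⟨j, φ, rY, rX, Vj, hrY, hrX, hrXq, hVc, hxV, hle⟩ := exists_stage_nhd hc hY hX x U hxU
    let pY := pullback.snd (D.map φ) g₀
    let gj := pullback.fst (D.map φ) g₀
    let fj := pullback.snd f₀ pY
    have : LocallyOfFinitePresentation f₀ := Groth.PropsBasic2.lfp_of_comp f₀ g₀
    have : LocallyOfFinitePresentation fj := inferInstance
    have : CompactSpace Vj := isCompact_iff_compactSpace.1 hVc
    have hr : IsPullback (rX ∣_ Vj) ((rX ⁻¹ᵁ Vj).ι ≫ f) (Vj.ι ≫ fj) rY :=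
      ((isPullback_morphismRestrict rX Vj).flip).flip.paste_vert hrX
    have hP : P ((rX ⁻¹ᵁ Vj).ι ≫ f) := by
      rw [← X.homOfLE_ι hle, Category.assoc]
      exact P.comp_mem _ _ (hopen _ inferInstance) hPU
    obtain ⟨l, hl⟩ := Groth.Limits.exists_prop_stage P hQ hopen hc hrY hr hP
    let q := pullback.snd (D.map l.hom) gj
    let rY' : Y ⟶ pullback (D.map l.hom) gj := pullback.lift (g ≫ c.π.app l.left) rY (by
      rw [Category.assoc, c.w l.hom, hrY.w])
    let rX' : X ⟶ pullback fj q := pullback.lift rX (f ≫ rY') (by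
      rw [Category.assoc, pullback.lift_snd, hrX.w])
    refine ⟨l.left, l.hom ≫ φ, pullback fj q, pullback (D.map l.hom) gj, pullback.snd fj q,
      pullback.fst (D.map l.hom) gj, q ≫ pY, pullback.fst fj q ≫ pullback.fst f₀ pY, rX', ?_, ?_, ?_,
      ?_, pullback.fst fj q ⁻¹ᵁ Vj, ?_, ?_⟩
    · rw [D.map_comp]
      exact (IsPullback.of_hasPullback (D.map l.hom) gj).flip.paste_horiz
        (IsPullback.of_hasPullback (D.map φ) g₀).flip
    · exact (IsPullback.of_hasPullback fj q).paste_horiz (IsPullback.of_hasPullback f₀ pY)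
    · rw [← Category.assoc, pullback.lift_fst, hrXq]
    · rw [← Category.assoc, pullback.lift_snd, Category.assoc, pullback.lift_fst]
    · show (pullback.fst fj q).base (rX'.base x) ∈ Vj
      rw [← Scheme.Hom.comp_apply, pullback.lift_fst]
      exact hxV
    · exact (Groth.Limits.prop_iff_snd_of_isPullback P
        ((isPullback_morphismRestrict (pullback.fst fj q) Vj).paste_vert
          (IsPullback.of_hasPullback fj q))).2 hl
  · rintro ⟨j, φ, Xj, Yj, fj, gj, pY, pX, rX, hpY, hpX, h1, h2, V, hxV, hV⟩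
    obtain ⟨rY, rX', -, h, h3, h4⟩ := exists_isPullback_stage hY hX φ hpY hpX
    obtain rfl : rX = rX' := (hpX.paste_vert hpY).hom_ext (h1.trans h3.symm)
      (by rw [h2, h4])
    exact ⟨rX ⁻¹ᵁ V, hxV, MorphismProperty.of_isPullback
      ((isPullback_morphismRestrict rX V).paste_vert h) hV⟩

end Groth.EtaleAlgebra
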