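import Mathlib

/-!
# Formally unramified via residue data of stalks
-/

universe u

open CategoryTheory AlgebraicGeometry

namespace Groth.EtaleAlgebra

/-- For a local homomorphism essentially of finite type: formally unramified iff the closed fibre is
a finite separable field extension. -/
theorem formallyUnramified_iff_quotient {R S : Type u} [CommRing R] [IsLocalRing R] [CommRing S]
    [IsLocalRing S] [Algebra R S] [IsLocalHom (algebraMap R S)] [Algebra.EssFiniteType R S] :
    Algebra.FormallyUnramified R S ↔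
      letI := (Ideal.quotientMap ((IsLocalRing.maximalIdeal R).map (algebraMap R S)) (algebraMap R S)
        Ideal.le_comap_map).toAlgebra
      IsField (S ⧸ (IsLocalRing.maximalIdeal R).map (algebraMap R S)) ∧
        Module.Finite (R ⧸ IsLocalRing.maximalIdeal R) (S ⧸ (IsLocalRing.maximalIdeal R).map (algebraMap R S)) ∧
        Algebra.IsSeparable (R ⧸ IsLocalRing.maximalIdeal R) (S ⧸ (IsLocalRing.maximalIdeal R).map (algebraMap R S)) := by
  rw [Algebra.FormallyUnramified.iff_map_maximalIdeal_eq]
  have halg : ∀ (J : Ideal S) (hle : IsLocalRing.maximalIdeal R ≤ J.comap (algebraMap R S)),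
      J = IsLocalRing.maximalIdeal S →
      letI := (Ideal.quotientMap J (algebraMap R S) hle).toAlgebra
      (Algebra.IsSeparable (IsLocalRing.ResidueField R) (IsLocalRing.ResidueField S) →
        Module.Finite (R ⧸ IsLocalRing.maximalIdeal R) (S ⧸ J) ∧
          Algebra.IsSeparable (R ⧸ IsLocalRing.maximalIdeal R) (S ⧸ J)) ∧
      (Algebra.IsSeparable (R ⧸ IsLocalRing.maximalIdeal R) (S ⧸ J) →
        Algebra.IsSeparable (IsLocalRing.ResidueField R) (IsLocalRing.ResidueField S)) := by
    rintro J hle rfl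
    have e : (Ideal.quotientMap (IsLocalRing.maximalIdeal S) (algebraMap R S) hle).toAlgebra =
        (inferInstance : Algebra (IsLocalRing.ResidueField R) (IsLocalRing.ResidueField S)) := by
      refine Algebra.algebra_ext _ _ fun x => ?_
      obtain ⟨x, rfl⟩ := Ideal.Quotient.mk_surjective x
      rfl
    rw [e]
    refine ⟨fun hsep => ⟨?_, hsep⟩, fun hsep => hsep⟩
    have : Algebra.EssFiniteType R (IsLocalRing.ResidueField S) := Algebra.EssFiniteType.comp R S _
    have : Algebra.EssFiniteType (IsLocalRing.ResidueField R) (IsLocalRing.ResidueField S) :=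
      Algebra.EssFiniteType.of_comp R _ _
    have : Algebra.FormallyUnramified (IsLocalRing.ResidueField R) (IsLocalRing.ResidueField S) :=
      Algebra.FormallyUnramified.of_isSeparable _ _
    exact Algebra.FormallyUnramified.finite_of_free (IsLocalRing.ResidueField R) (IsLocalRing.ResidueField S)
  refine ⟨fun ⟨hsep, hmap⟩ => ?_, fun ⟨hfield, _, hsep⟩ => ?_⟩
  · refine ⟨?_, (halg _ Ideal.le_comap_map hmap).1 hsep⟩
    rw [hmap]
    exact Semifield.toIsField (IsLocalRing.ResidueField S)
  · have hmap : (IsLocalRing.maximalIdeal R).map (algebraMap R S) = IsLocalRing.maximalIdeal S :=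
      IsLocalRing.eq_maximalIdeal (Ideal.Quotient.maximal_of_isField _ hfield)
    exact ⟨(halg _ Ideal.le_comap_map hmap).2 hsep, hmap⟩

theorem formallyUnramified_iff_stalk {X Y : Scheme.{u}} (f : X ⟶ Y) [LocallyOfFiniteType f] :
    FormallyUnramified f ↔ ∀ x : X,
      letI φ := (f.stalkMap x).hom
      letI 𝔪 := IsLocalRing.maximalIdeal (Y.presheaf.stalk (f.base x))
      letI := (Ideal.quotientMap (𝔪.map φ) φ Ideal.le_comap_map).toAlgebra
      IsField (X.presheaf.stalk x ⧸ 𝔪.map φ) ∧
        Module.Finite (Y.presheaf.stalk (f.base x) ⧸ 𝔪) (X.presheaf.stalk x ⧸ 𝔪.map φ) ∧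
        Algebra.IsSeparable (Y.presheaf.stalk (f.base x) ⧸ 𝔪) (X.presheaf.stalk x ⧸ 𝔪.map φ) := by
  have key : ∀ x : X, (f.stalkMap x).hom.FormallyUnramified ↔
      letI φ := (f.stalkMap x).hom
      letI 𝔪 := IsLocalRing.maximalIdeal (Y.presheaf.stalk (f.base x))
      letI := (Ideal.quotientMap (𝔪.map φ) φ Ideal.le_comap_map).toAlgebra
      IsField (X.presheaf.stalk x ⧸ 𝔪.map φ) ∧
        Module.Finite (Y.presheaf.stalk (f.base x) ⧸ 𝔪) (X.presheaf.stalk x ⧸ 𝔪.map φ) ∧
        Algebra.IsSeparable (Y.presheaf.stalk (f.base x) ⧸ 𝔪) (X.presheaf.stalk x ⧸ 𝔪.map φ) := by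
    intro x
    let _ := (f.stalkMap x).hom.toAlgebra
    have : IsLocalHom (algebraMap (Y.presheaf.stalk (f.base x)) (X.presheaf.stalk x)) :=
      inferInstanceAs (IsLocalHom (f.stalkMap x).hom)
    have : Algebra.EssFiniteType (Y.presheaf.stalk (f.base x)) (X.presheaf.stalk x) :=
      RingHom.essFiniteType_algebraMap.1 (LocallyOfFiniteType.stalkMap f x)
    exact RingHom.formallyUnramified_algebraMap.trans formallyUnramified_iff_quotient
  exact ⟨fun _ x => (key x).1 (FormallyUnramified.stalkMap f x), fun h =>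
    HasRingHomProperty.of_stalkMap RingHom.FormallyUnramified.ofLocalizationPrime fun x => (key x).2 (h x)⟩

end Groth.EtaleAlgebra
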