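import Mathlib.RingTheory.Invariant.Galois
import Mathlib.NumberTheory.RamificationInertia.Galois
import Mathlib.RingTheory.RamificationInertia.Ramification
import Mathlib.RingTheory.DedekindDomain.IntegralClosure
import Mathlib.RingTheory.DedekindDomain.Ideal.Lemmas
import Mathlib.RingTheory.DiscreteValuationRing.Basic
import Mathlib.RingTheory.Filtration
import Mathlib.RingTheory.Ideal.Pointwise
import Mathlib.RingTheory.RootsOfUnity.Basic
import Mathlib.GroupTheory.PGroup
import Mathlib.GroupTheory.SpecificGroups.Cyclic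
import Mathlib.GroupTheory.QuotientGroup.Basic
import Mathlib.FieldTheory.Separable
import Mathlib.Algebra.Polynomial.Identities
import Mathlib.Algebra.CharP.Lemmas
import Mathlib.Tactic.LinearCombination

/-! The tame and wild parts of an inertia group. -/

open scoped Pointwise
open Polynomial

universe u v w

namespace Groth.EtaleAlgebra.Inertia

variable {B : Type v} [CommRing B] {G : Type w} [Group G] [MulSemiringAction G B] (m : Ideal B)

theorem mem_stabilizer_of_mem_inertia {σ : G} (h : σ ∈ m.inertia G) :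
    σ ∈ MulAction.stabilizer G m :=
  Ideal.inertia_le_stabilizer m h

theorem smul_mem {σ : G} (h : σ ∈ MulAction.stabilizer G m) {x : B} (hx : x ∈ m) : σ • x ∈ m := by
  have := Ideal.smul_mem_pointwise_smul σ x m hx
  rwa [MulAction.mem_stabilizer_iff.1 h] at this

theorem smul_mem_pow {σ : G} (h : σ ∈ MulAction.stabilizer G m) {n : ℕ} {x : B} (hx : x ∈ m ^ n) :
    σ • x ∈ m ^ n := by
  have h1 : m.map (MulSemiringAction.toRingHom G B σ) ≤ m :=
    Ideal.map_le_iff_le_comap.2 fun y hy => smul_mem m h hy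
  have := Ideal.mem_map_of_mem (MulSemiringAction.toRingHom G B σ) hx
  rw [Ideal.map_pow] at this
  exact Ideal.pow_right_mono h1 n this

/-- The wild inertia group as a subgroup. -/
abbrev wild : Subgroup G := MulAction.stabilizer G m ⊓ (m ^ 2).inertia G

theorem wild_le : (wild m : Subgroup G) ≤ m.inertia G := fun _ hσ x =>
  Ideal.pow_le_self two_ne_zero (hσ.2 x)

theorem wild_normal : ((wild m : Subgroup G).subgroupOf (MulAction.stabilizer G m)).Normal := by
  refine ⟨fun σ hσ τ => ?_⟩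
  rw [Subgroup.mem_subgroupOf] at hσ ⊢
  refine ⟨(τ * σ * τ⁻¹).2, fun x => ?_⟩
  have h1 := smul_mem_pow m τ.2 (hσ.2 ((τ : G)⁻¹ • x))
  rw [smul_sub, smul_inv_smul] at h1
  show (((τ * σ * τ⁻¹ : MulAction.stabilizer G m) : G)) • x - x ∈ m ^ 2
  rw [Subgroup.coe_mul, Subgroup.coe_mul, Subgroup.coe_inv, mul_smul, mul_smul]
  exact h1

theorem smul_sub_mem_pow {σ : G} (hσ : σ ∈ wild m) :
    ∀ (n : ℕ) {y : B}, y ∈ m ^ n → σ • y - y ∈ m ^ (n + 1) := by
  intro n
  induction n with
  | zero => intro y _; simpa using wild_le m hσ y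
  | succ n ih =>
    intro y hy
    rw [pow_succ] at hy
    refine Submodule.mul_induction_on hy (fun u hu v hv => ?_) fun u v hu hv => ?_
    · have e : σ • (u * v) - u * v = (σ • u - u) * σ • v + u * (σ • v - v) := by
        rw [smul_mul']; ring
      rw [e]
      refine add_mem ?_ ?_
      · rw [show n + 1 + 1 = (n + 1) + 1 from rfl, pow_succ]
        exact Ideal.mul_mem_mul (ih hu) (smul_mem m hσ.1 hv)
      · rw [show n + 1 + 1 = n + 2 from rfl, pow_add]
        exact Ideal.mul_mem_mul hu (hσ.2 v)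
    · rw [smul_add, add_sub_add_comm]; exact add_mem hu hv

theorem pow_smul_sub {σ : G} (hσ : σ ∈ wild m) {i : ℕ} {x : B} (hx : σ • x - x ∈ m ^ i) (n : ℕ) :
    σ ^ n • x - x - (n : B) * (σ • x - x) ∈ m ^ (i + 1) := by
  induction n with
  | zero => simp
  | succ n ih =>
    have h1 := smul_mem_pow m hσ.1 ih
    rw [smul_sub, smul_sub, smul_mul', ← mul_smul, ← pow_succ'] at h1
    have hn : σ • (n : B) = n := map_natCast (MulSemiringAction.toRingHom G B σ) n
    have h2 := Ideal.mul_mem_left _ (n : B) (smul_sub_mem_pow m hσ i hx)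
    have e : σ ^ (n + 1) • x - x - ((n + 1 : ℕ) : B) * (σ • x - x) =
        (σ ^ (n + 1) • x - σ • x - σ • (n : B) * σ • (σ • x - x)) +
          (n : B) * (σ • (σ • x - x) - (σ • x - x)) := by
      rw [hn]; push_cast; ring
    rw [e]
    exact add_mem h1 h2

section Dedekind

variable [IsDedekindDomain B] [m.IsMaximal] [FaithfulSMul G B]

theorem eq_one_of_pow_eq_one {σ : G} (hσ : σ ∈ wild m) {ℓ : ℕ} (hℓ : σ ^ ℓ = 1)
    (hm : (ℓ : B) ∉ m) : σ = 1 := by
  obtain ⟨c, b, hb, hc⟩ := Ideal.IsMaximal.exists_inv ‹m.IsMaximal› hm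
  have key : ∀ i x, σ • x - x ∈ m ^ i := by
    intro i
    induction i with
    | zero => intro x; simp
    | succ i ih =>
      intro x
      have h1 := pow_smul_sub m hσ (ih x) ℓ
      rw [hℓ, one_smul, sub_self, zero_sub, neg_mem_iff] at h1
      have e : σ • x - x = c * ((ℓ : B) * (σ • x - x)) + b * (σ • x - x) := by
        linear_combination (-(σ • x - x)) * hc
      rw [e]
      refine add_mem (Ideal.mul_mem_left _ _ h1) ?_
      rw [pow_succ']
      exact Ideal.mul_mem_mul hb (ih x)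
  refine FaithfulSMul.eq_of_smul_eq_smul fun x : B => ?_
  rw [one_smul, ← sub_eq_zero]
  have h : σ • x - x ∈ ⨅ i : ℕ, m ^ i := by simpa [Ideal.mem_iInf] using fun i => key i x
  exact Ideal.mem_bot.1 ((Ideal.iInf_pow_eq_bot_of_isDomain (I := m) (Ideal.IsMaximal.ne_top inferInstance)).le h)

theorem prime_mem_of_dvd_card [Finite G] {ℓ : ℕ} (hℓ : ℓ.Prime)
    (h : ℓ ∣ Nat.card (wild m : Subgroup G)) : (ℓ : B) ∈ m := by
  by_contra hm
  have : Fact ℓ.Prime := ⟨hℓ⟩
  obtain ⟨σ, hσ⟩ := exists_prime_orderOf_dvd_card' ℓ h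
  have h1 : ((σ : G)) = 1 := eq_one_of_pow_eq_one m σ.2 (by
    rw [← SubmonoidClass.coe_pow, ← hσ, pow_orderOf_eq_one, OneMemClass.coe_one]) hm
  rw [show σ = 1 from Subtype.ext h1, orderOf_one] at hσ
  exact hℓ.ne_one hσ.symm

variable (hm : m ≠ ⊥)

include hm

omit [FaithfulSMul G B] in
theorem exists_uniformizer : ∃ π ∈ m, π ∉ m ^ 2 ∧ Ideal.span {π} ⊔ m ^ 2 = m := by
  have hlt : m ^ 2 < m := by
    simpa using Ideal.pow_succ_lt_pow hm 1
  obtain ⟨π, hπ, hπ2⟩ := SetLike.exists_of_lt hlt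
  refine ⟨π, hπ, hπ2, ?_⟩
  have h1 : m ^ 2 < Ideal.span {π} ⊔ m ^ 2 := lt_of_le_of_ne le_sup_right fun h =>
    hπ2 (h ▸ Ideal.mem_sup_left (Ideal.mem_span_singleton_self π))
  have h2 : Ideal.span {π} ⊔ m ^ 2 ≤ m := sup_le ((Ideal.span_singleton_le_iff_mem m).2 hπ) hlt.le
  simpa using Ideal.eq_prime_pow_of_succ_lt_of_le hm (i := 1) h1 (by simpa using h2)

omit [FaithfulSMul G B] [IsDedekindDomain B] hm in
theorem mem_of_mul_mem_sq {π a : B} (hπ : π ∈ m) (hπ2 : π ∉ m ^ 2) (h : a * π ∈ m ^ 2) : a ∈ m := by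
  by_contra ha
  obtain ⟨c, b, hb, hc⟩ := Ideal.IsMaximal.exists_inv ‹m.IsMaximal› ha
  refine hπ2 ?_
  have e : π = c * (a * π) + b * π := by linear_combination (-π) * hc
  rw [e]
  exact add_mem (Ideal.mul_mem_left _ _ h) (by rw [pow_two]; exact Ideal.mul_mem_mul hb hπ)

omit [IsDedekindDomain B] [m.IsMaximal] [FaithfulSMul G B] hm in
theorem mem_sq_of_mul_mem_sq [m.IsMaximal] {u δ : B} (hu : u ∉ m) (hδ : δ ∈ m) (h : u * δ ∈ m ^ 2) :
    δ ∈ m ^ 2 := by
  by_contra hδ2
  exact hu (mem_of_mul_mem_sq m hδ hδ2 h)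

/-- The tame character. -/
theorem exists_character {A : Type u} [CommRing A] [Algebra A B] [SMulCommClass G A B]
    (hsep : ∀ x : B, ∃ F : A[X], aeval x F ∈ m ∧ aeval x (derivative F) ∉ m) :
    ∃ θ : (m.inertia G : Subgroup G) →* (B ⧸ m)ˣ, θ.ker = (wild m).subgroupOf (m.inertia G) := by
  classical
  obtain ⟨π, hπ, hπ2, hspan⟩ := exists_uniformizer m hm
  have hex : ∀ σ : (m.inertia G : Subgroup G), ∃ a : B, (σ : G) • π - a * π ∈ m ^ 2 := fun σ => by
    have h := hspan.ge (smul_mem m (mem_stabilizer_of_mem_inertia m σ.2) hπ)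
    obtain ⟨y, hy, w, hw, e⟩ := Submodule.mem_sup.1 h
    obtain ⟨a, rfl⟩ := Ideal.mem_span_singleton'.1 hy
    exact ⟨a, by rw [← e, add_sub_cancel_left]; exact hw⟩
  choose a ha using hex
  have huniq : ∀ (σ : (m.inertia G : Subgroup G)) (b : B), (σ : G) • π - b * π ∈ m ^ 2 →
      Ideal.Quotient.mk m (a σ) = Ideal.Quotient.mk m b := fun σ b hb => by
    rw [Ideal.Quotient.eq]
    refine mem_of_mul_mem_sq m hπ hπ2 ?_
    have := sub_mem hb (ha σ)
    rwa [sub_sub_sub_cancel_left, ← sub_mul] at this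
  let f : (m.inertia G : Subgroup G) →* B ⧸ m :=
    { toFun := fun σ => Ideal.Quotient.mk m (a σ)
      map_one' := (huniq 1 1 (by simp)).trans (map_one _)
      map_mul' := fun σ τ => by
        rw [← map_mul]
        refine huniq _ _ ?_
        have hst := mem_stabilizer_of_mem_inertia m σ.2
        have h1 := smul_mem_pow m hst (ha τ)
        rw [smul_sub, smul_mul', ← mul_smul] at h1
        have h2 : ((σ : G) • a τ - a τ) * (σ : G) • π ∈ m ^ 2 := by
          rw [pow_two]; exact Ideal.mul_mem_mul (σ.2 (a τ)) (smul_mem m hst hπ)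
        have h3 := Ideal.mul_mem_left _ (a τ) (ha σ)
        have e : ((σ * τ : (m.inertia G : Subgroup G)) : G) • π - a σ * a τ * π =
            (((σ : G) * (τ : G)) • π - (σ : G) • a τ * (σ : G) • π) +
              (((σ : G) • a τ - a τ) * (σ : G) • π) + a τ * ((σ : G) • π - a σ * π) := by
          rw [Subgroup.coe_mul]; ring
        rw [e]
        exact add_mem (add_mem h1 h2) h3 }
  refine ⟨f.toHomUnits, ?_⟩
  ext σ
  rw [MonoidHom.mem_ker, Subgroup.mem_subgroupOf, Units.ext_iff, MonoidHom.coe_toHomUnits, Units.val_one]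
  show Ideal.Quotient.mk m (a σ) = 1 ↔ _
  have hst := mem_stabilizer_of_mem_inertia m σ.2
  refine ⟨fun h1 => ?_, fun hw => ?_⟩
  swap
  · rw [← map_one (Ideal.Quotient.mk m)]
    exact huniq σ 1 (by rw [one_mul]; exact hw.2 π)
  have hπσ : (σ : G) • π - π ∈ m ^ 2 := by
    have h2 : (a σ - 1) * π ∈ m ^ 2 := by
      rw [pow_two]
      exact Ideal.mul_mem_mul (Ideal.Quotient.eq.1 (h1.trans (map_one _).symm)) hπ
    have := add_mem (ha σ) h2
    rwa [sub_mul, one_mul, sub_add_sub_cancel] at this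
  have hmσ : ∀ y ∈ m, (σ : G) • y - y ∈ m ^ 2 := by
    intro y hy
    obtain ⟨z, hz, w, hw, rfl⟩ := Submodule.mem_sup.1 (hspan.ge hy)
    obtain ⟨b, rfl⟩ := Ideal.mem_span_singleton'.1 hz
    have e : (σ : G) • (b * π + w) - (b * π + w) = ((σ : G) • b - b) * (σ : G) • π +
        b * ((σ : G) • π - π) + ((σ : G) • w - w) := by
      rw [smul_add, smul_mul']; ring
    rw [e]
    refine add_mem (add_mem ?_ (Ideal.mul_mem_left _ _ hπσ)) (sub_mem (smul_mem_pow m hst hw) hw)
    rw [pow_two]
    exact Ideal.mul_mem_mul (σ.2 b) (smul_mem m hst hπ)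
  refine ⟨hst, fun x => ?_⟩
  obtain ⟨F, hF, hF'⟩ := hsep x
  have hδ : (σ : G) • x - x ∈ m := σ.2 x
  obtain ⟨k, hk⟩ := (F.map (algebraMap A B)).binomExpansion x ((σ : G) • x - x)
  rw [add_sub_cancel, derivative_map, eval_map_algebraMap, eval_map_algebraMap, eval_map_algebraMap] at hk
  have hfix : (σ : G) • aeval x F = aeval ((σ : G) • x) F :=
    (aeval_algHom_apply (MulSemiringAction.toAlgHom A B (σ : G)) x F).symm
  refine mem_sq_of_mul_mem_sq m hF' hδ ?_
  have e : aeval x (derivative F) * ((σ : G) • x - x) =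
      ((σ : G) • aeval x F - aeval x F) - k * ((σ : G) • x - x) ^ 2 := by
    rw [hfix]; linear_combination -hk
  rw [e]
  exact sub_mem (hmσ _ hF) (Ideal.mul_mem_left _ _ (Ideal.pow_mem_pow hδ 2))

end Dedekind

/-- The inertia group has the ramification index as order, assuming only that the residue field
extension is separable. -/
theorem card_inertia {A : Type u} [CommRing A] [IsDomain A] [IsDedekindDomain B] [Algebra A B]
    [Module.Finite A B] [Module.Flat A B] [Module.IsTorsionFree A B] [Finite G] [IsGaloisGroup G A B]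
    (p : Ideal A) [p.IsMaximal] (hp : p ≠ ⊥) [m.IsMaximal] [m.LiesOver p]
    [Algebra.IsSeparable (A ⧸ p) (B ⧸ m)] :
    Nat.card (m.inertia G : Subgroup G) = p.ramificationIdx' m := by
  let _ := Ideal.Quotient.field p
  let _ := Ideal.Quotient.field m
  let _ := Localization.AtPrime.algebraOfLiesOver p m
  have heq : (algebraMap (B ⧸ m) m.ResidueField).comp (algebraMap (A ⧸ p) (B ⧸ m)) =
      (algebraMap p.ResidueField m.ResidueField).comp (algebraMap (A ⧸ p) p.ResidueField) := by
    ext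
    simp [← IsScalarTower.algebraMap_apply]
  let _ := ((algebraMap (B ⧸ m) m.ResidueField).comp (algebraMap (A ⧸ p) (B ⧸ m))).toAlgebra
  have : IsScalarTower (A ⧸ p) (B ⧸ m) m.ResidueField := .of_algebraMap_eq' rfl
  have : IsScalarTower (A ⧸ p) p.ResidueField m.ResidueField := .of_algebraMap_eq' heq
  have : Algebra.IsSeparable p.ResidueField m.ResidueField :=
    Algebra.IsSeparable.of_equiv_equiv
      (RingEquiv.ofBijective _ p.bijective_algebraMap_quotient_residueField)
      (RingEquiv.ofBijective _ m.bijective_algebraMap_quotient_residueField) heq.symm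
  have : IsGalois p.ResidueField m.ResidueField :=
    { __ := Ideal.IsFractionRing.normal G p m p.ResidueField m.ResidueField }
  have : Module.Finite p.ResidueField m.ResidueField :=
    Ideal.IsFractionRing.finite_of_isInvariant G p m p.ResidueField m.ResidueField
  have hidx : Subgroup.index _ = _ := Nat.card_congr
    (IsFractionRing.stabilizerQuotientInertiaEquiv G p m p.ResidueField m.ResidueField).toEquiv
  have hst : Nat.card (MulAction.stabilizer G m) = Nat.card (m.inertia G) * m.inertiaDeg A := by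
    rw [Ideal.inertiaDeg_eq p m, ← IsGalois.card_aut_eq_finrank p.ResidueField m.ResidueField, ← hidx,
      ← ((m.inertia G).subgroupOf (MulAction.stabilizer G m)).card_mul_index,
      Nat.card_congr (Subgroup.subgroupOfEquivOfLe (Ideal.inertia_le_stabilizer (M := G) m)).toEquiv,
      AddSubgroup.subgroupOf_inertia]
  have H : (p.primesOver B).ncard * (Nat.card (m.inertia G) * m.inertiaDeg A) = Nat.card G := by
    rw [← hst, ← Algebra.IsInvariant.orbit_eq_primesOver A B G p m]
    simpa using Nat.card_congr (MulAction.orbitProdStabilizerEquivGroup G m)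
  rw [← Ideal.inertiaDegIn_eq_inertiaDeg p m G] at H
  have hG : Nat.card G ≠ 0 := Nat.card_pos.ne'
  have h1 : (p.primesOver B).ncard ≠ 0 := fun h => hG (by rw [← H, h, zero_mul])
  have h2 : p.inertiaDegIn B ≠ 0 := fun h => hG (by rw [← H, h, mul_zero, mul_zero])
  rw [← Ideal.ncard_primesOver_mul_ramificationIdxIn_mul_inertiaDegIn p B G,
    mul_right_inj' h1, mul_left_inj' h2] at H
  rw [H, Ideal.ramificationIdxIn_eq_ramificationIdx p m G,
    Ideal.ramificationIdx'_eq_ramificationIdx p m hp]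

end Groth.EtaleAlgebra.Inertia
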