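import Mathlib.RingTheory.Flat.FaithfullyFlat.Algebra
import Mathlib.RingTheory.Flat.Stability
import Mathlib.RingTheory.TensorProduct.Quotient
import Mathlib.RingTheory.Spectrum.Prime.RingHom
import Mathlib.RingTheory.LocalRing.ResidueField.Fiber
import Mathlib.RingTheory.Unramified.Basic
import Mathlib.LinearAlgebra.TensorProduct.Quotient

/-!
# Base change of `I`-power torsion modules
-/

namespace Groth.EtaleAlgebra

open TensorProduct

universe u

variable {R S : Type u} [CommRing R] [CommRing S] [Algebra R S] {I : Ideal R}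

theorem flat_quotient_map [Module.Flat R S] : Module.Flat (R ⧸ I) (S ⧸ I.map (algebraMap R S)) :=
  Module.Flat.of_linearEquiv (Algebra.TensorProduct.quotIdealMapEquivQuotTensor S I).toLinearEquiv

theorem faithfullyFlat_quotient_iff [Module.Flat R S] :
    Module.FaithfullyFlat (R ⧸ I) (S ⧸ I.map (algebraMap R S)) ↔
      Function.Surjective (PrimeSpectrum.comap
        (Ideal.quotientMap (I.map (algebraMap R S)) (algebraMap R S) Ideal.le_comap_map)) :=
  ⟨fun _ => PrimeSpectrum.comap_surjective_of_faithfullyFlat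
      (A := R ⧸ I) (B := S ⧸ I.map (algebraMap R S)),
    fun h => have := flat_quotient_map (R := R) (S := S) (I := I)
      Module.FaithfullyFlat.of_comap_surjective h⟩

/-- When the closed fibre over `I` is surjective on spectra, torsion elements are detected after base
change. -/
theorem eq_zero_of_one_tmul_eq_zero [Module.Flat R S]
    (h : Function.Surjective (PrimeSpectrum.comap
      (Ideal.quotientMap (I.map (algebraMap R S)) (algebraMap R S) Ideal.le_comap_map)))
    {M : Type u} [AddCommGroup M] [Module R M] {m : M} {n : ℕ} (hm : ∀ a ∈ I ^ n, a • m = 0)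
    (h0 : (1 : S) ⊗ₜ[R] m = 0) : m = 0 := by
  by_contra hne
  set f : R →ₗ[R] M := LinearMap.toSpanSingleton R M m
  have hJ : LinearMap.ker f ≠ ⊤ := fun ht => hne (by
    have : (1 : R) ∈ LinearMap.ker f := ht ▸ Submodule.mem_top
    simpa [f] using this)
  obtain ⟨P, hP, hJP⟩ := Ideal.exists_le_maximal _ hJ
  have hIP : I ≤ P := hP.isPrime.le_of_pow_le (n := n)
    (le_trans (fun a ha => by simpa [f] using hm a ha) hJP)
  have hPm : (P.map (Ideal.Quotient.mk I)).IsPrime :=
    Ideal.map_isPrime_of_surjective Ideal.Quotient.mk_surjective (by rwa [Ideal.mk_ker])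
  obtain ⟨Q, hQ⟩ := h ⟨_, hPm⟩
  let ι : R ⧸ LinearMap.ker f →ₗ[R] M := (LinearMap.ker f).liftQ f le_rfl
  have hι : Function.Injective ι := LinearMap.ker_eq_bot.1 (Submodule.ker_liftQ_eq_bot' _ _ rfl)
  have h1 : (1 : S) ⊗ₜ[R] (Submodule.Quotient.mk 1 : R ⧸ LinearMap.ker f) = 0 := by
    apply Module.Flat.lTensor_preserves_injective_linearMap (M := S) ι hι
    rw [LinearMap.lTensor_tmul, map_zero]
    rw [show ι (Submodule.Quotient.mk 1) = m from one_smul R m]
    exact h0
  let e := TensorProduct.tensorQuotientEquiv S (LinearMap.ker f)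
  have h2 := congrArg e h1
  rw [tensorQuotientEquiv_apply_mk_tmul, map_zero, Submodule.Quotient.mk_eq_zero,
    LinearMap.mem_range] at h2
  obtain ⟨z, hz⟩ := h2
  have h3 := congrArg (TensorProduct.rid R S) hz
  rw [TensorProduct.rid_tmul, one_smul] at h3
  refine Q.isPrime.ne_top ((Ideal.eq_top_iff_one _).2 ?_)
  rw [← map_one (Ideal.Quotient.mk _), ← h3]
  clear h3 hz
  induction z with
  | zero => simp
  | add a b ha hb => rw [map_add, map_add, map_add]; exact add_mem ha hb
  | tmul s a =>
    rw [TensorProduct.map_tmul, LinearMap.id_apply, TensorProduct.rid_tmul, Algebra.smul_def, map_mul]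
    refine Ideal.mul_mem_right _ _ ?_
    rw [← Ideal.quotientMap_mk (H := Ideal.le_comap_map (f := algebraMap R S) (I := I)),
      ← Ideal.mem_comap, ← PrimeSpectrum.comap_asIdeal, hQ]
    exact Ideal.mem_map_of_mem _ (hJP a.2)

theorem range_sup_map_pow_eq_top
    (hq : Function.Surjective (Ideal.quotientMap (I.map (algebraMap R S)) (algebraMap R S)
      Ideal.le_comap_map)) (n : ℕ) :
    ∀ s : S, ∃ r : R, s - algebraMap R S r ∈ (I ^ n).map (algebraMap R S) := by
  induction n with
  | zero => exact fun s => ⟨0, by simp [Ideal.one_eq_top, Ideal.map_top]⟩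
  | succ n ih =>
    have hone : ∀ s : S, ∃ r : R, s - algebraMap R S r ∈ I.map (algebraMap R S) := fun s => by
      obtain ⟨x, hx⟩ := hq (Ideal.Quotient.mk _ s)
      obtain ⟨r, rfl⟩ := Ideal.Quotient.mk_surjective x
      rw [Ideal.quotientMap_mk, Ideal.Quotient.eq] at hx
      exact ⟨r, by rw [← neg_sub]; exact neg_mem hx⟩
    have key : ∀ z ∈ (I ^ n).map (algebraMap R S),
        ∃ r : R, z - algebraMap R S r ∈ (I ^ (n + 1)).map (algebraMap R S) := by
      intro z hz
      rw [Ideal.map, Ideal.span] at hz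
      induction hz using Submodule.span_induction with
      | mem z hz =>
        obtain ⟨a, -, rfl⟩ := hz
        exact ⟨a, by simp⟩
      | zero => exact ⟨0, by simp⟩
      | add a b _ _ ha hb =>
        obtain ⟨r, hr⟩ := ha
        obtain ⟨t, ht⟩ := hb
        exact ⟨r + t, by convert add_mem hr ht using 1; rw [map_add]; abel⟩
      | smul c a ha' ha =>
        obtain ⟨r, hr⟩ := ha
        obtain ⟨t, ht⟩ := hone c
        refine ⟨t * r, ?_⟩
        have e : c * a - algebraMap R S (t * r) =
            (c - algebraMap R S t) * a + algebraMap R S t * (a - algebraMap R S r) := by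
          rw [map_mul]; ring
        rw [smul_eq_mul, e]
        refine add_mem ?_ (Ideal.mul_mem_left _ _ hr)
        rw [pow_succ', Ideal.map_mul]
        exact Ideal.mul_mem_mul ht ha'
    intro s
    obtain ⟨r, hr⟩ := ih s
    obtain ⟨t, ht⟩ := key _ hr
    exact ⟨r + t, by rwa [map_add, ← sub_sub]⟩

/-- Power torsion modules are unchanged by base change. -/
theorem mk_bijective_of_powerTorsion [Module.Flat R S]
    (hff : Module.FaithfullyFlat (R ⧸ I) (S ⧸ I.map (algebraMap R S)))
    (hq : Function.Surjective (Ideal.quotientMap (I.map (algebraMap R S)) (algebraMap R S)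
      Ideal.le_comap_map))
    {M : Type u} [AddCommGroup M] [Module R M] (hM : ∀ m : M, ∃ n : ℕ, ∀ a ∈ I ^ n, a • m = 0) :
    Function.Bijective (TensorProduct.mk R S M 1) := by
  refine ⟨(injective_iff_map_eq_zero _).2 fun m hm => ?_, fun x => ?_⟩
  · obtain ⟨n, hn⟩ := hM m
    exact eq_zero_of_one_tmul_eq_zero (faithfullyFlat_quotient_iff.1 hff) hn hm
  induction x with
  | zero => exact ⟨0, map_zero _⟩
  | add a b ha hb =>
    obtain ⟨a, rfl⟩ := ha
    obtain ⟨b, rfl⟩ := hb
    exact ⟨a + b, map_add _ _ _⟩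
  | tmul s m =>
    obtain ⟨n, hn⟩ := hM m
    obtain ⟨r, hr⟩ := range_sup_map_pow_eq_top hq n s
    refine ⟨r • m, ?_⟩
    have hz : ∀ z ∈ (I ^ n).map (algebraMap R S), z ⊗ₜ[R] m = (0 : S ⊗[R] M) := by
      intro z hz
      induction hz using Submodule.span_induction with
      | mem z hz =>
        obtain ⟨a, ha, rfl⟩ := hz
        rw [Algebra.algebraMap_eq_smul_one, smul_tmul, hn a ha, tmul_zero]
      | zero => exact zero_tmul _ _
      | add a b _ _ ha hb => rw [add_tmul, ha, hb, add_zero]
      | smul c a _ ha => rw [← smul_tmul', ha, smul_zero]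
    have h := hz _ hr
    rw [sub_tmul, sub_eq_zero, Algebra.algebraMap_eq_smul_one, smul_tmul] at h
    exact h.symm

theorem bijective_quotientMap_of_mk_bijective
    (h : Function.Bijective (TensorProduct.mk R S (R ⧸ I) 1)) :
    Function.Bijective (Ideal.quotientMap (I.map (algebraMap R S)) (algebraMap R S)
      Ideal.le_comap_map) := by
  let e := (Algebra.TensorProduct.quotIdealMapEquivTensorQuot S I).symm
  have : ⇑(Ideal.quotientMap (I.map (algebraMap R S)) (algebraMap R S) Ideal.le_comap_map) =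
      e ∘ TensorProduct.mk R S (R ⧸ I) 1 := by
    funext x
    obtain ⟨r, rfl⟩ := Ideal.Quotient.mk_surjective x
    rw [Function.comp_apply, TensorProduct.mk_apply, Ideal.quotientMap_mk]
    simp [e, Algebra.smul_def]
  rw [this]
  exact e.bijective.comp h

/-- The equivalent forms of faithful flatness modulo `I`. -/
theorem flat_quotient_tfae (R S : Type u) [CommRing R] [CommRing S] [Algebra R S] (I : Ideal R) :
    List.TFAE [
      Module.Flat R S ∧ Module.FaithfullyFlat (R ⧸ I) (S ⧸ I.map (algebraMap R S)),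
      Module.Flat R S ∧ Function.Surjective (PrimeSpectrum.comap (Ideal.quotientMap
        (I.map (algebraMap R S)) (algebraMap R S) Ideal.le_comap_map)),
      Module.Flat R S ∧ ∀ (M : Type u) [AddCommGroup M] [Module R M],
        (∀ (a : R) (m : M), a ∈ I → a • m = 0) → Nontrivial M → Nontrivial (S ⊗[R] M),
      Module.Flat R S ∧ ∀ (M : Type u) [AddCommGroup M] [Module R M],
        (∀ m : M, ∃ n : ℕ, ∀ a ∈ I ^ n, a • m = 0) → Nontrivial M → Nontrivial (S ⊗[R] M)] := by
  tfae_have 1 ↔ 2 := ⟨fun ⟨hf, h⟩ => ⟨hf, faithfullyFlat_quotient_iff.1 h⟩,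
    fun ⟨hf, h⟩ => ⟨hf, faithfullyFlat_quotient_iff.2 h⟩⟩
  tfae_have 2 → 4 := by
    rintro ⟨hf, h⟩
    refine ⟨hf, fun M _ _ hM hnt => ?_⟩
    obtain ⟨m, hm⟩ := exists_ne (0 : M)
    obtain ⟨n, hn⟩ := hM m
    exact nontrivial_of_ne ((1 : S) ⊗ₜ[R] m) 0
      (fun h0 => hm (eq_zero_of_one_tmul_eq_zero h hn h0))
  tfae_have 4 → 3 := fun ⟨hf, h⟩ => ⟨hf, fun M _ _ hM => h M fun m =>
    ⟨1, fun a ha => hM a m (by rwa [pow_one] at ha)⟩⟩
  tfae_have 3 → 2 := by
    rintro ⟨hf, h⟩
    refine ⟨hf, fun p => ?_⟩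
    let P : PrimeSpectrum R := PrimeSpectrum.comap (Ideal.Quotient.mk I) p
    have hIP : I ≤ P.asIdeal := fun a ha => by
      show Ideal.Quotient.mk I a ∈ p.asIdeal
      rw [Ideal.Quotient.eq_zero_iff_mem.2 ha]; exact zero_mem _
    have hnt : Nontrivial (S ⊗[R] P.asIdeal.ResidueField) :=
      h P.asIdeal.ResidueField (fun a m ha => by
        rw [Algebra.smul_def,
          P.asIdeal.algebraMap_residueField_eq_zero.2 (hIP ha), zero_mul]) inferInstance
    obtain ⟨q, hq⟩ := (PrimeSpectrum.nontrivial_iff_mem_rangeComap P).1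
      (TensorProduct.comm R S P.asIdeal.ResidueField).toEquiv.symm.nontrivial
    have hIq : I.map (algebraMap R S) ≤ q.asIdeal := Ideal.map_le_iff_le_comap.2
      (le_of_le_of_eq hIP (congrArg PrimeSpectrum.asIdeal hq).symm)
    refine ⟨⟨q.asIdeal.map (Ideal.Quotient.mk _),
      Ideal.map_isPrime_of_surjective Ideal.Quotient.mk_surjective (by rwa [Ideal.mk_ker])⟩,
      PrimeSpectrum.ext (Ideal.comap_injective_of_surjective _
        (Ideal.Quotient.mk_surjective (I := I)) ?_)⟩
    show _ = P.asIdeal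
    rw [← hq, PrimeSpectrum.comap_asIdeal, PrimeSpectrum.comap_asIdeal, Ideal.comap_comap,
      Ideal.quotientMap_comp_mk, ← Ideal.comap_comap,
      Ideal.comap_map_of_surjective' _ Ideal.Quotient.mk_surjective, Ideal.mk_ker,
      sup_eq_left.2 hIq]
  tfae_finish

end Groth.EtaleAlgebra
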