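import Mathlib
import Groth.Agent.EtaleAlgebra.TorsionBC

/-! Formal glueing along several elements. -/

universe u

namespace Groth.Agent.EtaleAlgebra.TorsionGlue

open scoped TensorProduct
open TensorProduct

variable {R S : Type u} [CommRing R] [CommRing S] [Algebra R S] [Module.Flat R S] (I : Ideal R)
  (hq : Function.Bijective
    (Ideal.quotientMap (I.map (algebraMap R S)) (algebraMap R S) Ideal.le_comap_map))

include hq

theorem mk_bijective {M : Type u} [AddCommGroup M] [Module R M]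
    (hM : ∀ m : M, ∃ n : ℕ, ∀ a ∈ I ^ n, a • m = 0) :
    Function.Bijective (TensorProduct.mk R S M 1) := by
  refine Groth.EtaleAlgebra.mk_bijective_of_powerTorsion (I := I) (Groth.EtaleAlgebra.faithfullyFlat_quotient_iff.2 ?_) hq.2 hM
  exact ((PrimeSpectrum.comapEquiv (RingEquiv.ofBijective _ hq)).symm.bijective.2)

theorem eq_zero {M : Type u} [AddCommGroup M] [Module R M] {m : M} {n : ℕ}
    (hm : ∀ a ∈ I ^ n, a • m = 0) (h0 : (1 : S) ⊗ₜ[R] m = 0) : m = 0 := by
  refine Groth.EtaleAlgebra.eq_zero_of_one_tmul_eq_zero (I := I) ?_ hm h0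
  exact ((PrimeSpectrum.comapEquiv (RingEquiv.ofBijective _ hq)).symm.bijective.2)

omit hq in
theorem exists_pow_le {t : ℕ} {f : Fin t → R} (hI : Ideal.span (Set.range f) = I) (K : ℕ) :
    ∃ n, I ^ n ≤ Ideal.span (Set.range fun i => f i ^ K) := by
  refine Ideal.exists_pow_le_of_le_radical_of_fg ?_ (hI ▸ Submodule.fg_span (Set.finite_range f))
  rw [← hI, Ideal.span_le]
  rintro _ ⟨i, rfl⟩
  exact ⟨K, Ideal.subset_span ⟨i, rfl⟩⟩

omit hq in
theorem kill {t : ℕ} {f : Fin t → R} (hI : Ideal.span (Set.range f) = I) {K : ℕ} {M : Type u}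
    [AddCommGroup M] [Module R M] {m : M} (hm : ∀ i, f i ^ K • m = 0) :
    ∃ n, ∀ a ∈ I ^ n, a • m = 0 := by
  obtain ⟨n, hn⟩ := exists_pow_le I hI K
  refine ⟨n, fun a ha => ?_⟩
  have hle : Ideal.span (Set.range fun i => f i ^ K) ≤ LinearMap.ker (LinearMap.toSpanSingleton R M m) := by
    rw [Ideal.span_le]; rintro _ ⟨i, rfl⟩; exact hm i
  exact hle (hn ha)

variable {t : ℕ} (f : Fin t → R) (hI : Ideal.span (Set.range f) = I)
  {M : Type u} [AddCommGroup M] [Module R M]

omit hq in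
/-- `μ ↦ (fᵢᴷ μ)ᵢ`. -/
private noncomputable def phi (K : ℕ) (M : Type u) [AddCommGroup M] [Module R M] :
    M →ₗ[R] Fin t → M :=
  LinearMap.pi fun i => f i ^ K • LinearMap.id

omit hq in
private noncomputable abbrev pr (M : Type u) [AddCommGroup M] [Module R M] :
    S ⊗[R] (Fin t → M) ≃ₗ[R] (Fin t → S ⊗[R] M) :=
  TensorProduct.piRight R R S (fun _ => M)

omit hq [Module.Flat R S] in
private theorem pr_phi (K : ℕ) (x : S ⊗[R] M) (i : Fin t) :
    pr (t := t) M ((phi f K M).lTensor S x) i = f i ^ K • x := by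
  induction x with
  | zero => simp
  | add a b ha hb => rw [map_add, map_add, Pi.add_apply, ha, hb, smul_add]
  | tmul s m =>
    simp [phi, pr, TensorProduct.piRight_apply, TensorProduct.piRightHom_tmul, TensorProduct.tmul_smul]

include hI

/-- Torsion elements of `S ⊗ M` come from `M`. -/
theorem exists_torsion_lift {K : ℕ} (z : S ⊗[R] M) (hz : ∀ i, f i ^ K • z = 0) :
    ∃ τ : M, (∀ i, f i ^ K • τ = 0) ∧ (1 : S) ⊗ₜ[R] τ = z := by
  have hex := Module.Flat.lTensor_exact S (f := (LinearMap.ker (phi f K M)).subtype) (g := phi f K M)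
    (LinearMap.exact_iff.mpr (Submodule.range_subtype _).symm)
  obtain ⟨y, rfl⟩ := (hex z).mp ((pr (t := t) M).injective (funext fun i => by
    rw [pr_phi, hz, map_zero]; rfl))
  obtain ⟨τ, rfl⟩ := (mk_bijective I hq (M := LinearMap.ker (phi f K M)) fun τ => by
    refine kill I hI (K := K) fun i => Subtype.ext ?_
    exact congrFun (LinearMap.mem_ker.mp τ.2) i).2 y
  exact ⟨τ, fun i => congrFun (LinearMap.mem_ker.mp τ.2) i, by simp⟩

/-- Glueing of a compatible family. -/
theorem exists_glue {K : ℕ} (ν : Fin t → M) (x : S ⊗[R] M)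
    (hν : ∀ i j, f j ^ K • ν i = f i ^ K • ν j)
    (hx : ∀ i, (1 : S) ⊗ₜ[R] ν i = f i ^ K • x) :
    ∃ μ : M, (1 : S) ⊗ₜ[R] μ = x ∧ ∀ i, f i ^ K • μ = ν i := by
  let P := LinearMap.range (phi f K M)
  have h1 : (1 : S) ⊗ₜ[R] P.mkQ ν = 0 := by
    have hν' : (1 : S) ⊗ₜ[R] ν = (phi f K M).lTensor S x := (pr (t := t) M).injective (funext fun i => by
      rw [pr_phi]
      simpa [pr, TensorProduct.piRight_apply, TensorProduct.piRightHom_tmul] using hx i)
    have h := congrArg (P.mkQ.lTensor S) hν'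
    rw [LinearMap.lTensor_tmul, ← LinearMap.lTensor_comp_apply, LinearMap.range_mkQ_comp] at h
    simpa using h
  obtain ⟨n, hn⟩ := kill I hI (K := K) (m := P.mkQ ν) fun j => by
    rw [← map_smul, Submodule.mkQ_apply, Submodule.Quotient.mk_eq_zero]
    exact ⟨ν j, funext fun i => by simp [phi, hν i j]⟩
  obtain ⟨μ, hμ⟩ := (Submodule.Quotient.mk_eq_zero P).mp (eq_zero I hq hn h1)
  have hμ' : ∀ i, f i ^ K • μ = ν i := fun i => congrFun hμ i
  obtain ⟨τ, hτ, hτ'⟩ := exists_torsion_lift I hq f hI (K := K) (x - (1 : S) ⊗ₜ[R] μ) fun i => by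
    rw [smul_sub, ← tmul_smul, hμ', hx, sub_self]
  exact ⟨μ + τ, by rw [tmul_add, hτ']; abel, fun i => by rw [smul_add, hτ, add_zero, hμ']⟩

/-- Splitting of a compatible family in `S ⊗ M`. -/
theorem exists_split {K : ℕ} (w : Fin t → S ⊗[R] M) (hw : ∀ i j, f j ^ K • w i = f i ^ K • w j) :
    ∃ (ν : Fin t → M) (x : S ⊗[R] M), (∀ i j, f j ^ K • ν i = f i ^ K • ν j) ∧
      ∀ i, w i = (1 : S) ⊗ₜ[R] ν i + f i ^ K • x := by
  let ψ : (Fin t → M) →ₗ[R] (Fin t × Fin t → M) := LinearMap.pi fun p =>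
    f p.2 ^ K • (LinearMap.proj p.1 : (Fin t → M) →ₗ[R] M) - f p.1 ^ K • (LinearMap.proj p.2 : (Fin t → M) →ₗ[R] M)
  have hψ : ∀ y : S ⊗[R] (Fin t → M), ∀ p : Fin t × Fin t,
      TensorProduct.piRight R R S (fun _ : Fin t × Fin t => M) (ψ.lTensor S y) p =
        f p.2 ^ K • pr (t := t) M y p.1 - f p.1 ^ K • pr (t := t) M y p.2 := by
    intro y p
    induction y with
    | zero => simp
    | add a b ha hb => simp only [map_add, Pi.add_apply, ha, hb, smul_add]; abel
    | tmul s m =>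
      simp [ψ, pr, TensorProduct.piRight_apply, TensorProduct.piRightHom_tmul, TensorProduct.tmul_sub,
        TensorProduct.tmul_smul]
  let W := (pr (t := t) M).symm w
  have hex := Module.Flat.lTensor_exact S (f := (LinearMap.ker ψ).subtype) (g := ψ)
    (LinearMap.exact_iff.mpr (Submodule.range_subtype _).symm)
  obtain ⟨y, hy⟩ := (hex W).mp ((TensorProduct.piRight R R S (fun _ : Fin t × Fin t => M)).injective
    (funext fun p => by rw [hψ, map_zero]; simp [W, hw p.1 p.2]))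
  let φ : M →ₗ[R] LinearMap.ker ψ := (phi f K M).codRestrict _ fun m => by
    refine LinearMap.mem_ker.mpr (funext fun p => ?_)
    show f p.2 ^ K • f p.1 ^ K • m - f p.1 ^ K • f p.2 ^ K • m = 0
    rw [smul_comm, sub_self]
  let P := LinearMap.range φ
  obtain ⟨h, hh⟩ := (mk_bijective I hq (M := LinearMap.ker ψ ⧸ P) fun h => by
    obtain ⟨ν, rfl⟩ := Submodule.Quotient.mk_surjective P h
    refine kill I hI (K := K) fun j => ?_
    rw [← Submodule.Quotient.mk_smul, Submodule.Quotient.mk_eq_zero]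
    refine ⟨(ν : Fin t → M) j, Subtype.ext (funext fun i => ?_)⟩
    have := congrFun (LinearMap.mem_ker.mp ν.2) (i, j)
    simp [ψ, sub_eq_zero] at this
    simp [φ, phi, this]).2 (P.mkQ.lTensor S y)
  obtain ⟨ν, rfl⟩ := Submodule.Quotient.mk_surjective P h
  have hsub : y - (1 : S) ⊗ₜ[R] ν ∈ LinearMap.ker (P.mkQ.lTensor S) := by
    rw [LinearMap.mem_ker, map_sub, ← hh]; simp
  obtain ⟨x, hx⟩ := (_root_.lTensor_exact S (f := φ) (g := P.mkQ)
    (LinearMap.exact_map_mkQ_range φ) (Submodule.mkQ_surjective P) _).mp hsub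
  refine ⟨fun i => (ν : Fin t → M) i, x, fun i j => ?_, fun i => ?_⟩
  · have := congrFun (LinearMap.mem_ker.mp ν.2) (i, j)
    simpa [ψ, sub_eq_zero] using this
  · have h1 := congrArg (fun z => pr (t := t) M ((LinearMap.ker ψ).subtype.lTensor S z) i) hx
    simp only [map_sub, Pi.sub_apply] at h1
    rw [← LinearMap.lTensor_comp_apply, show (LinearMap.ker ψ).subtype ∘ₗ φ = phi f K M from
      LinearMap.subtype_comp_codRestrict _ _ _, pr_phi, hy] at h1
    simp [W, pr, TensorProduct.piRight_apply, TensorProduct.piRightHom_tmul] at h1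
    rw [h1]; abel

end Groth.Agent.EtaleAlgebra.TorsionGlue
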