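import Groth.Agent.Misc1.NoetherDiff
import Mathlib.LinearAlgebra.Dual.Basis
import Mathlib.LinearAlgebra.Determinant
import Mathlib.RingTheory.Flat.FaithfullyFlat.Algebra

/-!
# The trace form of a finite free etale algebra
-/

namespace Groth.EtaleAlgebra

universe u

variable (A B : Type u) [CommRing A] [CommRing B] [Algebra A B] [Module.Finite A B] [Module.Free A B]

theorem etale_iff_bijective_traceForm :
    Algebra.Etale A B ↔ Function.Bijective (Algebra.traceForm A B) := by
  classical
  let b := Module.Free.chooseBasis A B
  rw [Groth.Misc1.ND.etale_iff_isUnit_discr b, Algebra.discr_def]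
  have hM : LinearMap.toMatrix b b.dualBasis (Algebra.traceForm A B) =
      (Algebra.traceMatrix A b).transpose := by
    ext i j
    simp [LinearMap.toMatrix_apply, Algebra.traceMatrix_apply]
  rw [← Matrix.det_transpose, ← hM]
  exact ⟨fun h => (LinearEquiv.ofIsUnitDet h).bijective,
    fun h => (LinearEquiv.ofBijective _ h).isUnit_det b b.dualBasis⟩

theorem trace_surjective [Algebra.Etale A B] [Module.FaithfullyFlat A B] :
    Function.Surjective (Algebra.trace A B) := by
  classical
  cases subsingleton_or_nontrivial A with
  | inl h => exact fun a => ⟨0, Subsingleton.elim _ _⟩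
  | inr h =>
    have hB := (etale_iff_bijective_traceForm A B).1 inferInstance
    let b := Module.Free.chooseBasis A B
    have hne : Nontrivial B :=
      (FaithfulSMul.algebraMap_injective A B).nontrivial
    obtain ⟨i⟩ := b.index_nonempty
    obtain ⟨c, hc⟩ := hB.2 (b.coord i)
    intro a
    refine ⟨a • (c * b i), ?_⟩
    have := LinearMap.congr_fun hc (b i)
    rw [Algebra.traceForm_apply] at this
    rw [map_smul, this]
    simp

end Groth.EtaleAlgebra
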