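import Groth.Agent.EtaleAlgebra.UnrUnion
import Groth.Agent.EtaleAlgebra.PlaceConj
import Groth.Agent.EtaleAlgebra.InsepStep

/-!
# Descent of solutions along the field generated by residually separable roots
-/

set_option autoImplicit false
set_option linter.style.haveILetI false
set_option linter.overlappingInstances false
set_option linter.unusedSectionVars false
universe u

namespace Groth.EtaleAlgebra.UnrDescent

open IsLocalRing EtRam Polynomial

/-- The residue field of the union of the residually separable roots is a separable closure. -/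
theorem sepClosure_unr (A K Ω : Type u) [CommRing A] [IsDomain A] [IsDiscreteValuationRing A]
    [Field K] [Algebra A K] [IsFractionRing A K] [Field Ω] [IsAlgClosed Ω] [Algebra K Ω]
    {W : ValuationSubring Ω}
    (hdom : Dominates A ((algebraMap K Ω).comp (algebraMap A K)) W)
    [Algebra A (W.comap (algebraMap (UnrUnion.unrField A K Ω) Ω))]
    [IsLocalHom (algebraMap A (W.comap (algebraMap (UnrUnion.unrField A K Ω) Ω)))]
    (hcompat : ∀ a : A,
      (((algebraMap A (W.comap (algebraMap (UnrUnion.unrField A K Ω) Ω)) a) :
        UnrUnion.unrField A K Ω) : Ω) = algebraMap K Ω (algebraMap A K a)) :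
    letI := (ResidueField.map
      (algebraMap A (W.comap (algebraMap (UnrUnion.unrField A K Ω) Ω)))).toAlgebra
    IsSepClosure (ResidueField A)
      (ResidueField (W.comap (algebraMap (UnrUnion.unrField A K Ω) Ω))) := by
  let U := UnrUnion.unrField A K Ω
  let V := W.comap (algebraMap U Ω)
  let _ : Algebra (ResidueField A) (ResidueField V) := (ResidueField.map (algebraMap A V)).toAlgebra
  let _ : Algebra (ResidueField A) (ResidueField W) := (UnrUnion.resHom hdom).toAlgebra
  let j : ResidueField V →+* ResidueField W := ResidueField.map (inclOfComap W (algebraMap U Ω))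
  let _ : Algebra (ResidueField V) (ResidueField W) := j.toAlgebra
  have : IsScalarTower (ResidueField A) (ResidueField V) (ResidueField W) :=
    IsScalarTower.of_algebraMap_eq fun x => by
      obtain ⟨a, rfl⟩ := residue_surjective x
      exact congrArg (residue W) (Subtype.ext (hcompat a).symm)
  have hsep : Algebra.IsSeparable (ResidueField A) (ResidueField V) := ⟨fun x => by
    obtain ⟨x, rfl⟩ := residue_surjective x
    refine (isSeparable_map_iff (f := IsScalarTower.toAlgHom (ResidueField A) (ResidueField V)
      (ResidueField W)) (RingHom.injective _)).1 ?_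
    exact UnrUnion.residue_isSeparable hdom (x : U).2 x.2⟩
  refine ⟨IsSepClosed.of_exists_root _ fun p hp hirr hps => ?_, hsep⟩
  have := UnrUnion.isAlgClosed_residueField W
  obtain ⟨y, hy'⟩ := IsAlgClosed.exists_root (p.map j)
    (by rw [degree_map]; exact (degree_pos_of_irreducible hirr).ne')
  have hy : aeval y p = 0 := (eval_map j y).symm.trans hy'
  have hy1 : IsSeparable (ResidueField V) y :=
    hps.of_dvd (minpoly.dvd _ y hy)
  obtain ⟨x, hxW, hxU, hxy⟩ := UnrUnion.exists_lift hdom y
    (IsSeparable.of_algebra_isSeparable_of_isSeparable (E := ResidueField V) _ hy1)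
  refine ⟨residue V ⟨⟨x, hxU⟩, hxW⟩, j.injective ?_⟩
  rw [map_zero, ← hy, ← hxy]
  exact (hom_eval₂ p (RingHom.id _) j _).trans rfl

/-- A field generated over `L` by the image of a finite extension is finite over `L`. -/
theorem finite_of_adjoin (K L K₁ M : Type u) [Field K] [Field L] [Field K₁] [Field M]
    [Algebra K L] [Algebra K K₁] [Algebra K M] [Algebra L M] [Algebra K₁ M] [IsScalarTower K L M]
    [IsScalarTower K K₁ M] [FiniteDimensional K K₁]
    (hadj : Algebra.adjoin L (Set.range (algebraMap K₁ M)) = ⊤) : FiniteDimensional L M := by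
  classical
  let f := algebraMap K₁ M
  obtain ⟨G, hG⟩ := (Module.Finite.fg_top : (⊤ : Submodule K K₁).FG)
  have hle : Algebra.adjoin L (Set.range f) ≤ Algebra.adjoin L ((G.image f : Finset M) : Set M) := by
    refine Algebra.adjoin_le ?_
    rintro _ ⟨x, rfl⟩
    have hx : x ∈ Submodule.span K (G : Set K₁) := hG ▸ Submodule.mem_top
    induction hx using Submodule.span_induction with
    | mem y hy => exact Algebra.subset_adjoin (Finset.mem_coe.2 (Finset.mem_image_of_mem f hy))
    | zero => rw [map_zero]; exact zero_mem _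
    | add y z _ _ hy hz => rw [map_add]; exact add_mem hy hz
    | smul c y _ hy =>
      rw [Algebra.smul_def, map_mul, show f (algebraMap K K₁ c) = algebraMap L M (algebraMap K L c) by
        rw [← IsScalarTower.algebraMap_apply, ← IsScalarTower.algebraMap_apply]]
      exact mul_mem (Subalgebra.algebraMap_mem _ _) hy
  have h1 := fg_adjoin_of_finite (R := L) (G.image f).finite_toSet fun x hx => by
    obtain ⟨y, -, rfl⟩ := Finset.mem_image.1 (Finset.mem_coe.1 hx)
    exact ((Algebra.IsIntegral.isIntegral (R := K) y).map (IsScalarTower.toAlgHom K K₁ M)).tower_top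
  rw [show Algebra.adjoin L ((G.image f : Finset M) : Set M) = ⊤ from top_le_iff.1 (hadj ▸ hle),
    Algebra.top_toSubmodule] at h1
  exact ⟨h1⟩

/-- A weakly unramified, residually separable extension of valuation rings over a field inside the
union of residually separable roots descends. -/
theorem transfer {A N M K₂ M'' Ω : Type u} [CommRing A] [IsLocalRing A] [Field N] [Field M]
    [Field K₂] [Field M''] [Field Ω] (W : ValuationSubring Ω) (a₀ : A →+* N) (f : N →+* M)
    (σ : M →+* Ω) (e : N →+* K₂) (g : K₂ →+* M'') (h : M'' →+* Ω) (s : M →+* M'')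
    (he : ∀ n, h (g (e n)) = σ (f n)) (hs : ∀ y, h (s y) = σ y)
    (hA : Dominates A ((σ.comp f).comp a₀) W)
    [IsDiscreteValuationRing (W.comap (σ.comp f))]
    (hgen : ∀ x, h (g x) ∈ Subfield.closure
      (Set.range (σ.comp f) ∪ UnrUnion.liftRoots A Ω ((σ.comp f).comp a₀)))
    (hwu : letI := (inclOfComap (W.comap h) g).toAlgebra
      IsWeaklyUnramified ((W.comap h).comap g) (W.comap h))
    (hgr : @Algebra.IsGeometricallyReduced (ResidueField ((W.comap h).comap g))
      (ResidueField (W.comap h)) _ _ (ResidueField.map (inclOfComap (W.comap h) g)).toAlgebra) :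
    letI := (inclOfComap (W.comap σ) f).toAlgebra
    IsWeaklyUnramified ((W.comap σ).comap f) (W.comap σ) ∧
      @Algebra.IsGeometricallyReduced (ResidueField ((W.comap σ).comap f))
        (ResidueField (W.comap σ)) _ _
        (ResidueField.map (inclOfComap (W.comap σ) f)).toAlgebra := by
  let τ := σ.comp f
  let _ : Algebra N Ω := τ.toAlgebra
  let V := W.comap τ
  have hdom : Dominates V ((algebraMap N Ω).comp (algebraMap V N)) W := dominates_comap
  have hdomA : Dominates A a₀ V := dominates_comp_iff.1 hA
  let φ : A →+* V := RingHom.codRestrict a₀ V hdomA.1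
  have : IsLocalHom φ := isLocalHom_codRestrict hdomA
  -- the generated field lies in the union
  have hle : ∀ x, h (g x) ∈ UnrUnion.unrField V N Ω := fun x => by
    refine Subfield.closure_le (t := (UnrUnion.unrField V N Ω).toSubfield).2 ?_ (hgen x)
    rintro y (⟨n, rfl⟩ | ⟨q, hq, hqs, hq0⟩)
    · exact IntermediateField.algebraMap_mem _ n
    · refine IntermediateField.subset_adjoin _ _ ⟨q.map φ, hq.map φ, ?_, ?_⟩
      · rw [Polynomial.map_map, show (residue V).comp φ = (ResidueField.map φ).comp (residue A) from
          rfl, ← Polynomial.map_map]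
        exact hqs.map
      · rw [eval₂_map]
        exact hq0
  obtain ⟨π, hπ⟩ := IsDiscreteValuationRing.exists_irreducible V
  have hπv : W.valuation (τ (π : N)) < 1 :=
    hdom.2 π (hπ.maximalIdeal_eq.ge (Ideal.mem_span_singleton_self π))
  have hτ0 : τ (π : N) ≠ 0 := fun h0 => hπ.ne_zero (Subtype.ext (τ.injective (h0.trans τ.map_zero.symm)))
  let W'' := W.comap h
  let V₂ := W''.comap g
  let π₂ : V₂ := ⟨e π, show h (g (e π)) ∈ W by rw [he]; exact π.2⟩
  -- the maximal ideal of `W''`
  have hmax : maximalIdeal W'' = Ideal.span {inclOfComap W'' g π₂} := by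
    refine le_antisymm ?_ ((Ideal.span_singleton_le_iff_mem _).2 ((mem_maximalIdeal _).2 fun hu => ?_))
    · refine hwu.ge.trans (Ideal.map_le_iff_le_comap.2 fun x hx => ?_)
      have hxv : W.valuation (h (g (x : K₂))) < 1 :=
        (W.valuation_lt_one_iff ⟨_, x.2⟩).1 ((map_mem_nonunits_iff
          ((inclOfComap W h).comp (inclOfComap W'' g)) x).2 ((mem_maximalIdeal x).1 hx))
      obtain ⟨c, -, hcW, hxc⟩ := UnrUnion.exists_mul_of_lt hdom hπ (hle x) hxv
      have hc : h (g ((x : K₂) / e π)) = c := by
        rw [map_div₀, map_div₀, he, hxc]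
        exact mul_div_cancel_left₀ c hτ0
      refine Ideal.mem_comap.2 (Ideal.mem_span_singleton'.2
        ⟨⟨g ((x : K₂) / e π), show h _ ∈ W from hc ▸ hcW⟩, Subtype.ext (h.injective ?_)⟩)
      show h (g _ * g (e π)) = h (g x)
      rw [map_mul, hc, he, hxc]
      exact mul_comm _ _
    · have := (W.valuation_eq_one_iff _).1 (hu.map (inclOfComap W h))
      rw [show ((inclOfComap W h (inclOfComap W'' g π₂) : W) : Ω) = τ π from he π] at this
      exact hπv.ne this
  refine ⟨InsepStep.weaklyUnramified_of _ f (π : N) ?_ fun y hy => ?_, ?_⟩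
  · rw [valuation_lt_one_iff_mem_nonunits, mem_nonunits_comap, ← valuation_lt_one_iff_mem_nonunits]
    exact hπv
  · rw [valuation_lt_one_iff_mem_nonunits, mem_nonunits_comap, ← valuation_lt_one_iff_mem_nonunits,
      ← hs, valuation_lt_one_iff_mem_nonunits, ← mem_nonunits_comap,
      ← valuation_lt_one_iff_mem_nonunits] at hy
    have hyW : s y ∈ W'' := (W''.valuation_le_one_iff _).1 hy.le
    have hym : (⟨s y, hyW⟩ : W'') ∈ maximalIdeal W'' := (W''.valuation_lt_one_iff _).2 hy
    rw [hmax, Ideal.mem_span_singleton'] at hym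
    obtain ⟨z, hz⟩ := hym
    have hz' : h (z : M'') * τ (π : N) = σ y := by
      rw [← hs, show s y = (z : M'') * g (e π) from (congrArg Subtype.val hz).symm, map_mul, he]
      rfl
    have hf0 : f (π : N) ≠ 0 := fun h0 => hτ0 (by show σ (f π) = 0; rw [h0, map_zero])
    refine ⟨y / f π, ?_, (mul_div_cancel₀ y hf0).symm⟩
    show σ (y / f π) ∈ W
    rw [map_div₀, ← hz']
    show h (z : M'') * τ (π : N) / τ (π : N) ∈ W
    rw [mul_div_cancel_right₀ _ hτ0]
    exact z.2
  -- residue fields
  let Wσ := W.comap σ
  let eV : Wσ.comap f →+* V₂ := RingHom.codRestrict (e.comp (Wσ.comap f).subtype) V₂.toSubring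
    fun n => show h (g (e n)) ∈ W by rw [he]; exact n.2
  let sW : Wσ →+* W'' := RingHom.codRestrict (s.comp Wσ.subtype) W''.toSubring
    fun y => show h (s y) ∈ W by rw [hs]; exact y.2
  let ι₂ : V₂ →+* W := (inclOfComap W h).comp (inclOfComap W'' g)
  have heV : ι₂.comp eV = inclOfComap W τ := RingHom.ext fun n => Subtype.ext (he _)
  have hsW : (inclOfComap W h).comp sW = inclOfComap W σ := RingHom.ext fun y => Subtype.ext (hs _)
  have : IsLocalHom eV := by
    have : IsLocalHom (ι₂.comp eV) := by rw [heV]; exact isLocalHom_inclOfComap W τ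
    exact isLocalHom_of_comp eV ι₂
  have : IsLocalHom sW := by
    have : IsLocalHom ((inclOfComap W h).comp sW) := by rw [hsW]; exact isLocalHom_inclOfComap W σ
    exact isLocalHom_of_comp sW (inclOfComap W h)
  let _ : Algebra (ResidueField (Wσ.comap f)) (ResidueField V₂) := (ResidueField.map eV).toAlgebra
  let _ : Algebra (ResidueField V₂) (ResidueField W'') :=
    (ResidueField.map (inclOfComap W'' g)).toAlgebra
  let _ : Algebra (ResidueField (Wσ.comap f)) (ResidueField W'') :=
    ((algebraMap (ResidueField V₂) (ResidueField W'')).comp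
      (algebraMap (ResidueField (Wσ.comap f)) (ResidueField V₂))).toAlgebra
  have : IsScalarTower (ResidueField (Wσ.comap f)) (ResidueField V₂) (ResidueField W'') :=
    IsScalarTower.of_algebraMap_eq fun _ => rfl
  let _ : Algebra (ResidueField (Wσ.comap f)) (ResidueField Wσ) :=
    (ResidueField.map (inclOfComap Wσ f)).toAlgebra
  let aW : Algebra (ResidueField (Wσ.comap f)) (ResidueField W) := (UnrUnion.resHom hdom).toAlgebra
  let jV : ResidueField V₂ →ₐ[ResidueField (Wσ.comap f)] ResidueField W :=
    { toRingHom := ResidueField.map ι₂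
      commutes' := fun x => by
        obtain ⟨n, rfl⟩ := residue_surjective x
        exact congrArg (residue W) (Subtype.ext (he _)) }
  have : Algebra.IsSeparable (ResidueField (Wσ.comap f)) (ResidueField V₂) := ⟨fun x => by
    obtain ⟨x, rfl⟩ := residue_surjective x
    refine (isSeparable_map_iff (f := jV) (RingHom.injective _)).1 ?_
    exact UnrUnion.residue_isSeparable hdom (hle x) x.2⟩
  have := @PlaceConj.isGeometricallyReduced_trans (ResidueField (Wσ.comap f)) (ResidueField V₂)
    (ResidueField W'') _ _ _ _ _ _ _ _ hgr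
  let j : ResidueField Wσ →ₐ[ResidueField (Wσ.comap f)] ResidueField W'' :=
    { toRingHom := ResidueField.map sW
      commutes' := fun x => by
        obtain ⟨n, rfl⟩ := residue_surjective x
        exact congrArg (residue W'') (Subtype.ext (h.injective ((hs _).trans (he _).symm))) }
  exact Algebra.IsGeometricallyReduced.of_injective j (RingHom.injective _)

end Groth.EtaleAlgebra.UnrDescent
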