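import Mathlib

/-! Etale-local splitting of unramified algebras at a prime, algebra form. -/

universe u

namespace Groth.Agent.EtaleAlgebra.UnramifiedSplitAlg

open scoped TensorProduct

/-- Finite algebra, one unramified residually trivial prime over `P` => cyclic near `P`. -/
theorem exists_mul_mem_range (E C : Type u) [CommRing E] [CommRing C] [Algebra E C] [Module.Finite E C]
    (P : Ideal E) [P.IsPrime] (Q : Ideal C) [Q.IsPrime]
    (huniq : ∀ Q' : Ideal C, Q'.IsPrime → Q'.comap (algebraMap E C) = P → Q' = Q)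
    (hres : ∀ c : C, ∃ a : E, c - algebraMap E C a ∈ Q)
    (hmax : ∀ x ∈ Q, ∃ t ∉ Q, t * x ∈ P.map (algebraMap E C)) :
    ∃ f ∉ P, ∀ c : C, ∃ a : E, algebraMap E C f * c = algebraMap E C a := by
  classical
  have h1 : ∀ x ∈ Q, ∃ s ∉ P, algebraMap E C s * x ∈ P.map (algebraMap E C) := by
    intro x hx
    obtain ⟨t, ht, htx⟩ := hmax x hx
    let J : Ideal C := (P.map (algebraMap E C)).colon {x}
    have hJ : ¬ J.comap (algebraMap E C) ≤ P := by
      intro hle
      obtain ⟨Q', hJQ', hQ', hQ'P⟩ := Ideal.exists_ideal_over_prime_of_isIntegral P J hle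
      have htJ : t ∈ J := Submodule.mem_colon_singleton.mpr (by simpa [mul_comm] using htx)
      exact ht (huniq Q' hQ' hQ'P ▸ hJQ' htJ)
    obtain ⟨s, hs, hsP⟩ := SetLike.not_le_iff_exists.mp hJ
    exact ⟨s, hsP, by simpa using Submodule.mem_colon_singleton.mp (Ideal.mem_comap.mp hs)⟩
  have h2 : ∀ c : C, ∃ s ∉ P, ∃ a : E,
      algebraMap E C s * c - algebraMap E C a ∈ P.map (algebraMap E C) := by
    intro c
    obtain ⟨a, ha⟩ := hres c
    obtain ⟨s, hs, hsx⟩ := h1 _ ha
    exact ⟨s, hs, s * a, by simpa [mul_sub] using hsx⟩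
  obtain ⟨S, hS⟩ := (Module.Finite.fg_top (R := E) (M := C))
  choose s hs a ha using h2
  let σ : E := ∏ c ∈ S, s c
  have hσ : σ ∉ P := fun h => by
    obtain ⟨c, -, hc⟩ := Ideal.IsPrime.prod_mem_iff.mp h
    exact hs c hc
  let N : Submodule E C := LinearMap.range (Algebra.linearMap E C)
  -- the map `σ • id` on `M = C / E` has range in `P • M`
  have hrange : LinearMap.range (σ • LinearMap.id : (C ⧸ N) →ₗ[E] (C ⧸ N)) ≤
      P • (⊤ : Submodule E (C ⧸ N)) := by
    rw [LinearMap.range_eq_map, show (⊤ : Submodule E (C ⧸ N)) =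
      Submodule.span E (N.mkQ '' (S : Set C)) by
        rw [← Submodule.map_span, hS, Submodule.map_top, Submodule.range_mkQ],
      Submodule.map_span_le]
    rintro _ ⟨c, hc, rfl⟩
    obtain ⟨w, hw⟩ := Finset.dvd_prod_of_mem s hc
    have hmem : algebraMap E C (s c) * c - algebraMap E C (a c) ∈
        (P • (⊤ : Submodule E C)) := by
      rw [Ideal.smul_top_eq_map]; exact ha c
    have h3 : N.mkQ (w • (algebraMap E C (s c) * c - algebraMap E C (a c))) ∈
        (P • (⊤ : Submodule E C)).map N.mkQ :=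
      Submodule.mem_map_of_mem (Submodule.smul_mem _ w hmem)
    rw [Submodule.map_smul'', Submodule.map_top, Submodule.range_mkQ] at h3
    rw [← Submodule.map_span, hS, Submodule.map_top, Submodule.range_mkQ]
    convert h3 using 1
    show σ • N.mkQ c = _
    rw [← map_smul, Submodule.mkQ_apply, Submodule.mkQ_apply, Submodule.Quotient.eq]
    refine ⟨w * a c, ?_⟩
    simp only [Algebra.linearMap_apply, Algebra.smul_def, map_mul]
    rw [show σ = s c * w from hw, map_mul]
    ring
  obtain ⟨p, hp, -, hcoef, hev⟩ :=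
    LinearMap.exists_monic_and_coeff_mem_pow_and_aeval_eq_zero_of_range_le_smul E
      (σ • LinearMap.id : (C ⧸ N) →ₗ[E] (C ⧸ N)) P hrange
  refine ⟨p.eval σ, fun hmem => ?_, fun c => ?_⟩
  · have : (p.map (Ideal.Quotient.mk P)).eval (Ideal.Quotient.mk P σ) = 0 := by
      rw [Polynomial.eval_map, Polynomial.eval₂_at_apply, Ideal.Quotient.eq_zero_iff_mem]
      exact hmem
    have hp' : p.map (Ideal.Quotient.mk P) = Polynomial.X ^ p.natDegree := by
      ext i
      rw [Polynomial.coeff_map, Polynomial.coeff_X_pow]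
      rcases lt_trichotomy i p.natDegree with h | h | h
      · rw [if_neg h.ne, Ideal.Quotient.eq_zero_iff_mem]
        exact Ideal.pow_le_self (Nat.sub_ne_zero_of_lt h) (hcoef i)
      · rw [if_pos h, h, hp.coeff_natDegree, map_one]
      · rw [if_neg h.ne', Polynomial.coeff_eq_zero_of_natDegree_lt h, map_zero]
    rw [hp', Polynomial.eval_pow, Polynomial.eval_X] at this
    exact hσ (Ideal.Quotient.eq_zero_iff_mem.mp (pow_eq_zero_iff'.mp this).1)
  · have h := LinearMap.congr_fun hev (N.mkQ c)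
    rw [show (σ • LinearMap.id : (C ⧸ N) →ₗ[E] (C ⧸ N)) = algebraMap E (Module.End E (C ⧸ N)) σ by
      ext; simp [Module.algebraMap_end_apply],
      Polynomial.aeval_algebraMap_apply, Module.algebraMap_end_apply, ← map_smul,
      LinearMap.zero_apply, Submodule.mkQ_apply, Submodule.Quotient.mk_eq_zero,
      ← Polynomial.coe_aeval_eq_eval] at *
    obtain ⟨b, hb⟩ := h
    exact ⟨b, by simpa [Algebra.smul_def] using hb.symm⟩

/-- A localization of a base change of an unramified local ring is unramified. -/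
theorem formallyUnramified_localization_baseChange (R S E : Type u) [CommRing R] [CommRing S]
    [Algebra R S] [CommRing E] [Algebra R E] (q : Ideal S) [q.IsPrime] [Algebra.IsUnramifiedAt R q]
    (Q : Ideal (E ⊗[R] S)) [Q.IsPrime]
    (hQ : q = Q.comap Algebra.TensorProduct.includeRight.toRingHom) :
    Algebra.FormallyUnramified E (Localization.AtPrime Q) := by
  let f : E ⊗[R] Localization.AtPrime q →ₐ[E] Localization.AtPrime Q :=
    Algebra.TensorProduct.lift (Algebra.ofId _ _) ⟨Localization.localRingHom _ _ _ hQ, by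
      simp [IsScalarTower.algebraMap_apply R S (Localization.AtPrime q),
        IsScalarTower.algebraMap_apply R (E ⊗[R] S) (Localization.AtPrime Q)]⟩ fun _ _ ↦ .all _ _
  let g : E ⊗[R] S →ₐ[E] E ⊗[R] Localization.AtPrime q :=
    Algebra.TensorProduct.map (.id _ _) (IsScalarTower.toAlgHom _ _ _)
  have hfg : f.comp g = IsScalarTower.toAlgHom _ _ _ := by ext; simp [f, g]
  refine Algebra.FormallyUnramified.iff_comp_injective.mpr fun B _ _ I hI g₁ g₂ h => ?_
  have h1 : g₁.comp f = g₂.comp f :=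
    Algebra.FormallyUnramified.iff_comp_injective.mp inferInstance I hI
      (show (Ideal.Quotient.mkₐ E I).comp (g₁.comp f) = (Ideal.Quotient.mkₐ E I).comp (g₂.comp f) by
        rw [← AlgHom.comp_assoc, h, AlgHom.comp_assoc])
  have h2 : g₁.comp (IsScalarTower.toAlgHom E (E ⊗[R] S) (Localization.AtPrime Q)) =
      g₂.comp (IsScalarTower.toAlgHom E (E ⊗[R] S) (Localization.AtPrime Q)) := by
    rw [← hfg, ← AlgHom.comp_assoc, h1, AlgHom.comp_assoc]
  exact AlgHom.coe_ringHom_injective
    (IsLocalization.ringHom_ext Q.primeCompl (congrArg AlgHom.toRingHom h2))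

/-- Unramified at `q`: some etale nhd has an idempotent `e` with `(R' ⊗ S) / (1 - e)` cyclic. -/
theorem exists_etale_idempotent (R S : Type u) [CommRing R] [CommRing S] [Algebra R S]
    [Algebra.FiniteType R S] (q : Ideal S) [q.IsPrime] [Algebra.IsUnramifiedAt R q] :
    ∃ (R' : Type u) (_ : CommRing R') (_ : Algebra R R') (_ : Algebra.Etale R R') (p' : Ideal R')
      (_ : p'.IsPrime) (_ : p'.LiesOver (q.under R)) (e : R' ⊗[R] S) (_ : IsIdempotentElem e)
      (Q : Ideal (R' ⊗[R] S)) (_ : Q.IsPrime),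
      Q.comap (algebraMap R' (R' ⊗[R] S)) = p' ∧
      Q.comap Algebra.TensorProduct.includeRight.toRingHom = q ∧ e ∉ Q ∧
      ∀ u : R' ⊗[R] S, ∃ a : R', (u - algebraMap R' _ a) * e = 0 := by
  classical
  obtain ⟨g, hgq, PE, φ, hφ⟩ :=
    Algebra.IsUnramifiedAt.exists_hasStandardEtaleSurjectionOn (R := R) q
  have hgu : IsUnit (algebraMap S q.ResidueField g) :=
    IsUnit.mk0 _ fun h => hgq (Ideal.algebraMap_residueField_eq_zero.mp h)
  let l : Localization.Away g →ₐ[R] q.ResidueField :=
    { IsLocalization.Away.lift g hgu with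
      commutes' := fun c => by
        rw [IsScalarTower.algebraMap_apply R S (Localization.Away g)]
        show IsLocalization.Away.lift g hgu (algebraMap S _ _) = _
        rw [IsLocalization.Away.lift_eq, ← IsScalarTower.algebraMap_apply] }
  let E := PE.Ring
  let μ : E ⊗[R] S →ₐ[R] q.ResidueField := Algebra.TensorProduct.lift (l.comp φ)
    (IsScalarTower.toAlgHom R S q.ResidueField) (fun _ _ => Commute.all _ _)
  let q1 : Ideal (E ⊗[R] S) := RingHom.ker μ.toRingHom
  haveI : q1.IsPrime := RingHom.ker_isPrime _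
  have hq1 : q = q1.comap (Algebra.TensorProduct.includeRight.toRingHom : S →+* E ⊗[R] S) := by
    ext x
    simp [q1, μ, Ideal.algebraMap_residueField_eq_zero]
  have hres0 : ∀ s : S, ∃ b : E, (1 : E) ⊗ₜ[R] s - b ⊗ₜ[R] (1 : S) ∈ q1 := by
    intro s
    obtain ⟨b, hb⟩ := hφ (algebraMap S (Localization.Away g) s)
    refine ⟨b, ?_⟩
    have : l (φ b) = algebraMap S q.ResidueField s := by
      rw [hb]; exact IsLocalization.Away.lift_eq g hgu s
    simp [q1, μ, this]
  haveI : Algebra.QuasiFiniteAt R q := inferInstance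
  haveI : Algebra.QuasiFiniteAt E q1 := Algebra.QuasiFiniteAt.baseChange q q1 hq1
  obtain ⟨E', _, _, _, P, _, _, e, he, P', _, hP'P, hP'q1, heP', -, hfin, huniq⟩ :=
    Algebra.exists_etale_isIdempotentElem_forall_liesOver_eq (q1.under E) q1
  letI : Algebra R E' := ((algebraMap E E').comp (algebraMap R E)).toAlgebra
  haveI : IsScalarTower R E E' := IsScalarTower.of_algebraMap_eq' rfl
  haveI : Algebra.Etale R E' := Algebra.Etale.comp R E E'
  let ψ : E' ⊗[E] (E ⊗[R] S) ≃ₐ[E'] E' ⊗[R] S :=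
    Algebra.TensorProduct.cancelBaseChange R E E' E' S
  let e1 := ψ e
  let Q1 : Ideal (E' ⊗[R] S) := P'.comap ψ.symm.toRingHom
  haveI : Q1.IsPrime := Ideal.comap_isPrime _ P'
  have hQ1P : Q1.comap (algebraMap E' (E' ⊗[R] S)) = P := by
    rw [Ideal.comap_comap, hP'P.over]
    congr 1
  have hQ1q : q = Q1.comap Algebra.TensorProduct.includeRight.toRingHom := by
    ext x
    rw [hq1, ← hP'q1]
    simp [Q1, ψ]
  have he1Q : e1 ∉ Q1 := by simpa [Q1, e1] using heP'
  have he1 : IsIdempotentElem e1 := he.map ψ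
  -- the finite cyclic piece
  let C := (E' ⊗[R] S) ⧸ Ideal.span {1 - e1}
  have hmk : Ideal.Quotient.mk (Ideal.span {1 - e1}) e1 = 1 := by
    rw [← map_one (Ideal.Quotient.mk (Ideal.span {1 - e1})), Ideal.Quotient.eq,
      Ideal.mem_span_singleton]
    exact ⟨-1, by ring⟩
  haveI : Module.Finite E' C := by
    let π : E' ⊗[E] (E ⊗[R] S) →ₐ[E'] C := (Ideal.Quotient.mkₐ E' _).comp ψ.toAlgHom
    have hπe : IsUnit (π e) := by
      show IsUnit (Ideal.Quotient.mk _ e1); rw [hmk]; exact isUnit_one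
    let π' : Localization.Away e →ₐ[E'] C :=
      { IsLocalization.Away.lift (g := π.toRingHom) e hπe with
        commutes' := fun c => by
          rw [IsScalarTower.algebraMap_apply E' (E' ⊗[E] (E ⊗[R] S)) (Localization.Away e)]
          show IsLocalization.Away.lift (g := π.toRingHom) e hπe (algebraMap _ _ _) = _
          rw [IsLocalization.Away.lift_eq]
          exact π.commutes c }
    refine Module.Finite.of_surjective π'.toLinearMap fun c => ?_
    obtain ⟨u, rfl⟩ := Ideal.Quotient.mk_surjective c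
    refine ⟨algebraMap _ _ (ψ.symm u), (IsLocalization.Away.lift_eq e hπe _).trans ?_⟩
    show Ideal.Quotient.mk _ (ψ (ψ.symm u)) = _
    rw [AlgEquiv.apply_symm_apply]
  have hle : Ideal.span {1 - e1} ≤ Q1 := by
    rw [Ideal.span_singleton_le_iff_mem]
    refine (Ideal.IsPrime.mem_or_mem ‹Q1.IsPrime› (show e1 * (1 - e1) ∈ Q1 from ?_)).resolve_left he1Q
    rw [mul_sub, mul_one, he1.eq, sub_self]; exact Q1.zero_mem
  let QC : Ideal C := Q1.map (Ideal.Quotient.mk (Ideal.span {1 - e1}))
  haveI : QC.IsPrime :=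
    Ideal.map_isPrime_of_surjective Ideal.Quotient.mk_surjective (by rwa [Ideal.mk_ker])
  have hQC : ∀ x, Ideal.Quotient.mk _ x ∈ QC ↔ x ∈ Q1 := fun x => by
    rw [Ideal.mem_map_iff_of_surjective _ Ideal.Quotient.mk_surjective]
    refine ⟨fun ⟨y, hy, hyx⟩ => ?_, fun h => ⟨x, h, rfl⟩⟩
    have := Q1.sub_mem hy (hle (Ideal.Quotient.eq.mp hyx))
    simpa using this
  have hresU : ∀ u : E' ⊗[R] S, ∃ a : E', u - algebraMap E' _ a ∈ Q1 := by
    intro u
    induction u using TensorProduct.induction_on with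
    | zero => exact ⟨0, by simp⟩
    | tmul a s =>
      obtain ⟨b, hb⟩ := hres0 s
      refine ⟨a * algebraMap E E' b, ?_⟩
      rw [← hP'q1] at hb
      have hb' : ψ ((1 : E') ⊗ₜ[E] ((1 : E) ⊗ₜ[R] s - b ⊗ₜ[R] (1 : S))) ∈ Q1 := by
        simpa [Q1] using hb
      have := Q1.mul_mem_left (a ⊗ₜ[R] (1 : S)) hb'
      simpa [ψ, TensorProduct.tmul_sub, mul_sub, Algebra.smul_def,
        Algebra.TensorProduct.algebraMap_apply] using this
    | add x y hx hy =>
      obtain ⟨a, ha⟩ := hx; obtain ⟨b, hb⟩ := hy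
      exact ⟨a + b, by rw [map_add, add_sub_add_comm]; exact Q1.add_mem ha hb⟩
  haveI hQ1lo : Q1.LiesOver P := ⟨hQ1P.symm⟩
  haveI := formallyUnramified_localization_baseChange R S E' q Q1 hQ1q
  letI := Localization.AtPrime.algebraOfLiesOver P Q1
  haveI : Algebra.FiniteType E' (E' ⊗[R] S) := inferInstance
  have hmapeq := ((Algebra.isUnramifiedAt_iff_map_eq E' P Q1).mp ‹_›).2
  have huniqC : ∀ Q' : Ideal C, Q'.IsPrime → Q'.comap (algebraMap E' C) = P → Q' = QC := by
    intro Q' hQ' hQ'P
    let Q'' : Ideal (E' ⊗[E] (E ⊗[R] S)) :=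
      (Q'.comap (Ideal.Quotient.mk (Ideal.span {1 - e1}))).comap ψ.toRingHom
    haveI : Q''.IsPrime := Ideal.comap_isPrime _ _
    have hQ''lo : Q''.LiesOver P := ⟨by
      show P = Ideal.comap _ Q''
      rw [← hQ'P, Ideal.comap_comap, Ideal.comap_comap]
      congr 1
      exact ((Ideal.Quotient.mkₐ E' (Ideal.span {1 - e1})).comp ψ.toAlgHom).comp_algebraMap.symm⟩
    have heQ'' : e ∉ Q'' := fun h => hQ'.ne_top ((Ideal.eq_top_iff_one _).mpr (by
      rw [← hmk]; exact h))
    have h := huniq Q'' inferInstance hQ''lo heQ''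
    ext c
    obtain ⟨x, rfl⟩ := Ideal.Quotient.mk_surjective c
    rw [hQC]
    show _ ↔ ψ.symm x ∈ P'
    rw [← h]
    show _ ↔ Ideal.Quotient.mk _ (ψ (ψ.symm x)) ∈ Q'
    rw [AlgEquiv.apply_symm_apply]
  have hresC : ∀ c : C, ∃ a : E', c - algebraMap E' C a ∈ QC := by
    intro c
    obtain ⟨u, rfl⟩ := Ideal.Quotient.mk_surjective c
    obtain ⟨a, ha⟩ := hresU u
    exact ⟨a, (hQC (u - algebraMap E' _ a)).mpr ha⟩
  have hmaxC : ∀ x ∈ QC, ∃ t ∉ QC, t * x ∈ P.map (algebraMap E' C) := by
    intro x hx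
    obtain ⟨u, rfl⟩ := Ideal.Quotient.mk_surjective x
    have hu : algebraMap _ (Localization.AtPrime Q1) u ∈
        (P.map (algebraMap E' (E' ⊗[R] S))).map
          (algebraMap (E' ⊗[R] S) (Localization.AtPrime Q1)) := by
      rw [Ideal.map_map, ← IsScalarTower.algebraMap_eq, hmapeq]
      exact (IsLocalization.AtPrime.to_map_mem_maximal_iff _ Q1 u).mpr ((hQC u).mp hx)
    obtain ⟨⟨⟨i, hi⟩, t⟩, hit⟩ := (IsLocalization.mem_map_algebraMap_iff Q1.primeCompl _).mp hu
    rw [← map_mul, IsLocalization.eq_iff_exists Q1.primeCompl] at hit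
    obtain ⟨c, hc⟩ := hit
    refine ⟨Ideal.Quotient.mk _ ((c : E' ⊗[R] S) * t), fun h => (c * t).2 ((hQC _).mp h), ?_⟩
    rw [← map_mul, show (c : E' ⊗[R] S) * t * u = c * i by rw [← hc]; ring, map_mul]
    apply Ideal.mul_mem_left
    have := Ideal.mem_map_of_mem (Ideal.Quotient.mk (Ideal.span {1 - e1})) hi
    rwa [Ideal.map_map] at this
  obtain ⟨f, hfP, hf⟩ := exists_mul_mem_range E' C P QC huniqC hresC hmaxC
  -- localize at `f`
  let R' := Localization.Away f
  let χ0 : E' →+* Q1.ResidueField := algebraMap E' Q1.ResidueField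
  have hfu : IsUnit (χ0 f) := IsUnit.mk0 _ fun h => hfP (by
    rw [← hQ1P, Ideal.mem_comap, ← Ideal.algebraMap_residueField_eq_zero]
    rwa [← IsScalarTower.algebraMap_apply])
  let l' : R' →ₐ[R] Q1.ResidueField :=
    { IsLocalization.Away.lift (g := χ0) f hfu with
      commutes' := fun c => by
        rw [IsScalarTower.algebraMap_apply R E' R']
        show IsLocalization.Away.lift (g := χ0) f hfu (algebraMap _ _ _) = _
        rw [IsLocalization.Away.lift_eq, ← IsScalarTower.algebraMap_apply R E' Q1.ResidueField] }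
  let χ : R' ⊗[R] S →ₐ[R] Q1.ResidueField := Algebra.TensorProduct.lift l'
    ((IsScalarTower.toAlgHom R (E' ⊗[R] S) Q1.ResidueField).comp Algebra.TensorProduct.includeRight)
    (fun _ _ => Commute.all _ _)
  let Φ : E' ⊗[R] S →ₐ[R] R' ⊗[R] S :=
    Algebra.TensorProduct.map (IsScalarTower.toAlgHom R E' R') (AlgHom.id R S)
  have hχΦ : ∀ x, χ (Φ x) = algebraMap _ _ x := by
    intro x
    induction x using TensorProduct.induction_on with
    | zero => simp
    | tmul a s =>
      show l' (algebraMap E' R' a) * algebraMap _ _ ((1 : E') ⊗ₜ[R] s) = _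
      rw [show l' (algebraMap E' R' a) = χ0 a from IsLocalization.Away.lift_eq f hfu a,
        show χ0 a = algebraMap (E' ⊗[R] S) Q1.ResidueField (algebraMap E' _ a) from
          IsScalarTower.algebraMap_apply E' (E' ⊗[R] S) _ a, ← map_mul]
      simp [Algebra.TensorProduct.algebraMap_apply]
    | add x y hx hy => rw [map_add, map_add, map_add, hx, hy]
  let Q := RingHom.ker χ.toRingHom
  haveI : Q.IsPrime := RingHom.ker_isPrime _
  have hQq : Q.comap Algebra.TensorProduct.includeRight.toRingHom = q := by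
    rw [hQ1q]
    ext x
    simp [Q, χ, Ideal.algebraMap_residueField_eq_zero]
  haveI : Algebra.Etale E' R' := Algebra.Etale.of_isLocalizationAway f
  haveI : Algebra.Etale R R' := Algebra.Etale.comp R E' R'
  refine ⟨R', inferInstance, inferInstance, inferInstance, Q.comap (algebraMap R' (R' ⊗[R] S)),
    Ideal.comap_isPrime _ _, ⟨?_⟩, Φ e1, he1.map Φ, Q, inferInstance, rfl, hQq, ?_, ?_⟩
  · show _ = Ideal.comap _ (Ideal.comap _ Q)
    rw [← hQq]
    show Ideal.comap _ (Ideal.comap _ Q) = _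
    rw [Ideal.comap_comap, Ideal.comap_comap]
    congr 1
    exact Algebra.TensorProduct.includeRight.comp_algebraMap.trans
      (IsScalarTower.algebraMap_eq R R' (R' ⊗[R] S))
  · intro h
    have h' : χ (Φ e1) = 0 := h
    rw [hχΦ, Ideal.algebraMap_residueField_eq_zero] at h'
    exact he1Q h'
  · intro u
    induction u using TensorProduct.induction_on with
    | zero => exact ⟨0, by simp⟩
    | tmul a s =>
      obtain ⟨b, hb⟩ := hf (Ideal.Quotient.mk _ ((1 : E') ⊗ₜ[R] s))
      have hb' : (algebraMap E' _ f * (1 : E') ⊗ₜ[R] s - algebraMap E' _ b) * e1 = 0 := by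
        obtain ⟨w, hw⟩ := Ideal.mem_span_singleton.mp (Ideal.Quotient.eq.mp
          (show Ideal.Quotient.mk (Ideal.span {1 - e1}) (algebraMap E' _ f * (1 : E') ⊗ₜ[R] s) =
            Ideal.Quotient.mk _ (algebraMap E' _ b) from hb))
        rw [hw, mul_right_comm, sub_mul, one_mul, he1.eq, sub_self, zero_mul]
      have hb'' := congrArg Φ hb'
      have hΦa : ∀ c : E', Φ (algebraMap E' (E' ⊗[R] S) c) = algebraMap R' _ (algebraMap E' R' c) := by
        intro c; simp [Φ, Algebra.TensorProduct.algebraMap_apply]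
      rw [map_mul, map_sub, map_mul, map_zero, hΦa, hΦa] at hb''
      have hinv : algebraMap E' R' f * IsLocalization.Away.invSelf f = 1 :=
        IsLocalization.Away.mul_invSelf f
      refine ⟨a * IsLocalization.Away.invSelf f * algebraMap E' R' b, ?_⟩
      have h1 : a ⊗ₜ[R] s = algebraMap R' _ (a * IsLocalization.Away.invSelf f * algebraMap E' R' f) *
          Φ ((1 : E') ⊗ₜ[R] s) := by
        rw [mul_assoc, mul_comm (IsLocalization.Away.invSelf f), hinv, mul_one,
          ← Algebra.smul_def]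
        simp [Φ, TensorProduct.smul_tmul']
      rw [h1]
      simp only [map_mul]
      linear_combination (algebraMap R' (R' ⊗[R] S) a *
        algebraMap R' (R' ⊗[R] S) (IsLocalization.Away.invSelf f)) * hb''
    | add x y hx hy =>
      obtain ⟨a, ha⟩ := hx; obtain ⟨b, hb⟩ := hy
      exact ⟨a + b, by rw [map_add]; linear_combination ha + hb⟩

end Groth.Agent.EtaleAlgebra.UnramifiedSplitAlg
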