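import Mathlib
import Groth.Agent.EtaleAlgebra.UnramifiedSplitAlg

/-! Etale-local product decompositions of unramified algebras. -/

universe u

namespace Groth.Agent.EtaleAlgebra.UnramifiedSplitProd

open scoped TensorProduct

/-- One split-off closed piece. -/
theorem exists_split_one (R S : Type u) [CommRing R] [CommRing S] [Algebra R S]
    [Algebra.FiniteType R S] (q : Ideal S) [q.IsPrime] [Algebra.IsUnramifiedAt R q] :
    ∃ (R' : Type u) (_ : CommRing R') (_ : Algebra R R') (_ : Algebra.Etale R R') (p' : Ideal R')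
      (_ : p'.IsPrime) (_ : p'.LiesOver (q.under R)) (K : Ideal R') (I : Ideal (R' ⊗[R] S))
      (ε : (R' ⊗[R] S) ≃ₐ[R'] (R' ⧸ K) × ((R' ⊗[R] S) ⧸ I)), K ≤ p' ∧
      (∀ u, (ε u).2 = Ideal.Quotient.mk I u) ∧
      (∀ s : S, (ε ((1 : R') ⊗ₜ[R] s)).1 ∈ p'.map (Ideal.Quotient.mk K) ↔ s ∈ q) ∧
      ∃ (e : R' ⊗[R] S) (Q : Ideal (R' ⊗[R] S)), Q.IsPrime ∧
        Q.comap (algebraMap R' _) = p' ∧ e ∈ I ∧ e ∉ Q := by
  obtain ⟨R', _, _, _, p', _, _, e, he, Q, hQ, hQp, hQq, heQ, hsurj⟩ :=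
    UnramifiedSplitAlg.exists_etale_idempotent R S q
  let C := (R' ⊗[R] S) ⧸ Ideal.span {1 - e}
  have hsurjC : Function.Surjective (Algebra.ofId R' C) := by
    intro c
    obtain ⟨u, rfl⟩ := Ideal.Quotient.mk_surjective c
    obtain ⟨a, ha⟩ := hsurj u
    refine ⟨a, Ideal.Quotient.eq.mpr (Ideal.mem_span_singleton.mpr ⟨algebraMap R' _ a - u, ?_⟩)⟩
    linear_combination -ha
  have hle : Ideal.span {1 - e} ≤ Q := by
    rw [Ideal.span_singleton_le_iff_mem]
    exact (hQ.mem_or_mem (show e * (1 - e) ∈ Q by rw [mul_sub, mul_one, he.eq, sub_self]; exact Q.zero_mem)).resolve_left heQ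
  let K := RingHom.ker (Algebra.ofId R' C)
  have hK : K ≤ p' := fun a ha => by
    rw [← hQp]
    exact hle (Ideal.Quotient.eq_zero_iff_mem.mp ha)
  let ε0 := AlgEquiv.prodQuotientOfIsIdempotentElem R' he.one_sub he (by ring)
    (by rw [sub_mul, one_mul, he.eq, sub_self])
  let κ : (R' ⧸ K) ≃ₐ[R'] C := Ideal.quotientKerAlgEquivOfSurjective hsurjC
  refine ⟨R', inferInstance, inferInstance, inferInstance, p', inferInstance, inferInstance, K,
    Ideal.span {e}, ε0.trans (AlgEquiv.prodCongr κ.symm AlgEquiv.refl), hK, fun u => rfl, fun s => ?_,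
    e, Q, hQ, hQp, Ideal.mem_span_singleton_self e, heQ⟩
  obtain ⟨a, ha⟩ := hsurj ((1 : R') ⊗ₜ[R] s)
  have h1 : (1 : R') ⊗ₜ[R] s - algebraMap R' _ a ∈ Ideal.span {1 - e} :=
    Ideal.mem_span_singleton.mpr ⟨(1 : R') ⊗ₜ[R] s - algebraMap R' _ a, by linear_combination ha⟩
  have h2 : κ.symm (Ideal.Quotient.mk (Ideal.span {1 - e}) ((1 : R') ⊗ₜ[R] s)) =
      Ideal.Quotient.mk K a := by
    rw [AlgEquiv.symm_apply_eq, Ideal.Quotient.eq.mpr h1]
    rfl
  show κ.symm (Ideal.Quotient.mk _ ((1 : R') ⊗ₜ[R] s)) ∈ _ ↔ _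
  rw [h2, ← hQq, Ideal.mem_comap, ← Ideal.mem_comap (f := Ideal.Quotient.mk K),
    Ideal.comap_map_of_surjective _ Ideal.Quotient.mk_surjective, ← RingHom.ker_eq_comap_bot,
    Ideal.mk_ker, sup_eq_left.mpr hK, ← hQp, Ideal.mem_comap]
  refine ⟨fun h => ?_, fun h => ?_⟩
  · simpa using Q.add_mem (hle h1) h
  · simpa using Q.sub_mem h (hle h1)

/-- Full splitting at a prime of the base for unramified algebras. -/
theorem exists_split_all : ∀ (d : ℕ) (R S : Type u) [CommRing R] [CommRing S] [Algebra R S]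
    [Algebra.Unramified R S] (p : Ideal R) [p.IsPrime],
    Module.finrank p.ResidueField (p.ResidueField ⊗[R] S) = d →
    ∃ (R' : Type u) (_ : CommRing R') (_ : Algebra R R') (_ : Algebra.Etale R R') (p' : Ideal R')
      (_ : p'.IsPrime) (_ : p'.LiesOver p) (n : ℕ) (K : Fin n → Ideal R') (B : Type u)
      (_ : CommRing B) (_ : Algebra R' B),
      Nonempty ((R' ⊗[R] S) ≃ₐ[R'] ((∀ i, R' ⧸ K i) × B)) ∧ (∀ i, K i ≤ p') ∧
        ∀ (Q : Ideal B) [Q.IsPrime], Q.comap (algebraMap R' B) ≠ p' := by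
  intro d
  induction d using Nat.strong_induction_on with
  | _ d ih => ?_
  intro R S _ _ _ _ p _ hd
  by_cases hex : ∃ q : Ideal S, q.IsPrime ∧ q.comap (algebraMap R S) = p
  swap
  · refine ⟨R, inferInstance, inferInstance, inferInstance, p, inferInstance, ⟨rfl⟩, 0, fun i => i.elim0,
      R ⊗[R] S, inferInstance, inferInstance, ⟨?_⟩, fun i => i.elim0, fun Q hQ h => hex ?_⟩
    · exact AlgEquiv.ofBijective
        ((Pi.algHom R _ (fun i : Fin 0 => i.elim0)).prod (AlgHom.id R _))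
        ⟨fun x y h => congrArg Prod.snd h, fun x => ⟨x.2, Prod.ext (funext fun i => i.elim0) rfl⟩⟩
    · refine ⟨Q.comap Algebra.TensorProduct.includeRight.toRingHom, Ideal.comap_isPrime _ Q, ?_⟩
      rw [Ideal.comap_comap, ← h]
      congr 1
      exact Algebra.TensorProduct.includeRight.comp_algebraMap
  obtain ⟨q, hq, hqp⟩ := hex
  haveI : Algebra.IsUnramifiedAt R q := Algebra.FormallyUnramified.comp R S _
  obtain ⟨R₁, _, _, _, p₁, _, hp₁, K₀, I, ε, hK₀, hε, -, e, Q, hQ, hQp, heI, heQ⟩ :=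
    exists_split_one R S q
  haveI : p₁.LiesOver p := ⟨by rw [← hqp]; exact hp₁.over⟩
  let B₁ := (R₁ ⊗[R] S) ⧸ I
  haveI : Algebra.Unramified R₁ B₁ :=
    { formallyUnramified := Algebra.FormallyUnramified.of_surjective (Ideal.Quotient.mkₐ R₁ I)
        Ideal.Quotient.mk_surjective
      finiteType := inferInstance }
  letI : Algebra p.ResidueField p₁.ResidueField :=
    (Ideal.ResidueField.mapₐ p p₁ (Algebra.ofId R R₁) (p₁.over_def p)).toRingHom.toAlgebra
  haveI : IsScalarTower R p.ResidueField p₁.ResidueField := IsScalarTower.of_algebraMap_eq fun x =>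
    ((Ideal.ResidueField.mapₐ p p₁ (Algebra.ofId R R₁) (p₁.over_def p)).commutes x).symm
  haveI : Module.Finite p.ResidueField (p.ResidueField ⊗[R] S) :=
    Algebra.FormallyUnramified.finite_of_free p.ResidueField _
  haveI : Module.Finite p₁.ResidueField (p₁.ResidueField ⊗[R₁] (R₁ ⊗[R] S)) :=
    Algebra.FormallyUnramified.finite_of_free p₁.ResidueField _
  have hdim : Module.finrank p₁.ResidueField (p₁.ResidueField ⊗[R₁] (R₁ ⊗[R] S)) = d := by
    rw [(TensorProduct.AlgebraTensorModule.cancelBaseChange R R₁ p₁.ResidueField p₁.ResidueField S).finrank_eq,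
      ← (TensorProduct.AlgebraTensorModule.cancelBaseChange R p.ResidueField p₁.ResidueField p₁.ResidueField S).finrank_eq,
      Module.finrank_baseChange, hd]
  let π := LinearMap.baseChange p₁.ResidueField (Ideal.Quotient.mkₐ R₁ I).toLinearMap
  have hlt : Module.finrank p₁.ResidueField (p₁.ResidueField ⊗[R₁] B₁) < d := by
    have hπ : Function.Surjective π := LinearMap.lTensor_surjective _ Ideal.Quotient.mk_surjective
    have hne : LinearMap.ker π ≠ ⊥ := by
      intro hbot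
      have hmem : (1 : p₁.ResidueField) ⊗ₜ[R₁] e ∈ LinearMap.ker π := by
        simp [π, Ideal.Quotient.eq_zero_iff_mem.mpr heI]
      rw [hbot, Submodule.mem_bot] at hmem
      let χ : p₁.ResidueField ⊗[R₁] (R₁ ⊗[R] S) →ₐ[R₁] Q.ResidueField :=
        Algebra.TensorProduct.lift (Ideal.ResidueField.mapₐ p₁ Q (Algebra.ofId R₁ _) hQp.symm)
          (IsScalarTower.toAlgHom R₁ (R₁ ⊗[R] S) Q.ResidueField) (fun _ _ => Commute.all _ _)
      have := congrArg χ hmem
      simp [χ, Ideal.algebraMap_residueField_eq_zero, heQ] at this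
    have := LinearMap.finrank_range_add_finrank_ker π
    rw [LinearMap.range_eq_top.mpr hπ, finrank_top, hdim] at this
    have hpos : 0 < Module.finrank p₁.ResidueField (LinearMap.ker π) :=
      Nat.pos_of_ne_zero fun h => hne (Submodule.finrank_eq_zero.mp h)
    exact (Nat.lt_add_of_pos_right hpos).trans_eq this
  obtain ⟨R₂, _, _, _, p₂, _, hp₂, n, K, B, _, _, ⟨ε₂⟩, hK, hB⟩ := ih _ hlt R₁ B₁ p₁ rfl
  letI : Algebra R R₂ := ((algebraMap R₁ R₂).comp (algebraMap R R₁)).toAlgebra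
  haveI : IsScalarTower R R₁ R₂ := IsScalarTower.of_algebraMap_eq' rfl
  haveI : Algebra.Etale R R₂ := Algebra.Etale.comp R R₁ R₂
  let K' : Fin (n + 1) → Ideal R₂ := Fin.cons (K₀.map (algebraMap R₁ R₂)) K
  refine ⟨R₂, inferInstance, inferInstance, inferInstance, p₂, inferInstance,
    Ideal.LiesOver.trans p₂ p₁ p, n + 1, K', B, inferInstance, inferInstance, ⟨?_⟩, ?_, hB⟩
  · let c : ((∀ i, R₂ ⧸ K' i) × B) →ₐ[R₂]
        (R₂ ⧸ K₀.map (algebraMap R₁ R₂)) × ((∀ i, R₂ ⧸ K i) × B) :=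
      ((Pi.evalAlgHom R₂ (fun i => R₂ ⧸ K' i) 0).comp (AlgHom.fst R₂ _ B)).prod
        (((Pi.algHom R₂ _ (fun i : Fin n => Pi.evalAlgHom R₂ (fun i => R₂ ⧸ K' i) i.succ)).comp
          (AlgHom.fst R₂ _ B)).prod (AlgHom.snd R₂ _ B))
    have hc : Function.Bijective c := by
      refine ⟨fun x y h => Prod.ext (funext fun i => ?_) (congrArg (fun z => z.2.2) h),
        fun ⟨a, b, z⟩ => ⟨(Fin.cons (α := fun i => R₂ ⧸ K' i) a b, z), rfl⟩⟩
      refine Fin.cases ?_ (fun j => ?_) i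
      · exact congrArg Prod.fst h
      · exact congrFun (congrArg (fun z => z.2.1) h) j
    exact (Algebra.TensorProduct.cancelBaseChange R R₁ R₂ R₂ S).symm.trans
      ((Algebra.TensorProduct.congr AlgEquiv.refl ε).trans
        ((Algebra.TensorProduct.prodRight R₁ R₂ R₂ (R₁ ⧸ K₀) B₁).trans
          ((AlgEquiv.prodCongr (Algebra.TensorProduct.quotIdealMapEquivTensorQuot R₂ K₀).symm ε₂).trans
            (AlgEquiv.ofBijective c hc).symm)))
  · refine Fin.cases ?_ (fun j => ?_)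
    · show K₀.map (algebraMap R₁ R₂) ≤ p₂
      rw [Ideal.map_le_iff_le_comap]
      exact hK₀.trans (p₂.over_def p₁).le
    · exact hK j

end Groth.Agent.EtaleAlgebra.UnramifiedSplitProd
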