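import Mathlib.RingTheory.Flat.TorsionFree
import Mathlib.RingTheory.Flat.Rank
import Mathlib.RingTheory.Valuation.ValuationRing
import Mathlib.RingTheory.Localization.Finiteness
import Mathlib.RingTheory.Localization.AtPrime.Basic
import Mathlib.RingTheory.Ideal.MinimalPrime.Basic
import Mathlib.RingTheory.Ideal.GoingUp
import Mathlib.RingTheory.Ideal.Quotient.Operations
import Mathlib.RingTheory.Finiteness.Quotient
import Mathlib.RingTheory.Noetherian.Basic
import Mathlib.LinearAlgebra.FiniteDimensional.Basic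
import Mathlib.Algebra.Field.Basic
import Mathlib.RingTheory.OrzechProperty
import Mathlib.Tactic.LinearCombination

set_option autoImplicit false

/-!
# Contents of elements of finite algebras over valuation rings

Let `R` be a domain finite over a valuation ring `A` and `m` a prime over the maximal ideal such
that below `m` every prime is locally the extension of its contraction. Then every nonzero element
is, up to factors outside `m`, an element of `A`.
-/

universe u

namespace Groth.EtaleAlgebra.ValuationContent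

section Basics

variable (A : Type u) [CommRing A] [IsDomain A] [ValuationRing A]

theorem valuationRing_quotient (p : Ideal A) [p.IsPrime] : ValuationRing (A ⧸ p) := by
  rw [ValuationRing.iff_dvd_total]
  refine ⟨fun x y => ?_⟩
  obtain ⟨a, rfl⟩ := Ideal.Quotient.mk_surjective x
  obtain ⟨b, rfl⟩ := Ideal.Quotient.mk_surjective y
  rcases ValuationRing.dvd_total a b with h | h
  · exact Or.inl (map_dvd _ h)
  · exact Or.inr (map_dvd _ h)

theorem valuationRing_localization (p : Ideal A) [p.IsPrime] :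
    ValuationRing (Localization.AtPrime p) := by
  rw [ValuationRing.iff_dvd_total]
  refine ⟨fun x y => ?_⟩
  obtain ⟨a, s, rfl⟩ := IsLocalization.exists_mk'_eq p.primeCompl x
  obtain ⟨b, t, rfl⟩ := IsLocalization.exists_mk'_eq p.primeCompl y
  have hu : ∀ (c : A) (r : p.primeCompl), Associated (IsLocalization.mk' (Localization.AtPrime p) c r)
      (algebraMap A (Localization.AtPrime p) c) := fun c r =>
    ⟨(IsLocalization.map_units _ r).unit, by simp [IsLocalization.mk'_spec]⟩
  rw [(hu a s).dvd_iff_dvd_left, (hu b t).dvd_iff_dvd_right, (hu b t).dvd_iff_dvd_left,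
    (hu a s).dvd_iff_dvd_right]
  rcases ValuationRing.dvd_total a b with h | h
  · exact Or.inl (map_dvd _ h)
  · exact Or.inr (map_dvd _ h)

theorem free_of_domain (R : Type u) [CommRing R] [IsDomain R] [Algebra A R] [Module.Finite A R]
    [FaithfulSMul A R] : Module.Free A R := by
  have : Module.Flat A R := Module.Flat.flat_iff_torsion_eq_bot_of_isBezout.2
    (Submodule.isTorsionFree_iff_torsion_eq_bot.1 inferInstance)
  exact Module.free_of_flat_of_isLocalRing

variable {A} {R : Type u} [CommRing R] [Algebra A R] {ι : Type*} (b : Module.Basis ι A R)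

omit [IsDomain A] [ValuationRing A] in
theorem repr_mem_of_mem_map {I : Ideal A} {x : R} (hx : x ∈ I.map (algebraMap A R)) :
    ∀ i, b.repr x i ∈ I := by
  suffices h : ∀ c : R, ∀ i, b.repr (c * x) i ∈ I by simpa using h 1
  induction hx using Submodule.span_induction with
  | mem x hx =>
    obtain ⟨a, ha, rfl⟩ := hx
    intro c i
    rw [mul_comm, ← Algebra.smul_def, map_smul]
    exact I.mul_mem_right _ ha
  | zero => simp
  | add x y _ _ hx hy =>
    intro c i
    rw [mul_add, map_add]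
    exact I.add_mem (hx c i) (hy c i)
  | smul r x _ hx => intro c i; rw [smul_eq_mul, ← mul_assoc]; exact hx (c * r) i

/-- The content of a nonzero element. -/
theorem exists_content {h : R} (hh : h ≠ 0) :
    ∃ (a : A) (h' : R) (i : ι), h = algebraMap A R a * h' ∧ b.repr h' i = 1 ∧ a ≠ 0 := by
  classical
  have hne : (b.repr h).support.Nonempty := by
    rw [Finsupp.support_nonempty_iff]
    simpa using hh
  have hmin : ∀ s : Finset ι, s.Nonempty → ∃ i ∈ s, ∀ j ∈ s, b.repr h i ∣ b.repr h j := by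
    intro s hs
    induction hs using Finset.Nonempty.cons_induction with
    | singleton i => exact ⟨i, by simp, by simp⟩
    | cons i s hi _ ih =>
      obtain ⟨j, hj, hjd⟩ := ih
      rcases ValuationRing.dvd_total (b.repr h i) (b.repr h j) with hd | hd
      · refine ⟨i, by simp, fun k hk => ?_⟩
        rcases Finset.mem_cons.1 hk with rfl | hk
        · exact dvd_rfl
        · exact hd.trans (hjd k hk)
      · refine ⟨j, by simp [hj], fun k hk => ?_⟩
        rcases Finset.mem_cons.1 hk with rfl | hk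
        · exact hd
        · exact hjd k hk
  obtain ⟨i, hi, hid⟩ := hmin _ hne
  have hall : ∀ j, ∃ q, b.repr h j = b.repr h i * q := fun j => by
    by_cases hj : j ∈ (b.repr h).support
    · exact hid j hj
    · exact ⟨0, by rw [mul_zero]; exact Finsupp.notMem_support_iff.1 hj⟩
  choose q hq using hall
  have hi0 : b.repr h i ≠ 0 := Finsupp.mem_support_iff.1 hi
  let c : ι →₀ A := Finsupp.onFinset (b.repr h).support
    (fun j => if j ∈ (b.repr h).support then q j else 0) (fun j hj => by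
      by_contra hj'
      exact hj (if_neg hj'))
  refine ⟨b.repr h i, b.repr.symm c, i, b.repr.injective (Finsupp.ext fun j => ?_), ?_, hi0⟩
  · rw [← Algebra.smul_def, map_smul, LinearEquiv.apply_symm_apply, Finsupp.smul_apply, smul_eq_mul]
    show _ = _ * (if j ∈ (b.repr h).support then q j else 0)
    split_ifs with hj
    · exact hq j
    · rw [mul_zero]; exact Finsupp.notMem_support_iff.1 hj
  · rw [LinearEquiv.apply_symm_apply]
    show (if i ∈ (b.repr h).support then q i else 0) = 1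
    rw [if_pos hi]
    exact mul_left_cancel₀ hi0 (by rw [mul_one, ← hq i])

omit [IsDomain A] in
theorem notMem_map_of_repr_eq_one {I : Ideal A} (hI : I ≠ ⊤) {x : R} {i : ι}
    (hi : b.repr x i = 1) : x ∉ I.map (algebraMap A R) := fun hx =>
  hI ((Ideal.eq_top_iff_one I).2 (hi ▸ repr_mem_of_mem_map b hx i))

end Basics

open IsLocalRing

/-- The step at a prime over the maximal ideal which is minimal over `h`. -/
theorem exists_mul_eq_of_minimal {A : Type u} [CommRing A] [IsDomain A] [ValuationRing A]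
    {R : Type u} [CommRing R] [IsDomain R] [Algebra A R] [Module.Finite A R] [FaithfulSMul A R]
    (P : Ideal R) [P.IsPrime] (hP : P.comap (algebraMap A R) = maximalIdeal A)
    (hunr : ∀ x ∈ P, ∃ u, u ∉ P ∧ u * x ∈ (maximalIdeal A).map (algebraMap A R))
    {h : R} (hh : h ≠ 0) (hhP : h ∈ P)
    (hmin : ∀ Q : Ideal R, Q.IsPrime → Q ≤ P → h ∈ Q → Q = P) :
    ∃ (c : A) (u v : R), u ∉ P ∧ v ∉ P ∧ u * h = algebraMap A R c * v := by
  classical
  have := free_of_domain A R
  let b := Module.Free.chooseBasis A R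
  let φ := algebraMap A R
  have hφ : Function.Injective φ := FaithfulSMul.algebraMap_injective A R
  have hrad : ∀ x ∈ P, ∃ (N : ℕ) (u : R), u ∉ P ∧ u * x ^ N ∈ Ideal.span {h} := by
    intro x hx
    by_contra! H
    obtain ⟨Q, hQ, hhQ, hQd⟩ := Ideal.exists_le_prime_disjoint (Ideal.span {h})
      (P.primeCompl ⊔ Submonoid.powers x) (by
        rw [Set.disjoint_left]
        intro y hy hy'
        obtain ⟨u, hu, _, ⟨N, rfl⟩, rfl⟩ := Submonoid.mem_sup.1 hy'
        exact H N u hu hy)
    have hQP : Q ≤ P := fun y hy => by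
      by_contra hyP
      exact Set.disjoint_left.1 hQd hy (Submonoid.mem_sup_left hyP)
    have hQe := hmin Q hQ hQP (hhQ (Ideal.mem_span_singleton_self h))
    exact Set.disjoint_left.1 hQd (hQe.symm ▸ hx : x ∈ Q)
      (Submonoid.mem_sup_right (Submonoid.mem_powers x))
  obtain ⟨u₀, hu₀, hu₀h⟩ := hunr h hhP
  have hu₀0 : u₀ * h ≠ 0 := mul_ne_zero (fun e => hu₀ (e ▸ P.zero_mem)) hh
  obtain ⟨t, z₀, i₀, hz₀, hi₀, ht0⟩ := exists_content b hu₀0
  have htm : t ∈ maximalIdeal A := by
    have := repr_mem_of_mem_map b hu₀h i₀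
    rwa [hz₀, ← Algebra.smul_def, map_smul, Finsupp.smul_apply, hi₀, smul_eq_mul, mul_one] at this
  have htP : φ t ∈ P := by rw [← hP] at htm; exact htm
  obtain ⟨N, u₁, hu₁, hu₁t⟩ := hrad (φ t) htP
  obtain ⟨y, hy⟩ := Ideal.mem_span_singleton'.1 hu₁t
  let a₀ : A := t ^ (N + 1)
  have hdvd : ∀ u, u ∉ P → ¬ φ a₀ ∣ u * h := by
    rintro u hu ⟨z, hz⟩
    have ha0 : φ a₀ ≠ 0 := (map_ne_zero_iff φ hφ).2 (pow_ne_zero _ ht0)
    have h1 : φ a₀ * (u * u₁) = φ a₀ * (φ t * (y * z)) := by
      calc φ a₀ * (u * u₁) = u * φ t * (u₁ * φ t ^ N) := by simp only [a₀, map_pow]; ring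
        _ = u * φ t * (y * h) := by rw [hy]
        _ = φ t * y * (u * h) := by ring
        _ = φ t * y * (φ a₀ * z) := by rw [hz]
        _ = φ a₀ * (φ t * (y * z)) := by ring
    exact (P.primeCompl.mul_mem hu hu₁) (mul_left_cancel₀ ha0 h1 ▸ P.mul_mem_right _ htP)
  have hpow : ∀ x ∈ maximalIdeal A, ∃ M : ℕ, a₀ ∣ x ^ M := by
    intro x hx
    obtain ⟨M, u', hu', hu'x⟩ := hrad (φ x) (by rw [← hP] at hx; exact hx)
    obtain ⟨y', hy'⟩ := Ideal.mem_span_singleton'.1 hu'x
    refine ⟨M * (N + 1), ?_⟩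
    rw [pow_mul]
    refine pow_dvd_pow_of_dvd ?_ _
    rcases ValuationRing.dvd_total t (x ^ M) with hd | ⟨k, hk⟩
    · exact hd
    · by_cases hku : IsUnit k
      · exact hk ▸ (hku.mul_right_dvd.2 dvd_rfl)
      exfalso
      have h1 : φ (x ^ M) * (u₀ * u') = φ (x ^ M) * (φ k * (z₀ * y')) := by
        calc φ (x ^ M) * (u₀ * u') = u₀ * (u' * φ x ^ M) := by rw [map_pow]; ring
          _ = y' * (u₀ * h) := by rw [← hy']; ring
          _ = y' * (φ (x ^ M * k) * z₀) := by rw [hz₀, hk]
          _ = φ (x ^ M) * (φ k * (z₀ * y')) := by rw [map_mul]; ring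
      have hxM : φ (x ^ M) ≠ 0 :=
        (map_ne_zero_iff φ hφ).2 fun e => ht0 (by rw [hk, e, zero_mul])
      refine (P.primeCompl.mul_mem hu₀ hu') (mul_left_cancel₀ hxM h1 ▸ P.mul_mem_right _ ?_)
      have : k ∈ maximalIdeal A := (mem_maximalIdeal k).2 hku
      rw [← hP] at this
      exact this
  -- primes containing `a₀` are maximal
  let J : Ideal R := Ideal.span {φ a₀}
  have : Algebra.IsIntegral A R := inferInstance
  have hmaxQ : ∀ Q : Ideal R, Q.IsPrime → J ≤ Q → Q.IsMaximal := by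
    intro Q hQ hJQ
    have hc : Q.comap φ = maximalIdeal A := by
      refine le_antisymm (le_maximalIdeal (Ideal.IsPrime.ne_top inferInstance)) fun x hx => ?_
      obtain ⟨M, k, hk⟩ := hpow x hx
      refine hQ.mem_of_pow_mem M ?_
      rw [← map_pow, hk, map_mul]
      exact Q.mul_mem_right _ (hJQ (Ideal.mem_span_singleton_self _))
    exact Ideal.isMaximal_of_isIntegral_of_isMaximal_comap Q (hc ▸ maximalIdeal.isMaximal A)
  -- an element killing `P` modulo the maximal ideal
  obtain ⟨u, hu, huP⟩ : ∃ u, u ∉ P ∧ ∀ x ∈ P, u * x ∈ (maximalIdeal A).map φ := by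
    let mR : Ideal R := (maximalIdeal A).map φ
    let _ : Algebra (A ⧸ maximalIdeal A) (R ⧸ mR) := Ideal.Quotient.algebraQuotientMapQuotient
    have : IsScalarTower A (A ⧸ maximalIdeal A) (R ⧸ mR) := .of_algebraMap_eq fun _ => rfl
    have : Module.Finite (A ⧸ maximalIdeal A) (R ⧸ mR) :=
      Module.Finite.of_restrictScalars_finite A _ _
    let _ := Ideal.Quotient.field (maximalIdeal A)
    have : IsNoetherianRing (R ⧸ mR) := IsNoetherianRing.of_finite (A ⧸ maximalIdeal A) _
    obtain ⟨s, hs⟩ := (inferInstance : IsNoetherian (R ⧸ mR) (R ⧸ mR)).noetherian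
      (P.map (Ideal.Quotient.mk mR))
    have hle : mR ≤ P := Ideal.map_le_iff_le_comap.2 hP.ge
    have hlift : ∀ g : (R ⧸ mR), g ∈ s → ∃ u, u ∉ P ∧ Ideal.Quotient.mk mR u * g = 0 := by
      intro g hg
      have : g ∈ P.map (Ideal.Quotient.mk mR) := hs ▸ Submodule.subset_span hg
      obtain ⟨x, hx, rfl⟩ := (Ideal.mem_map_iff_of_surjective _ Ideal.Quotient.mk_surjective).1 this
      obtain ⟨u, hu, hux⟩ := hunr x hx
      exact ⟨u, hu, by rw [← map_mul]; exact Ideal.Quotient.eq_zero_iff_mem.2 hux⟩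
    choose uf huf hufz using hlift
    refine ⟨∏ g : s, uf g.1 g.2, fun hmem => ?_, fun x hx => ?_⟩
    · obtain ⟨g, -, hg⟩ := Ideal.IsPrime.prod_mem_iff.1 hmem
      exact huf _ g.2 hg
    · rw [← Ideal.Quotient.eq_zero_iff_mem, map_mul]
      have hxs : Ideal.Quotient.mk mR x ∈ Submodule.span (R ⧸ mR) (s : Set (R ⧸ mR)) :=
        hs.symm ▸ Ideal.mem_map_of_mem _ hx
      generalize Ideal.Quotient.mk mR x = g at hxs ⊢
      induction hxs using Submodule.span_induction with
      | mem g hg =>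
        rw [map_prod, ← Finset.prod_erase_mul _ _ (Finset.mem_univ (⟨g, hg⟩ : s)), mul_assoc,
          hufz g hg, mul_zero]
      | zero => exact mul_zero _
      | add a c _ _ ha hc => rw [mul_add, ha, hc, add_zero]
      | smul r a _ ha => rw [smul_eq_mul, mul_left_comm, ha, mul_zero]
  -- an idempotent modulo `a₀`
  obtain ⟨e, he, hee, k, hek⟩ : ∃ e, e ∉ P ∧ e * (1 - e) ∈ J ∧ ∃ k, e = u * k := by
    let q : R →+* R ⧸ J := Ideal.Quotient.mk J
    obtain ⟨n, r, hnr⟩ : ∃ (n : ℕ) (r : R), q (u ^ n * (1 + r * u)) = 0 := by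
      let S : Submonoid (R ⧸ J) := Submonoid.powers (q u) ⊔
        { carrier := {x | ∃ r, x = 1 + r * q u}
          one_mem' := ⟨0, by simp⟩
          mul_mem' := by
            rintro _ _ ⟨r, rfl⟩ ⟨r', rfl⟩
            exact ⟨r + r' + r * r' * q u, by ring⟩ }
      have h0 : (0 : R ⧸ J) ∈ S := by
        by_contra h0
        obtain ⟨Q, hQ, -, hQd⟩ := Ideal.exists_le_prime_disjoint (⊥ : Ideal (R ⧸ J)) S (by
          rw [Set.disjoint_left]
          intro x hx
          rw [SetLike.mem_coe, Ideal.mem_bot] at hx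
          exact hx ▸ h0)
        have hQmax : Q.IsMaximal := by
          have := hmaxQ (Q.comap q) inferInstance fun x hx => by
            rw [Ideal.mem_comap, show q x = 0 from Ideal.Quotient.eq_zero_iff_mem.2 hx]
            exact Q.zero_mem
          rw [← Ideal.map_comap_of_surjective q Ideal.Quotient.mk_surjective Q]
          exact Ideal.IsMaximal.map_of_surjective_of_ker_le Ideal.Quotient.mk_surjective
            (by rw [Ideal.mk_ker]; intro x hx; rw [Ideal.mem_comap, show q x = 0 from Ideal.Quotient.eq_zero_iff_mem.2 hx]; exact Q.zero_mem)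
        have huQ : q u ∉ Q := fun hm => Set.disjoint_left.1 hQd hm
          (Submonoid.mem_sup_left (Submonoid.mem_powers _))
        obtain ⟨r, w, hw, hrw⟩ := hQmax.exists_inv huQ
        exact Set.disjoint_left.1 hQd hw (Submonoid.mem_sup_right ⟨-r, by linear_combination hrw⟩)
      obtain ⟨_, ⟨n, rfl⟩, _, ⟨r, rfl⟩, hprod⟩ := Submonoid.mem_sup.1 h0
      obtain ⟨r, rfl⟩ := Ideal.Quotient.mk_surjective r
      exact ⟨n, r, by rw [map_mul, map_pow, map_add, map_one, map_mul]; exact hprod⟩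
    let w : R := -(r * u)
    have hnr' : u ^ n * (1 + r * u) ∈ J := Ideal.Quotient.eq_zero_iff_mem.1 hnr
    have hstep : ∀ j : ℕ, u ^ n * (1 - w ^ j) ∈ J := by
      intro j
      induction j with
      | zero => simp
      | succ j ih =>
        rw [show u ^ n * (1 - w ^ (j + 1)) = u ^ n * (1 - w ^ j) + w ^ j * (u ^ n * (1 + r * u)) by
          simp only [w]; ring]
        exact J.add_mem ih (J.mul_mem_left _ hnr')
    have hJP : J ≤ P := (Ideal.span_singleton_le_iff_mem P).2 (by
      simp only [a₀, map_pow]; exact P.pow_mem_of_mem htP _ (Nat.succ_pos N))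
    refine ⟨w ^ (n + 1), fun hmem => ?_, ?_, (-r) * w ^ n, by simp only [w]; ring⟩
    · have h1 : w ∈ P := ‹P.IsPrime›.mem_of_pow_mem _ hmem
      have h2 := (‹P.IsPrime›.mem_or_mem (hJP hnr')).resolve_left fun hun =>
        hu (‹P.IsPrime›.mem_of_pow_mem _ hun)
      refine ‹P.IsPrime›.one_notMem ?_
      have := P.add_mem h1 h2
      simpa [w] using this
    · rw [show w ^ (n + 1) * (1 - w ^ (n + 1)) = (-r) ^ n * w * (u ^ n * (1 - w ^ (n + 1))) by
        simp only [w]; ring]
      exact J.mul_mem_left _ (hstep _)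
  have heh : e * h ≠ 0 := mul_ne_zero (fun h' => he (h' ▸ P.zero_mem)) hh
  obtain ⟨c, v, i, hcv, hvi, hc0⟩ := exists_content b heh
  refine ⟨c, e, v, he, fun hvP => ?_, hcv⟩
  have hca : ¬ a₀ ∣ c := fun ⟨d, hd⟩ => hdvd e he ⟨φ d * v, by rw [hcv, hd, map_mul]; ring⟩
  have hve : e * v ∈ (maximalIdeal A).map φ := by
    rw [hek, mul_right_comm]; exact Ideal.mul_mem_right _ _ (huP v hvP)
  -- `c v` is congruent to `c e v` modulo `a₀`
  obtain ⟨d, hd⟩ := Ideal.mem_span_singleton'.1 hee
  have hcong : c • v = c • (e * v) + a₀ • (d * h) := by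
    simp only [Algebra.smul_def]
    linear_combination (-h) * hd + (e - 1) * hcv
  have h1 := congrArg (fun x => b.repr x i) hcong
  simp only [map_add, map_smul, Finsupp.add_apply, Finsupp.smul_apply, smul_eq_mul, hvi, mul_one] at h1
  have hk := repr_mem_of_mem_map b hve i
  obtain ⟨u', hu'⟩ : IsUnit (1 - b.repr (e * v) i) := isUnit_one_sub_self_of_mem_nonunits _ hk
  refine hca ((dvd_mul_right a₀ (b.repr (d * h) i * ↑u'⁻¹)).trans (dvd_of_eq ?_))
  calc a₀ * (b.repr (d * h) i * ↑u'⁻¹) = (c * u') * ↑u'⁻¹ := by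
        rw [hu', ← mul_assoc]; congr 1; linear_combination -h1
    _ = c := by rw [mul_assoc, Units.mul_inv, mul_one]

theorem finrank_quotient_lt {A : Type u} [CommRing A] [IsDomain A] [ValuationRing A]
    {R : Type u} [CommRing R] [IsDomain R] [Algebra A R] [Module.Finite A R] [FaithfulSMul A R]
    (P : Ideal R) [P.IsPrime] (p : Ideal A) [p.IsPrime] [P.LiesOver p]
    {ι : Type u} [Fintype ι] (b : Module.Basis ι A R) {x : R} (hx : x ∈ P) {i : ι}
    (hi : b.repr x i = 1) :
    Module.finrank (A ⧸ p) (R ⧸ P) < Fintype.card ι := by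
  classical
  have := valuationRing_quotient A p
  have := free_of_domain (A ⧸ p) (R ⧸ P)
  let f : (ι → A ⧸ p) →ₗ[A ⧸ p] R ⧸ P :=
    Fintype.linearCombination (A ⧸ p) fun j => Ideal.Quotient.mk P (b j)
  have hf : ∀ y : R, f (fun j => Ideal.Quotient.mk p (b.repr y j)) = Ideal.Quotient.mk P y := by
    intro y
    conv_rhs => rw [← b.sum_repr y]
    simp only [f, Fintype.linearCombination_apply, map_sum, Algebra.smul_def, map_mul]
    rfl
  have hfs : Function.Surjective f := fun y => by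
    obtain ⟨y, rfl⟩ := Ideal.Quotient.mk_surjective y
    exact ⟨_, hf y⟩
  have hle : Module.finrank (A ⧸ p) (R ⧸ P) ≤ Fintype.card ι := by
    exact (LinearMap.finrank_le_finrank_of_surjective hfs).trans_eq (Module.finrank_fintype_fun_eq_card _)
  refine lt_of_le_of_ne hle fun heq => ?_
  let b' := Module.Free.chooseBasis (A ⧸ p) (R ⧸ P)
  have e : (R ⧸ P) ≃ₗ[A ⧸ p] (ι → A ⧸ p) := b'.equivFun.trans (LinearEquiv.funCongrLeft _ _
    (Fintype.equivOfCardEq (by rw [← Module.finrank_eq_card_basis b', heq])))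
  have hinj : Function.Injective (e.toLinearMap.comp f) :=
    OrzechProperty.injective_of_surjective_endomorphism _ (e.surjective.comp hfs)
  have h0 : f (fun j => Ideal.Quotient.mk p (b.repr x j)) = f 0 := by
    rw [hf, map_zero, Ideal.Quotient.eq_zero_iff_mem]; exact hx
  have h1 := congrFun (hinj (congrArg e h0)) i
  rw [hi] at h1
  exact Ideal.IsPrime.one_notMem ‹p.IsPrime› (Ideal.Quotient.eq_zero_iff_mem.1 h1)

/-- The main statement, by induction on the rank. -/
theorem exists_mul_eq_aux (d : ℕ) :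
    ∀ (A R : Type u) [CommRing A] [IsDomain A] [ValuationRing A] [CommRing R] [IsDomain R]
      [Algebra A R] [Module.Finite A R] [FaithfulSMul A R], Module.finrank A R = d →
    ∀ (m : Ideal R) [m.IsPrime], m.comap (algebraMap A R) = maximalIdeal A →
      (∀ P : Ideal R, P.IsPrime → P ≤ m → ∀ x ∈ P,
        ∃ s, s ∉ m ∧ s * x ∈ (P.comap (algebraMap A R)).map (algebraMap A R)) →
    ∀ h : R, h ≠ 0 → ∃ (a : A) (r s : R), r ∉ m ∧ s ∉ m ∧ s * h = algebraMap A R a * r := by
  induction d using Nat.strong_induction_on with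
  | _ d ih =>
  intro A R _ _ _ _ _ _ _ _ hd m _ hm hU h hh
  classical
  have := free_of_domain A R
  let b := Module.Free.chooseBasis A R
  let φ := algebraMap A R
  have hφ : Function.Injective φ := FaithfulSMul.algebraMap_injective A R
  obtain ⟨a, h', i, hah, hi, -⟩ := exists_content b hh
  by_cases hh' : h' ∈ m
  swap
  · exact ⟨a, h', 1, hh', fun h1 => ‹m.IsPrime›.one_notMem h1, by rw [one_mul, hah]⟩
  obtain ⟨P, hPmin, hPm⟩ := Ideal.exists_minimalPrimes_le
    (show Ideal.span {h'} ≤ m from (Ideal.span_singleton_le_iff_mem m).2 hh')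
  have hPprime : P.IsPrime := hPmin.1.1
  have hh'P : h' ∈ P := hPmin.1.2 (Ideal.mem_span_singleton_self h')
  have hh'0 : h' ≠ 0 := fun e => hh (by rw [hah, e, mul_zero])
  let p := P.comap φ
  have : P.LiesOver p := ⟨rfl⟩
  -- localise at `p`
  let Ap := Localization.AtPrime p
  let M := Algebra.algebraMapSubmonoid R p.primeCompl
  let Rp := Localization M
  have : ValuationRing Ap := valuationRing_localization A p
  have hM0 : M ≤ nonZeroDivisors R := by
    rintro _ ⟨y, hy, rfl⟩
    exact mem_nonZeroDivisors_of_ne_zero ((map_ne_zero_iff φ hφ).2 fun e => hy (e ▸ p.zero_mem))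
  have : IsDomain Rp := IsLocalization.isDomain_of_le_nonZeroDivisors Rp hM0
  have : Module.Finite Ap Rp := Module.Finite.of_isLocalization A R p.primeCompl
  have hRp : Function.Injective (algebraMap R Rp) := IsLocalization.injective Rp hM0
  have : FaithfulSMul Ap Rp := by
    rw [faithfulSMul_iff_algebraMap_injective, injective_iff_map_eq_zero]
    intro x hx
    obtain ⟨y, s, rfl⟩ := IsLocalization.exists_mk'_eq p.primeCompl x
    have h1 := congrArg (algebraMap Ap Rp) (IsLocalization.mk'_spec Ap y s)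
    rw [map_mul, hx, zero_mul, ← IsScalarTower.algebraMap_apply,
      IsScalarTower.algebraMap_apply A R Rp] at h1
    rw [show y = 0 from (map_eq_zero_iff _ hφ).1 ((map_eq_zero_iff _ hRp).1 h1.symm),
      IsLocalization.mk'_zero]
  have hdisj : Disjoint (M : Set R) P := by
    rw [Set.disjoint_left]
    rintro _ ⟨y, hy, rfl⟩ hyP
    exact hy hyP
  let Pp : Ideal Rp := P.map (algebraMap R Rp)
  have hPp : Pp.IsPrime := IsLocalization.isPrime_of_isPrime_disjoint M Rp P hPprime hdisj
  have hPp' : Pp.comap (algebraMap R Rp) = P :=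
    IsLocalization.under_map_of_isPrime_disjoint M Rp hPprime hdisj
  have hmax : (maximalIdeal Ap) = p.map (algebraMap A Ap) :=
    (Localization.AtPrime.map_eq_maximalIdeal).symm
  have hPpA : Pp.comap (algebraMap Ap Rp) = maximalIdeal Ap := by
    refine le_antisymm (le_maximalIdeal (Ideal.IsPrime.ne_top inferInstance)) ?_
    rw [hmax, Ideal.map_le_iff_le_comap, Ideal.comap_comap, ← IsScalarTower.algebraMap_eq,
      IsScalarTower.algebraMap_eq A R Rp, ← Ideal.comap_comap, hPp']
  have hunr : ∀ x ∈ Pp, ∃ u, u ∉ Pp ∧ u * x ∈ (maximalIdeal Ap).map (algebraMap Ap Rp) := by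
    intro x hx
    obtain ⟨x₀, s, rfl⟩ := IsLocalization.exists_mk'_eq M x
    obtain ⟨t, ht, htx⟩ := hU P hPprime hPm x₀
      ((IsLocalization.mk'_mem_map_algebraMap_iff M Rp P x₀ s).1 hx |> fun ⟨w, hw, hwx⟩ =>
        (hPprime.mem_or_mem hwx).resolve_left fun hwP => Set.disjoint_left.1 hdisj hw hwP)
    refine ⟨algebraMap R Rp t, fun h1 => ht (hPm (hPp' ▸ h1 : t ∈ P)), ?_⟩
    rw [IsLocalization.mul_mk'_eq_mk'_of_mul, IsLocalization.mk'_eq_mul_mk'_one]
    refine Ideal.mul_mem_right _ _ ?_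
    rw [hmax, Ideal.map_map, ← IsScalarTower.algebraMap_eq, IsScalarTower.algebraMap_eq A R Rp,
      ← Ideal.map_map]
    exact Ideal.mem_map_of_mem _ htx
  have hmin : ∀ Q : Ideal Rp, Q.IsPrime → Q ≤ Pp → algebraMap R Rp h' ∈ Q → Q = Pp := by
    intro Q hQ hQP hhQ
    have hc : Q.comap (algebraMap R Rp) ≤ P := hPp' ▸ Ideal.comap_mono hQP
    have := le_antisymm hc (hPmin.2 ⟨inferInstance, (Ideal.span_singleton_le_iff_mem _).2 hhQ⟩ hc)
    rw [← IsLocalization.map_under M Rp Q, Ideal.under_def, this]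
  obtain ⟨c, u, v, hu, hv, huv⟩ := exists_mul_eq_of_minimal Pp hPpA hunr
    ((map_ne_zero_iff _ hRp).2 hh'0) (Ideal.mem_map_of_mem _ hh'P) hmin
  obtain ⟨x, y, rfl⟩ := IsLocalization.exists_mk'_eq p.primeCompl c
  obtain ⟨u₀, su, rfl⟩ := IsLocalization.exists_mk'_eq M u
  obtain ⟨v₀, sv, rfl⟩ := IsLocalization.exists_mk'_eq M v
  have hu₀ : u₀ ∉ P := fun h1 => hu ((IsLocalization.mk'_mem_map_algebraMap_iff M Rp P u₀ su).2
    ⟨1, M.one_mem, by rwa [one_mul]⟩)
  have hv₀ : v₀ ∉ P := fun h1 => hv ((IsLocalization.mk'_mem_map_algebraMap_iff M Rp P v₀ sv).2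
    ⟨1, M.one_mem, by rwa [one_mul]⟩)
  have hMP : ∀ w : M, (w : R) ∉ P := fun w hw => Set.disjoint_left.1 hdisj w.2 hw
  have hyP : φ (y : A) ∉ P := y.2
  have key : (u₀ * (sv : R) * φ y) * h' = φ x * (v₀ * (su : R)) := by
    refine hRp ?_
    have hc' : algebraMap Ap Rp (IsLocalization.mk' Ap x y) * algebraMap R Rp (φ y) =
        algebraMap R Rp (φ x) := by
      rw [← IsScalarTower.algebraMap_apply A R Rp, IsScalarTower.algebraMap_apply A Ap Rp,
        ← map_mul, IsLocalization.mk'_spec, ← IsScalarTower.algebraMap_apply,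
        IsScalarTower.algebraMap_apply A R Rp]
    simp only [map_mul]
    rw [← IsLocalization.mk'_spec Rp u₀ su, ← IsLocalization.mk'_spec Rp v₀ sv, ← hc']
    linear_combination (algebraMap R Rp (su : R) * algebraMap R Rp (sv : R) *
      algebraMap R Rp (φ y)) * huv
  -- descend to `R ⧸ P`
  have hqv := valuationRing_quotient A p
  have hlt : Module.finrank (A ⧸ p) (R ⧸ P) < d := by
    rw [← hd, Module.finrank_eq_card_basis b]
    exact finrank_quotient_lt P p b hh'P hi
  have hrec : ∀ w, w ∉ P → ∃ (a : A) (r s : R), a ∉ p ∧ r ∉ m ∧ s ∉ m ∧ s * w = φ a * r := by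
    intro w hw
    let mk := Ideal.Quotient.mk P
    let m' : Ideal (R ⧸ P) := m.map mk
    have hm'c : m'.comap mk = m := by
      rw [Ideal.comap_map_of_surjective mk Ideal.Quotient.mk_surjective, ← RingHom.ker_eq_comap_bot,
        Ideal.mk_ker, sup_of_le_left hPm]
    have : m'.IsPrime := Ideal.map_isPrime_of_surjective Ideal.Quotient.mk_surjective
      (by rw [Ideal.mk_ker]; exact hPm)
    have hm' : m'.comap (algebraMap (A ⧸ p) (R ⧸ P)) = maximalIdeal (A ⧸ p) := by
      refine le_antisymm (le_maximalIdeal (Ideal.IsPrime.ne_top inferInstance)) fun z hz => ?_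
      obtain ⟨z, rfl⟩ := Ideal.Quotient.mk_surjective z
      have hzm : z ∈ maximalIdeal A :=
        (mem_maximalIdeal _).2 fun hu => (mem_maximalIdeal _).1 hz (hu.map _)
      rw [← hm] at hzm
      exact Ideal.mem_map_of_mem mk hzm
    have hU' : ∀ Q : Ideal (R ⧸ P), Q.IsPrime → Q ≤ m' → ∀ x ∈ Q, ∃ s, s ∉ m' ∧
        s * x ∈ (Q.comap (algebraMap (A ⧸ p) (R ⧸ P))).map (algebraMap (A ⧸ p) (R ⧸ P)) := by
      intro Q hQ hQm x hx
      obtain ⟨x, rfl⟩ := Ideal.Quotient.mk_surjective x
      obtain ⟨s, hs, hsx⟩ := hU (Q.comap mk) inferInstance (hm'c ▸ Ideal.comap_mono hQm) x hx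
      refine ⟨mk s, fun h1 => hs (hm'c ▸ h1 : s ∈ m), ?_⟩
      rw [← map_mul]
      have h2 := Ideal.mem_map_of_mem mk hsx
      rw [Ideal.map_map] at h2
      refine (Ideal.map_le_iff_le_comap.2 fun z hz => ?_) h2
      exact Ideal.mem_map_of_mem (algebraMap (A ⧸ p) (R ⧸ P))
        (show Ideal.Quotient.mk p z ∈ Q.comap (algebraMap (A ⧸ p) (R ⧸ P)) from hz)
    obtain ⟨a', r', s', hr', hs', he⟩ := ih _ hlt (A ⧸ p) (R ⧸ P) rfl m' hm' hU' (mk w)
      (by rwa [Ne, Ideal.Quotient.eq_zero_iff_mem])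
    obtain ⟨a', rfl⟩ := Ideal.Quotient.mk_surjective a'
    obtain ⟨r, rfl⟩ := Ideal.Quotient.mk_surjective r'
    obtain ⟨s, rfl⟩ := Ideal.Quotient.mk_surjective s'
    have hr : r ∉ m := fun h1 => hr' (Ideal.mem_map_of_mem mk h1)
    have hs : s ∉ m := fun h1 => hs' (Ideal.mem_map_of_mem mk h1)
    have hz : s * w - φ a' * r ∈ P := by
      rw [← Ideal.Quotient.eq, map_mul, map_mul]
      exact he
    have ha' : a' ∉ p := fun ha => by
      have h1 : φ a' * r ∈ P := P.mul_mem_right _ ha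
      have : s * w ∈ P := by simpa using P.add_mem hz h1
      exact (hPprime.mem_or_mem this).elim (fun h2 => hs (hPm h2)) hw
    obtain ⟨s₁, hs₁, hs₁z⟩ := hU P hPprime hPm _ hz
    have hdiv : ∀ z ∈ p.map φ, ∃ z' ∈ p.map φ, z = φ a' * z' := by
      intro z hz
      induction hz using Submodule.span_induction with
      | mem z hz =>
        obtain ⟨q, hq, rfl⟩ := hz
        rcases ValuationRing.dvd_total a' q with ⟨k, rfl⟩ | ⟨k, rfl⟩
        · exact ⟨φ k, Ideal.mem_map_of_mem φ ((Ideal.IsPrime.mem_or_mem inferInstance hq).resolve_left ha'),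
            map_mul φ _ _⟩
        · exact absurd (p.mul_mem_right k hq) ha'
      | zero => exact ⟨0, zero_mem _, (mul_zero _).symm⟩
      | add z₁ z₂ _ _ h₁ h₂ =>
        obtain ⟨w₁, hw₁, rfl⟩ := h₁
        obtain ⟨w₂, hw₂, rfl⟩ := h₂
        exact ⟨w₁ + w₂, add_mem hw₁ hw₂, (mul_add _ _ _).symm⟩
      | smul t z _ h =>
        obtain ⟨w₁, hw₁, rfl⟩ := h
        exact ⟨t * w₁, Ideal.mul_mem_left _ t hw₁, by rw [smul_eq_mul]; ring⟩
    obtain ⟨z', hz'P, hz'⟩ := hdiv _ hs₁z
    refine ⟨a', s₁ * r + z', s₁ * s, ha', fun h1 => ?_,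
      fun h1 => (‹m.IsPrime›.mem_or_mem h1).elim hs₁ hs, by linear_combination hz'⟩
    have hz'm : z' ∈ m := (Ideal.map_le_iff_le_comap.2
      (show p ≤ m.comap φ from Ideal.comap_mono hPm)) hz'P
    exact (‹m.IsPrime›.mem_or_mem (by simpa using m.sub_mem h1 hz'm : s₁ * r ∈ m)).elim hs₁ hr
  obtain ⟨au, ru, su', hau, hru, hsu', heu⟩ :=
    hrec _ (fun h1 => (hPprime.mem_or_mem h1).elim
      (fun h2 => (hPprime.mem_or_mem h2).elim hu₀ (hMP sv)) hyP)
  obtain ⟨av, rv, sv', hav, hrv, hsv', hev⟩ :=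
    hrec _ (fun h1 => (hPprime.mem_or_mem h1).elim hv₀ (hMP su))
  have hau0 : au ≠ 0 := fun e => hau (e ▸ p.zero_mem)
  have hs : ru * sv' ∉ m := fun h1 => (‹m.IsPrime›.mem_or_mem h1).elim hru hsv'
  have hr : rv * su' ∉ m := fun h1 => (‹m.IsPrime›.mem_or_mem h1).elim hrv hsu'
  have main : φ au * ((ru * sv') * h') = φ (x * av) * (rv * su') := by
    calc φ au * ((ru * sv') * h') = sv' * ((φ au * ru) * h') := by ring
      _ = sv' * su' * ((u₀ * (sv : R) * φ y) * h') := by rw [← heu]; ring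
      _ = φ x * su' * (sv' * (v₀ * (su : R))) := by rw [key]; ring
      _ = φ x * su' * (φ av * rv) := by rw [hev]
      _ = _ := by rw [map_mul]; ring
  rcases ValuationRing.dvd_total au (x * av) with ⟨q, hq⟩ | ⟨q, hq⟩
  · refine ⟨a * q, rv * su', ru * sv', hr, hs, ?_⟩
    have h1 : (ru * sv') * h' = φ q * (rv * su') :=
      mul_left_cancel₀ ((map_ne_zero_iff φ hφ).2 hau0) (by rw [main, hq, map_mul]; ring)
    rw [hah, map_mul]
    linear_combination (algebraMap A R a) * h1
  · exfalso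
    have hxav : φ (x * av) ≠ 0 := (map_ne_zero_iff φ hφ).2 fun e => hau0 (by rw [hq, e, zero_mul])
    have h1 : rv * su' = φ q * ((ru * sv') * h') :=
      mul_left_cancel₀ hxav (by rw [← main, hq, map_mul]; ring)
    exact hr (h1 ▸ m.mul_mem_left _ (m.mul_mem_left _ hh'))

theorem exists_mul_eq {A R : Type u} [CommRing A] [IsDomain A] [ValuationRing A] [CommRing R]
    [IsDomain R] [Algebra A R] [Module.Finite A R] [FaithfulSMul A R] (m : Ideal R) [m.IsPrime]
    (hm : m.comap (algebraMap A R) = maximalIdeal A)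
    (hU : ∀ P : Ideal R, P.IsPrime → P ≤ m → ∀ x ∈ P,
      ∃ s, s ∉ m ∧ s * x ∈ (P.comap (algebraMap A R)).map (algebraMap A R))
    {h : R} (hh : h ≠ 0) :
    ∃ (a : A) (r s : R), r ∉ m ∧ s ∉ m ∧ s * h = algebraMap A R a * r :=
  exists_mul_eq_aux _ A R rfl m hm hU h hh

end Groth.EtaleAlgebra.ValuationContent
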