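import Groth.Agent.EtaleAlgebra.FiniteComplete
import Groth.Agent.Hensel1.MinimalPrimesNorm
import Groth.Agent.S12630
import Mathlib.RingTheory.DiscreteValuationRing.Basic
import Mathlib.FieldTheory.IsSepClosed
import Groth.Prelude.Def_Brnch

/-!
# Wedges of discrete valuation rings inside products of power series rings
-/

set_option autoImplicit false

namespace Groth.EtaleAlgebra.Wedge

open IsLocalRing

universe u

/-- Separably closed fields are invariant under isomorphism. -/
theorem isSepClosed_of_ringEquiv {K L : Type u} [Field K] [Field L] (e : K ≃+* L) [IsSepClosed K] :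
    IsSepClosed L :=
  IsSepClosed.of_exists_root _ fun p _ hirr hsep => by
    obtain ⟨x, hx⟩ := IsSepClosed.exists_root (p.map e.symm.toRingHom)
      (by rw [Polynomial.degree_map_eq_of_injective (f := e.symm.toRingHom) e.symm.injective]
          exact (Polynomial.degree_pos_of_irreducible hirr).ne')
      hsep.map
    refine ⟨e x, e.symm.injective ?_⟩
    rw [Polynomial.IsRoot, Polynomial.eval_map] at hx
    rw [map_zero, ← hx]
    conv_rhs => rw [← e.symm_apply_apply x]
    exact (Polynomial.eval₂_at_apply e.symm.toRingHom (e x)).symm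

set_option synthInstance.maxHeartbeats 200000 in
-- deep instance towers
/-- Every closed point of the normalization carries a geometric branch. -/
theorem nonempty_emb (A : Type u) [CommRing A] [IsLocalRing A] (n : MaximalSpectrum (CAlg2.normRed A)) :
    Nonempty (Brnch.Emb A n) := by
  let L := AlgebraicClosure (ResidueField A)
  let K := CAlg2.normRed A ⧸ n.asIdeal
  let _ : Field K := Ideal.Quotient.field _
  have : Algebra.IsIntegral A (CAlg2.normRed A) := Algebra.IsIntegral.trans (CAlg2.red A)
  have hn : n.asIdeal.comap (algebraMap A (CAlg2.normRed A)) = maximalIdeal A :=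
    eq_maximalIdeal (Ideal.isMaximal_comap_of_isIntegral_of_isMaximal (R := A) n.asIdeal)
  have hker : ∀ a, a ∈ maximalIdeal A → Brnch.toResidue A n a = 0 := fun a ha => by
    rw [← hn] at ha
    exact Ideal.Quotient.eq_zero_iff_mem.2 ha
  let ι : ResidueField A →+* K := Ideal.Quotient.lift (maximalIdeal A) (Brnch.toResidue A n) hker
  let _ : Algebra (ResidueField A) K := ι.toAlgebra
  have : Algebra.IsAlgebraic (ResidueField A) K := ⟨fun z => by
    obtain ⟨w, rfl⟩ := Ideal.Quotient.mk_surjective z
    exact (IsIntegral.map_of_comp_eq (residue A) (Ideal.Quotient.mk n.asIdeal) (RingHom.ext fun a => rfl)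
      (Algebra.IsIntegral.isIntegral (R := A) w)).isAlgebraic⟩
  let σ : K →ₐ[ResidueField A] L := IsAlgClosed.lift
  exact ⟨⟨σ.toRingHom, RingHom.ext fun a => σ.commutes (residue A a)⟩⟩

set_option maxHeartbeats 1000000 in
-- one long construction
/-- A complete wedge of discrete valuation rings with residue field `k` embeds in a product of power
series rings, with image the tuples with a common constant term. -/
theorem exists_embedding (k : Type u) [Field k] (C C' : Type u) [CommRing C] [HenselianLocalRing C]
    [IsNoetherianRing C] [IsAdicComplete (maximalIdeal C) C] [Algebra k C]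
    (hk : Function.Bijective (algebraMap k (ResidueField C)))
    [CommRing C'] [IsReduced C'] [Algebra C C'] [Module.Finite C C']
    (hinj : Function.Injective (algebraMap C C'))
    (hdvr : ∀ m' : MaximalSpectrum C', (∃ _ : IsDomain (Localization.AtPrime m'.asIdeal),
      IsDiscreteValuationRing (Localization.AtPrime m'.asIdeal)) ∧
        Function.Surjective (⇑(residue (Localization.AtPrime m'.asIdeal)) ∘
          ⇑(algebraMap C' (Localization.AtPrime m'.asIdeal)) ∘ ⇑(algebraMap C C')))
    (hw : ∀ a' : C', (∃ a : C, ∀ m' : MaximalSpectrum C', a' - algebraMap C C' a ∈ m'.asIdeal) →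
      a' ∈ (algebraMap C C').range) :
    ∃ φ : C →+* (MaximalSpectrum C' → PowerSeries k), Function.Injective φ ∧
      (∀ c : k, φ (algebraMap k C c) = fun _ => algebraMap k (PowerSeries k) c) ∧
      Set.range φ = {f | ∀ i j : MaximalSpectrum C',
        PowerSeries.constantCoeff (f i) = PowerSeries.constantCoeff (f j)} := by
  classical
  have : IsNoetherianRing C' := IsNoetherianRing.of_finite C C'
  have : Algebra.IsIntegral C C' := Algebra.IsIntegral.of_finite C C'
  have hover : ∀ m' : MaximalSpectrum C', m'.asIdeal.comap (algebraMap C C') = maximalIdeal C :=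
    fun m' => eq_maximalIdeal (Ideal.isMaximal_comap_of_isIntegral_of_isMaximal (R := C) m'.asIdeal)
  -- the minimal prime below a closed point
  let q : MaximalSpectrum C' → Ideal C' := fun m' => RingHom.ker (algebraMap C' (Localization.AtPrime m'.asIdeal))
  have hqp : ∀ m', (q m').IsPrime := fun m' => by
    obtain ⟨_, -⟩ := (hdvr m').1
    exact RingHom.ker_isPrime _
  have hqle : ∀ m', q m' ≤ m'.asIdeal := fun m' x hx => by
    by_contra hxm
    have := (IsLocalization.AtPrime.isUnit_to_map_iff (Localization.AtPrime m'.asIdeal) m'.asIdeal x).2 hxm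
    rw [RingHom.mem_ker.1 hx] at this
    exact not_isUnit_zero this
  have huniq : ∀ m' n' : MaximalSpectrum C', q m' ≤ n'.asIdeal → n' = m' := by
    intro m' n' hle
    have := hqp m'
    have : IsDomain (C' ⧸ q m') := Ideal.Quotient.isDomain _
    have : IsLocalRing (C' ⧸ q m') := Groth.Hensel1.isLocalRing_of_isIntegral_of_isDomain C (C' ⧸ q m')
    have key : ∀ n : MaximalSpectrum C', q m' ≤ n.asIdeal →
        n.asIdeal = (maximalIdeal (C' ⧸ q m')).comap (Ideal.Quotient.mk (q m')) := fun n hn => by
      have h2 : (n.asIdeal.map (Ideal.Quotient.mk (q m'))).IsMaximal :=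
        Ideal.IsMaximal.map_of_surjective_of_ker_le Ideal.Quotient.mk_surjective (by rwa [Ideal.mk_ker])
      rw [← eq_maximalIdeal h2, Ideal.comap_map_of_surjective' _ Ideal.Quotient.mk_surjective,
        Ideal.mk_ker, sup_eq_left.mpr hn]
    exact MaximalSpectrum.ext ((key n' hle).trans (key m' (hqle m')).symm)
  have hloc : ∀ m' : MaximalSpectrum C', Function.Surjective (algebraMap C' (Localization.AtPrime m'.asIdeal)) := by
    intro m' z
    obtain ⟨x, s, rfl⟩ := IsLocalization.exists_mk'_eq m'.asIdeal.primeCompl z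
    have : IsUnit (Ideal.Quotient.mk (q m') (s : C')) := by
      by_contra hu
      obtain ⟨n, hn, hsn⟩ := exists_max_ideal_of_mem_nonunits hu
      have hn' := Ideal.comap_isMaximal_of_surjective (Ideal.Quotient.mk (q m')) Ideal.Quotient.mk_surjective (K := n)
      have := huniq m' ⟨_, hn'⟩ fun y hy => by
        show Ideal.Quotient.mk (q m') y ∈ n
        rw [Ideal.Quotient.eq_zero_iff_mem.2 hy]; exact n.zero_mem
      exact s.2 ((congrArg MaximalSpectrum.asIdeal this).le hsn)
    obtain ⟨v, huv⟩ := this.exists_right_inv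
    obtain ⟨w, rfl⟩ := Ideal.Quotient.mk_surjective v
    refine ⟨x * w, ?_⟩
    rw [IsLocalization.eq_mk'_iff_mul_eq, ← map_mul, ← sub_eq_zero, ← map_sub, ← RingHom.mem_ker]
    show _ ∈ q m'
    rw [← Ideal.Quotient.eq_zero_iff_mem, map_sub, map_mul, map_mul,
      mul_assoc, mul_comm (Ideal.Quotient.mk (q m') w), huv, mul_one, sub_self]
  -- the local rings are power series rings
  have hiso : ∀ m' : MaximalSpectrum C', ∃ g : C' →+* PowerSeries k, Function.Surjective g ∧
      RingHom.ker g = q m' ∧ (∀ c : k, g (algebraMap C C' (algebraMap k C c)) = algebraMap k _ c) ∧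
      ∀ x, PowerSeries.constantCoeff (g x) = 0 ↔ x ∈ m'.asIdeal := by
    intro m'
    obtain ⟨⟨_, _⟩, hres⟩ := hdvr m'
    let D := Localization.AtPrime m'.asIdeal
    have : Module.Finite C D := Module.Finite.of_surjective
      (IsScalarTower.toAlgHom C C' D).toLinearMap (hloc m')
    have : IsLocalHom (algebraMap C D) := ((local_hom_TFAE (algebraMap C D)).out 0 4 rfl rfl).mpr (by
      rw [IsScalarTower.algebraMap_eq C C' D, ← Ideal.comap_comap]
      exact (congrArg (Ideal.comap (algebraMap C C'))
        (IsLocalization.AtPrime.under_maximalIdeal D m'.asIdeal :)).trans (hover m'))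
    have : IsAdicComplete (maximalIdeal D) D := FiniteComplete.isAdicComplete_maximal (C := C)
    let _ : Algebra k D := ((algebraMap C D).comp (algebraMap k C)).toAlgebra
    have hK : Function.Bijective (algebraMap k (ResidueField D)) := by
      refine ⟨RingHom.injective _, fun z => ?_⟩
      obtain ⟨c, hc⟩ := hres z
      obtain ⟨t, ht⟩ := hk.2 (residue C c)
      refine ⟨t, ?_⟩
      rw [← hc]
      show residue D (algebraMap C D (algebraMap k C t)) = residue D (algebraMap C' D (algebraMap C C' c))
      rw [← IsScalarTower.algebraMap_apply C C' D, ← sub_eq_zero, ← map_sub, residue_eq_zero_iff, ← map_sub]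
      refine ((local_hom_TFAE (algebraMap C D)).out 0 4 rfl rfl).mp inferInstance |>.ge ?_
      exact (residue_eq_zero_iff _).1 (by rw [map_sub, ← ht]; exact sub_self _)
    obtain ⟨π, hπ⟩ := IsDiscreteValuationRing.exists_irreducible D
    obtain ⟨e, he⟩ := Groth.Agent.S12630.result k D hK π hπ.maximalIdeal_eq
    refine ⟨e.symm.toRingEquiv.toRingHom.comp (algebraMap C' D), e.symm.surjective.comp (hloc m'), ?_, ?_, ?_⟩
    · ext x
      exact ⟨fun h => RingHom.mem_ker.2 (e.symm.injective ((RingHom.mem_ker.1 h).trans (map_zero e.symm).symm)),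
        fun h => RingHom.mem_ker.2 (by
          show e.symm (algebraMap C' D x) = 0
          rw [RingHom.mem_ker.1 h, map_zero])⟩
    · intro c
      show e.symm (algebraMap C' D (algebraMap C C' (algebraMap k C c))) = _
      rw [← IsScalarTower.algebraMap_apply C C' D]
      exact e.symm.commutes c
    · intro x
      show PowerSeries.constantCoeff (e.symm (algebraMap C' D x)) = 0 ↔ _
      rw [← IsLocalization.AtPrime.to_map_mem_maximal_iff D m'.asIdeal x, mem_maximalIdeal, mem_nonunits_iff,
        ← MulEquiv.isUnit_map e.symm, PowerSeries.isUnit_iff_constantCoeff, isUnit_iff_ne_zero, not_not]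
  choose g hg hgker hgc hgm using hiso
  let Φ : C' →+* (MaximalSpectrum C' → PowerSeries k) := Pi.ringHom g
  have hΦ : Function.Injective Φ := by
    refine (injective_iff_map_eq_zero Φ).2 fun x hx => ?_
    refine IsReduced.eq_zero x (nilpotent_iff_mem_prime.2 fun P hP => ?_)
    obtain ⟨n, hn, hle⟩ := Ideal.exists_le_maximal P hP.ne_top
    have h0 : x ∈ q ⟨n, hn⟩ := hgker ⟨n, hn⟩ ▸ (congrFun hx ⟨n, hn⟩ :)
    obtain ⟨⟨s, hs⟩, hsx⟩ :=
      (IsLocalization.map_eq_zero_iff n.primeCompl (Localization.AtPrime n) x).1 h0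
    exact ((hP.mem_or_mem (show s * x ∈ P from hsx.symm ▸ P.zero_mem))).resolve_left fun h => hs (hle h)
  have hfinM : Finite (MaximalSpectrum C') := by
    have := (minimalPrimes.finite_of_isNoetherianRing C').to_subtype
    have hmin : ∀ m' : MaximalSpectrum C', ∃ P : minimalPrimes C', P.1 ≤ q m' := fun m' => by
      have := hqp m'
      obtain ⟨P, hP, hle⟩ := Ideal.exists_minimalPrimes_le (I := (⊥ : Ideal C')) (J := q m') bot_le
      exact ⟨⟨P, hP⟩, hle⟩
    choose P hP using hmin
    refine Finite.of_injective P fun a b hab => ?_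
    have hPa : q a ≤ P a := fun x hx => by
      obtain ⟨⟨s, hs⟩, hsx⟩ :=
        (IsLocalization.map_eq_zero_iff a.asIdeal.primeCompl (Localization.AtPrime a.asIdeal) x).1 (RingHom.mem_ker.1 hx)
      exact ((P a).2.1.1.mem_or_mem (show s * x ∈ (P a).1 from hsx.symm ▸ (P a).1.zero_mem)).resolve_left
        fun h => hs (hqle a (hP a h))
    exact (huniq a b ((hPa.trans (hab ▸ hP b)).trans (hqle b))).symm
  have hΦs : Function.Surjective Φ := by
    intro f
    choose x hx using fun m' => hg m' (f m')
    obtain ⟨z, hz⟩ := Ideal.pi_quotient_surjective (I := q) (fun a b hab => by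
      refine Ideal.isCoprime_iff_sup_eq.2 (by_contra fun hne => ?_)
      obtain ⟨n, hn, hle⟩ := Ideal.exists_le_maximal _ hne
      exact hab (((huniq a ⟨n, hn⟩ (le_sup_left.trans hle))).symm.trans (huniq b ⟨n, hn⟩ (le_sup_right.trans hle))))
      fun m' => Ideal.Quotient.mk (q m') (x m')
    refine ⟨z, funext fun m' => ?_⟩
    show g m' z = f m'
    rw [← hx m', ← sub_eq_zero, ← map_sub, ← RingHom.mem_ker, hgker, ← Ideal.Quotient.eq]
    exact hz m'
  refine ⟨Φ.comp (algebraMap C C'), hΦ.comp hinj, fun c => funext fun m' => hgc m' c, ?_⟩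
  have hconst : ∀ (c : C) (m' : MaximalSpectrum C') (t : k), residue C c = algebraMap k (ResidueField C) t →
      PowerSeries.constantCoeff (g m' (algebraMap C C' c)) = t := by
    intro c m' t ht
    have hmem : algebraMap C C' (c - algebraMap k C t) ∈ m'.asIdeal :=
      (hover m').ge ((residue_eq_zero_iff _).1 (by rw [map_sub, ht]; exact sub_self _))
    have h0 := (hgm m' _).2 hmem
    rw [map_sub, map_sub, map_sub, hgc, sub_eq_zero] at h0
    rw [h0]
    simp
  refine Set.ext fun f => ⟨?_, fun hf => ?_⟩
  · rintro ⟨c, rfl⟩ i j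
    obtain ⟨t, ht⟩ := hk.2 (residue C c)
    show PowerSeries.constantCoeff (g i _) = PowerSeries.constantCoeff (g j _)
    rw [hconst c i t ht.symm, hconst c j t ht.symm]
  · obtain ⟨z, rfl⟩ := hΦs f
    obtain ⟨a, ha⟩ : ∃ a : C, ∀ m' : MaximalSpectrum C', z - algebraMap C C' a ∈ m'.asIdeal := by
      rcases isEmpty_or_nonempty (MaximalSpectrum C') with h | ⟨⟨m₀⟩⟩
      · exact ⟨0, fun m' => h.elim m'⟩
      refine ⟨algebraMap k C (PowerSeries.constantCoeff (g m₀ z)), fun m' => (hgm m' _).1 ?_⟩
      rw [map_sub, map_sub, hgc, show PowerSeries.constantCoeff (g m' z) = PowerSeries.constantCoeff (g m₀ z) from hf m' m₀]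
      simp
    obtain ⟨c, hc⟩ := hw z ⟨a, ha⟩
    exact ⟨c, congrArg Φ hc⟩

end Groth.EtaleAlgebra.Wedge
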